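/-
Certificate data of a coset enumeration.
-/
import Cfsg.Agent.Lib.CosetEnum.Basic
import Cfsg.Agent.Lib.CosetEnum.ON122760.D_facts0
import Cfsg.Agent.Lib.CosetEnum.ON122760.D_facts1
import Cfsg.Agent.Lib.CosetEnum.ON122760.D_facts2
import Cfsg.Agent.Lib.CosetEnum.ON122760.D_facts3
import Cfsg.Agent.Lib.CosetEnum.ON122760.D_facts4
import Cfsg.Agent.Lib.CosetEnum.ON122760.D_facts5
import Cfsg.Agent.Lib.CosetEnum.ON122760.D_facts6
import Cfsg.Agent.Lib.CosetEnum.ON122760.D_facts7
import Cfsg.Agent.Lib.CosetEnum.ON122760.D_facts8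
import Cfsg.Agent.Lib.CosetEnum.ON122760.D_facts9
import Cfsg.Agent.Lib.CosetEnum.ON122760.D_facts10
import Cfsg.Agent.Lib.CosetEnum.ON122760.D_facts11
import Cfsg.Agent.Lib.CosetEnum.ON122760.D_facts12
import Cfsg.Agent.Lib.CosetEnum.ON122760.D_facts13
import Cfsg.Agent.Lib.CosetEnum.ON122760.D_facts14
import Cfsg.Agent.Lib.CosetEnum.ON122760.D_facts15
import Cfsg.Agent.Lib.CosetEnum.ON122760.D_par0
import Cfsg.Agent.Lib.CosetEnum.ON122760.D_par1
import Cfsg.Agent.Lib.CosetEnum.ON122760.D_tab0
import Cfsg.Agent.Lib.CosetEnum.ON122760.D_tab1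
import Cfsg.Agent.Lib.CosetEnum.ON122760.D_tab2
import Cfsg.Agent.Lib.CosetEnum.ON122760.D_tab3
import Cfsg.Agent.Lib.CosetEnum.ON122760.D_rep0
import Cfsg.Agent.Lib.CosetEnum.ON122760.D_tpar0

set_option autoImplicit false
set_option maxRecDepth 1000000

namespace CfsgLib.CosetEnum.ON122760

open CfsgLib.CosetEnum

/-- The packed facts. -/
noncomputable def facts : Tree :=
  (.node (.node (.node (.node facts0 facts1) (.node facts2 facts3)) (.node (.node facts4 facts5) (.node facts6 facts7))) (.node (.node (.node facts8 facts9) (.node facts10 facts11)) (.node (.node facts12 facts13) (.node facts14 facts15))))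

/-- The parents of the cosets. -/
noncomputable def par : Tree :=
  (.node par0 par1)

/-- The packed words. -/
noncomputable def words : Tree :=
  (.node (.node (.node (.node (.node (.node (.node (.node (.leaf (nat_lit 0x1)) (.leaf (nat_lit 0x21232363236212323613236017))) (.leaf (nat_lit 0x350232323200a))) (.node (.node (.leaf (nat_lit 0x2323632123236321232363212323632123236321028)) (.leaf (nat_lit 0x23643232363423236323236342301b))) (.leaf (nat_lit 0x3232323632362326323632016)))) (.node (.node (.node (.leaf (nat_lit 0x4040004)) (.leaf (nat_lit 0x63232363423236432323634232301b))) (.leaf (nat_lit 0x632323632323236323236323018))) (.node (.leaf (nat_lit 0x343434006)) (.leaf (nat_lit 0x3632362326323632323232016))))) (.node (.node (.node (.node (.leaf (nat_lit 0x22002)) (.leaf (nat_lit 0x23613236212323632362123017))) (.leaf (nat_lit 0x232323632323632363232363018))) (.node (.node (.leaf (nat_lit 0x505004)) (.leaf (nat_lit 0x32363423236432323634232363201b))) (.leaf (nat_lit 0x2632363232323236323623016)))) (.node (.node (.node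 (.leaf (nat_lit 0x5252004)) (.leaf (nat_lit 0x36342323632323634232364323201b))) (.leaf (nat_lit 0x232363236323236323232363018))) (.node (.leaf (nat_lit 0x32325063232600c)) (.leaf (nat_lit 0x2363212323632123236321232363212323632123028)))))) (.node (.node (.node (.node (.node (.leaf (nat_lit 0x4001)) (.leaf (nat_lit 0x32362123236323621232361017))) (.leaf (nat_lit 0x323235023200a))) (.node (.node (.leaf (nat_lit 0x10101006)) (.leaf (nat_lit 0x34232364323236342323632323601b))) (.leaf (nat_lit 0x3632323232363236232632016)))) (.node (.node (.node (.leaf (nat_lit 0x4141004)) (.leaf (nat_lit 0x23236323236342323643232363401b))) (.leaf (nat_lit 0x632363232363232323632323018))) (.node (.leaf (nat_lit 0x50632326323200c)) (.leaf (nat_lit 0x2123236321232363212323632123236321232363028))))) (.node (.node (.node (.node (.leaf (nat_lit 0x66002)) (.leaf (nat_lit 0x21232361323621232363236017))) (.leaf (nat_lit 0x236323232363232363236323018))) (.node (.leaf (nat_lit 0x1515004)) (.leaf (nat_lit 0x3623263236323232323632016)))) (.node (.node (.node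 (.leaf (nat_lit 0x63232632325000c)) (.leaf (nat_lit 0x32323634232363232363423236401b))) (.leaf (nat_lit 0x236323236323632323632323018))) (.node (.leaf (nat_lit 0x23263232506300c)) (.leaf (nat_lit 0x23632362123236132362123017))))))) (.node (.node (.node (.node (.node (.node (.leaf (nat_lit 0x2001)) (.leaf (nat_lit 0x36212323632362123236132017))) (.leaf (nat_lit 0x323502323200a))) (.node (.node (.leaf (nat_lit 0x32323634232364323236342323601b)) (.leaf (nat_lit 0x23236432323634232363232363401b))) (.leaf (nat_lit 0x3232323236323623263236016)))) (.node (.node (.node (.leaf (nat_lit 0x212121006)) (.leaf (nat_lit 0x23632323634232364323236342301b))) (.leaf (nat_lit 0x236323236323232363232363018))) (.node (.leaf (nat_lit 0x454545006)) (.leaf (nat_lit 0x3236323623263236323232016))))) (.node (.node (.node (.node (.leaf (nat_lit 0x44002)) (.leaf (nat_lit 0x23236132362123236323621017))) (.leaf (nat_lit 0x632323236323236323632323018))) (.node (.leaf (nat_lit 0x1313004)) (.leaf (nat_lit 0x2326323632323232363236016)))) (.node (.node (.node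 (.leaf (nat_lit 0x5353004)) (.leaf (nat_lit 0x32363423236323236342323643201b))) (.leaf (nat_lit 0x632323632363232363232323018))) (.node (.leaf (nat_lit 0x26323250632300c)) (.leaf (nat_lit 0x63236212323613236212323017)))))) (.node (.node (.node (.node (.node (.leaf (nat_lit 0x2)) (.leaf (nat_lit 0x61323621232363236212323017))) (.leaf (nat_lit 0x323232350200a))) (.node (.node (.leaf (nat_lit 0x303004)) (.leaf (nat_lit 0x36342323643232363423236323201b))) (.leaf (nat_lit 0x3236323232323632362326016)))) (.node (.node (.node (.leaf (nat_lit 0x3232323232323232010)) (.leaf (nat_lit 0x34232363232363423236432323601b))) (.leaf (nat_lit 0x236323632323632323236323018))) (.node (.leaf (nat_lit 0x32506323263200c)) (.leaf (nat_lit 0x6321232363212323632123236321232363212323028))))) (.node (.node (.node (.node (.leaf (nat_lit 0x2020004)) (.leaf (nat_lit 0x36212323613236212323632017))) (.leaf (nat_lit 0x232363232323632323632363018))) (.node (.leaf (nat_lit 0x2424004)) (.leaf (nat_lit 0x3236232632363232323236016)))) (.node (.node (.node (.leaf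 (nat_lit 0x232363232363236323236323018)) (.leaf (nat_lit 0x64323236342323632323634232301b))) (.leaf (nat_lit 0x3232363236232632363232016))) (.node (.leaf (nat_lit 0x23232323500a)) (.leaf (nat_lit 0x23236323621232361323621017)))))))) (.node (.node (.node (.node (.node (.node (.node (.leaf (nat_lit 0x1001)) (.leaf (nat_lit 0x62123236323621232361323017))) (.leaf (nat_lit 0x235023232300a))) (.node (.node (.leaf (nat_lit 0x32362123236132362123236017)) (.leaf (nat_lit 0x32364323236342323632323634201b))) (.leaf (nat_lit 0x2323232363236232632363016)))) (.node (.node (.node (.leaf (nat_lit 0x5050004)) (.leaf (nat_lit 0x36323236342323643232363423201b))) (.leaf (nat_lit 0x363232363232323632323632018))) (.node (.leaf (nat_lit 0x3535004)) (.leaf (nat_lit 0x2363236232632363232323016))))) (.node (.node (.node (.node (.leaf (nat_lit 0x33002)) (.leaf (nat_lit 0x32361323621232363236212017))) (.leaf (nat_lit 0x323232363232363236323236018))) (.node (.node (.leaf (nat_lit 0x121212006)) (.leaf (nat_lit 0x23236342323643232363423236301b))) (.leaf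 (nat_lit 0x3263236323232323632362016)))) (.node (.node (.node (.leaf (nat_lit 0x434343006)) (.leaf (nat_lit 0x23634232363232363423236432301b))) (.leaf (nat_lit 0x323236323632323632323236018))) (.node (.leaf (nat_lit 0x63232506323200c)) (.leaf (nat_lit 0x3236321232363212323632123236321232363212028)))))) (.node (.node (.node (.node (.node (.leaf (nat_lit 0x5001)) (.leaf (nat_lit 0x13236212323632362123236017))) (.leaf (nat_lit 0x232323502300a))) (.node (.node (.leaf (nat_lit 0x202004)) (.leaf (nat_lit 0x63423236432323634232363232301b))) (.leaf (nat_lit 0x2363232323236323623263016)))) (.node (.node (.node (.leaf (nat_lit 0x5151004)) (.leaf (nat_lit 0x42323632323634232364323236301b))) (.leaf (nat_lit 0x363236323236323232363232018))) (.node (.leaf (nat_lit 0x25063232632300c)) (.leaf (nat_lit 0x3212323632123236321232363212323632123236028))))) (.node (.node (.node (.node (.leaf (nat_lit 0x101010006)) (.leaf (nat_lit 0x62123236132362123236323017))) (.leaf (nat_lit 0x323632323236323236323632018))) (.node (.leaf (nat_lit 0x2323232323232323010))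 (.leaf (nat_lit 0x2362326323632323232363016)))) (.node (.node (.node (.leaf (nat_lit 0x232323235000a)) (.leaf (nat_lit 0x43232363423236323236342323601b))) (.leaf (nat_lit 0x323632323632363232363232018))) (.node (.leaf (nat_lit 0x32326323250600c)) (.leaf (nat_lit 0x32363236212323613236212017))))))) (.node (.node (.node (.node (.node (.node (.leaf (nat_lit 0x3001)) (.leaf (nat_lit 0x23621232363236212323613017))) (.leaf (nat_lit 0x232350232300a))) (.node (.node (.leaf (nat_lit 0x0)) (.leaf (nat_lit 0x42323643232363423236323236301b))) (.leaf (nat_lit 0x6323232323632362326323016)))) (.node (.node (.node (.leaf (nat_lit 0x3131004)) (.leaf (nat_lit 0x32363232363423236432323634201b))) (.leaf (nat_lit 0x323632323632323236323236018))) (.node (.leaf (nat_lit 0x6323263232500c)) (.leaf (nat_lit 0x1232363212323632123236321232363212323632028))))) (.node (.node (.node (.node (.leaf (nat_lit 0x55002)) (.leaf (nat_lit 0x12323613236212323632362017))) (.leaf (nat_lit 0x363232323632323632363232018))) (.node (.leaf (nat_lit 0x1414004)) (.leaf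 (nat_lit 0x6232632363232323236323016)))) (.node (.node (.node (.leaf (nat_lit 0x545454006)) (.leaf (nat_lit 0x23236342323632323634232364301b))) (.leaf (nat_lit 0x363232363236323236323232018))) (.node (.leaf (nat_lit 0x32632325063200c)) (.leaf (nat_lit 0x36323621232361323621232017)))))) (.node (.node (.node (.node (.node (.leaf (nat_lit 0x11002)) (.leaf (nat_lit 0x36132362123236323621232017))) (.leaf (nat_lit 0x323236323236323632323632018))) (.node (.node (.leaf (nat_lit 0x404004)) (.leaf (nat_lit 0x23634232364323236342323632301b))) (.leaf (nat_lit 0x6323632323232363236232016)))) (.node (.node (.node (.leaf (nat_lit 0x4242004)) (.leaf (nat_lit 0x63423236323236342323643232301b))) (.leaf (nat_lit 0x323632363232363232323632018))) (.node (.leaf (nat_lit 0x23250632326300c)) (.leaf (nat_lit 0x3632123236321232363212323632123236321232028))))) (.node (.node (.node (.node (.leaf (nat_lit 0x3030004)) (.leaf (nat_lit 0x23621232361323621232363017))) (.leaf (nat_lit 0x323236323232363232363236018))) (.node (.leaf (nat_lit 0x2525004)) (.leaf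 (nat_lit 0x6323623263236323232323016)))) (.node (.node (.node (.leaf (nat_lit 0x2323632362326323632323016)) (.leaf (nat_lit 0x36432323634232363232363423201b))) (.leaf (nat_lit 0x2323236323623263236323016))) (.node (.leaf (nat_lit 0x502323232300a)) (.leaf (nat_lit 0x12323632362123236132362017)))))))))

/-- The certificate. -/
noncomputable def data : Data := ⟨7, facts, par, words, 6, 170⟩

/-- Representatives. -/
noncomputable def rep : Tree :=
  rep0

/-- The rows of the table. -/
noncomputable def tab : Tree :=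
  (.node (.node tab0 tab1) (.node tab2 tab3))

/-- Parents in the table. -/
noncomputable def tpar : Tree :=
  tpar0

/-- The table. -/
noncomputable def table : Table := ⟨122760, rep, tab, tpar⟩

/-- The relators. -/
noncomputable def rels : List (List ℕ) := [[0, 0], [0, 1, 0, 1, 0, 1], [0, 2, 0, 2], [0, 3, 0, 3], [0, 4, 0, 4], [0, 5, 0, 5], [], [1, 1], [1, 2, 1, 2, 1, 2], [1, 3, 1, 3], [1, 4, 1, 4], [1, 5, 1, 5], [], [2, 2], [2, 3, 2, 3, 2, 3, 2, 3, 2, 3, 2, 3, 2, 3, 2, 3], [2, 4, 2, 4], [2, 5, 2, 5], [], [3, 3], [3, 4, 3, 4, 3, 4], [3, 5, 3, 5], [], [4, 4], [4, 5, 4, 5, 4, 5], [], [5, 5], [], [6, 6], [0, 5, 2, 3, 2, 3, 6, 2, 3, 2, 3, 6], [0, 5, 3, 2, 3, 2, 3, 2, 3, 2], [3, 2, 3, 6, 3, 2, 3, 2, 3, 6, 3, 2, 3, 6, 3, 2, 3, 2, 3, 6, 3, 2, 3, 2], [3, 2, 3, 2, 3, 6, 3, 2, 3, 6, 2, 3, 2, 6, 3, 2, 3, 6, 3, 2, 3, 2], [1, 2, 3, 6, 3, 2, 3, 2, 1, 2, 3, 6, 3, 2, 3, 2, 1, 2, 3, 6, 3, 2, 3, 2, 1, 2, 3, 6, 3, 2, 3, 2, 1, 2, 3, 6, 3, 2, 3, 2], [6, 3, 2, 3, 2, 1, 2, 6, 3, 2, 3, 1, 6, 3, 2, 3, 2, 1, 2, 6, 3, 2, 3], [6, 3, 2, 3, 2, 4,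 3, 6, 3, 2, 3, 2, 3, 4, 6, 3, 2, 3, 2, 4, 3, 6, 3, 2, 3, 2, 3]]

/-- The words generating the subgroup. -/
noncomputable def hw : List (List ℕ) := [[0], [1], [2], [3], [4], [5]]

/-- The reversed words. -/
noncomputable def hwR : List (List ℕ) := [[0], [1], [2], [3], [4], [5]]

/-- The origin of the words. -/
noncomputable def rots : List (ℕ × ℕ) := [(0, 0), (1, 0), (2, 0), (3, 0), (4, 0), (5, 0), (0, 0), (7, 0), (13, 0), (18, 0), (22, 0), (25, 0), (27, 0), (1, 0), (2, 0), (3, 0), (4, 0), (5, 0), (8, 0), (9, 0), (10, 0), (11, 0), (14, 0), (15, 0), (16, 0), (19, 0), (20, 0), (23, 0), (28, 0), (29, 0), (30, 0), (31, 0), (32, 0), (33, 0), (34, 0), (36, 0), (1, 1), (2, 1), (3, 1), (4, 1), (5, 1), (8, 1), (9, 1), (10, 1), (11, 1), (14, 1), (15, 1), (16, 1), (19, 1), (20, 1), (23, 1), (28, 1), (28, 2), (28, 3), (28, 4), (28, 5), (28, 6), (28, 7), (28, 8), (28, 9), (28, 10), (28, 11), (29, 1), (29, 2), (29, 3), (29, 4), (29, 5), (29, 6), (29, 7), (29, 8), (29, 9), (30, 1), (30, 2), (30, 3), (30, 4), (30, 5), (30, 6), (30, 7),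 (30, 8), (30, 9), (30, 10), (30, 11), (30, 12), (30, 13), (30, 14), (30, 15), (30, 16), (30, 17), (30, 18), (30, 19), (30, 20), (30, 21), (30, 22), (30, 23), (31, 1), (31, 2), (31, 3), (31, 4), (31, 5), (31, 6), (31, 7), (31, 8), (31, 9), (31, 10), (31, 11), (31, 12), (31, 13), (31, 14), (31, 15), (31, 16), (31, 17), (31, 18), (31, 19), (31, 20), (31, 21), (32, 1), (32, 2), (32, 3), (32, 4), (32, 5), (32, 6), (32, 7), (33, 1), (33, 2), (33, 3), (33, 4), (33, 5), (33, 6), (33, 7), (33, 8), (33, 9), (33, 10), (33, 11), (33, 12), (33, 13), (33, 14), (33, 15), (33, 16), (33, 17), (33, 18), (33, 19), (33, 20), (33, 21), (33, 22), (34, 1), (34, 2), (34, 3), (34, 4), (34, 5), (34, 6), (34, 7), (34, 8), (34, 9), (34, 10), (34, 11), (34, 12), (34, 13), (34, 14), (34, 15), (34, 16), (34, 17), (34, 18), (34, 19), (34, 20), (34, 21), (34, 22), (34, 23), (34, 24), (34, 25), (34, 26)]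

end CfsgLib.CosetEnum.ON122760
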