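/-
Certificate data of a coset enumeration.
-/
import Cfsg.Agent.Lib.CosetEnum.ON122760.Data

set_option autoImplicit false
set_option maxRecDepth 1000000

namespace CfsgLib.CosetEnum.ON122760

open CfsgLib.CosetEnum

theorem points80_ok : okPoints table 7 rels 40000 500 = true := by decide +kernel

theorem points81_ok : okPoints table 7 rels 40500 500 = true := by decide +kernel

theorem points82_ok : okPoints table 7 rels 41000 500 = true := by decide +kernel

theorem points83_ok : okPoints table 7 rels 41500 500 = true := by decide +kernel

theorem points84_ok : okPoints table 7 rels 42000 500 = true := by decide +kernel

theorem points85_ok : okPoints table 7 rels 42500 500 = true := by decide +kernel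

theorem points86_ok : okPoints table 7 rels 43000 500 = true := by decide +kernel

theorem points87_ok : okPoints table 7 rels 43500 500 = true := by decide +kernel


end CfsgLib.CosetEnum.ON122760
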