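/-
Certificate data of a coset enumeration.
-/
import Cfsg.Agent.Lib.CosetEnum.ON122760.Data

set_option autoImplicit false
set_option maxRecDepth 1000000

namespace CfsgLib.CosetEnum.ON122760

open CfsgLib.CosetEnum

theorem points96_ok : okPoints table 7 rels 48000 500 = true := by decide +kernel

theorem points97_ok : okPoints table 7 rels 48500 500 = true := by decide +kernel

theorem points98_ok : okPoints table 7 rels 49000 500 = true := by decide +kernel

theorem points99_ok : okPoints table 7 rels 49500 500 = true := by decide +kernel

theorem points100_ok : okPoints table 7 rels 50000 500 = true := by decide +kernel

theorem points101_ok : okPoints table 7 rels 50500 500 = true := by decide +kernel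

theorem points102_ok : okPoints table 7 rels 51000 500 = true := by decide +kernel

theorem points103_ok : okPoints table 7 rels 51500 500 = true := by decide +kernel


end CfsgLib.CosetEnum.ON122760
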