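/-
Certificate data of a coset enumeration.
-/
import Cfsg.Agent.Lib.CosetEnum.ON122760.Data

set_option autoImplicit false
set_option maxRecDepth 1000000

namespace CfsgLib.CosetEnum.ON122760

open CfsgLib.CosetEnum

theorem points104_ok : okPoints table 7 rels 52000 500 = true := by decide +kernel

theorem points105_ok : okPoints table 7 rels 52500 500 = true := by decide +kernel

theorem points106_ok : okPoints table 7 rels 53000 500 = true := by decide +kernel

theorem points107_ok : okPoints table 7 rels 53500 500 = true := by decide +kernel

theorem points108_ok : okPoints table 7 rels 54000 500 = true := by decide +kernel

theorem points109_ok : okPoints table 7 rels 54500 500 = true := by decide +kernel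

theorem points110_ok : okPoints table 7 rels 55000 500 = true := by decide +kernel

theorem points111_ok : okPoints table 7 rels 55500 500 = true := by decide +kernel


end CfsgLib.CosetEnum.ON122760
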