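/-
Certificate data of a coset enumeration.
-/
import Cfsg.Agent.Lib.CosetEnum.ON122760.Data

set_option autoImplicit false
set_option maxRecDepth 1000000

namespace CfsgLib.CosetEnum.ON122760

open CfsgLib.CosetEnum

theorem points112_ok : okPoints table 7 rels 56000 500 = true := by decide +kernel

theorem points113_ok : okPoints table 7 rels 56500 500 = true := by decide +kernel

theorem points114_ok : okPoints table 7 rels 57000 500 = true := by decide +kernel

theorem points115_ok : okPoints table 7 rels 57500 500 = true := by decide +kernel

theorem points116_ok : okPoints table 7 rels 58000 500 = true := by decide +kernel

theorem points117_ok : okPoints table 7 rels 58500 500 = true := by decide +kernel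

theorem points118_ok : okPoints table 7 rels 59000 500 = true := by decide +kernel

theorem points119_ok : okPoints table 7 rels 59500 500 = true := by decide +kernel


end CfsgLib.CosetEnum.ON122760
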