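/-
Certificate data of a coset enumeration.
-/
import Cfsg.Agent.Lib.CosetEnum.ON122760.Data

set_option autoImplicit false
set_option maxRecDepth 1000000

namespace CfsgLib.CosetEnum.ON122760

open CfsgLib.CosetEnum

theorem points120_ok : okPoints table 7 rels 60000 500 = true := by decide +kernel

theorem points121_ok : okPoints table 7 rels 60500 500 = true := by decide +kernel

theorem points122_ok : okPoints table 7 rels 61000 500 = true := by decide +kernel

theorem points123_ok : okPoints table 7 rels 61500 500 = true := by decide +kernel

theorem points124_ok : okPoints table 7 rels 62000 500 = true := by decide +kernel

theorem points125_ok : okPoints table 7 rels 62500 500 = true := by decide +kernel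

theorem points126_ok : okPoints table 7 rels 63000 500 = true := by decide +kernel

theorem points127_ok : okPoints table 7 rels 63500 500 = true := by decide +kernel


end CfsgLib.CosetEnum.ON122760
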