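/-
Certificate data of a coset enumeration.
-/
import Cfsg.Agent.Lib.CosetEnum.ON122760.Data

set_option autoImplicit false
set_option maxRecDepth 1000000

namespace CfsgLib.CosetEnum.ON122760

open CfsgLib.CosetEnum

theorem points128_ok : okPoints table 7 rels 64000 500 = true := by decide +kernel

theorem points129_ok : okPoints table 7 rels 64500 500 = true := by decide +kernel

theorem points130_ok : okPoints table 7 rels 65000 500 = true := by decide +kernel

theorem points131_ok : okPoints table 7 rels 65500 500 = true := by decide +kernel

theorem points132_ok : okPoints table 7 rels 66000 500 = true := by decide +kernel

theorem points133_ok : okPoints table 7 rels 66500 500 = true := by decide +kernel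

theorem points134_ok : okPoints table 7 rels 67000 500 = true := by decide +kernel

theorem points135_ok : okPoints table 7 rels 67500 500 = true := by decide +kernel


end CfsgLib.CosetEnum.ON122760
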