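/-
Certificate data of a coset enumeration.
-/
import Cfsg.Agent.Lib.CosetEnum.ON122760.Data

set_option autoImplicit false
set_option maxRecDepth 1000000

namespace CfsgLib.CosetEnum.ON122760

open CfsgLib.CosetEnum

theorem points136_ok : okPoints table 7 rels 68000 500 = true := by decide +kernel

theorem points137_ok : okPoints table 7 rels 68500 500 = true := by decide +kernel

theorem points138_ok : okPoints table 7 rels 69000 500 = true := by decide +kernel

theorem points139_ok : okPoints table 7 rels 69500 500 = true := by decide +kernel

theorem points140_ok : okPoints table 7 rels 70000 500 = true := by decide +kernel

theorem points141_ok : okPoints table 7 rels 70500 500 = true := by decide +kernel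

theorem points142_ok : okPoints table 7 rels 71000 500 = true := by decide +kernel

theorem points143_ok : okPoints table 7 rels 71500 500 = true := by decide +kernel


end CfsgLib.CosetEnum.ON122760
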