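/-
Certificate data of a coset enumeration.
-/
import Cfsg.Agent.Lib.CosetEnum.ON122760.Data

set_option autoImplicit false
set_option maxRecDepth 1000000

namespace CfsgLib.CosetEnum.ON122760

open CfsgLib.CosetEnum

theorem points144_ok : okPoints table 7 rels 72000 500 = true := by decide +kernel

theorem points145_ok : okPoints table 7 rels 72500 500 = true := by decide +kernel

theorem points146_ok : okPoints table 7 rels 73000 500 = true := by decide +kernel

theorem points147_ok : okPoints table 7 rels 73500 500 = true := by decide +kernel

theorem points148_ok : okPoints table 7 rels 74000 500 = true := by decide +kernel

theorem points149_ok : okPoints table 7 rels 74500 500 = true := by decide +kernel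

theorem points150_ok : okPoints table 7 rels 75000 500 = true := by decide +kernel

theorem points151_ok : okPoints table 7 rels 75500 500 = true := by decide +kernel


end CfsgLib.CosetEnum.ON122760
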