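/-
Certificate data of a coset enumeration.
-/
import Cfsg.Agent.Lib.CosetEnum.ON122760.Data

set_option autoImplicit false
set_option maxRecDepth 1000000

namespace CfsgLib.CosetEnum.ON122760

open CfsgLib.CosetEnum

theorem points152_ok : okPoints table 7 rels 76000 500 = true := by decide +kernel

theorem points153_ok : okPoints table 7 rels 76500 500 = true := by decide +kernel

theorem points154_ok : okPoints table 7 rels 77000 500 = true := by decide +kernel

theorem points155_ok : okPoints table 7 rels 77500 500 = true := by decide +kernel

theorem points156_ok : okPoints table 7 rels 78000 500 = true := by decide +kernel

theorem points157_ok : okPoints table 7 rels 78500 500 = true := by decide +kernel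

theorem points158_ok : okPoints table 7 rels 79000 500 = true := by decide +kernel

theorem points159_ok : okPoints table 7 rels 79500 500 = true := by decide +kernel


end CfsgLib.CosetEnum.ON122760
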