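/-
Certificate data of a coset enumeration.
-/
import Cfsg.Agent.Lib.CosetEnum.ON122760.Data

set_option autoImplicit false
set_option maxRecDepth 1000000

namespace CfsgLib.CosetEnum.ON122760

open CfsgLib.CosetEnum

theorem points160_ok : okPoints table 7 rels 80000 500 = true := by decide +kernel

theorem points161_ok : okPoints table 7 rels 80500 500 = true := by decide +kernel

theorem points162_ok : okPoints table 7 rels 81000 500 = true := by decide +kernel

theorem points163_ok : okPoints table 7 rels 81500 500 = true := by decide +kernel

theorem points164_ok : okPoints table 7 rels 82000 500 = true := by decide +kernel

theorem points165_ok : okPoints table 7 rels 82500 500 = true := by decide +kernel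

theorem points166_ok : okPoints table 7 rels 83000 500 = true := by decide +kernel

theorem points167_ok : okPoints table 7 rels 83500 500 = true := by decide +kernel


end CfsgLib.CosetEnum.ON122760
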