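/-
Certificate data of a coset enumeration.
-/
import Cfsg.Agent.Lib.CosetEnum.ON122760.Data

set_option autoImplicit false
set_option maxRecDepth 1000000

namespace CfsgLib.CosetEnum.ON122760

open CfsgLib.CosetEnum

theorem points168_ok : okPoints table 7 rels 84000 500 = true := by decide +kernel

theorem points169_ok : okPoints table 7 rels 84500 500 = true := by decide +kernel

theorem points170_ok : okPoints table 7 rels 85000 500 = true := by decide +kernel

theorem points171_ok : okPoints table 7 rels 85500 500 = true := by decide +kernel

theorem points172_ok : okPoints table 7 rels 86000 500 = true := by decide +kernel

theorem points173_ok : okPoints table 7 rels 86500 500 = true := by decide +kernel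

theorem points174_ok : okPoints table 7 rels 87000 500 = true := by decide +kernel

theorem points175_ok : okPoints table 7 rels 87500 500 = true := by decide +kernel


end CfsgLib.CosetEnum.ON122760
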