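/-
Certificate data of a coset enumeration.
-/
import Cfsg.Agent.Lib.CosetEnum.ON122760.Data

set_option autoImplicit false
set_option maxRecDepth 1000000

namespace CfsgLib.CosetEnum.ON122760

open CfsgLib.CosetEnum

theorem points184_ok : okPoints table 7 rels 92000 500 = true := by decide +kernel

theorem points185_ok : okPoints table 7 rels 92500 500 = true := by decide +kernel

theorem points186_ok : okPoints table 7 rels 93000 500 = true := by decide +kernel

theorem points187_ok : okPoints table 7 rels 93500 500 = true := by decide +kernel

theorem points188_ok : okPoints table 7 rels 94000 500 = true := by decide +kernel

theorem points189_ok : okPoints table 7 rels 94500 500 = true := by decide +kernel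

theorem points190_ok : okPoints table 7 rels 95000 500 = true := by decide +kernel

theorem points191_ok : okPoints table 7 rels 95500 500 = true := by decide +kernel


end CfsgLib.CosetEnum.ON122760
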