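/-
Certificate data of a coset enumeration.
-/
import Cfsg.Agent.Lib.CosetEnum.ON122760.Data

set_option autoImplicit false
set_option maxRecDepth 1000000

namespace CfsgLib.CosetEnum.ON122760

open CfsgLib.CosetEnum

theorem points192_ok : okPoints table 7 rels 96000 500 = true := by decide +kernel

theorem points193_ok : okPoints table 7 rels 96500 500 = true := by decide +kernel

theorem points194_ok : okPoints table 7 rels 97000 500 = true := by decide +kernel

theorem points195_ok : okPoints table 7 rels 97500 500 = true := by decide +kernel

theorem points196_ok : okPoints table 7 rels 98000 500 = true := by decide +kernel

theorem points197_ok : okPoints table 7 rels 98500 500 = true := by decide +kernel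

theorem points198_ok : okPoints table 7 rels 99000 500 = true := by decide +kernel

theorem points199_ok : okPoints table 7 rels 99500 500 = true := by decide +kernel


end CfsgLib.CosetEnum.ON122760
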