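/-
Certificate data of a coset enumeration.
-/
import Cfsg.Agent.Lib.CosetEnum.ON122760.Data

set_option autoImplicit false
set_option maxRecDepth 1000000

namespace CfsgLib.CosetEnum.ON122760

open CfsgLib.CosetEnum

theorem points200_ok : okPoints table 7 rels 100000 500 = true := by decide +kernel

theorem points201_ok : okPoints table 7 rels 100500 500 = true := by decide +kernel

theorem points202_ok : okPoints table 7 rels 101000 500 = true := by decide +kernel

theorem points203_ok : okPoints table 7 rels 101500 500 = true := by decide +kernel

theorem points204_ok : okPoints table 7 rels 102000 500 = true := by decide +kernel

theorem points205_ok : okPoints table 7 rels 102500 500 = true := by decide +kernel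

theorem points206_ok : okPoints table 7 rels 103000 500 = true := by decide +kernel

theorem points207_ok : okPoints table 7 rels 103500 500 = true := by decide +kernel


end CfsgLib.CosetEnum.ON122760
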