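/-
Certificate data of a coset enumeration.
-/
import Cfsg.Agent.Lib.CosetEnum.ON122760.Data

set_option autoImplicit false
set_option maxRecDepth 1000000

namespace CfsgLib.CosetEnum.ON122760

open CfsgLib.CosetEnum

theorem points208_ok : okPoints table 7 rels 104000 500 = true := by decide +kernel

theorem points209_ok : okPoints table 7 rels 104500 500 = true := by decide +kernel

theorem points210_ok : okPoints table 7 rels 105000 500 = true := by decide +kernel

theorem points211_ok : okPoints table 7 rels 105500 500 = true := by decide +kernel

theorem points212_ok : okPoints table 7 rels 106000 500 = true := by decide +kernel

theorem points213_ok : okPoints table 7 rels 106500 500 = true := by decide +kernel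

theorem points214_ok : okPoints table 7 rels 107000 500 = true := by decide +kernel

theorem points215_ok : okPoints table 7 rels 107500 500 = true := by decide +kernel


end CfsgLib.CosetEnum.ON122760
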