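/-
Certificate data of a coset enumeration.
-/
import Cfsg.Agent.Lib.CosetEnum.ON122760.Data

set_option autoImplicit false
set_option maxRecDepth 1000000

namespace CfsgLib.CosetEnum.ON122760

open CfsgLib.CosetEnum

theorem points216_ok : okPoints table 7 rels 108000 500 = true := by decide +kernel

theorem points217_ok : okPoints table 7 rels 108500 500 = true := by decide +kernel

theorem points218_ok : okPoints table 7 rels 109000 500 = true := by decide +kernel

theorem points219_ok : okPoints table 7 rels 109500 500 = true := by decide +kernel

theorem points220_ok : okPoints table 7 rels 110000 500 = true := by decide +kernel

theorem points221_ok : okPoints table 7 rels 110500 500 = true := by decide +kernel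

theorem points222_ok : okPoints table 7 rels 111000 500 = true := by decide +kernel

theorem points223_ok : okPoints table 7 rels 111500 500 = true := by decide +kernel


end CfsgLib.CosetEnum.ON122760
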