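/-
Certificate data of a coset enumeration.
-/
import Cfsg.Agent.Lib.CosetEnum.ON122760.Data

set_option autoImplicit false
set_option maxRecDepth 1000000

namespace CfsgLib.CosetEnum.ON122760

open CfsgLib.CosetEnum

theorem points224_ok : okPoints table 7 rels 112000 500 = true := by decide +kernel

theorem points225_ok : okPoints table 7 rels 112500 500 = true := by decide +kernel

theorem points226_ok : okPoints table 7 rels 113000 500 = true := by decide +kernel

theorem points227_ok : okPoints table 7 rels 113500 500 = true := by decide +kernel

theorem points228_ok : okPoints table 7 rels 114000 500 = true := by decide +kernel

theorem points229_ok : okPoints table 7 rels 114500 500 = true := by decide +kernel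

theorem points230_ok : okPoints table 7 rels 115000 500 = true := by decide +kernel

theorem points231_ok : okPoints table 7 rels 115500 500 = true := by decide +kernel


end CfsgLib.CosetEnum.ON122760
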