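/-
Certificate data of a coset enumeration.
-/
import Cfsg.Agent.Lib.CosetEnum.ON122760.Data

set_option autoImplicit false
set_option maxRecDepth 1000000

namespace CfsgLib.CosetEnum.ON122760

open CfsgLib.CosetEnum

theorem points232_ok : okPoints table 7 rels 116000 500 = true := by decide +kernel

theorem points233_ok : okPoints table 7 rels 116500 500 = true := by decide +kernel

theorem points234_ok : okPoints table 7 rels 117000 500 = true := by decide +kernel

theorem points235_ok : okPoints table 7 rels 117500 500 = true := by decide +kernel

theorem points236_ok : okPoints table 7 rels 118000 500 = true := by decide +kernel

theorem points237_ok : okPoints table 7 rels 118500 500 = true := by decide +kernel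

theorem points238_ok : okPoints table 7 rels 119000 500 = true := by decide +kernel

theorem points239_ok : okPoints table 7 rels 119500 500 = true := by decide +kernel


end CfsgLib.CosetEnum.ON122760
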