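/-
Certificate data of a coset enumeration.
-/
import Cfsg.Agent.Lib.CosetEnum.ON122760.Data

set_option autoImplicit false
set_option maxRecDepth 1000000

namespace CfsgLib.CosetEnum.ON122760

open CfsgLib.CosetEnum

theorem points240_ok : okPoints table 7 rels 120000 500 = true := by decide +kernel

theorem points241_ok : okPoints table 7 rels 120500 500 = true := by decide +kernel

theorem points242_ok : okPoints table 7 rels 121000 500 = true := by decide +kernel

theorem points243_ok : okPoints table 7 rels 121500 500 = true := by decide +kernel

theorem points244_ok : okPoints table 7 rels 122000 500 = true := by decide +kernel

theorem points245_ok : okPoints table 7 rels 122500 260 = true := by decide +kernel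


end CfsgLib.CosetEnum.ON122760
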