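/-
Certificate data of a coset enumeration.
-/
import Cfsg.Agent.Lib.CosetEnum.ON122760.Data

set_option autoImplicit false
set_option maxRecDepth 1000000

namespace CfsgLib.CosetEnum.ON122760

open CfsgLib.CosetEnum

theorem points32_ok : okPoints table 7 rels 16000 500 = true := by decide +kernel

theorem points33_ok : okPoints table 7 rels 16500 500 = true := by decide +kernel

theorem points34_ok : okPoints table 7 rels 17000 500 = true := by decide +kernel

theorem points35_ok : okPoints table 7 rels 17500 500 = true := by decide +kernel

theorem points36_ok : okPoints table 7 rels 18000 500 = true := by decide +kernel

theorem points37_ok : okPoints table 7 rels 18500 500 = true := by decide +kernel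

theorem points38_ok : okPoints table 7 rels 19000 500 = true := by decide +kernel

theorem points39_ok : okPoints table 7 rels 19500 500 = true := by decide +kernel


end CfsgLib.CosetEnum.ON122760
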