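/-
Certificate data of a coset enumeration.
-/
import Cfsg.Agent.Lib.CosetEnum.ON122760.Data

set_option autoImplicit false
set_option maxRecDepth 1000000

namespace CfsgLib.CosetEnum.ON122760

open CfsgLib.CosetEnum

theorem points56_ok : okPoints table 7 rels 28000 500 = true := by decide +kernel

theorem points57_ok : okPoints table 7 rels 28500 500 = true := by decide +kernel

theorem points58_ok : okPoints table 7 rels 29000 500 = true := by decide +kernel

theorem points59_ok : okPoints table 7 rels 29500 500 = true := by decide +kernel

theorem points60_ok : okPoints table 7 rels 30000 500 = true := by decide +kernel

theorem points61_ok : okPoints table 7 rels 30500 500 = true := by decide +kernel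

theorem points62_ok : okPoints table 7 rels 31000 500 = true := by decide +kernel

theorem points63_ok : okPoints table 7 rels 31500 500 = true := by decide +kernel


end CfsgLib.CosetEnum.ON122760
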