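/-
Certificate data of a coset enumeration.
-/
import Cfsg.Agent.Lib.CosetEnum.ON122760.Data

set_option autoImplicit false
set_option maxRecDepth 1000000

namespace CfsgLib.CosetEnum.ON122760

open CfsgLib.CosetEnum

theorem points64_ok : okPoints table 7 rels 32000 500 = true := by decide +kernel

theorem points65_ok : okPoints table 7 rels 32500 500 = true := by decide +kernel

theorem points66_ok : okPoints table 7 rels 33000 500 = true := by decide +kernel

theorem points67_ok : okPoints table 7 rels 33500 500 = true := by decide +kernel

theorem points68_ok : okPoints table 7 rels 34000 500 = true := by decide +kernel

theorem points69_ok : okPoints table 7 rels 34500 500 = true := by decide +kernel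

theorem points70_ok : okPoints table 7 rels 35000 500 = true := by decide +kernel

theorem points71_ok : okPoints table 7 rels 35500 500 = true := by decide +kernel


end CfsgLib.CosetEnum.ON122760
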