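/-
Certificate data of a coset enumeration.
-/
import Cfsg.Agent.Lib.CosetEnum.ON122760.Data

set_option autoImplicit false
set_option maxRecDepth 1000000

namespace CfsgLib.CosetEnum.ON122760

open CfsgLib.CosetEnum

theorem points72_ok : okPoints table 7 rels 36000 500 = true := by decide +kernel

theorem points73_ok : okPoints table 7 rels 36500 500 = true := by decide +kernel

theorem points74_ok : okPoints table 7 rels 37000 500 = true := by decide +kernel

theorem points75_ok : okPoints table 7 rels 37500 500 = true := by decide +kernel

theorem points76_ok : okPoints table 7 rels 38000 500 = true := by decide +kernel

theorem points77_ok : okPoints table 7 rels 38500 500 = true := by decide +kernel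

theorem points78_ok : okPoints table 7 rels 39000 500 = true := by decide +kernel

theorem points79_ok : okPoints table 7 rels 39500 500 = true := by decide +kernel


end CfsgLib.CosetEnum.ON122760
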