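/-
Certificate data of a coset enumeration.
-/
import Cfsg.Agent.Lib.CosetEnum.ON122760.Data

set_option autoImplicit false
set_option maxRecDepth 1000000

namespace CfsgLib.CosetEnum.ON122760

open CfsgLib.CosetEnum

/-- Completion of the rows from 0. -/
noncomputable def rows0_0 : List (List ℕ) := [[(nat_lit 0x1),(nat_lit 0x1001),(nat_lit 0x2001),(nat_lit 0x3001),(nat_lit 0x4001),(nat_lit 0x5001),(nat_lit 0x6001)],[(nat_lit 0x62d00007002),(nat_lit 0x8001),(nat_lit 0x9001),(nat_lit 0xa001),(nat_lit 0xe001),(nat_lit 0x62d0000d002),(nat_lit 0x6001)],[(nat_lit 0x26001),(nat_lit 0x8001),(nat_lit 0x2a001),(nat_lit 0x17001),(nat_lit 0x19001),(nat_lit 0x6370001b002),(nat_lit 0x2b001)],[(nat_lit 0x62a00010002),(nat_lit 0x36001),(nat_lit 0x9001),(nat_lit 0xb001),(nat_lit 0x1d001),(nat_lit 0x62a00011002),(nat_lit 0x39001)],[(nat_lit 0x63800013002),(nat_lit 0x18001),(nat_lit 0xc001),(nat_lit 0xa001),(nat_lit 0x47001),(nat_lit 0x63800014002),(nat_lit 0x48001)],[(nat_lit 0x63900016002),(nat_lit 0x1a001),(nat_lit 0x1e001),(nat_lit 0x5b001),(nat_lit 0xe001),(nat_lit 0x5e001),(nat_lit 0x62001)],[(nat_lit 0x26001),(nat_lit 0x65000028002),(nat_lit 0x2c001),(nat_lit 0x2e001),(nat_lit 0x30001),(nat_lit 0x65000029002),(nat_lit 0xcf001)],[(nat_lit 0x2d001),(nat_lit 0x37001),(nat_lit 0x2a001),(nat_lit 0xd6001),(nat_lit 0x32001),(nat_lit 0x64800034002),(nat_lit 0xd7001)],[(nat_lit 0x2f001),(nat_lit 0x18001),(nat_lit 0x86001),(nat_lit 0x17001),(nat_lit 0x4f001),(nat_lit 0x65100021002),(nat_lit 0x89001)],[(nat_lit 0x31001),(nat_lit 0x1a001),(nat_lit 0x33001),(nat_lit 0x6d001),(nat_lit 0x19001),(nat_lit 0x72001),(nat_lit 0x95001)],[(nat_lit 0x1143000de002),(nat_lit 0xdf001),(nat_lit 0xe0001),(nat_lit 0x6bf000e1002),(nat_lit 0xe2001),(nat_lit 0x113f000e3002),(nat_lit 0x2b001)],[(nat_lit 0x11f001),(nat_lit 0x36001),(nat_lit 0x38001),(nat_lit 0x3e001),(nat_lit 0x40001),(nat_lit 0x62c00042002),(nat_lit 0x123001)],[(nat_lit 0x62e0003b002),(nat_lit 0x3f001),(nat_lit 0xc001),(nat_lit 0xb001),(nat_lit 0x51001),(nat_lit 0x62e0003c002),(nat_lit 0x53001)],[(nat_lit 0x62f00025002),(nat_lit 0x41001),(nat_lit 0x1e001),(nat_lit 0xa9001),(nat_lit 0x1d001),(nat_lit 0x76001),(nat_lit 0xac001)],[(nat_lit 0x5a500148002),(nat_lit 0x149001),(nat_lit 0x57f0014a002),(nat_lit 0x14c001),(nat_lit 0x8ec0014f002),(nat_lit 0x5a50014d002),(nat_lit 0x39001)],[(nat_lit 0x6530004e002),(nat_lit 0x50001),(nat_lit 0x52001),(nat_lit 0x5c001),(nat_lit 0x47001),(nat_lit 0x16e001),(nat_lit 0x172001)],[(nat_lit 0x8b300180002),(nat_lit 0xb8300181002),(nat_lit 0x18500182002),(nat_lit 0x87700183002),(nat_lit 0x187001),(nat_lit 0x8b300186002),(nat_lit 0x48001)],[(nat_lit 0x65400067002),(nat_lit 0x6e001),(nat_lit 0x1d6001),(nat_lit 0x5b001),(nat_lit 0x5d001),(nat_lit 0x7c001),(nat_lit 0x1d7001)],[(nat_lit 0x65500061002),(nat_lit 0x73001),(nat_lit 0x77001),(nat_lit 0x7d001),(nat_lit 0x6550005f002),(nat_lit 0x5e001),(nat_lit 0x1e3001)],[(nat_lit 0x1615001e4002),(nat_lit 0x1e5001),(nat_lit 0x96e001e6002),(nat_lit 0x1e7001),(nat_lit 0x1e8001),(nat_lit 0x161e001e9002),(nat_lit 0x62001)],[(nat_lit 0x2d001),(nat_lit 0xf6001),(nat_lit 0x2c001),(nat_lit 0xd8001),(nat_lit 0x98001),(nat_lit 0x643000a4002),(nat_lit 0xf7001)],[(nat_lit 0x2f001),(nat_lit 0x6760004a002),(nat_lit 0x8a001),(nat_lit 0x2e001),(nat_lit 0x8c001),(nat_lit 0x6760004c002),(nat_lit 0x101001)],[(nat_lit 0x31001),(nat_lit 0x67700064002),(nat_lit 0x96001),(nat_lit 0x99001),(nat_lit 0x30001),(nat_lit 0x9b001),(nat_lit 0x105001)],[(nat_lit 0x114f0034a002),(nat_lit 0x6aa0034b002),(nat_lit 0x11510034c002),(nat_lit 0x6ac0034d002),(nat_lit 0x11520034e002),(nat_lit 0x11530034f002),(nat_lit 0xcf001)],[(nat_lit 0x125001),(nat_lit 0x37001),(nat_lit 0x38001),(nat_lit 0xda001),(nat_lit 0x6c001),(nat_lit 0x63400046002),(nat_lit 0x113c00136002)],[(nat_lit 0xd9001),(nat_lit 0xdb001),(nat_lit 0x361001),(nat_lit 0xd6001),(nat_lit 0x362001),(nat_lit 0x667000dc002),(nat_lit 0x363001)],[(nat_lit 0x97001),(nat_lit 0x6a001),(nat_lit 0x33001),(nat_lit 0x112001),(nat_lit 0x32001),(nat_lit 0x9d001),(nat_lit 0x113001)],[(nat_lit 0x65a00384002),(nat_lit 0x385001),(nat_lit 0x58e00386002),(nat_lit 0x387001),(nat_lit 0x388001),(nat_lit 0x5a700395002),(nat_lit 0xd7001)],[(nat_lit 0x8b001),(nat_lit 0x87001),(nat_lit 0x86001),(nat_lit 0x24b001),(nat_lit 0x8e001),(nat_lit 0x67000090002),(nat_lit 0x24c001)],[(nat_lit 0x8d001),(nat_lit 0x50001),(nat_lit 0x8f001),(nat_lit 0x6f001),(nat_lit 0x4f001),(nat_lit 0x173001),(nat_lit 0x198001)],[(nat_lit 0x109b0025c002),(nat_lit 0x25d001),(nat_lit 0x25e001),(nat_lit 0xb4e0025f002),(nat_lit 0x260001),(nat_lit 0x109800261002),(nat_lit 0x89001)],[(nat_lit 0x9a001),(nat_lit 0x6e001),(nat_lit 0x20e001),(nat_lit 0x6d001),(nat_lit 0x71001),(nat_lit 0x9f001),(nat_lit 0x20f001)],[(nat_lit 0x9c001),(nat_lit 0x73001),(nat_lit 0x9e001),(nat_lit 0xa1001),(nat_lit 0x67b00074002),(nat_lit 0x72001),(nat_lit 0x21f001)],[(nat_lit 0x201f00299002),(nat_lit 0x29a001),(nat_lit 0x29b001),(nat_lit 0x29c001),(nat_lit 0x29d001),(nat_lit 0x20160029e002),(nat_lit 0x95001)],[(nat_lit 0x3d5001),(nat_lit 0xdf001),(nat_lit 0x3d8001),(nat_lit 0xeb001),(nat_lit 0xed001),(nat_lit 0x1149000ef002),(nat_lit 0x3d9001)],[(nat_lit 0xe5001),(nat_lit 0x3e2001),(nat_lit 0xe0001),(nat_lit 0x3e3001),(nat_lit 0xf1001),(nat_lit 0x113a000f3002),(nat_lit 0x5f1003e4002)],[(nat_lit 0xe9001),(nat_lit 0xee001),(nat_lit 0xf2001),(nat_lit 0x403001),(nat_lit 0xe2001),(nat_lit 0x404001),(nat_lit 0x405001)],[(nat_lit 0x11f001),(nat_lit 0x63300121002),(nat_lit 0x124001),(nat_lit 0x126001),(nat_lit 0x12e001),(nat_lit 0x63300122002),(nat_lit 0x6470052b002)],[(nat_lit 0x127001),(nat_lit 0x3f001),(nat_lit 0x88001),(nat_lit 0x3e001),(nat_lit 0x56001),(nat_lit 0x63500058002),(nat_lit 0x157001)],[(nat_lit 0x12f001),(nat_lit 0x41001),(nat_lit 0x6b001),(nat_lit 0xb1001),(nat_lit 0x40001),(nat_lit 0xb3001),(nat_lit 0x15f001)],[(nat_lit 0x58f0052d002),(nat_lit 0x52e001),(nat_lit 0x5900052f002),(nat_lit 0x5b500530002),(nat_lit 0x59100531002),(nat_lit 0x5b300532002),(nat_lit 0x123001)],[(nat_lit 0x63a00055002),(nat_lit 0x57001),(nat_lit 0x52001),(nat_lit 0xaa001),(nat_lit 0x51001),(nat_lit 0x178001),(nat_lit 0x1a4001)],[(nat_lit 0x9eb001af002),(nat_lit 0x1b0001),(nat_lit 0x7f5001b1002),(nat_lit 0x9c8001b2002),(nat_lit 0x1b6001),(nat_lit 0x9eb001b5002),(nat_lit 0x53001)],[(nat_lit 0x63b000ae002),(nat_lit 0xb2001),(nat_lit 0x2e7001),(nat_lit 0xa9001),(nat_lit 0xab001),(nat_lit 0xb5001),(nat_lit 0x2e8001)],[(nat_lit 0x63c0007b002),(nat_lit 0xb4001),(nat_lit 0x77001),(nat_lit 0xb6001),(nat_lit 0x63c00078002),(nat_lit 0x76001),(nat_lit 0x220001)],[(nat_lit 0x16b7002f7002),(nat_lit 0x2f8001),(nat_lit 0x9f8002f9002),(nat_lit 0x2fa001),(nat_lit 0x2fb001),(nat_lit 0x16c0002fc002),(nat_lit 0xac001)],[(nat_lit 0x565001),(nat_lit 0x149001),(nat_lit 0x24d001),(nat_lit 0x14e001),(nat_lit 0x8ed00150002),(nat_lit 0x5a200152002),(nat_lit 0x6c900567002)],[(nat_lit 0x67c00069002),(nat_lit 0x70001),(nat_lit 0x1db001),(nat_lit 0x5c001),(nat_lit 0x5d001),(nat_lit 0x17a001),(nat_lit 0x1de001)],[(nat_lit 0x67d00171002),(nat_lit 0x174001),(nat_lit 0x179001),(nat_lit 0x17b001),(nat_lit 0x67d0016f002),(nat_lit 0x16e001),(nat_lit 0x758001)],[(nat_lit 0x8a800759002),(nat_lit 0x75a001),(nat_lit 0x8870075b002),(nat_lit 0x87e00762002),(nat_lit 0x763001),(nat_lit 0x8a600764002),(nat_lit 0x172001)],[(nat_lit 0x8b20018c002),(nat_lit 0xb8400190002),(nat_lit 0x188001),(nat_lit 0x8700078a002),(nat_lit 0x187001),(nat_lit 0x78c001),(nat_lit 0x78e001)],[(nat_lit 0x67e001d9002),(nat_lit 0x866001),(nat_lit 0x1d6001),(nat_lit 0x867001),(nat_lit 0x1da001),(nat_lit 0x1dc001),(nat_lit 0x9ea00869002)],[(nat_lit 0x67f00084002),(nat_lit 0xa0001),(nat_lit 0x1dd001),(nat_lit 0x7d001),(nat_lit 0x228001),(nat_lit 0x7c001),(nat_lit 0x229001)],[(nat_lit 0x8ad0086a002),(nat_lit 0x8800086b002),(nat_lit 0x881001),(nat_lit 0x882001),(nat_lit 0x88d001),(nat_lit 0x8a900883002),(nat_lit 0x1d7001)],[(nat_lit 0x162a008e4002),(nat_lit 0x163d00912002),(nat_lit 0x96c00913002),(nat_lit 0x97100914002),(nat_lit 0x97200915002),(nat_lit 0x162c00916002),(nat_lit 0x1e3001)],[(nat_lit 0x927001),(nat_lit 0x1e5001),(nat_lit 0x928001),(nat_lit 0x1f2001),(nat_lit 0x1f4001),(nat_lit 0x1f6001),(nat_lit 0x929001)],[(nat_lit 0x160e001ed002),(nat_lit 0x1f3001),(nat_lit 0x161000943002),(nat_lit 0x1e7001),(nat_lit 0x944001),(nat_lit 0x1617001fb002),(nat_lit 0x95500945002)],[(nat_lit 0x161f001ef002),(nat_lit 0x1f5001),(nat_lit 0x1f9001),(nat_lit 0x949001),(nat_lit 0x1e8001),(nat_lit 0x94a001),(nat_lit 0x94b001)],[(nat_lit 0x12c001),(nat_lit 0xf6001),(nat_lit 0x65d000f9002),(nat_lit 0xfb001),(nat_lit 0xfd001),(nat_lit 0x65d000fa002),(nat_lit 0x482001)],[(nat_lit 0xd9001),(nat_lit 0xfc001),(nat_lit 0x37a001),(nat_lit 0xd8001),(nat_lit 0x37c001),(nat_lit 0x65e000ff002),(nat_lit 0x3a8001)],[(nat_lit 0x97001),(nat_lit 0xfe001),(nat_lit 0x96001),(nat_lit 0x114001),(nat_lit 0x98001),(nat_lit 0x109001),(nat_lit 0x2a5001)],[(nat_lit 0x63d00486002),(nat_lit 0x65b00487002),(nat_lit 0x63f00488002),(nat_lit 0x62b00489002),(nat_lit 0x6400048a002),(nat_lit 0x6420048b002),(nat_lit 0xf7001)],[(nat_lit 0x8b001),(nat_lit 0x262001),(nat_lit 0x8a001),(nat_lit 0x24f001),(nat_lit 0x102001),(nat_lit 0x69e000b9002),(nat_lit 0x278001)],[(nat_lit 0x8d001),(nat_lit 0x6a6000bb002),(nat_lit 0x104001),(nat_lit 0xd0001),(nat_lit 0x8c001),(nat_lit 0x199001),(nat_lit 0x27f001)],[(nat_lit 0x10a2004a4002),(nat_lit 0xb4f004a5002),(nat_lit 0x725004a6002),(nat_lit 0xb4b004a7002),(nat_lit 0x10a4004a8002),(nat_lit 0x10a5004a9002),(nat_lit 0x101001)],[(nat_lit 0x9a001),(nat_lit 0x6a7000c0002),(nat_lit 0x210001),(nat_lit 0x99001),(nat_lit 0xd2001),(nat_lit 0x10c001),(nat_lit 0x2bb001)],[(nat_lit 0x9c001),(nat_lit 0x6a8000c2002),(nat_lit 0x10b001),(nat_lit 0x10e001),(nat_lit 0x6a8000c3002),(nat_lit 0x9b001),(nat_lit 0x17ba002bf002)],[(nat_lit 0x2029004b2002),(nat_lit 0x4b3001),(nat_lit 0x2012004b4002),(nat_lit 0x2035004b5002),(nat_lit 0x2037004c0002),(nat_lit 0x2010004c1002),(nat_lit 0x105001)],[(nat_lit 0x1160003db002),(nat_lit 0x6bf000ec002),(nat_lit 0x127b00451002),(nat_lit 0xeb001),(nat_lit 0x6e7003ff002),(nat_lit 0x1162003e0002),(nat_lit 0x452001)],[(nat_lit 0xe5001),(nat_lit 0x42c001),(nat_lit 0x1143000e4002),(nat_lit 0x3ed001),(nat_lit 0x1144003c3002),(nat_lit 0x1145003d1002),(nat_lit 0x11460042d002)],[(nat_lit 0xe9001),(nat_lit 0x1161003cf002),(nat_lit 0x1144003c5002),(nat_lit 0x116300411002),(nat_lit 0x1143000e8002),(nat_lit 0x413001),(nat_lit 0x445001)],[(nat_lit 0x125001),(nat_lit 0x12d001),(nat_lit 0x124001),(nat_lit 0x137001),(nat_lit 0x139001),(nat_lit 0x6440013f002),(nat_lit 0x5f000533002)],[(nat_lit 0x138001),(nat_lit 0xdb001),(nat_lit 0x3b0001),(nat_lit 0xda001),(nat_lit 0x37e001),(nat_lit 0x6490011e002),(nat_lit 0x3b1001)],[(nat_lit 0x13a001),(nat_lit 0x6a001),(nat_lit 0x6b001),(nat_lit 0x116001),(nat_lit 0x6c001),(nat_lit 0x118001),(nat_lit 0x205001)],[(nat_lit 0x37b001),(nat_lit 0xfac001),(nat_lit 0x361001),(nat_lit 0x368001),(nat_lit 0x380001),(nat_lit 0x69300382002),(nat_lit 0x71f001)],[(nat_lit 0x37d001),(nat_lit 0x37f001),(nat_lit 0x381001),(nat_lit 0x369001),(nat_lit 0x362001),(nat_lit 0xfae001),(nat_lit 0xfb0001)],[(nat_lit 0xb6900b61002),(nat_lit 0x5cb001),(nat_lit 0xb6200702002),(nat_lit 0xb5e005ca002),(nat_lit 0xb63001),(nat_lit 0xb65001),(nat_lit 0x363001)],[(nat_lit 0x115001),(nat_lit 0x117001),(nat_lit 0x4da001),(nat_lit 0x112001),(nat_lit 0x36a001),(nat_lit 0x11b001),(nat_lit 0x4db001)],[(nat_lit 0x10a001),(nat_lit 0x119001),(nat_lit 0x9e001),(nat_lit 0x11c001),(nat_lit 0x695000c5002),(nat_lit 0x9d001),(nat_lit 0x2c4001)],[(nat_lit 0x17a0004dc002),(nat_lit 0x4dd001),(nat_lit 0x15f1004de002),(nat_lit 0x4df001),(nat_lit 0x4e0001),(nat_lit 0x176c004e1002),(nat_lit 0x113001)],[(nat_lit 0x5b7001),(nat_lit 0x385001),(nat_lit 0x1019001),(nat_lit 0x39c001),(nat_lit 0x39e001),(nat_lit 0x5ac003a2002),(nat_lit 0x12bf0101c002)],[(nat_lit 0x5a600399002),(nat_lit 0x39d001),(nat_lit 0x5a10059e002),(nat_lit 0x387001),(nat_lit 0x8f0005a8002),(nat_lit 0x5a3003a6002),(nat_lit 0x6c50059f002)],[(nat_lit 0x39b001),(nat_lit 0x39f001),(nat_lit 0x3a1001),(nat_lit 0x101e0101d002),(nat_lit 0x388001),(nat_lit 0x1022001),(nat_lit 0x1025001)],[(nat_lit 0x159001),(nat_lit 0x87001),(nat_lit 0x88001),(nat_lit 0x251001),(nat_lit 0x15c001),(nat_lit 0x64c00094002),(nat_lit 0x255001)],[(nat_lit 0x250001),(nat_lit 0x252001),(nat_lit 0x6bb003b5002),(nat_lit 0x24b001),(nat_lit 0xafa001),(nat_lit 0x69f00253002),(nat_lit 0x24e001)],[(nat_lit 0x103001),(nat_lit 0x15d001),(nat_lit 0x8f001),(nat_lit 0x286001),(nat_lit 0x8e001),(nat_lit 0x19f001),(nat_lit 0x287001)],[(nat_lit 0xb6f00618002),(nat_lit 0xb12001),(nat_lit 0x5ce001),(nat_lit 0xb5700b13002),(nat_lit 0x70e001),(nat_lit 0xb6c00710002),(nat_lit 0x24c001)],[(nat_lit 0xd1001),(nat_lit 0x70001),(nat_lit 0x213001),(nat_lit 0x6f001),(nat_lit 0x71001),(nat_lit 0x1a1001),(nat_lit 0x216001)],[(nat_lit 0x19a001),(nat_lit 0x174001),(nat_lit 0x1a0001),(nat_lit 0x1a3001),(nat_lit 0x6b000175002),(nat_lit 0x173001),(nat_lit 0x767001)],[(nat_lit 0x155f007ab002),(nat_lit 0x7ac001),(nat_lit 0x7ad001),(nat_lit 0x1562007ae002),(nat_lit 0x7af001),(nat_lit 0x1563007b0002),(nat_lit 0x198001)],[(nat_lit 0xb46001),(nat_lit 0x25d001),(nat_lit 0xba0001),(nat_lit 0x26e001),(nat_lit 0x270001),(nat_lit 0x109e00272002),(nat_lit 0xba1001)],[(nat_lit 0x109600269002),(nat_lit 0xbaa001),(nat_lit 0x25e001),(nat_lit 0xb50001),(nat_lit 0x274001),(nat_lit 0x109400276002),(nat_lit 0x6fe001)],[(nat_lit 0x26b001),(nat_lit 0x271001),(nat_lit 0x275001),(nat_lit 0xbad001),(nat_lit 0x260001),(nat_lit 0xc0a001),(nat_lit 0xc0b001)],[(nat_lit 0x211001),(nat_lit 0x892001),(nat_lit 0x20e001),(nat_lit 0xa62001),(nat_lit 0x212001),(nat_lit 0x214001),(nat_lit 0xa63001)],[(nat_lit 0x10d001),(nat_lit 0xa0001),(nat_lit 0x215001),(nat_lit 0xa1001),(nat_lit 0x22f001),(nat_lit 0x9f001),(nat_lit 0x2c8001)],[(nat_lit 0x155300a64002),(nat_lit 0xa65001),(nat_lit 0xa66001),(nat_lit 0x14e400a6f002),(nat_lit 0xa70001),(nat_lit 0x15d000a71002),(nat_lit 0x20f001)],[(nat_lit 0x202400ad8002),(nat_lit 0x202500ad9002),(nat_lit 0x202600ada002),(nat_lit 0x205900adb002),(nat_lit 0xadc001),(nat_lit 0x206000add002),(nat_lit 0x21f001)],[(nat_lit 0xd12001),(nat_lit 0x29a001),(nat_lit 0xd1f001),(nat_lit 0x2a3001),(nat_lit 0x2aa001),(nat_lit 0x2ac001),(nat_lit 0xd20001)],[(nat_lit 0x2a0001),(nat_lit 0xd2a001),(nat_lit 0x29b001),(nat_lit 0x16f700d2b002),(nat_lit 0x2ae001),(nat_lit 0x2b0001),(nat_lit 0x171600d2c002)],[(nat_lit 0x2a2001),(nat_lit 0x2a4001),(nat_lit 0xd47001),(nat_lit 0x29c001),(nat_lit 0xd48001),(nat_lit 0x2b2001),(nat_lit 0x171700d49002)],[(nat_lit 0x2a7001),(nat_lit 0x2ab001),(nat_lit 0x2af001),(nat_lit 0xd57001),(nat_lit 0x29d001),(nat_lit 0xd58001),(nat_lit 0xd59001)],[(nat_lit 0x3d5001),(nat_lit 0x3d7001),(nat_lit 0x3e7001),(nat_lit 0x1160003da002),(nat_lit 0x3dc001),(nat_lit 0x1158003de002),(nat_lit 0x138901107002)],[(nat_lit 0x3e8001),(nat_lit 0x3e5001),(nat_lit 0x3d8001),(nat_lit 0x110e001),(nat_lit 0x3e9001),(nat_lit 0x1156003eb002),(nat_lit 0x1110001)],[(nat_lit 0x3dd001),(nat_lit 0xee001),(nat_lit 0x3ea001),(nat_lit 0x415001),(nat_lit 0xed001),(nat_lit 0x417001),(nat_lit 0x457001)],[(nat_lit 0x127c01113002),(nat_lit 0x127d01114002),(nat_lit 0x127e01115002),(nat_lit 0x1116001),(nat_lit 0x128001117002),(nat_lit 0x128201118002),(nat_lit 0x3d9001)],[(nat_lit 0x1129001),(nat_lit 0x3e2001),(nat_lit 0x3e6001),(nat_lit 0x3ef001),(nat_lit 0x3f1001),(nat_lit 0x113e003f3002),(nat_lit 0x112a001)],[(nat_lit 0x3ee001),(nat_lit 0x3f0001),(nat_lit 0x5d0001),(nat_lit 0x3e3001),(nat_lit 0x15110112d002),(nat_lit 0x1137003f5002),(nat_lit 0x671005f3002)],[(nat_lit 0x1144003c4002),(nat_lit 0x3f2001),(nat_lit 0xf2001),(nat_lit 0x151900472002),(nat_lit 0xf1001),(nat_lit 0x419001),(nat_lit 0x473001)],[(nat_lit 0x116300412002),(nat_lit 0x416001),(nat_lit 0x11de001),(nat_lit 0x403001),(nat_lit 0x40e001),(nat_lit 0x41b001),(nat_lit 0x11df001)],[(nat_lit 0x414001),(nat_lit 0x418001),(nat_lit 0x41a001),(nat_lit 0x41c001),(nat_lit 0x115b0040f002),(nat_lit 0x404001),(nat_lit 0x11e0001)],[(nat_lit 0xc4a5011eb002),(nat_lit 0x11ec001),(nat_lit 0x11ed001),(nat_lit 0x11ee001),(nat_lit 0x11ef001),(nat_lit 0xc4d0011f0002),(nat_lit 0x405001)],[(nat_lit 0x127001),(nat_lit 0x64500129002),(nat_lit 0x158001),(nat_lit 0x126001),(nat_lit 0x15a001),(nat_lit 0x6450012b002),(nat_lit 0x534001)],[(nat_lit 0x12f001),(nat_lit 0x64600134002),(nat_lit 0x13b001),(nat_lit 0x160001),(nat_lit 0x12e001),(nat_lit 0x162001),(nat_lit 0x54d001)],[(nat_lit 0x58e00397002),(nat_lit 0x5b4001),(nat_lit 0x65a00396002),(nat_lit 0x5b300594002),(nat_lit 0x65c00595002),(nat_lit 0x5af00596002),(nat_lit 0x633005b6002)],[(nat_lit 0x15b001),(nat_lit 0x57001),(nat_lit 0x15e001),(nat_lit 0x130001),(nat_lit 0x56001),(nat_lit 0x1a8001),(nat_lit 0x1c4001)],[(nat_lit 0xb78005be002),(nat_lit 0x5bf001),(nat_lit 0x5cd005c0002),(nat_lit 0xb7b005c1002),(nat_lit 0x5c2001),(nat_lit 0xb71005c3002),(nat_lit 0x157001)],[(nat_lit 0x161001),(nat_lit 0xb2001),(nat_lit 0x316001),(nat_lit 0xb1001),(nat_lit 0x132001),(nat_lit 0x164001),(nat_lit 0x317001)],[(nat_lit 0x163001),(nat_lit 0xb4001),(nat_lit 0x11a001),(nat_lit 0x166001),(nat_lit 0x64f000cb002),(nat_lit 0xb3001),(nat_lit 0x321001)],[(nat_lit 0x174f0072f002),(nat_lit 0x730001),(nat_lit 0x177700731002),(nat_lit 0x732001),(nat_lit 0x73a001),(nat_lit 0x17520073b002),(nat_lit 0x15f001)],[(nat_lit 0x13ea001),(nat_lit 0x52e001),(nat_lit 0x103e001),(nat_lit 0x542001),(nat_lit 0x544001),(nat_lit 0x5b200546002),(nat_lit 0x13b5001)],[(nat_lit 0x65c00598002),(nat_lit 0x599001),(nat_lit 0x3a1001),(nat_lit 0x105c001),(nat_lit 0x58e003a0002),(nat_lit 0x1050001),(nat_lit 0x105d001)],[(nat_lit 0x656000b0002),(nat_lit 0x131001),(nat_lit 0x2e9001),(nat_lit 0xaa001),(nat_lit 0xab001),(nat_lit 0x1ad001),(nat_lit 0x2eb001)],[(nat_lit 0x6570017f002),(nat_lit 0x1a9001),(nat_lit 0x179001),(nat_lit 0x1ae001),(nat_lit 0x6570017c002),(nat_lit 0x178001),(nat_lit 0x768001)],[(nat_lit 0x9f4007d0002),(nat_lit 0x7d1001),(nat_lit 0x9d3007d2002),(nat_lit 0x8d0007d3002),(nat_lit 0x7d4001),(nat_lit 0x9ef007d5002),(nat_lit 0x1a4001)],[(nat_lit 0x7f0001),(nat_lit 0x1b0001),(nat_lit 0xb60007f1002),(nat_lit 0x9cb001b9002),(nat_lit 0x1bb001),(nat_lit 0x9ee001bd002),(nat_lit 0xb66007f2002)],[(nat_lit 0x9e3001b8002),(nat_lit 0x1bc001),(nat_lit 0x7f7001c0002),(nat_lit 0x7fa001),(nat_lit 0x1b6001),(nat_lit 0x7fb001),(nat_lit 0x812001)],[(nat_lit 0x658002f0002),(nat_lit 0xe43001),(nat_lit 0x2e7001),(nat_lit 0x8b7001),(nat_lit 0x2ea001),(nat_lit 0x2f1001),(nat_lit 0x8ac0088f002)],[(nat_lit 0x659000cd002),(nat_lit 0x165001),(nat_lit 0x2f2001),(nat_lit 0xb6001),(nat_lit 0x322001),(nat_lit 0xb5001),(nat_lit 0x323001)],[(nat_lit 0x9f0008d1002),(nat_lit 0x8d2001),(nat_lit 0x9c3009bb002),(nat_lit 0x8d3001),(nat_lit 0x8e7001),(nat_lit 0x9e7008d4002),(nat_lit 0x2e8001)],[(nat_lit 0x16c0009b8002),(nat_lit 0x16ca00ae6002),(nat_lit 0x9fa001),(nat_lit 0x9fb001),(nat_lit 0x9fc001),(nat_lit 0x16b7009b9002),(nat_lit 0x220001)],[(nat_lit 0xe73001),(nat_lit 0x2f8001),(nat_lit 0xe74001),(nat_lit 0x307001),(nat_lit 0x309001),(nat_lit 0x30b001),(nat_lit 0xe8a001)],[(nat_lit 0x16b200302002),(nat_lit 0x308001),(nat_lit 0xa00001),(nat_lit 0x2fa001),(nat_lit 0xe56001),(nat_lit 0x16b900311002),(nat_lit 0x9a9001)],[(nat_lit 0x16c100304002),(nat_lit 0x30a001),(nat_lit 0x30e001),(nat_lit 0xea9001),(nat_lit 0x2fb001),(nat_lit 0xeaa001),(nat_lit 0xeab001)],[(nat_lit 0x565001),(nat_lit 0x5a10056b002),(nat_lit 0x5a90056e002),(nat_lit 0x566001),(nat_lit 0x8ee00570002),(nat_lit 0x5a10056d002),(nat_lit 0x5a4001)],[(nat_lit 0x5a90056f002),(nat_lit 0x57c00576002),(nat_lit 0x24d001),(nat_lit 0x632002d5002),(nat_lit 0x8ef00568002),(nat_lit 0x5ab00572002),(nat_lit 0x24e001)],[(nat_lit 0x3ca001),(nat_lit 0x1010001),(nat_lit 0x671003cb002),(nat_lit 0x3c9001),(nat_lit 0xb2e001),(nat_lit 0x6a10051e002),(nat_lit 0x6c8001)],[(nat_lit 0x6b2001e0002),(nat_lit 0x897001),(nat_lit 0x1db001),(nat_lit 0x7a0001),(nat_lit 0x1da001),(nat_lit 0x1e1001),(nat_lit 0x89d001)],[(nat_lit 0x6b300196002),(nat_lit 0x1a2001),(nat_lit 0x1e2001),(nat_lit 0x17b001),(nat_lit 0x22a001),(nat_lit 0x17a001),(nat_lit 0x95000769002)],[(nat_lit 0x1621008a2002),(nat_lit 0x8a3001),(nat_lit 0x8cd001),(nat_lit 0x975008d8002),(nat_lit 0x8d9001),(nat_lit 0x161a008da002),(nat_lit 0x1de001)],[(nat_lit 0x8a600888002),(nat_lit 0x8a7001),(nat_lit 0x889001),(nat_lit 0x88a001),(nat_lit 0x88b001),(nat_lit 0x8a80088c002),(nat_lit 0x758001)],[(nat_lit 0x1ab1001),(nat_lit 0x75a001),(nat_lit 0x1ab3001),(nat_lit 0x76e001),(nat_lit 0x770001),(nat_lit 0x772001),(nat_lit 0x1ab4001)],[(nat_lit 0x8ab0076d002),(nat_lit 0x771001),(nat_lit 0x775001),(nat_lit 0x88e001),(nat_lit 0x763001),(nat_lit 0x1ae2001),(nat_lit 0x1ae5001)],[(nat_lit 0x8b1007a2002),(nat_lit 0xb87007a5002),(nat_lit 0x87e00782002),(nat_lit 0x87300783002),(nat_lit 0x8700078b002),(nat_lit 0x874001),(nat_lit 0x875001)],[(nat_lit 0x8af00795002),(nat_lit 0xb860079b002),(nat_lit 0x78d001),(nat_lit 0x79d001),(nat_lit 0x8af00792002),(nat_lit 0x78c001),(nat_lit 0x8a4001)],[(nat_lit 0x879001),(nat_lit 0xe85001),(nat_lit 0x87a001),(nat_lit 0x87b001),(nat_lit 0x1b15001),(nat_lit 0x8b6001),(nat_lit 0x78e001)],[(nat_lit 0x1d0e001),(nat_lit 0x866001),(nat_lit 0x893001),(nat_lit 0x894001),(nat_lit 0x896001),(nat_lit 0x898001),(nat_lit 0x1d10001)],[(nat_lit 0x868001),(nat_lit 0x895001),(nat_lit 0x86e001),(nat_lit 0x867001),(nat_lit 0x1b27001),(nat_lit 0x89a001),(nat_lit 0x9b5001)],[(nat_lit 0x6b400200002),(nat_lit 0x899001),(nat_lit 0x1dd001),(nat_lit 0x89c001),(nat_lit 0x231001),(nat_lit 0x1dc001),(nat_lit 0x9d8008a1002)],[(nat_lit 0x9e200825002),(nat_lit 0x835001),(nat_lit 0x9e7009d2002),(nat_lit 0x81d001),(nat_lit 0xf73001),(nat_lit 0x81c001),(nat_lit 0x9e9001)],[(nat_lit 0x6b50022e002),(nat_lit 0x230001),(nat_lit 0x232001),(nat_lit 0x6b50022c002),(nat_lit 0x228001),(nat_lit 0x22b001),(nat_lit 0xaf0001)],[(nat_lit 0x8a90087d002),(nat_lit 0x8c2001),(nat_lit 0x8ac00884002),(nat_lit 0x8870087c002),(nat_lit 0xaf1001),(nat_lit 0x8aa00886002),(nat_lit 0x229001)],[(nat_lit 0x1ad6001),(nat_lit 0x87e0076f002),(nat_lit 0x1aec01aeb002),(nat_lit 0x76e001),(nat_lit 0x890001),(nat_lit 0x8c1001),(nat_lit 0x1afe001)],[(nat_lit 0x939001),(nat_lit 0x161e001f7002),(nat_lit 0x16330093d002),(nat_lit 0x161d0092c002),(nat_lit 0x1635009a4002),(nat_lit 0x1f6001),(nat_lit 0xa21001)],[(nat_lit 0x162b00919002),(nat_lit 0x97600940002),(nat_lit 0x1f9001),(nat_lit 0xa27001),(nat_lit 0x96e001f8002),(nat_lit 0x163700997002),(nat_lit 0xa99c800a2b002)],[(nat_lit 0x927001),(nat_lit 0x16230092f002),(nat_lit 0x932001),(nat_lit 0x934001),(nat_lit 0x936001),(nat_lit 0x938001),(nat_lit 0x1e1c001)],[(nat_lit 0x933001),(nat_lit 0x930001),(nat_lit 0x928001),(nat_lit 0x1e23001),(nat_lit 0x93a001),(nat_lit 0x16330093c002),(nat_lit 0x1e24001)],[(nat_lit 0x935001),(nat_lit 0x1f3001),(nat_lit 0x161b00a02002),(nat_lit 0x1f2001),(nat_lit 0x97b001),(nat_lit 0x161d0092a002),(nat_lit 0xa03001)],[(nat_lit 0x937001),(nat_lit 0x1f5001),(nat_lit 0x93b001),(nat_lit 0x989001),(nat_lit 0x1f4001),(nat_lit 0x98b001),(nat_lit 0xa09001)],[(nat_lit 0x1896301e25002),(nat_lit 0x1e26001),(nat_lit 0x1e27001),(nat_lit 0x1e28001),(nat_lit 0x1e29001),(nat_lit 0x189fd01e2a002),(nat_lit 0x929001)],[(nat_lit 0x160d00909002),(nat_lit 0x1606001),(nat_lit 0x161a00906002),(nat_lit 0x160f001),(nat_lit 0x1611009b0002),(nat_lit 0x905001),(nat_lit 0x1613001)],[(nat_lit 0x16160097a002),(nat_lit 0x97c001),(nat_lit 0x97e001),(nat_lit 0x977001),(nat_lit 0x944001),(nat_lit 0x1db6001),(nat_lit 0x9aa001)],[(nat_lit 0x162d00983002),(nat_lit 0x98a001),(nat_lit 0xa99d401e6f002),(nat_lit 0x949001),(nat_lit 0x978001),(nat_lit 0x9a2001),(nat_lit 0xa99c701e72002)],[(nat_lit 0x162e00985002),(nat_lit 0x98c001),(nat_lit 0x163700999002),(nat_lit 0x9a3001),(nat_lit 0x992001),(nat_lit 0x94a001),(nat_lit 0x1e73001)],[(nat_lit 0x1acfa01e74002),(nat_lit 0x1e89001),(nat_lit 0xa99cb01e8a002),(nat_lit 0x1e8b001),(nat_lit 0xa8f8b01e8c002),(nat_lit 0x1ace401e8d002),(nat_lit 0x94b001)],[(nat_lit 0x12c001),(nat_lit 0x12d001),(nat_lit 0x66000144002),(nat_lit 0x366001),(nat_lit 0x13e001),(nat_lit 0x66000145002),(nat_lit 0x539001)],[(nat_lit 0x364001),(nat_lit 0xfc001),(nat_lit 0x48c001),(nat_lit 0xfb001),(nat_lit 0x3a9001),(nat_lit 0x685002d7002),(nat_lit 0x48d001)],[(nat_lit 0x13c001),(nat_lit 0xfe001),(nat_lit 0x68600107002),(nat_lit 0x2b4001),(nat_lit 0xfd001),(nat_lit 0x2b6001),(nat_lit 0x491001)],[(nat_lit 0x11b8001),(nat_lit 0x132d001),(nat_lit 0x1284011b9002),(nat_lit 0x11ba001),(nat_lit 0x1332001),(nat_lit 0x11bb001),(nat_lit 0x482001)],[(nat_lit 0x37b001),(nat_lit 0xfcf001),(nat_lit 0x37a001),(nat_lit 0x38c001),(nat_lit 0x3ab001),(nat_lit 0x687003ae002),(nat_lit 0x733001)],[(nat_lit 0x37d001),(nat_lit 0x3aa001),(nat_lit 0x3ad001),(nat_lit 0x38f001),(nat_lit 0x37c001),(nat_lit 0xfbe001),(nat_lit 0xfd1001)],[(nat_lit 0xb6a00b58002),(nat_lit 0xb59001),(nat_lit 0xb6b001),(nat_lit 0xb5a001),(nat_lit 0xb6d001),(nat_lit 0xb6e00b5b002),(nat_lit 0x3a8001)],[(nat_lit 0x115001),(nat_lit 0x2b5001),(nat_lit 0x4e2001),(nat_lit 0x114001),(nat_lit 0x391001),(nat_lit 0x2b8001),(nat_lit 0x4e4001)],[(nat_lit 0x10a001),(nat_lit 0x2b7001),(nat_lit 0x10b001),(nat_lit 0x2ba001),(nat_lit 0x6890010f002),(nat_lit 0x109001),(nat_lit 0x4d5001)],[(nat_lit 0x17a200dab002),(nat_lit 0xdac001),(nat_lit 0x179e00dad002),(nat_lit 0x17a400dae002),(nat_lit 0x17a500daf002),(nat_lit 0x17a600db0002),(nat_lit 0x2a5001)],[(nat_lit 0x39b001),(nat_lit 0x5b8001),(nat_lit 0x65c005ba002),(nat_lit 0x101f001),(nat_lit 0x65a0039a002),(nat_lit 0x1038001),(nat_lit 0x1053001)],[(nat_lit 0x266001),(nat_lit 0x262001),(nat_lit 0x6c000264002),(nat_lit 0x279001),(nat_lit 0x27b001),(nat_lit 0x6c000265002),(nat_lit 0xc29001)],[(nat_lit 0x250001),(nat_lit 0x27a001),(nat_lit 0x6c200389002),(nat_lit 0x24f001),(nat_lit 0xb0c001),(nat_lit 0x6c50027d002),(nat_lit 0x6df001)],[(nat_lit 0x103001),(nat_lit 0x27c001),(nat_lit 0x104001),(nat_lit 0x28d001),(nat_lit 0x102001),(nat_lit 0x283001),(nat_lit 0x4aa001)],[(nat_lit 0xb6c00712002),(nat_lit 0xb5f001),(nat_lit 0xb7d00713002),(nat_lit 0xb6000b4a002),(nat_lit 0xb73001),(nat_lit 0xb6f00714002),(nat_lit 0x278001)],[(nat_lit 0xd1001),(nat_lit 0x6cb000d5002),(nat_lit 0x217001),(nat_lit 0xd0001),(nat_lit 0xd2001),(nat_lit 0x21a001),(nat_lit 0x202700350002)],[(nat_lit 0x19a001),(nat_lit 0x6cc0019e002),(nat_lit 0x285001),(nat_lit 0x21c001),(nat_lit 0x6cc0019b002),(nat_lit 0x199001),(nat_lit 0x15c7007c3002)],[(nat_lit 0x156400c80002),(nat_lit 0x14e600c81002),(nat_lit 0x157000c87002),(nat_lit 0x14e100c88002),(nat_lit 0x156600c89002),(nat_lit 0x157700c8a002),(nat_lit 0x27f001)],[(nat_lit 0x10af00ba3002),(nat_lit 0xb4e0026f002),(nat_lit 0x137200c45002),(nat_lit 0x26e001),(nat_lit 0xb52001),(nat_lit 0x10a300b53002),(nat_lit 0xc46001)],[(nat_lit 0x1094006fc002),(nat_lit 0xb30001),(nat_lit 0x723006ff002),(nat_lit 0xb5400b34002),(nat_lit 0x728001),(nat_lit 0x109600700002),(nat_lit 0x255001)],[(nat_lit 0x26b001),(nat_lit 0x10b000b42002),(nat_lit 0x109c00b45002),(nat_lit 0x10b100c0f002),(nat_lit 0x109b0026a002),(nat_lit 0xc20001),(nat_lit 0xc3a001)],[(nat_lit 0x211001),(nat_lit 0xa74001),(nat_lit 0x210001),(nat_lit 0xa69001),(nat_lit 0x219001),(nat_lit 0x2bc001),(nat_lit 0xa76001)],[(nat_lit 0x10d001),(nat_lit 0x6cd001fd002),(nat_lit 0x2be001),(nat_lit 0x10e001),(nat_lit 0x2c9001),(nat_lit 0x10c001),(nat_lit 0x4d6001)],[(nat_lit 0x155400e0c002),(nat_lit 0x156900e0d002),(nat_lit 0x155500e0e002),(nat_lit 0x156800e0f002),(nat_lit 0x155600e10002),(nat_lit 0x15bb00e11002),(nat_lit 0x2bb001)],[(nat_lit 0x2016002a9002),(nat_lit 0x204500d0e002),(nat_lit 0x170200cf2002),(nat_lit 0x172100d11002),(nat_lit 0x171000d74002),(nat_lit 0x201f002a8002),(nat_lit 0x17b900dc0002)],[(nat_lit 0x20490140a002),(nat_lit 0x4b3001),(nat_lit 0x140b001),(nat_lit 0x4c9001),(nat_lit 0x4cb001),(nat_lit 0x4cd001),(nat_lit 0x140c001)],[(nat_lit 0x2a0001),(nat_lit 0x16ff00d89002),(nat_lit 0x201f0029f002),(nat_lit 0x170100d3d002),(nat_lit 0x202100ced002),(nat_lit 0x170200cf0002),(nat_lit 0x202200d8a002)],[(nat_lit 0x2a2001),(nat_lit 0x207500d0a002),(nat_lit 0x172d00d4d002),(nat_lit 0x201f002a1002),(nat_lit 0xd4f001),(nat_lit 0x172100d0f002),(nat_lit 0x205200d8b002)],[(nat_lit 0x2a7001),(nat_lit 0x204e00d0c002),(nat_lit 0x202100cef002),(nat_lit 0xd65001),(nat_lit 0x201f002a6002),(nat_lit 0xd67001),(nat_lit 0xdb5001)],[(nat_lit 0x116d003d6002),(nat_lit 0x3d7001),(nat_lit 0x116b00fa3002),(nat_lit 0x116e003fa002),(nat_lit 0x408001),(nat_lit 0x11700041e002),(nat_lit 0x110b001)],[(nat_lit 0x116f006e6002),(nat_lit 0x115200358002),(nat_lit 0x6e8001),(nat_lit 0x6e9001),(nat_lit 0x6aa00357002),(nat_lit 0x117200708002),(nat_lit 0xf8c001)],[(nat_lit 0x13690128b002),(nat_lit 0x128c001),(nat_lit 0x128d001),(nat_lit 0x13640128e002),(nat_lit 0x12a0001),(nat_lit 0x136a012a1002),(nat_lit 0x452001)],[(nat_lit 0x1184001),(nat_lit 0x42c001),(nat_lit 0x704001),(nat_lit 0x43c001),(nat_lit 0x43e001),(nat_lit 0x114100440002),(nat_lit 0x114e001)],[(nat_lit 0x3ee001),(nat_lit 0x43d001),(nat_lit 0x11360112e002),(nat_lit 0x3ed001),(nat_lit 0x151201194002),(nat_lit 0x11380042e002),(nat_lit 0x113d001)],[(nat_lit 0x1140006ef002),(nat_lit 0x114d006f0002),(nat_lit 0x11520035c002),(nat_lit 0x152100fa8002),(nat_lit 0x11510035b002),(nat_lit 0x1155006f2002),(nat_lit 0xfa9001)],[(nat_lit 0x115a00424002),(nat_lit 0x428001),(nat_lit 0x11e6001),(nat_lit 0x11730040d002),(nat_lit 0x40e001),(nat_lit 0x117400f7f002),(nat_lit 0x1204001)],[(nat_lit 0x414001),(nat_lit 0x449001),(nat_lit 0x44c001),(nat_lit 0x44f001),(nat_lit 0x116400425002),(nat_lit 0x413001),(nat_lit 0x1205001)],[(nat_lit 0xc48401250002),(nat_lit 0x1251001),(nat_lit 0xc50501252002),(nat_lit 0xc46901253002),(nat_lit 0xc50601254002),(nat_lit 0xc50701255002),(nat_lit 0x445001)],[(nat_lit 0x138001),(nat_lit 0x365001),(nat_lit 0x3b9001),(nat_lit 0x137001),(nat_lit 0x3b2001),(nat_lit 0x6610016c002),(nat_lit 0x55b001)],[(nat_lit 0x13a001),(nat_lit 0x13d001),(nat_lit 0x13b001),(nat_lit 0x206001),(nat_lit 0x139001),(nat_lit 0x208001),(nat_lit 0x200c0055f002)],[(nat_lit 0x3ba001),(nat_lit 0xfb1001),(nat_lit 0x3b0001),(nat_lit 0x3b8001),(nat_lit 0x3bb001),(nat_lit 0x669003bd002),(nat_lit 0xb6200701002)],[(nat_lit 0x3b3001),(nat_lit 0x37f001),(nat_lit 0x3bc001),(nat_lit 0x392001),(nat_lit 0x37e001),(nat_lit 0xfc1001),(nat_lit 0xfd2001)],[(nat_lit 0x109200b9e002),(nat_lit 0xbf8001),(nat_lit 0x734001),(nat_lit 0xb4d00722002),(nat_lit 0x1087001),(nat_lit 0x109100b9a002),(nat_lit 0x3b1001)],[(nat_lit 0x207001),(nat_lit 0x117001),(nat_lit 0x4e5001),(nat_lit 0x116001),(nat_lit 0x394001),(nat_lit 0x20b001),(nat_lit 0x4e6001)],[(nat_lit 0x209001),(nat_lit 0x119001),(nat_lit 0x11a001),(nat_lit 0x20d001),(nat_lit 0x66b00146002),(nat_lit 0x118001),(nat_lit 0x203a00511002)],[(nat_lit 0x16fe00a3c002),(nat_lit 0xa3d001),(nat_lit 0x170700a3e002),(nat_lit 0xa3f001),(nat_lit 0xa40001),(nat_lit 0x16fd00a41002),(nat_lit 0x205001)],[(nat_lit 0x2fd3001),(nat_lit 0xfac001),(nat_lit 0xfb2001),(nat_lit 0xfb9001),(nat_lit 0xfbc001),(nat_lit 0xfad001),(nat_lit 0x2fd5001)],[(nat_lit 0x38d001),(nat_lit 0xfba001),(nat_lit 0x6c500367002),(nat_lit 0x368001),(nat_lit 0xb29001),(nat_lit 0x6c20038a002),(nat_lit 0x5cf001)],[(nat_lit 0x3ac001),(nat_lit 0xfbd001),(nat_lit 0x381001),(nat_lit 0xfd3001),(nat_lit 0x380001),(nat_lit 0xfc4001),(nat_lit 0xfd4001)],[(nat_lit 0x108f0108c002),(nat_lit 0xb49001),(nat_lit 0x720001),(nat_lit 0xb5500b47002),(nat_lit 0x15ac001),(nat_lit 0x10900108a002),(nat_lit 0x71f001)],[(nat_lit 0x390001),(nat_lit 0x393001),(nat_lit 0x4ee001),(nat_lit 0x369001),(nat_lit 0x36a001),(nat_lit 0xfc7001),(nat_lit 0xfce001)],[(nat_lit 0xfbf001),(nat_lit 0xfc2001),(nat_lit 0xfc5001),(nat_lit 0xfc8001),(nat_lit 0xfaf001),(nat_lit 0xfae001),(nat_lit 0x2fd6001)],[(nat_lit 0xf5d402fd7002),(nat_lit 0x2fd8001),(nat_lit 0x2fd9001),(nat_lit 0x2fda001),(nat_lit 0x2fdb001),(nat_lit 0xf5b102fdc002),(nat_lit 0xfb0001)],[(nat_lit 0x82b001),(nat_lit 0x80d001),(nat_lit 0x80c001),(nat_lit 0xbbf001),(nat_lit 0xb600080b002),(nat_lit 0x831001),(nat_lit 0xbb0001)],[(nat_lit 0x4e3001),(nat_lit 0x14d8001),(nat_lit 0x4da001),(nat_lit 0xaa8001),(nat_lit 0x4ed001),(nat_lit 0x4ef001),(nat_lit 0x14d9001)],[(nat_lit 0x2b9001),(nat_lit 0x20c001),(nat_lit 0x4f0001),(nat_lit 0x11c001),(nat_lit 0x512001),(nat_lit 0x11b001),(nat_lit 0x513001)],[(nat_lit 0xbb4001),(nat_lit 0xe45001),(nat_lit 0xbb5001),(nat_lit 0xbb6001),(nat_lit 0xbb7001),(nat_lit 0xbd2001),(nat_lit 0x4db001)],[(nat_lit 0x176d00e18002),(nat_lit 0x176f00e19002),(nat_lit 0x177100e1a002),(nat_lit 0x176900e25002),(nat_lit 0x177200e26002),(nat_lit 0x177300e27002),(nat_lit 0x2c4001)],[(nat_lit 0x159b001),(nat_lit 0x4dd001),(nat_lit 0x159c001),(nat_lit 0x4f9001),(nat_lit 0x4fb001),(nat_lit 0x4fd001),(nat_lit 0x159d001)],[(nat_lit 0x15f200f4a002),(nat_lit 0x175900f4b002),(nat_lit 0x15ef00f4c002),(nat_lit 0x176600f4d002),(nat_lit 0x15f400f4e002),(nat_lit 0x175800f4f002),(nat_lit 0x321001)],[(nat_lit 0x4f4001),(nat_lit 0x4fa001),(nat_lit 0x15a2001),(nat_lit 0x4df001),(nat_lit 0x15a3001),(nat_lit 0x503001),(nat_lit 0x1600015a4002)],[(nat_lit 0x4f6001),(nat_lit 0x4fc001),(nat_lit 0x500001),(nat_lit 0x15a5001),(nat_lit 0x4e0001),(nat_lit 0x15a6001),(nat_lit 0x15a7001)],[(nat_lit 0x101a001),(nat_lit 0x103d001),(nat_lit 0x1019001),(nat_lit 0x3170001),(nat_lit 0x1048001),(nat_lit 0x101b001),(nat_lit 0x3177001)],[(nat_lit 0x5bb001),(nat_lit 0x39d001),(nat_lit 0x5bc001),(nat_lit 0x39c001),(nat_lit 0x1021001),(nat_lit 0x105901058002),(nat_lit 0x31760105a002)],[(nat_lit 0x5bd001),(nat_lit 0x39f001),(nat_lit 0x104a001),(nat_lit 0x1020001),(nat_lit 0x39e001),(nat_lit 0x104b001),(nat_lit 0x105b001)],[(nat_lit 0xb8e001),(nat_lit 0xb12001),(nat_lit 0x12bd001),(nat_lit 0xb1f001),(nat_lit 0xb21001),(nat_lit 0xb7000b23002),(nat_lit 0x12c0001)],[(nat_lit 0x1039001),(nat_lit 0x104d001),(nat_lit 0x1051001),(nat_lit 0x1023001),(nat_lit 0x1024001),(nat_lit 0x1022001),(nat_lit 0xb03e03178002)],[(nat_lit 0xc56303179002),(nat_lit 0x317a001),(nat_lit 0xa60a0317b002),(nat_lit 0x317c001),(nat_lit 0x317d001),(nat_lit 0xc5650317e002),(nat_lit 0x1025001)],[(nat_lit 0x159001),(nat_lit 0x267001),(nat_lit 0x158001),(nat_lit 0x256001),(nat_lit 0x1c7001),(nat_lit 0x663001d5002),(nat_lit 0x6fd005c4002)],[(nat_lit 0x257001),(nat_lit 0x252001),(nat_lit 0x6a10051d002),(nat_lit 0x251001),(nat_lit 0xb0e001),(nat_lit 0x67100258002),(nat_lit 0x6a2001)],[(nat_lit 0x1c6001),(nat_lit 0x15d001),(nat_lit 0x15e001),(nat_lit 0x28f001),(nat_lit 0x15c001),(nat_lit 0x1cd001),(nat_lit 0x719001)],[(nat_lit 0x38d001),(nat_lit 0xfee001),(nat_lit 0x69f0038e002),(nat_lit 0x38c001),(nat_lit 0xb10001),(nat_lit 0x6bb003b6002),(nat_lit 0x6da001)],[(nat_lit 0xb0d001),(nat_lit 0xb0f001),(nat_lit 0xb11001),(nat_lit 0xafd001),(nat_lit 0xafa001),(nat_lit 0x237b001),(nat_lit 0x237d001)],[(nat_lit 0x28e001),(nat_lit 0x290001),(nat_lit 0xc8b001),(nat_lit 0x286001),(nat_lit 0xafe001),(nat_lit 0x291001),(nat_lit 0xc8c001)],[(nat_lit 0x284001),(nat_lit 0x1ce001),(nat_lit 0x1a0001),(nat_lit 0x292001),(nat_lit 0x6c700246002),(nat_lit 0x19f001),(nat_lit 0x7c4001)],[(nat_lit 0xbb8001),(nat_lit 0xc8d001),(nat_lit 0xbe600bcf002),(nat_lit 0xb94001),(nat_lit 0xc8e001),(nat_lit 0xcb800bd0002),(nat_lit 0x287001)],[(nat_lit 0xb15001),(nat_lit 0xb22001),(nat_lit 0x70f001),(nat_lit 0xbf6001),(nat_lit 0x70e001),(nat_lit 0x19ab001),(nat_lit 0x19e5001)],[(nat_lit 0x218001),(nat_lit 0x8bb001),(nat_lit 0x213001),(nat_lit 0xa9e001),(nat_lit 0x212001),(nat_lit 0x21d001),(nat_lit 0xa9f001)],[(nat_lit 0x21b001),(nat_lit 0x1a2001),(nat_lit 0x21e001),(nat_lit 0x1a3001),(nat_lit 0x236001),(nat_lit 0x1a1001),(nat_lit 0x2072007cc002)],[(nat_lit 0x172200aa7002),(nat_lit 0xab2001),(nat_lit 0xab3001),(nat_lit 0x171e00ab4002),(nat_lit 0xab5001),(nat_lit 0x172800ab6002),(nat_lit 0x216001)],[(nat_lit 0x15670152c002),(nat_lit 0x156e001),(nat_lit 0x156b01544002),(nat_lit 0x15ba0152d002),(nat_lit 0x1ae6001),(nat_lit 0x155e0152e002),(nat_lit 0x767001)],[(nat_lit 0x1b1a001),(nat_lit 0x7ac001),(nat_lit 0x1b1b001),(nat_lit 0x7b7001),(nat_lit 0x7b9001),(nat_lit 0x7bb001),(nat_lit 0x1b1c001)],[(nat_lit 0x7b2001),(nat_lit 0x1b1d001),(nat_lit 0x7ad001),(nat_lit 0x156a001),(nat_lit 0x7bd001),(nat_lit 0x7bf001),(nat_lit 0x156c001)],[(nat_lit 0x7b4001),(nat_lit 0x7ba001),(nat_lit 0x7be001),(nat_lit 0x1b20001),(nat_lit 0x7af001),(nat_lit 0x1b52001),(nat_lit 0x1b62001)],[(nat_lit 0xb46001),(nat_lit 0xb97001),(nat_lit 0xbfa001),(nat_lit 0x10af00ba2002),(nat_lit 0xba5001),(nat_lit 0x10aa00ba7002),(nat_lit 0x1385001)],[(nat_lit 0xbfb001),(nat_lit 0xbac001),(nat_lit 0xba0001),(nat_lit 0x134a001),(nat_lit 0xbfc001),(nat_lit 0x10a900bfe002),(nat_lit 0x1362001)],[(nat_lit 0xba6001),(nat_lit 0x271001),(nat_lit 0xbfd001),(nat_lit 0xc14001),(nat_lit 0x270001),(nat_lit 0xc22001),(nat_lit 0xc4b001)],[(nat_lit 0x1373001),(nat_lit 0x1374001),(nat_lit 0x1375001),(nat_lit 0x1376001),(nat_lit 0x1377001),(nat_lit 0x1379001),(nat_lit 0xba1001)],[(nat_lit 0x1342001),(nat_lit 0xbaa001),(nat_lit 0xbab001),(nat_lit 0xbf9001),(nat_lit 0xc00001),(nat_lit 0x109700c02002),(nat_lit 0x13e9001)],[(nat_lit 0x109c00b44002),(nat_lit 0xc01001),(nat_lit 0x275001),(nat_lit 0x153500c63002),(nat_lit 0x274001),(nat_lit 0xc24001),(nat_lit 0xc64001)],[(nat_lit 0x10b100c10002),(nat_lit 0xc15001),(nat_lit 0x24a9001),(nat_lit 0xbad001),(nat_lit 0xbbe001),(nat_lit 0xc26001),(nat_lit 0x24aa001)],[(nat_lit 0xc21001),(nat_lit 0xc23001),(nat_lit 0xc25001),(nat_lit 0xc27001),(nat_lit 0x10ad00c19002),(nat_lit 0xc0a001),(nat_lit 0x24fa001)],[(nat_lit 0xc460024fb002),(nat_lit 0x24fc001),(nat_lit 0x24fd001),(nat_lit 0x24fe001),(nat_lit 0x2537001),(nat_lit 0xc42702538002),(nat_lit 0xc0b001)],[(nat_lit 0x1d17001),(nat_lit 0x892001),(nat_lit 0x893001),(nat_lit 0xa6b001),(nat_lit 0x8bd001),(nat_lit 0x8c0001),(nat_lit 0x1d19001)],[(nat_lit 0xa6a001),(nat_lit 0xa6c001),(nat_lit 0xa68001),(nat_lit 0xa62001),(nat_lit 0x20ea001),(nat_lit 0xa6d001),(nat_lit 0x1795001)],[(nat_lit 0x2bd001),(nat_lit 0x8be001),(nat_lit 0x215001),(nat_lit 0xa6e001),(nat_lit 0x2d2001),(nat_lit 0x214001),(nat_lit 0xaa0001)],[(nat_lit 0xbe2001),(nat_lit 0x20ee001),(nat_lit 0xbe1001),(nat_lit 0xcb4001),(nat_lit 0x1aca001),(nat_lit 0xbe5001),(nat_lit 0xa63001)],[(nat_lit 0x2ca001),(nat_lit 0x230001),(nat_lit 0x2d3001),(nat_lit 0x6d600239002),(nat_lit 0x22f001),(nat_lit 0x238001),(nat_lit 0xaf5001)],[(nat_lit 0x15d200e29002),(nat_lit 0x15d300e2a002),(nat_lit 0x15ce00e2b002),(nat_lit 0x15d400e2c002),(nat_lit 0xe2d001),(nat_lit 0x15d500e2e002),(nat_lit 0x2c8001)],[(nat_lit 0x1b56001),(nat_lit 0xa65001),(nat_lit 0x1844001),(nat_lit 0xa83001),(nat_lit 0xa85001),(nat_lit 0xa87001),(nat_lit 0x20f5001)],[(nat_lit 0xa73001),(nat_lit 0x1839001),(nat_lit 0xa66001),(nat_lit 0x1534001),(nat_lit 0xa89001),(nat_lit 0xa8b001),(nat_lit 0x152f001)],[(nat_lit 0xa80001),(nat_lit 0xa86001),(nat_lit 0xa8a001),(nat_lit 0x1b84001),(nat_lit 0xa70001),(nat_lit 0x2135001),(nat_lit 0x2137001)],[(nat_lit 0xd26001),(nat_lit 0x2016002ad002),(nat_lit 0xd3c001),(nat_lit 0x203c00d29002),(nat_lit 0x203d00d79002),(nat_lit 0x2ac001),(nat_lit 0xddb001)],[(nat_lit 0x170200cf1002),(nat_lit 0xd44001),(nat_lit 0x2016002b1002),(nat_lit 0x170300d46002),(nat_lit 0x170400d87002),(nat_lit 0x2b0001),(nat_lit 0x201900de7002)],[(nat_lit 0x172100d10002),(nat_lit 0x203c00d28002),(nat_lit 0x172900d56002),(nat_lit 0x2016002b3002),(nat_lit 0x172a00ded002),(nat_lit 0x2b2001),(nat_lit 0x203f00dee002)],[(nat_lit 0x201e00adf002),(nat_lit 0xae3001),(nat_lit 0x201700ae5002),(nat_lit 0x20ce001),(nat_lit 0xadc001),(nat_lit 0x2040017dd002),(nat_lit 0x22ff001)],[(nat_lit 0xd12001),(nat_lit 0xd16001),(nat_lit 0xd37001),(nat_lit 0xd21001),(nat_lit 0xd23001),(nat_lit 0xd25001),(nat_lit 0x27e2001)],[(nat_lit 0xd38001),(nat_lit 0xd2d001),(nat_lit 0xd1f001),(nat_lit 0x27f1001),(nat_lit 0xd39001),(nat_lit 0xd3b001),(nat_lit 0x27f2001)],[(nat_lit 0xd22001),(nat_lit 0x2a4001),(nat_lit 0xd97001),(nat_lit 0x2a3001),(nat_lit 0xd51001),(nat_lit 0x203c00d27002),(nat_lit 0xd9f001)],[(nat_lit 0xd24001),(nat_lit 0x2ab001),(nat_lit 0xd3a001),(nat_lit 0xd69001),(nat_lit 0x2aa001),(nat_lit 0xd6b001),(nat_lit 0xdc4001)],[(nat_lit 0x20fda027f3002),(nat_lit 0x280c001),(nat_lit 0x280d001),(nat_lit 0x280e001),(nat_lit 0x280f001),(nat_lit 0x20fd502810002),(nat_lit 0xd20001)],[(nat_lit 0x1fea001),(nat_lit 0xd2a001),(nat_lit 0xd2e001),(nat_lit 0xd3f001),(nat_lit 0xd41001),(nat_lit 0xd43001),(nat_lit 0x2821001)],[(nat_lit 0x1701016f8002),(nat_lit 0x16f9001),(nat_lit 0x1800001),(nat_lit 0x16fa001),(nat_lit 0x20d4001),(nat_lit 0x1703016fb002),(nat_lit 0xce8001)],[(nat_lit 0x202100cee002),(nat_lit 0xd42001),(nat_lit 0x2af001),(nat_lit 0xde3001),(nat_lit 0x2ae001),(nat_lit 0xd6d001),(nat_lit 0xde4001)],[(nat_lit 0x209001),(nat_lit 0x2c6001),(nat_lit 0x20a001),(nat_lit 0x4ec001),(nat_lit 0x68d002e1002),(nat_lit 0x208001),(nat_lit 0x171500a5b002)],[(nat_lit 0x172d00d4e002),(nat_lit 0x223d001),(nat_lit 0xd47001),(nat_lit 0x16f5001),(nat_lit 0xd53001),(nat_lit 0x172900d55002),(nat_lit 0x171b001)],[(nat_lit 0xd50001),(nat_lit 0xd52001),(nat_lit 0xd54001),(nat_lit 0xd61001),(nat_lit 0xd48001),(nat_lit 0x22a1001),(nat_lit 0x2897001)],[(nat_lit 0x21b001),(nat_lit 0x6e1002e5002),(nat_lit 0x353001),(nat_lit 0x21c001),(nat_lit 0x2cb001),(nat_lit 0x21a001),(nat_lit 0x171800acf002)],[(nat_lit 0xd66001),(nat_lit 0xd6a001),(nat_lit 0x28b2001),(nat_lit 0xd57001),(nat_lit 0xd62001),(nat_lit 0xd6f001),(nat_lit 0x28b3001)],[(nat_lit 0xd68001),(nat_lit 0xd6c001),(nat_lit 0xd6e001),(nat_lit 0xd70001),(nat_lit 0xd63001),(nat_lit 0xd58001),(nat_lit 0x28b4001)],[(nat_lit 0x4dae0028b5002),(nat_lit 0x28b6001),(nat_lit 0x28b7001),(nat_lit 0x28b8001),(nat_lit 0x28b9001),(nat_lit 0x4da8d028ba002),(nat_lit 0xd59001)],[(nat_lit 0x3e8001),(nat_lit 0x1182001),(nat_lit 0x3e7001),(nat_lit 0x1120001),(nat_lit 0x45a001),(nat_lit 0x116600466002),(nat_lit 0x11a0001)],[(nat_lit 0x3dd001),(nat_lit 0x407001),(nat_lit 0x458001),(nat_lit 0x45b001),(nat_lit 0x3dc001),(nat_lit 0x45d001),(nat_lit 0x1119001)],[(nat_lit 0x127b0046a002),(nat_lit 0x1189001),(nat_lit 0x116000469002),(nat_lit 0x137f01283002),(nat_lit 0xf8f001),(nat_lit 0x116b00fa5002),(nat_lit 0x138a012f7002)],[(nat_lit 0x117d001),(nat_lit 0x3e5001),(nat_lit 0x3e6001),(nat_lit 0x6f7001),(nat_lit 0x40b001),(nat_lit 0x114700422002),(nat_lit 0x6f8001)],[(nat_lit 0x1121001),(nat_lit 0x110f001),(nat_lit 0x13e6001),(nat_lit 0x110e001),(nat_lit 0x1919001),(nat_lit 0x116701122002),(nat_lit 0x13b9001)],[(nat_lit 0x459001),(nat_lit 0x409001),(nat_lit 0x3ea001),(nat_lit 0x11a7001),(nat_lit 0x3e9001),(nat_lit 0x45f001),(nat_lit 0x11a8001)],[(nat_lit 0x138b001),(nat_lit 0x337b001),(nat_lit 0x13ad001),(nat_lit 0x137b001),(nat_lit 0x3380001),(nat_lit 0x1386001),(nat_lit 0x1110001)],[(nat_lit 0x45c001),(nat_lit 0x416001),(nat_lit 0x120a001),(nat_lit 0x415001),(nat_lit 0x429001),(nat_lit 0x461001),(nat_lit 0x1222001)],[(nat_lit 0x45e001),(nat_lit 0x418001),(nat_lit 0x460001),(nat_lit 0x463001),(nat_lit 0x116a00438002),(nat_lit 0x417001),(nat_lit 0x1229001)],[(nat_lit 0x329de012a8002),(nat_lit 0x12a9001),(nat_lit 0x12aa001),(nat_lit 0x12ab001),(nat_lit 0x12ac001),(nat_lit 0x32a1d012ad002),(nat_lit 0x457001)],[(nat_lit 0x1242001),(nat_lit 0x128100703002),(nat_lit 0x704001),(nat_lit 0x1284011b6002),(nat_lit 0x115d00fb6002),(nat_lit 0x114c00707002),(nat_lit 0x1989001)],[(nat_lit 0x137f01125002),(nat_lit 0x1127001),(nat_lit 0x1294001),(nat_lit 0x1116001),(nat_lit 0x2603001),(nat_lit 0x128501128002),(nat_lit 0x137e001)],[(nat_lit 0xf8e001),(nat_lit 0xf7c001),(nat_lit 0x6e70046c002),(nat_lit 0x12fb001),(nat_lit 0x127b0046b002),(nat_lit 0xf95001),(nat_lit 0x12fc001)],[(nat_lit 0x1129001),(nat_lit 0x1185001),(nat_lit 0x117e001),(nat_lit 0x118f001),(nat_lit 0x1192001),(nat_lit 0x1181001),(nat_lit 0x1299001)],[(nat_lit 0x1190001),(nat_lit 0x3f0001),(nat_lit 0x113b006f5002),(nat_lit 0x3ef001),(nat_lit 0x151301195002),(nat_lit 0x113900478002),(nat_lit 0x11e4011ad002)],[(nat_lit 0x1193001),(nat_lit 0x3f2001),(nat_lit 0x40a001),(nat_lit 0x151e0047b002),(nat_lit 0x3f1001),(nat_lit 0x474001),(nat_lit 0x11ae001)],[(nat_lit 0x1984001),(nat_lit 0x1985001),(nat_lit 0x1986001),(nat_lit 0x1987001),(nat_lit 0x198a001),(nat_lit 0x1988001),(nat_lit 0x112a001)],[(nat_lit 0x11360112f002),(nat_lit 0x626001),(nat_lit 0x5d0001),(nat_lit 0x5d1001),(nat_lit 0x150f01197002),(nat_lit 0x113501131002),(nat_lit 0x5cf001)],[(nat_lit 0x44b001),(nat_lit 0x475001),(nat_lit 0x41a001),(nat_lit 0x151f0047d002),(nat_lit 0x114b0043a002),(nat_lit 0x419001),(nat_lit 0x122a001)],[(nat_lit 0xee6501301002),(nat_lit 0x1302001),(nat_lit 0x1303001),(nat_lit 0x1304001),(nat_lit 0x1305001),(nat_lit 0xee6f01306002),(nat_lit 0x473001)],[(nat_lit 0x11e7001),(nat_lit 0x3474001),(nat_lit 0x11de001),(nat_lit 0x347603475002),(nat_lit 0x11e8001),(nat_lit 0x11e9001),(nat_lit 0x347a001)],[(nat_lit 0x44e001),(nat_lit 0x462001),(nat_lit 0x11ea001),(nat_lit 0x41c001),(nat_lit 0x122f001),(nat_lit 0x41b001),(nat_lit 0x1231001)],[(nat_lit 0xc44a0347b002),(nat_lit 0x347c001),(nat_lit 0x347d001),(nat_lit 0x347e001),(nat_lit 0x349c001),(nat_lit 0xc4360349d002),(nat_lit 0x11df001)],[(nat_lit 0xc5e8034a4002),(nat_lit 0xc53f034a5002),(nat_lit 0xa603034a6002),(nat_lit 0xc485034a7002),(nat_lit 0xa612034a8002),(nat_lit 0xc53c034a9002),(nat_lit 0x11e0001)],[(nat_lit 0x34b9001),(nat_lit 0x11ec001),(nat_lit 0x34ba001),(nat_lit 0x1213001),(nat_lit 0x1215001),(nat_lit 0x1217001),(nat_lit 0x34bb001)],[(nat_lit 0x120c001),(nat_lit 0xc541034bf002),(nat_lit 0x11ed001),(nat_lit 0xc4fd03487002),(nat_lit 0x1219001),(nat_lit 0xc4fb0121b002),(nat_lit 0xb04a034c0002)],[(nat_lit 0x120e001),(nat_lit 0x1214001),(nat_lit 0x34c1001),(nat_lit 0x11ee001),(nat_lit 0x34c2001),(nat_lit 0x121d001),(nat_lit 0x34c4001)],[(nat_lit 0x1210001),(nat_lit 0x1216001),(nat_lit 0x121a001),(nat_lit 0x34c5001),(nat_lit 0x11ef001),(nat_lit 0x34c6001),(nat_lit 0x34c7001)],[(nat_lit 0x15b001),(nat_lit 0x664001a6002),(nat_lit 0x1c5001),(nat_lit 0x1c8001),(nat_lit 0x15a001),(nat_lit 0x1cb001),(nat_lit 0x5c8001)],[(nat_lit 0xb79001),(nat_lit 0xb7a001),(nat_lit 0xb7c001),(nat_lit 0xb7e001),(nat_lit 0xb7f001),(nat_lit 0xb80001),(nat_lit 0x534001)],[(nat_lit 0x161001),(nat_lit 0x66500244002),(nat_lit 0x31b001),(nat_lit 0x160001),(nat_lit 0x1ca001),(nat_lit 0x318001),(nat_lit 0x742001)],[(nat_lit 0x163001),(nat_lit 0x66600222002),(nat_lit 0x20a001),(nat_lit 0x31a001),(nat_lit 0x66600223002),(nat_lit 0x162001),(nat_lit 0x174900750002)],[(nat_lit 0x174d015ec002),(nat_lit 0x1871001),(nat_lit 0x1679015ed002),(nat_lit 0x17560167a002),(nat_lit 0x17570167b002),(nat_lit 0x15ee001),(nat_lit 0x54d001)],[(nat_lit 0x140f001),(nat_lit 0x5b500543002),(nat_lit 0x5a0001),(nat_lit 0x542001),(nat_lit 0x1035001),(nat_lit 0x5b9001),(nat_lit 0x11e5001)],[(nat_lit 0x684001),(nat_lit 0x1036001),(nat_lit 0x6400049d002),(nat_lit 0x1070001),(nat_lit 0x63f0049c002),(nat_lit 0x1054001),(nat_lit 0xee39013a4002)],[(nat_lit 0x1c9001),(nat_lit 0x131001),(nat_lit 0x31e001),(nat_lit 0x130001),(nat_lit 0x132001),(nat_lit 0x1d0001),(nat_lit 0x54e001)],[(nat_lit 0x1cc001),(nat_lit 0x1a9001),(nat_lit 0x1cf001),(nat_lit 0x1d2001),(nat_lit 0x674001aa002),(nat_lit 0x1a8001),(nat_lit 0x7d6001)],[(nat_lit 0xbc60083b002),(nat_lit 0x83c001),(nat_lit 0xcb80083d002),(nat_lit 0xbef0083e002),(nat_lit 0x83f001),(nat_lit 0xbe600840002),(nat_lit 0x1c4001)],[(nat_lit 0x19830195c002),(nat_lit 0x5bf001),(nat_lit 0x1296001),(nat_lit 0x61f001),(nat_lit 0x70a001),(nat_lit 0xb740070c002),(nat_lit 0x1299001)],[(nat_lit 0x61c001),(nat_lit 0x70b001),(nat_lit 0x70f001),(nat_lit 0x198c001),(nat_lit 0x5c2001),(nat_lit 0x198d001),(nat_lit 0x199a001)],[(nat_lit 0x31c001),(nat_lit 0xe58001),(nat_lit 0x316001),(nat_lit 0xf09001),(nat_lit 0x31d001),(nat_lit 0x31f001),(nat_lit 0x155800f0a002)],[(nat_lit 0x319001),(nat_lit 0x165001),(nat_lit 0x320001),(nat_lit 0x166001),(nat_lit 0x32c001),(nat_lit 0x164001),(nat_lit 0x751001)],[(nat_lit 0xbef00bd8002),(nat_lit 0xf0b001),(nat_lit 0xbd9001),(nat_lit 0xbdb001),(nat_lit 0xf0c001),(nat_lit 0xbe0001),(nat_lit 0x317001)],[(nat_lit 0x1a1f001),(nat_lit 0x730001),(nat_lit 0x17eb001),(nat_lit 0x740001),(nat_lit 0x745001),(nat_lit 0x747001),(nat_lit 0x1a20001)],[(nat_lit 0x73f001),(nat_lit 0x741001),(nat_lit 0x175a001),(nat_lit 0x732001),(nat_lit 0x1a27001),(nat_lit 0x74b001),(nat_lit 0x175c001)],[(nat_lit 0x744001),(nat_lit 0x746001),(nat_lit 0x74a001),(nat_lit 0x1a2b001),(nat_lit 0x73a001),(nat_lit 0x17ee001),(nat_lit 0x1a2c001)],[(nat_lit 0x13ea001),(nat_lit 0x1410001),(nat_lit 0x13eb001),(nat_lit 0x1412001),(nat_lit 0x1908001),(nat_lit 0x13ec001),(nat_lit 0x13e9001)],[(nat_lit 0x13b2001),(nat_lit 0x103d001),(nat_lit 0x103e001),(nat_lit 0x11e1001),(nat_lit 0x1075001),(nat_lit 0x103f001),(nat_lit 0x19ff001)],[(nat_lit 0x1909001),(nat_lit 0x59100545002),(nat_lit 0x1074001),(nat_lit 0x107a001),(nat_lit 0x544001),(nat_lit 0x107c001),(nat_lit 0x1922001)],[(nat_lit 0x1342001),(nat_lit 0x135b001),(nat_lit 0x1341001),(nat_lit 0x19c3001),(nat_lit 0x2462001),(nat_lit 0x1343001),(nat_lit 0x13b5001)],[(nat_lit 0x1071001),(nat_lit 0x107b001),(nat_lit 0x320c001),(nat_lit 0x105c001),(nat_lit 0x1072001),(nat_lit 0x107f001),(nat_lit 0x320d001)],[(nat_lit 0x1055001),(nat_lit 0x107d001),(nat_lit 0x1051001),(nat_lit 0x1080001),(nat_lit 0x1052001),(nat_lit 0x1050001),(nat_lit 0xeec9031f9002)],[(nat_lit 0xbfd20320e002),(nat_lit 0x320f001),(nat_lit 0xbfed03210002),(nat_lit 0x3211001),(nat_lit 0x3212001),(nat_lit 0xbfc803213002),(nat_lit 0x105d001)],[(nat_lit 0x680002f4002),(nat_lit 0xe4a001),(nat_lit 0x2e9001),(nat_lit 0x8a5001),(nat_lit 0x2ea001),(nat_lit 0x2f5001),(nat_lit 0x160d00907002)],[(nat_lit 0x681001c2002),(nat_lit 0x1d1001),(nat_lit 0x2f6001),(nat_lit 0x1ae001),(nat_lit 0x32a001),(nat_lit 0x1ad001),(nat_lit 0x9a8007d7002)],[(nat_lit 0x16b9009ff002),(nat_lit 0xaeb001),(nat_lit 0x9c1001),(nat_lit 0x9f8009c2002),(nat_lit 0xe4c001),(nat_lit 0x16b2009fe002),(nat_lit 0x2eb001)],[(nat_lit 0x9ef008e9002),(nat_lit 0x9f3001),(nat_lit 0x9d4001),(nat_lit 0x9d5001),(nat_lit 0x9d6001),(nat_lit 0x9f4008ea002),(nat_lit 0x768001)],[(nat_lit 0x1bd0001),(nat_lit 0x7d1001),(nat_lit 0x1bd2001),(nat_lit 0x7e2001),(nat_lit 0x7e4001),(nat_lit 0x7e6001),(nat_lit 0x1bd3001)],[(nat_lit 0x9f6007df002),(nat_lit 0x7e5001),(nat_lit 0x7e9001),(nat_lit 0x8f3001),(nat_lit 0x7d4001),(nat_lit 0x1bd4001),(nat_lit 0x1bd7001)],[(nat_lit 0x7f0001),(nat_lit 0x9f1007fe002),(nat_lit 0xb6900805002),(nat_lit 0x9d100807002),(nat_lit 0x809001),(nat_lit 0x9f1007ff002),(nat_lit 0xb81001)],[(nat_lit 0x80a001),(nat_lit 0x1bc001),(nat_lit 0x80c001),(nat_lit 0x818001),(nat_lit 0x1bb001),(nat_lit 0x81a001),(nat_lit 0x829001)],[(nat_lit 0x9e800817002),(nat_lit 0x819001),(nat_lit 0x9c5001),(nat_lit 0x7fa001),(nat_lit 0x9c300801002),(nat_lit 0x81c001),(nat_lit 0x9d9001)],[(nat_lit 0x9df00804002),(nat_lit 0x81b001),(nat_lit 0x7fc001),(nat_lit 0x81d001),(nat_lit 0x9df00802002),(nat_lit 0x7fb001),(nat_lit 0x9e4001)],[(nat_lit 0x9cc001),(nat_lit 0x9cd001),(nat_lit 0x9ce001),(nat_lit 0x9cf001),(nat_lit 0x1c19001),(nat_lit 0x9d0001),(nat_lit 0x812001)],[(nat_lit 0x2bc6001),(nat_lit 0xe43001),(nat_lit 0xe59001),(nat_lit 0xe63001),(nat_lit 0xe4b001),(nat_lit 0xe65001),(nat_lit 0x2bc8001)],[(nat_lit 0x8b8001),(nat_lit 0xe64001),(nat_lit 0x8b9001),(nat_lit 0x8b7001),(nat_lit 0x1c60001),(nat_lit 0x8ba001),(nat_lit 0x98f001)],[(nat_lit 0x68200300002),(nat_lit 0xe66001),(nat_lit 0x2f2001),(nat_lit 0x86c001),(nat_lit 0x32e001),(nat_lit 0x2f1001),(nat_lit 0x8700086f002)],[(nat_lit 0x8ac007a7002),(nat_lit 0xb88007aa002),(nat_lit 0x8a900885002),(nat_lit 0x79d001),(nat_lit 0xb02001),(nat_lit 0x8700079c002),(nat_lit 0x8b0001)],[(nat_lit 0x68300329002),(nat_lit 0x32d001),(nat_lit 0x32f001),(nat_lit 0x68300327002),(nat_lit 0x322001),(nat_lit 0x32b001),(nat_lit 0xf50001)],[(nat_lit 0x9f7001),(nat_lit 0xe48001),(nat_lit 0x9ea009bd002),(nat_lit 0x9d3009be002),(nat_lit 0xf51001),(nat_lit 0x9f0009da002),(nat_lit 0x323001)],[(nat_lit 0x1bdd001),(nat_lit 0x8d0007e3002),(nat_lit 0xe44001),(nat_lit 0x7e2001),(nat_lit 0x8f2001),(nat_lit 0xe47001),(nat_lit 0x1be1001)],[(nat_lit 0xe92001),(nat_lit 0x16c00030c002),(nat_lit 0x16d300e96002),(nat_lit 0x16bf00e99002),(nat_lit 0x16d500eb2002),(nat_lit 0x30b001),(nat_lit 0xef4001)],[(nat_lit 0x16cb00ae8002),(nat_lit 0xaed001),(nat_lit 0x30e001),(nat_lit 0xed7001),(nat_lit 0x9f80030d002),(nat_lit 0x16d700ebf002),(nat_lit 0xaa56800efa002)],[(nat_lit 0xe73001),(nat_lit 0x16c600e76002),(nat_lit 0xe8b001),(nat_lit 0xe8d001),(nat_lit 0xe8f001),(nat_lit 0xe91001),(nat_lit 0x2ca3001)],[(nat_lit 0xe8c001),(nat_lit 0xe77001),(nat_lit 0xe74001),(nat_lit 0x2ca9001),(nat_lit 0xe93001),(nat_lit 0x16d300e95002),(nat_lit 0x2caa001)],[(nat_lit 0xe8e001),(nat_lit 0x308001),(nat_lit 0x17ac00ecf002),(nat_lit 0x307001),(nat_lit 0xea4001),(nat_lit 0x16bf00e97002),(nat_lit 0xed0001)],[(nat_lit 0xe90001),(nat_lit 0x30a001),(nat_lit 0xe94001),(nat_lit 0xec4001),(nat_lit 0x309001),(nat_lit 0xec6001),(nat_lit 0xee7001)],[(nat_lit 0x188a202cf9002),(nat_lit 0x2cfa001),(nat_lit 0x2cfb001),(nat_lit 0x2cfc001),(nat_lit 0x2cfd001),(nat_lit 0x188a802cfe002),(nat_lit 0xe8a001)],[(nat_lit 0x16b000e54002),(nat_lit 0x16b10168a002),(nat_lit 0xa00001),(nat_lit 0xa16001),(nat_lit 0xea6001),(nat_lit 0x16b400e4f002),(nat_lit 0x89d001)],[(nat_lit 0x16b800ea3002),(nat_lit 0xea5001),(nat_lit 0xea7001),(nat_lit 0xeb8001),(nat_lit 0xe56001),(nat_lit 0x238e001),(nat_lit 0xe57001)],[(nat_lit 0x16cc00eb5002),(nat_lit 0xec5001),(nat_lit 0xa8f7602d16002),(nat_lit 0xea9001),(nat_lit 0xeb9001),(nat_lit 0xec8001),(nat_lit 0xaa56a02d19002)],[(nat_lit 0x16cd00eb7002),(nat_lit 0xec7001),(nat_lit 0x16d700ec1002),(nat_lit 0xec9001),(nat_lit 0xeba001),(nat_lit 0xeaa001),(nat_lit 0xc859902d1e002)],[(nat_lit 0x1b64902d1f002),(nat_lit 0xaa57902d20002),(nat_lit 0xc300802d21002),(nat_lit 0x2d22001),(nat_lit 0xa99df02d23002),(nat_lit 0xab26d02d55002),(nat_lit 0xeab001)],[(nat_lit 0x3ca001),(nat_lit 0x1085001),(nat_lit 0x68f003b7002),(nat_lit 0x3b8001),(nat_lit 0xb3e001),(nat_lit 0x696003c7002),(nat_lit 0x5a100581002)],[(nat_lit 0x3065001),(nat_lit 0x1010001),(nat_lit 0x1011001),(nat_lit 0x10c1001),(nat_lit 0x10f6001),(nat_lit 0x1012001),(nat_lit 0x2498001)],[(nat_lit 0x3ba001),(nat_lit 0x10c0001),(nat_lit 0x3b9001),(nat_lit 0x3c9001),(nat_lit 0x55c001),(nat_lit 0x68c0051a002),(nat_lit 0xb81001)],[(nat_lit 0xb3f001),(nat_lit 0x10f7001),(nat_lit 0xb2f001),(nat_lit 0x10ee001),(nat_lit 0xb2e001),(nat_lit 0x23fa001),(nat_lit 0x2454001)],[(nat_lit 0x1d1f001),(nat_lit 0x897001),(nat_lit 0x8bc001),(nat_lit 0x8c4001),(nat_lit 0x896001),(nat_lit 0x8c6001),(nat_lit 0x1d22001)],[(nat_lit 0x79f001),(nat_lit 0x8c5001),(nat_lit 0x8780079e002),(nat_lit 0x7a0001),(nat_lit 0x1b17001),(nat_lit 0x9c90089e002),(nat_lit 0x9e5008e5002)],[(nat_lit 0x6d700204002),(nat_lit 0x8c7001),(nat_lit 0x1e2001),(nat_lit 0x9c9008a0002),(nat_lit 0x77a001),(nat_lit 0x1e1001),(nat_lit 0x8dd001)],[(nat_lit 0x6d800234002),(nat_lit 0x237001),(nat_lit 0x77c001),(nat_lit 0x6d800235002),(nat_lit 0x22a001),(nat_lit 0x22b001),(nat_lit 0xaf4001)],[(nat_lit 0x162400a1b002),(nat_lit 0x8a3001),(nat_lit 0x1604001),(nat_lit 0x1629008fd002),(nat_lit 0x8ff001),(nat_lit 0x161400901002),(nat_lit 0x1d2a001)],[(nat_lit 0x1612008dc002),(nat_lit 0x15fe001),(nat_lit 0x8cd001),(nat_lit 0x98d001),(nat_lit 0x903001),(nat_lit 0x905001),(nat_lit 0x8f7001)],[(nat_lit 0x1622008fa002),(nat_lit 0x900001),(nat_lit 0x904001),(nat_lit 0xa29001),(nat_lit 0x8d9001),(nat_lit 0x1db1001),(nat_lit 0xa71f001db3002)],[(nat_lit 0x1ade001),(nat_lit 0x8a600773002),(nat_lit 0x1abb001),(nat_lit 0x8c3001),(nat_lit 0x1aaf001),(nat_lit 0x772001),(nat_lit 0x1b08001)],[(nat_lit 0x1af4001),(nat_lit 0x1ab0001),(nat_lit 0x775001),(nat_lit 0x1b0f001),(nat_lit 0x88700774002),(nat_lit 0x1af3001),(nat_lit 0xa861801b11002)],[(nat_lit 0x1ab1001),(nat_lit 0x1ab2001),(nat_lit 0x1ad3001),(nat_lit 0x1ad5001),(nat_lit 0x1ad9001),(nat_lit 0x1add001),(nat_lit 0x18e2b04923002)],[(nat_lit 0x1ad4001),(nat_lit 0x1aba001),(nat_lit 0x1ab3001),(nat_lit 0x4924001),(nat_lit 0x1ae0001),(nat_lit 0x1abc001),(nat_lit 0x4925001)],[(nat_lit 0x1ada001),(nat_lit 0x771001),(nat_lit 0x1ae1001),(nat_lit 0x891001),(nat_lit 0x770001),(nat_lit 0x1af9001),(nat_lit 0x1b04001)],[(nat_lit 0x172a104926002),(nat_lit 0x4927001),(nat_lit 0x4928001),(nat_lit 0x172a704929002),(nat_lit 0x492a001),(nat_lit 0x18e820492b002),(nat_lit 0x1ab4001)],[(nat_lit 0x1ae3001),(nat_lit 0x1afa001),(nat_lit 0x1af5001),(nat_lit 0x1ae4001),(nat_lit 0x1af1001),(nat_lit 0x1ae2001),(nat_lit 0xa8608049c6002)],[(nat_lit 0x1b69f049c7002),(nat_lit 0xa99a4049c8002),(nat_lit 0xa8607049c9002),(nat_lit 0xa8f63049ca002),(nat_lit 0xa99fb049cb002),(nat_lit 0xa8f72049cc002),(nat_lit 0x1ae5001)],[(nat_lit 0x8b4001),(nat_lit 0xe68001),(nat_lit 0x9c9008b5002),(nat_lit 0x8a5001),(nat_lit 0x1c3a001),(nat_lit 0x8b6001),(nat_lit 0x8a4001)],[(nat_lit 0x2c80001),(nat_lit 0xe85001),(nat_lit 0x1dbc001),(nat_lit 0xe84001),(nat_lit 0x1b40001),(nat_lit 0xe86001),(nat_lit 0x2cc6001)],[(nat_lit 0x6b600315002),(nat_lit 0xe6a001),(nat_lit 0x2f6001),(nat_lit 0x8780078f002),(nat_lit 0x7d8001),(nat_lit 0x2f5001),(nat_lit 0x8f7001)],[(nat_lit 0x1b16001),(nat_lit 0x1b41001),(nat_lit 0x1b19001),(nat_lit 0x1b2e001),(nat_lit 0x1b15001),(nat_lit 0x4ac4001),(nat_lit 0xaa59404ac6002)],[(nat_lit 0x1d0e001),(nat_lit 0x1d0f001),(nat_lit 0x1d18001),(nat_lit 0x1d1c001),(nat_lit 0x1d21001),(nat_lit 0x1d25001),(nat_lit 0x5175001)],[(nat_lit 0x1d1a001),(nat_lit 0x895001),(nat_lit 0x1d1d001),(nat_lit 0x894001),(nat_lit 0x1d11001),(nat_lit 0x8ca001),(nat_lit 0x1d1e001)],[(nat_lit 0x1d23001),(nat_lit 0x899001),(nat_lit 0x8bf001),(nat_lit 0x8c8001),(nat_lit 0x8cb001),(nat_lit 0x898001),(nat_lit 0x1d26001)],[(nat_lit 0x191cb05176002),(nat_lit 0x5177001),(nat_lit 0x5178001),(nat_lit 0x5179001),(nat_lit 0x517a001),(nat_lit 0x1912705201002),(nat_lit 0x1d10001)],[(nat_lit 0x86d001),(nat_lit 0xe80001),(nat_lit 0x86e001),(nat_lit 0x86c001),(nat_lit 0x1d14001),(nat_lit 0x8ba001),(nat_lit 0x94d001)],[(nat_lit 0x1b28001),(nat_lit 0x1d12001),(nat_lit 0x1d16001),(nat_lit 0x1b29001),(nat_lit 0x1b27001),(nat_lit 0x4ae8001),(nat_lit 0xa720404aeb002)],[(nat_lit 0x89b001),(nat_lit 0x8c9001),(nat_lit 0x8b9001),(nat_lit 0x89c001),(nat_lit 0x1d27001),(nat_lit 0x89a001),(nat_lit 0xa18001)],[(nat_lit 0x17e8001),(nat_lit 0x17e5001),(nat_lit 0x9bf001),(nat_lit 0x9b6001),(nat_lit 0xa19001),(nat_lit 0x17ea001),(nat_lit 0x9b5001)],[(nat_lit 0x6d90024a002),(nat_lit 0x8cc001),(nat_lit 0x232001),(nat_lit 0xaf6001),(nat_lit 0x231001),(nat_lit 0x77d001),(nat_lit 0xaf8001)],[(nat_lit 0xc9c001),(nat_lit 0x835001),(nat_lit 0xbd3001),(nat_lit 0x836001),(nat_lit 0x18f5001),(nat_lit 0x834001),(nat_lit 0xbe3001)],[(nat_lit 0xf74001),(nat_lit 0x18f6001),(nat_lit 0xf75001),(nat_lit 0xf76001),(nat_lit 0xf73001),(nat_lit 0xf77001),(nat_lit 0xa289c02f76002)],[(nat_lit 0x1e7b001),(nat_lit 0x2332001),(nat_lit 0x1e77001),(nat_lit 0x1e75001),(nat_lit 0x1f60001),(nat_lit 0x1e7a001),(nat_lit 0xaf0001)],[(nat_lit 0x1b00001),(nat_lit 0x8c2001),(nat_lit 0x1aed001),(nat_lit 0x8c3001),(nat_lit 0xaff001),(nat_lit 0x8c1001),(nat_lit 0x1d70001)],[(nat_lit 0xaf2001),(nat_lit 0xb00001),(nat_lit 0xb04001),(nat_lit 0x1b2c001),(nat_lit 0xaf1001),(nat_lit 0xaf3001),(nat_lit 0xa3fc802366002)],[(nat_lit 0x1ad6001),(nat_lit 0x1ad7001),(nat_lit 0x1aee001),(nat_lit 0x1ad5001),(nat_lit 0x1ad8001),(nat_lit 0x1aff001),(nat_lit 0x177f2049be002)],[(nat_lit 0x18a93049fe002),(nat_lit 0x49ff001),(nat_lit 0x4a00001),(nat_lit 0x1740104a01002),(nat_lit 0x4a02001),(nat_lit 0x18a8204a03002),(nat_lit 0x1afe001)],[(nat_lit 0x939001),(nat_lit 0x163100995002),(nat_lit 0xa22001),(nat_lit 0xa08001),(nat_lit 0xa25001),(nat_lit 0x938001),(nat_lit 0x557b01e69002)],[(nat_lit 0x163a001),(nat_lit 0x930001),(nat_lit 0x163b00931002),(nat_lit 0x1e2b001),(nat_lit 0x988001),(nat_lit 0x16270099c002),(nat_lit 0x1e2e001)],[(nat_lit 0x163900a2d002),(nat_lit 0x9720091e002),(nat_lit 0x987001),(nat_lit 0xa31001),(nat_lit 0x163d0091d002),(nat_lit 0x163c00a33002),(nat_lit 0x1dea001)],[(nat_lit 0x189be01f47002),(nat_lit 0x18a3f01f48002),(nat_lit 0x189ba01f49002),(nat_lit 0x189d401f52002),(nat_lit 0x1f53001),(nat_lit 0x189b801f54002),(nat_lit 0xa21001)],[(nat_lit 0x163600a30002),(nat_lit 0xa32001),(nat_lit 0x1f5e001),(nat_lit 0xa27001),(nat_lit 0xa28001),(nat_lit 0xa35001),(nat_lit 0x1f61001)],[(nat_lit 0x163700998002),(nat_lit 0x9ae001),(nat_lit 0x162e00994002),(nat_lit 0x163e001),(nat_lit 0x992001),(nat_lit 0x162b00993002),(nat_lit 0xab1d301e9a002)],[(nat_lit 0x1638009b4002),(nat_lit 0xa14001),(nat_lit 0x1e88001),(nat_lit 0x9a3001),(nat_lit 0x1e9e001),(nat_lit 0x9a2001),(nat_lit 0xa8f7401ea0002)],[(nat_lit 0x933001),(nat_lit 0x1e2f001),(nat_lit 0x932001),(nat_lit 0x1e31001),(nat_lit 0xa0c001),(nat_lit 0xa24001),(nat_lit 0x1e34001)],[(nat_lit 0x935001),(nat_lit 0x161900947002),(nat_lit 0x162500a1d002),(nat_lit 0x934001),(nat_lit 0xa04001),(nat_lit 0xa06001),(nat_lit 0x1e35001)],[(nat_lit 0x937001),(nat_lit 0x163000980002),(nat_lit 0xa0a001),(nat_lit 0xa0d001),(nat_lit 0x936001),(nat_lit 0xa0f001),(nat_lit 0x1e36001)],[(nat_lit 0x18ce10552a002),(nat_lit 0x174050552b002),(nat_lit 0x189180552c002),(nat_lit 0x174060552d002),(nat_lit 0x189bd0552e002),(nat_lit 0x18ce20552f002),(nat_lit 0x1e1c001)],[(nat_lit 0x1e32001),(nat_lit 0x1e2c001),(nat_lit 0x1e3d001),(nat_lit 0x1e23001),(nat_lit 0x5534001),(nat_lit 0x1e2d001),(nat_lit 0x5535001)],[(nat_lit 0xa0b001),(nat_lit 0x986001),(nat_lit 0x93b001),(nat_lit 0x1e6a001),(nat_lit 0x93a001),(nat_lit 0xa11001),(nat_lit 0x1e6b001)],[(nat_lit 0x1896d05536002),(nat_lit 0x5537001),(nat_lit 0x5538001),(nat_lit 0x5539001),(nat_lit 0x553a001),(nat_lit 0x188e70553b002),(nat_lit 0x1e24001)],[(nat_lit 0xa05001),(nat_lit 0x97c001),(nat_lit 0x162600a20002),(nat_lit 0x99f001),(nat_lit 0x97b001),(nat_lit 0x1dfe001),(nat_lit 0x1e92001)],[(nat_lit 0x18e4c01ef7002),(nat_lit 0x1ef8001),(nat_lit 0x1ef9001),(nat_lit 0x1efa001),(nat_lit 0x1efb001),(nat_lit 0x18e5b01efc002),(nat_lit 0xa03001)],[(nat_lit 0xa0e001),(nat_lit 0x98a001),(nat_lit 0x1e97001),(nat_lit 0x989001),(nat_lit 0x9a1001),(nat_lit 0xa13001),(nat_lit 0x1e98001)],[(nat_lit 0xa10001),(nat_lit 0x98c001),(nat_lit 0xa12001),(nat_lit 0xa15001),(nat_lit 0x9ad001),(nat_lit 0x98b001),(nat_lit 0x1e99001)],[(nat_lit 0x621e301eff002),(nat_lit 0x1f00001),(nat_lit 0x1f01001),(nat_lit 0x1f02001),(nat_lit 0x1f03001),(nat_lit 0x6225501f04002),(nat_lit 0xa09001)],[(nat_lit 0x5546001),(nat_lit 0x1e26001),(nat_lit 0x5547001),(nat_lit 0x1e4a001),(nat_lit 0x1e4c001),(nat_lit 0x1e4e001),(nat_lit 0x5548001)],[(nat_lit 0x1e43001),(nat_lit 0x554c001),(nat_lit 0x1e27001),(nat_lit 0x554d001),(nat_lit 0x1e50001),(nat_lit 0x1e52001),(nat_lit 0x554e001)],[(nat_lit 0x189bc01e45002),(nat_lit 0x1e4b001),(nat_lit 0x189d60554f002),(nat_lit 0x1e28001),(nat_lit 0x18a4005553002),(nat_lit 0x1e54001),(nat_lit 0x1781305554002)],[(nat_lit 0x1e47001),(nat_lit 0x1e4d001),(nat_lit 0x1e51001),(nat_lit 0x5555001),(nat_lit 0x1e29001),(nat_lit 0x5556001),(nat_lit 0x5557001)],[(nat_lit 0x163f001),(nat_lit 0x15ff001),(nat_lit 0x94e001),(nat_lit 0x16100094c002),(nat_lit 0x990001),(nat_lit 0x1640001),(nat_lit 0x94d001)],[(nat_lit 0x1611009b1002),(nat_lit 0x160c001),(nat_lit 0x97e001),(nat_lit 0x991001),(nat_lit 0x160d0097d002),(nat_lit 0x1e09001),(nat_lit 0x1e93001)],[(nat_lit 0x16200099e002),(nat_lit 0x9a0001),(nat_lit 0xafc001),(nat_lit 0x977001),(nat_lit 0x978001),(nat_lit 0x1e6c001),(nat_lit 0xa647501e8e002)],[(nat_lit 0x1db5001),(nat_lit 0x1dff001),(nat_lit 0x1e08001),(nat_lit 0x1e6e001),(nat_lit 0x1db4001),(nat_lit 0x1db6001),(nat_lit 0x1db7001)],[(nat_lit 0x9ac001),(nat_lit 0xf5f001),(nat_lit 0x1ea1001),(nat_lit 0x9ab001),(nat_lit 0x1d43001),(nat_lit 0xf78001),(nat_lit 0x9aa001)],[(nat_lit 0x1acf805708002),(nat_lit 0x1acef05709002),(nat_lit 0xc623d0570a002),(nat_lit 0x1acd50570b002),(nat_lit 0xab25b0570c002),(nat_lit 0x1b0e00570d002),(nat_lit 0x1e73001)],[(nat_lit 0x5722001),(nat_lit 0x1e89001),(nat_lit 0xaa56f05723002),(nat_lit 0x1ec3001),(nat_lit 0x1ec5001),(nat_lit 0x1ec7001),(nat_lit 0x5724001)],[(nat_lit 0x1ace501ebe002),(nat_lit 0x1ec4001),(nat_lit 0xaa5ad0572b002),(nat_lit 0x1e8b001),(nat_lit 0x572c001),(nat_lit 0x1ecd001),(nat_lit 0xa9a270572d002)],[(nat_lit 0x1eac001),(nat_lit 0xa99e602f27002),(nat_lit 0xf61001),(nat_lit 0xf60001),(nat_lit 0xa8f7602d18002),(nat_lit 0x2bf1001),(nat_lit 0x2f2a001)],[(nat_lit 0x364001),(nat_lit 0x365001),(nat_lit 0x49e001),(nat_lit 0x366001),(nat_lit 0x48e001),(nat_lit 0x68a003c1002),(nat_lit 0xfc9001)],[(nat_lit 0x13c001),(nat_lit 0x13d001),(nat_lit 0x68b002da002),(nat_lit 0x492001),(nat_lit 0x13e001),(nat_lit 0x2c7001),(nat_lit 0x560001)],[(nat_lit 0x11b70119a002),(nat_lit 0x110f001),(nat_lit 0x1259001),(nat_lit 0x6f7001),(nat_lit 0x135d001),(nat_lit 0x119c001),(nat_lit 0x539001)],[(nat_lit 0x49f001),(nat_lit 0xfd5001),(nat_lit 0x48c001),(nat_lit 0x72b001),(nat_lit 0x4a0001),(nat_lit 0x6b9004a2002),(nat_lit 0x133d001)],[(nat_lit 0x48f001),(nat_lit 0x3aa001),(nat_lit 0x4a1001),(nat_lit 0x483001),(nat_lit 0x3a9001),(nat_lit 0xff2001),(nat_lit 0x1062001)],[(nat_lit 0x10a8001),(nat_lit 0xbac001),(nat_lit 0xbab001),(nat_lit 0xc07001),(nat_lit 0xc13001),(nat_lit 0x109d00c18002),(nat_lit 0x48d001)],[(nat_lit 0x493001),(nat_lit 0x2b5001),(nat_lit 0xdf3001),(nat_lit 0x2b4001),(nat_lit 0x485001),(nat_lit 0x495001),(nat_lit 0xdf4001)],[(nat_lit 0x2c5001),(nat_lit 0x2b7001),(nat_lit 0x6ba002c1002),(nat_lit 0x497001),(nat_lit 0x6ba002c2002),(nat_lit 0x2b6001),(nat_lit 0xe05001)],[(nat_lit 0x234101393002),(nat_lit 0x1394001),(nat_lit 0x1395001),(nat_lit 0x1396001),(nat_lit 0x1397001),(nat_lit 0x234501398002),(nat_lit 0x491001)],[(nat_lit 0x132e001),(nat_lit 0x132d001),(nat_lit 0x135f001),(nat_lit 0x132f001),(nat_lit 0x138d001),(nat_lit 0x1330001),(nat_lit 0x1331001)],[(nat_lit 0x1286001),(nat_lit 0x1127001),(nat_lit 0x1287001),(nat_lit 0x127d01126002),(nat_lit 0x138f001),(nat_lit 0x1288001),(nat_lit 0x1289001)],[(nat_lit 0x117d001),(nat_lit 0x118d001),(nat_lit 0x117e001),(nat_lit 0x11b701199002),(nat_lit 0x119d001),(nat_lit 0x117f001),(nat_lit 0x1180001)],[(nat_lit 0x135e001),(nat_lit 0x138e001),(nat_lit 0x1390001),(nat_lit 0x1392001),(nat_lit 0x1332001),(nat_lit 0x3aa4001),(nat_lit 0x3aa6001)],[(nat_lit 0x2ffd001),(nat_lit 0xfcf001),(nat_lit 0xfd6001),(nat_lit 0xfed001),(nat_lit 0xff0001),(nat_lit 0xfd0001),(nat_lit 0x10cc001)],[(nat_lit 0x3ac001),(nat_lit 0xff1001),(nat_lit 0x3ad001),(nat_lit 0xfff001),(nat_lit 0x3ab001),(nat_lit 0xff5001),(nat_lit 0x106a001)],[(nat_lit 0x109001089002),(nat_lit 0xb49001),(nat_lit 0x734001),(nat_lit 0xb56001),(nat_lit 0x10db001),(nat_lit 0x108f0108b002),(nat_lit 0x733001)],[(nat_lit 0x390001),(nat_lit 0x484001),(nat_lit 0x507001),(nat_lit 0x38f001),(nat_lit 0x391001),(nat_lit 0xfe5001),(nat_lit 0x1028001)],[(nat_lit 0xfbf001),(nat_lit 0xff3001),(nat_lit 0xff7001),(nat_lit 0xfe7001),(nat_lit 0xfc0001),(nat_lit 0xfbe001),(nat_lit 0x2fe9001)],[(nat_lit 0xf5c30304a002),(nat_lit 0x304b001),(nat_lit 0xf5f00304c002),(nat_lit 0xf5b90304d002),(nat_lit 0xf5f50304e002),(nat_lit 0xf5b70304f002),(nat_lit 0xfd1001)],[(nat_lit 0xb8a001),(nat_lit 0xb5700b20002),(nat_lit 0xb8b001),(nat_lit 0xb1f001),(nat_lit 0x105e001),(nat_lit 0xb8c001),(nat_lit 0x381202408002)],[(nat_lit 0x82b001),(nat_lit 0x1060001),(nat_lit 0x82a001),(nat_lit 0xb8d001),(nat_lit 0xb690082c002),(nat_lit 0xcb5001),(nat_lit 0xb95001)],[(nat_lit 0x4e3001),(nat_lit 0x15a9001),(nat_lit 0x4e2001),(nat_lit 0xa79001),(nat_lit 0x505001),(nat_lit 0x508001),(nat_lit 0x155d001)],[(nat_lit 0x2b9001),(nat_lit 0x496001),(nat_lit 0x50a001),(nat_lit 0x2ba001),(nat_lit 0x521001),(nat_lit 0x2b8001),(nat_lit 0xc93001)],[(nat_lit 0xbb300bb1002),(nat_lit 0xccc001),(nat_lit 0xb92001),(nat_lit 0xb94001),(nat_lit 0xbb9001),(nat_lit 0xc90001),(nat_lit 0x4e4001)],[(nat_lit 0x1774014c6002),(nat_lit 0x17ae014c7002),(nat_lit 0x1677014c8002),(nat_lit 0x167e014c9002),(nat_lit 0x1775014ca002),(nat_lit 0x17ab014cb002),(nat_lit 0x4d5001)],[(nat_lit 0x17a9001),(nat_lit 0xdac001),(nat_lit 0x29a1001),(nat_lit 0xdb3001),(nat_lit 0xdc9001),(nat_lit 0xdcb001),(nat_lit 0x29a2001)],[(nat_lit 0x15f1004f2002),(nat_lit 0x1862001),(nat_lit 0x17a0004f1002),(nat_lit 0x16dd015f6002),(nat_lit 0x17a801592002),(nat_lit 0x15eb01595002),(nat_lit 0x174a001)],[(nat_lit 0x4f4001),(nat_lit 0x17b601653002),(nat_lit 0x1665001),(nat_lit 0x17a0004f3002),(nat_lit 0x1739001),(nat_lit 0x167101598002),(nat_lit 0x16bc001)],[(nat_lit 0x4f6001),(nat_lit 0x17ad01655002),(nat_lit 0x17a801594002),(nat_lit 0x177f001),(nat_lit 0x17a0004f5002),(nat_lit 0x1781001),(nat_lit 0x1867001)],[(nat_lit 0x1039001),(nat_lit 0x103a001),(nat_lit 0x1056001),(nat_lit 0x103b001),(nat_lit 0x103c001),(nat_lit 0x1038001),(nat_lit 0xc5e5031f2002)],[(nat_lit 0xc5c6031fa002),(nat_lit 0x3200001),(nat_lit 0xb04403201002),(nat_lit 0xc47d03202002),(nat_lit 0xc53303203002),(nat_lit 0xb04603204002),(nat_lit 0x1053001)],[(nat_lit 0x266001),(nat_lit 0x267001),(nat_lit 0x68e00295002),(nat_lit 0x5c5001),(nat_lit 0x28a001),(nat_lit 0x68e00296002),(nat_lit 0xc06001)],[(nat_lit 0x5c6001),(nat_lit 0x27a001),(nat_lit 0xc77001),(nat_lit 0x279001),(nat_lit 0xb27001),(nat_lit 0x6dc00339002),(nat_lit 0x6f8001)],[(nat_lit 0x288001),(nat_lit 0x27c001),(nat_lit 0x6dd00281002),(nat_lit 0x4ab001),(nat_lit 0x27b001),(nat_lit 0x4ad001),(nat_lit 0xc7c001)],[(nat_lit 0x1356001),(nat_lit 0x2501001),(nat_lit 0x1357001),(nat_lit 0x1358001),(nat_lit 0x2531001),(nat_lit 0x1359001),(nat_lit 0xc29001)],[(nat_lit 0xb0d001),(nat_lit 0xb28001),(nat_lit 0xb2b001),(nat_lit 0xb1a001),(nat_lit 0xb0c001),(nat_lit 0x23c4001),(nat_lit 0x23eb001)],[(nat_lit 0x28e001),(nat_lit 0x4ac001),(nat_lit 0xcc2001),(nat_lit 0x28d001),(nat_lit 0xb1c001),(nat_lit 0x4af001),(nat_lit 0x16ec00cda002)],[(nat_lit 0x284001),(nat_lit 0x4ae001),(nat_lit 0x285001),(nat_lit 0x4b1001),(nat_lit 0x6e00028b002),(nat_lit 0x283001),(nat_lit 0xbdc001)],[(nat_lit 0xbb8001),(nat_lit 0x13f3001),(nat_lit 0xbcc001),(nat_lit 0xbb300bae002),(nat_lit 0xcc8001),(nat_lit 0xbcd001),(nat_lit 0x4aa001)],[(nat_lit 0xb15001),(nat_lit 0xb8f001),(nat_lit 0xb16001),(nat_lit 0xc76001),(nat_lit 0xb6f00b14002),(nat_lit 0x19ce001),(nat_lit 0x2401001)],[(nat_lit 0x218001),(nat_lit 0xa92001),(nat_lit 0x217001),(nat_lit 0xaac001),(nat_lit 0x219001),(nat_lit 0x351001),(nat_lit 0xab7001)],[(nat_lit 0x1563007b6002),(nat_lit 0x1576001),(nat_lit 0x158401578002),(nat_lit 0x15d001579002),(nat_lit 0x1a11001),(nat_lit 0x155f007b5002),(nat_lit 0x15c8001)],[(nat_lit 0x1b21001),(nat_lit 0x14e400a84002),(nat_lit 0x9a1560217c002),(nat_lit 0xa83001),(nat_lit 0x14ea001),(nat_lit 0x14eb001),(nat_lit 0x217d001)],[(nat_lit 0x7b2001),(nat_lit 0x9ab9501a10002),(nat_lit 0x155f007b1002),(nat_lit 0x156f001),(nat_lit 0x1571001),(nat_lit 0x158401572002),(nat_lit 0x1573001)],[(nat_lit 0x7b4001),(nat_lit 0x1574001),(nat_lit 0x1575001),(nat_lit 0x1b66001),(nat_lit 0x155f007b3002),(nat_lit 0x1b68001),(nat_lit 0x1b7b001)],[(nat_lit 0x10a300b96002),(nat_lit 0xb97001),(nat_lit 0x10b5001),(nat_lit 0x10aa00ba9002),(nat_lit 0xc0e001),(nat_lit 0x10af00ba4002),(nat_lit 0x137e001)],[(nat_lit 0x10b600c48002),(nat_lit 0x10a4004bb002),(nat_lit 0xc5d001),(nat_lit 0xc1d001),(nat_lit 0xb4f004ba002),(nat_lit 0x10b700c49002),(nat_lit 0x1449001)],[(nat_lit 0x1380001),(nat_lit 0x1381001),(nat_lit 0x13ba001),(nat_lit 0x1382001),(nat_lit 0x25be001),(nat_lit 0x1383001),(nat_lit 0xc46001)],[(nat_lit 0x135a001),(nat_lit 0xb30001),(nat_lit 0xc59001),(nat_lit 0xb9b001),(nat_lit 0xb37001),(nat_lit 0x109a00b39002),(nat_lit 0xb89001)],[(nat_lit 0x109100b99002),(nat_lit 0xb9c001),(nat_lit 0x720001),(nat_lit 0xb51006fa002),(nat_lit 0x10d7001),(nat_lit 0x109200b9d002),(nat_lit 0x55b001)],[(nat_lit 0x109900b36002),(nat_lit 0xb38001),(nat_lit 0x10a4004bf002),(nat_lit 0x10a6001),(nat_lit 0x725004be002),(nat_lit 0x10a700c43002),(nat_lit 0x145c001)],[(nat_lit 0x10ac00c1c002),(nat_lit 0xc1e001),(nat_lit 0x24ab001),(nat_lit 0x10a400bbd002),(nat_lit 0xbbe001),(nat_lit 0x10b8001),(nat_lit 0x24ae001)],[(nat_lit 0xc21001),(nat_lit 0xc3c001),(nat_lit 0xc3f001),(nat_lit 0xc42001),(nat_lit 0x10b200c32002),(nat_lit 0xc20001),(nat_lit 0x4c7802580002)],[(nat_lit 0xc44602593002),(nat_lit 0x2594001),(nat_lit 0xc498025b7002),(nat_lit 0xc434025b8002),(nat_lit 0xc49a025b9002),(nat_lit 0xc433025ba002),(nat_lit 0xc3a001)],[(nat_lit 0x1d3a001),(nat_lit 0xa74001),(nat_lit 0xa75001),(nat_lit 0xa8f001),(nat_lit 0xa91001),(nat_lit 0xa94001),(nat_lit 0x2144001)],[(nat_lit 0xa6a001),(nat_lit 0xa90001),(nat_lit 0xa7a001),(nat_lit 0xa69001),(nat_lit 0x2121001),(nat_lit 0xa97001),(nat_lit 0x179a001)],[(nat_lit 0x2bd001),(nat_lit 0xa95001),(nat_lit 0x2be001),(nat_lit 0xa99001),(nat_lit 0x4d7001),(nat_lit 0x2bc001),(nat_lit 0xbc2001)],[(nat_lit 0xbe2001),(nat_lit 0xbec001),(nat_lit 0xbd5001),(nat_lit 0xbd6001),(nat_lit 0x1cf1001),(nat_lit 0xbde001),(nat_lit 0xa76001)],[(nat_lit 0x2ca001),(nat_lit 0x6e2002d1002),(nat_lit 0x4d9001),(nat_lit 0x6e2002ce002),(nat_lit 0x2c9001),(nat_lit 0x2cd001),(nat_lit 0xe3f001)],[(nat_lit 0x15d6014cc002),(nat_lit 0x15b6014cd002),(nat_lit 0x15b7014ce002),(nat_lit 0x15b8014cf002),(nat_lit 0x15d7014d0002),(nat_lit 0x15b9014d1002),(nat_lit 0x4d6001)],[(nat_lit 0x1b47001),(nat_lit 0x1562007b8002),(nat_lit 0x1b7e001),(nat_lit 0x7b7001),(nat_lit 0x157a001),(nat_lit 0x157b001),(nat_lit 0x1b7f001)],[(nat_lit 0xa73001),(nat_lit 0x213b001),(nat_lit 0x155300a72002),(nat_lit 0x1536001),(nat_lit 0x1537001),(nat_lit 0x15580153e002),(nat_lit 0x1542001)],[(nat_lit 0xa80001),(nat_lit 0x1559001),(nat_lit 0x1543001),(nat_lit 0x1b25001),(nat_lit 0x155300a7f002),(nat_lit 0x216f001),(nat_lit 0x2178001)],[(nat_lit 0x20300142b002),(nat_lit 0x2010004ce002),(nat_lit 0x142f001),(nat_lit 0x20310140e002),(nat_lit 0x20320148c002),(nat_lit 0x4cd001),(nat_lit 0x14b0001)],[(nat_lit 0x202801712002),(nat_lit 0x1713001),(nat_lit 0xa53001),(nat_lit 0x20b4001),(nat_lit 0x170700a52002),(nat_lit 0x1714001),(nat_lit 0x20b5001)],[(nat_lit 0x203300d15002),(nat_lit 0xd16001),(nat_lit 0x2068001),(nat_lit 0xd4c001),(nat_lit 0xd5c001),(nat_lit 0xd73001),(nat_lit 0x27e6001)],[(nat_lit 0x1425001),(nat_lit 0x1436001),(nat_lit 0x140b001),(nat_lit 0x3cec001),(nat_lit 0x142c001),(nat_lit 0x142e001),(nat_lit 0x3cee001)],[(nat_lit 0x206701427002),(nat_lit 0x2035004ca002),(nat_lit 0x1492001),(nat_lit 0x4c9001),(nat_lit 0x206b01444002),(nat_lit 0x20310140d002),(nat_lit 0x1493001)],[(nat_lit 0x206901429002),(nat_lit 0x2037004cc002),(nat_lit 0x142d001),(nat_lit 0x206c0146b002),(nat_lit 0x4cb001),(nat_lit 0x206d01487002),(nat_lit 0xa0e1b01498002)],[(nat_lit 0x1abb803cf2002),(nat_lit 0x3cf3001),(nat_lit 0x3cf4001),(nat_lit 0x3cf5001),(nat_lit 0x3cf6001),(nat_lit 0x1abab03cf7002),(nat_lit 0x140c001)],[(nat_lit 0x1fb3001),(nat_lit 0x16fd00a51002),(nat_lit 0x202e01fb7002),(nat_lit 0x1705001),(nat_lit 0x1706001),(nat_lit 0xa50001),(nat_lit 0x1fe6001)],[(nat_lit 0x1708001),(nat_lit 0x1709001),(nat_lit 0x200401fc6002),(nat_lit 0x16fd00a57002),(nat_lit 0x20b6001),(nat_lit 0xa56001),(nat_lit 0x2013001)],[(nat_lit 0x202a01404002),(nat_lit 0x202f0143d002),(nat_lit 0x2037004d0002),(nat_lit 0x2039014b8002),(nat_lit 0x2012004cf002),(nat_lit 0x203801489002),(nat_lit 0x14b9001)],[(nat_lit 0x1734001),(nat_lit 0x223c001),(nat_lit 0x172800ac9002),(nat_lit 0x206f001),(nat_lit 0x1735001),(nat_lit 0xac8001),(nat_lit 0x2070001)],[(nat_lit 0xd50001),(nat_lit 0xd8d001),(nat_lit 0xd93001),(nat_lit 0xd7b001),(nat_lit 0xd4f001),(nat_lit 0x2249001),(nat_lit 0x28a1001)],[(nat_lit 0xd66001),(nat_lit 0xdb7001),(nat_lit 0x28d2001),(nat_lit 0xd65001),(nat_lit 0xd7d001),(nat_lit 0xdbd001),(nat_lit 0x28f1001)],[(nat_lit 0xd68001),(nat_lit 0xdb9001),(nat_lit 0xdbc001),(nat_lit 0xdbf001),(nat_lit 0xd7e001),(nat_lit 0xd67001),(nat_lit 0x1f393028f2002)],[(nat_lit 0x4dabb029af002),(nat_lit 0x29b0001),(nat_lit 0x4db3a029e3002),(nat_lit 0x4daa1029e4002),(nat_lit 0x4db3c029e5002),(nat_lit 0x4daa0029e6002),(nat_lit 0xdb5001)],[(nat_lit 0x116100406002),(nat_lit 0x407001),(nat_lit 0x1178010f9002),(nat_lit 0x117a010fb002),(nat_lit 0x408001),(nat_lit 0x117b010fd002),(nat_lit 0x11f1001)],[(nat_lit 0x136b001),(nat_lit 0x137a001),(nat_lit 0x136c001),(nat_lit 0x137201363002),(nat_lit 0x136d001),(nat_lit 0x136f0136e002),(nat_lit 0x110b001)],[(nat_lit 0xf91001),(nat_lit 0x428001),(nat_lit 0x1226001),(nat_lit 0x6e700427002),(nat_lit 0x429001),(nat_lit 0xf97001),(nat_lit 0x123b001)],[(nat_lit 0x117b010fe002),(nat_lit 0x449001),(nat_lit 0x117901102002),(nat_lit 0x117c01106002),(nat_lit 0x117200709002),(nat_lit 0x116100448002),(nat_lit 0x1256001)],[(nat_lit 0xf6b102f91002),(nat_lit 0x2f92001),(nat_lit 0x2f93001),(nat_lit 0x2f94001),(nat_lit 0x2f95001),(nat_lit 0xf6a602f96002),(nat_lit 0xf8c001)],[(nat_lit 0x1a07001),(nat_lit 0x128c001),(nat_lit 0x33ff001),(nat_lit 0x12a6001),(nat_lit 0x12c6001),(nat_lit 0x1370012c8002),(nat_lit 0x25c3001)],[(nat_lit 0x12a3001),(nat_lit 0x2518001),(nat_lit 0x128d001),(nat_lit 0x1387001),(nat_lit 0x12ca001),(nat_lit 0x1371012cc002),(nat_lit 0x1384001)],[(nat_lit 0x137200c5b002),(nat_lit 0x1366001),(nat_lit 0x10af00c5a002),(nat_lit 0x1367001),(nat_lit 0x144c001),(nat_lit 0x10ba001),(nat_lit 0x1385001)],[(nat_lit 0x12c3001),(nat_lit 0x12c7001),(nat_lit 0x12cb001),(nat_lit 0x2679001),(nat_lit 0x12a0001),(nat_lit 0x381b001),(nat_lit 0x32a790381d002)],[(nat_lit 0x1184001),(nat_lit 0x1185001),(nat_lit 0x1241001),(nat_lit 0x11c5001),(nat_lit 0x11b3001),(nat_lit 0x1186001),(nat_lit 0x11bc001)],[(nat_lit 0x11c2001),(nat_lit 0x43d001),(nat_lit 0x1139006f9002),(nat_lit 0x43c001),(nat_lit 0x1515011d1002),(nat_lit 0x113b006f6002),(nat_lit 0x1142001)],[(nat_lit 0x11b1001),(nat_lit 0x11440043f002),(nat_lit 0x115d00fb5002),(nat_lit 0x1526010e7002),(nat_lit 0x43e001),(nat_lit 0x115f010f1002),(nat_lit 0x1248001)],[(nat_lit 0xc78001),(nat_lit 0x10cd001),(nat_lit 0x72d001),(nat_lit 0xc97001),(nat_lit 0x19b0001),(nat_lit 0xc7a001),(nat_lit 0x11410072e002)],[(nat_lit 0x113501132002),(nat_lit 0x626001),(nat_lit 0x113800623002),(nat_lit 0x624001),(nat_lit 0x1510011d3002),(nat_lit 0x113601130002),(nat_lit 0x6bb00622002)],[(nat_lit 0x257001),(nat_lit 0x5c7001),(nat_lit 0x696003c6002),(nat_lit 0x256001),(nat_lit 0xb2c001),(nat_lit 0x68f00298002),(nat_lit 0x1138005f2002)],[(nat_lit 0x44b001),(nat_lit 0x115f010f2002),(nat_lit 0x44c001),(nat_lit 0x1528010f5002),(nat_lit 0x115500467002),(nat_lit 0x11440044a002),(nat_lit 0x1272001)],[(nat_lit 0xee4902fcc002),(nat_lit 0x9c0a302fcd002),(nat_lit 0xee4602fce002),(nat_lit 0xee3202fcf002),(nat_lit 0xeea402fd0002),(nat_lit 0xee9602fd1002),(nat_lit 0xfa9001)],[(nat_lit 0x11e7001),(nat_lit 0x3497001),(nat_lit 0x11e6001),(nat_lit 0x3478001),(nat_lit 0x11e8001),(nat_lit 0x121f001),(nat_lit 0x34ae001)],[(nat_lit 0x44e001),(nat_lit 0x117c01105002),(nat_lit 0x1221001),(nat_lit 0x44f001),(nat_lit 0x1232001),(nat_lit 0x11630044d002),(nat_lit 0x1273001)],[(nat_lit 0xc468035a5002),(nat_lit 0x35a6001),(nat_lit 0xc42e035a7002),(nat_lit 0xc47f035a8002),(nat_lit 0xc480035a9002),(nat_lit 0xc42b035aa002),(nat_lit 0x1204001)],[(nat_lit 0xc4d00348a002),(nat_lit 0xc57103521002),(nat_lit 0xb03b034b5002),(nat_lit 0xc4a6034b8002),(nat_lit 0xb05103554002),(nat_lit 0xc4a50348b002),(nat_lit 0x1205001)],[(nat_lit 0xc56c03710002),(nat_lit 0x1251001),(nat_lit 0x3711001),(nat_lit 0x1266001),(nat_lit 0x1268001),(nat_lit 0x126a001),(nat_lit 0x3712001)],[(nat_lit 0x120c001),(nat_lit 0xb04f035b7002),(nat_lit 0xc4a50120b002),(nat_lit 0xb03c0352e002),(nat_lit 0xc574034b1002),(nat_lit 0xb03b034b4002),(nat_lit 0xc575035b8002)],[(nat_lit 0x120e001),(nat_lit 0xc4a40351d002),(nat_lit 0x353a001),(nat_lit 0xc4a50120d002),(nat_lit 0x353e001),(nat_lit 0xc4a6034b6002),(nat_lit 0x35bc001)],[(nat_lit 0x1210001),(nat_lit 0xc5700351f002),(nat_lit 0xc574034b3002),(nat_lit 0x3548001),(nat_lit 0xc4a50120f002),(nat_lit 0x354a001),(nat_lit 0x35c2001)],[(nat_lit 0x3b3001),(nat_lit 0x490001),(nat_lit 0x55e001),(nat_lit 0x4e9001),(nat_lit 0x3b2001),(nat_lit 0xff9001),(nat_lit 0x10bb001)],[(nat_lit 0x207001),(nat_lit 0x494001),(nat_lit 0x50b001),(nat_lit 0x206001),(nat_lit 0x4e7001),(nat_lit 0x4ea001),(nat_lit 0xa42001)],[(nat_lit 0x2fdd001),(nat_lit 0xfb1001),(nat_lit 0xfb2001),(nat_lit 0x1084001),(nat_lit 0xfe2001),(nat_lit 0xfb3001),(nat_lit 0x1a1b001)],[(nat_lit 0x55d001),(nat_lit 0xfe0001),(nat_lit 0x3bc001),(nat_lit 0x10c3001),(nat_lit 0x3bb001),(nat_lit 0xffc001),(nat_lit 0x10c4001)],[(nat_lit 0x4e8001),(nat_lit 0x393001),(nat_lit 0x50e001),(nat_lit 0x392001),(nat_lit 0x394001),(nat_lit 0xfe8001),(nat_lit 0x102f001)],[(nat_lit 0xffa001),(nat_lit 0xfc2001),(nat_lit 0xffd001),(nat_lit 0xfea001),(nat_lit 0xfc3001),(nat_lit 0xfc1001),(nat_lit 0x2fea001)],[(nat_lit 0xc0e703050002),(nat_lit 0x3051001),(nat_lit 0x3052001),(nat_lit 0x3053001),(nat_lit 0x3054001),(nat_lit 0xc0f1030a6002),(nat_lit 0xfd2001)],[(nat_lit 0x19c4001),(nat_lit 0xbf8001),(nat_lit 0xbf7001),(nat_lit 0xbf9001),(nat_lit 0x10d9001),(nat_lit 0x109300c72002),(nat_lit 0x129a001)],[(nat_lit 0x10d8001),(nat_lit 0x10da001),(nat_lit 0x10dc001),(nat_lit 0x1532010d0002),(nat_lit 0x1087001),(nat_lit 0x15cd001),(nat_lit 0x153c001)],[(nat_lit 0x50c001),(nat_lit 0x14dd001),(nat_lit 0x4e5001),(nat_lit 0xf3d001),(nat_lit 0x50d001),(nat_lit 0x50f001),(nat_lit 0xbe3001)],[(nat_lit 0x4eb001),(nat_lit 0x20c001),(nat_lit 0x510001),(nat_lit 0x20d001),(nat_lit 0x523001),(nat_lit 0x20b001),(nat_lit 0xa5c001)],[(nat_lit 0x154a001),(nat_lit 0x1830001),(nat_lit 0x15b2001),(nat_lit 0x156b01545002),(nat_lit 0x15bf001),(nat_lit 0x154b001),(nat_lit 0x4e6001)],[(nat_lit 0x1f76001),(nat_lit 0xa3d001),(nat_lit 0x201a01f77002),(nat_lit 0xa4c001),(nat_lit 0xa4e001),(nat_lit 0xa50001),(nat_lit 0x1f78001)],[(nat_lit 0xa47001),(nat_lit 0xa4d001),(nat_lit 0x17bf001),(nat_lit 0xa3f001),(nat_lit 0x1f79001),(nat_lit 0xa56001),(nat_lit 0x171d001)],[(nat_lit 0xa49001),(nat_lit 0xa4f001),(nat_lit 0xa53001),(nat_lit 0x1fc7001),(nat_lit 0xa40001),(nat_lit 0x1711001),(nat_lit 0x1fc8001)],[(nat_lit 0x2fd3001),(nat_lit 0x2ffe001),(nat_lit 0x2fde001),(nat_lit 0x2fe1001),(nat_lit 0x2fe4001),(nat_lit 0x2fd4001),(nat_lit 0x2fd5001)],[(nat_lit 0x2fe0001),(nat_lit 0xfba001),(nat_lit 0xfdc001),(nat_lit 0xfb9001),(nat_lit 0xfe3001),(nat_lit 0xfbb001),(nat_lit 0x10cc001)],[(nat_lit 0x2fe3001),(nat_lit 0xfbd001),(nat_lit 0xfe1001),(nat_lit 0x1001001),(nat_lit 0xfbc001),(nat_lit 0x1003001),(nat_lit 0x2fe5001)],[(nat_lit 0xb2a001),(nat_lit 0xfe4001),(nat_lit 0xb2b001),(nat_lit 0xfde001),(nat_lit 0xb29001),(nat_lit 0x23f2001),(nat_lit 0x2445001)],[(nat_lit 0x1000001),(nat_lit 0x1002001),(nat_lit 0x30b3001),(nat_lit 0xfd3001),(nat_lit 0xfdf001),(nat_lit 0x1006001),(nat_lit 0x30b4001)],[(nat_lit 0xff6001),(nat_lit 0x1004001),(nat_lit 0xfc5001),(nat_lit 0x1007001),(nat_lit 0xfc6001),(nat_lit 0xfc4001),(nat_lit 0x2feb001)],[(nat_lit 0xc10b030b8002),(nat_lit 0x30b9001),(nat_lit 0x30ba001),(nat_lit 0x30bb001),(nat_lit 0x30bc001),(nat_lit 0xc147030bd002),(nat_lit 0xfd4001)],[(nat_lit 0x15ab001),(nat_lit 0x15ae001),(nat_lit 0x15aa001),(nat_lit 0x1667001),(nat_lit 0x15ac001),(nat_lit 0x15af001),(nat_lit 0x15ad001)],[(nat_lit 0x506001),(nat_lit 0x1503001),(nat_lit 0x4ee001),(nat_lit 0x1840001),(nat_lit 0x4ed001),(nat_lit 0xfeb001),(nat_lit 0x1854001)],[(nat_lit 0xfe6001),(nat_lit 0xfe9001),(nat_lit 0xfec001),(nat_lit 0xfc8001),(nat_lit 0xfd8001),(nat_lit 0xfc7001),(nat_lit 0x2fec001)],[(nat_lit 0xf37702ff7002),(nat_lit 0x3045001),(nat_lit 0x3046001),(nat_lit 0x3047001),(nat_lit 0x3048001),(nat_lit 0xf37003049002),(nat_lit 0xfce001)],[(nat_lit 0xf5f30a0d3002),(nat_lit 0xf5c00a0d4002),(nat_lit 0xba290a0d5002),(nat_lit 0xf5a90a0d6002),(nat_lit 0xba440a0d7002),(nat_lit 0xf5fb0a0d8002),(nat_lit 0x2fd6001)],[(nat_lit 0xa0e2001),(nat_lit 0x2fd8001),(nat_lit 0xa0e3001),(nat_lit 0x302c001),(nat_lit 0x302e001),(nat_lit 0x3030001),(nat_lit 0xa0e4001)],[(nat_lit 0x3025001),(nat_lit 0xf5fd0a0e8002),(nat_lit 0x2fd9001),(nat_lit 0xf5ff0a0e9002),(nat_lit 0x3032001),(nat_lit 0xf5c103034002),(nat_lit 0xda160a0ea002)],[(nat_lit 0x3027001),(nat_lit 0x302d001),(nat_lit 0xa056e0a0eb002),(nat_lit 0x2fda001),(nat_lit 0xa056c0a0ec002),(nat_lit 0x3036001),(nat_lit 0xc40c0a0ed002)],[(nat_lit 0x3029001),(nat_lit 0x302f001),(nat_lit 0x3033001),(nat_lit 0xa0ee001),(nat_lit 0x2fdb001),(nat_lit 0xa0ef001),(nat_lit 0xa0f0001)],[(nat_lit 0xbc0001),(nat_lit 0xbc1001),(nat_lit 0xbef00bc3002),(nat_lit 0xbbf001),(nat_lit 0xc73001),(nat_lit 0xbde001),(nat_lit 0xbc2001)],[(nat_lit 0xcb3001),(nat_lit 0x832001),(nat_lit 0x833001),(nat_lit 0xbd6001),(nat_lit 0xb90001),(nat_lit 0x831001),(nat_lit 0xbdd001)],[(nat_lit 0xacd001),(nat_lit 0xad2001),(nat_lit 0xcdb001),(nat_lit 0xab1001),(nat_lit 0x2229001),(nat_lit 0xab0001),(nat_lit 0xbb0001)],[(nat_lit 0x3eb8001),(nat_lit 0x14d8001),(nat_lit 0x14de001),(nat_lit 0x1500001),(nat_lit 0x1502001),(nat_lit 0x158f001),(nat_lit 0x3eb9001)],[(nat_lit 0xaa9001),(nat_lit 0x1501001),(nat_lit 0xaaa001),(nat_lit 0xaa8001),(nat_lit 0x219e001),(nat_lit 0xaab001),(nat_lit 0x180f001)],[(nat_lit 0x509001),(nat_lit 0x1590001),(nat_lit 0x4f0001),(nat_lit 0xa7c001),(nat_lit 0x525001),(nat_lit 0x4ef001),(nat_lit 0x166d001)],[(nat_lit 0x1589001),(nat_lit 0x1504001),(nat_lit 0x14df001),(nat_lit 0x1506001),(nat_lit 0x3ebd001),(nat_lit 0x166c001),(nat_lit 0x14d9001)],[(nat_lit 0x522001),(nat_lit 0x524001),(nat_lit 0x526001),(nat_lit 0x6de0051f002),(nat_lit 0x512001),(nat_lit 0xfda001),(nat_lit 0x18dd001)],[(nat_lit 0xc91001),(nat_lit 0xf55001),(nat_lit 0xbd3001),(nat_lit 0xbd1001),(nat_lit 0x18de001),(nat_lit 0xbd2001),(nat_lit 0x513001)],[(nat_lit 0x1c05001),(nat_lit 0xe45001),(nat_lit 0xe44001),(nat_lit 0x13f4001),(nat_lit 0xe46001),(nat_lit 0xf56001),(nat_lit 0x2bc9001)],[(nat_lit 0x82e001),(nat_lit 0x819001),(nat_lit 0xbb300baf002),(nat_lit 0x818001),(nat_lit 0x9c400820002),(nat_lit 0x834001),(nat_lit 0xbed001)],[(nat_lit 0x1660001),(nat_lit 0x176c004fe002),(nat_lit 0x1664001),(nat_lit 0x176b015a0002),(nat_lit 0x1776001),(nat_lit 0x4fd001),(nat_lit 0x1897001)],[(nat_lit 0x167101599002),(nat_lit 0x176b0159f002),(nat_lit 0x1745001),(nat_lit 0x176c00504002),(nat_lit 0x18a3001),(nat_lit 0x503001),(nat_lit 0x16ed001)],[(nat_lit 0x177501753002),(nat_lit 0x1778001),(nat_lit 0x74a001),(nat_lit 0x190b001),(nat_lit 0x177700749002),(nat_lit 0x1754001),(nat_lit 0x1a93001)],[(nat_lit 0x159b001),(nat_lit 0x1644001),(nat_lit 0x1658001),(nat_lit 0x165a001),(nat_lit 0x165d001),(nat_lit 0x165f001),(nat_lit 0x3f34001)],[(nat_lit 0x1659001),(nat_lit 0x1645001),(nat_lit 0x159c001),(nat_lit 0x3f39001),(nat_lit 0x1661001),(nat_lit 0x1663001),(nat_lit 0x3f3a001)],[(nat_lit 0x165b001),(nat_lit 0x4fa001),(nat_lit 0x1603001),(nat_lit 0x4f9001),(nat_lit 0x173c001),(nat_lit 0x176b0159e002),(nat_lit 0x187c001)],[(nat_lit 0x165e001),(nat_lit 0x4fc001),(nat_lit 0x1662001),(nat_lit 0x1786001),(nat_lit 0x4fb001),(nat_lit 0x1788001),(nat_lit 0x1884001)],[(nat_lit 0x190c103f3b002),(nat_lit 0x3f3c001),(nat_lit 0x3f3d001),(nat_lit 0x3f3e001),(nat_lit 0x3f3f001),(nat_lit 0x190cf03f40002),(nat_lit 0x159d001)],[(nat_lit 0x1a42001),(nat_lit 0x175200748002),(nat_lit 0x1761001),(nat_lit 0x1762001),(nat_lit 0x1763001),(nat_lit 0x747001),(nat_lit 0x1a86001)],[(nat_lit 0x1764001),(nat_lit 0x1765001),(nat_lit 0x1767001),(nat_lit 0x17520074c002),(nat_lit 0x1967001),(nat_lit 0x74b001),(nat_lit 0x1768001)],[(nat_lit 0x17a801593002),(nat_lit 0x15fb001),(nat_lit 0x500001),(nat_lit 0x189f001),(nat_lit 0x15f1004ff002),(nat_lit 0x178a001),(nat_lit 0x18a0001)],[(nat_lit 0x1666001),(nat_lit 0x15ea001),(nat_lit 0x15a2001),(nat_lit 0x15e4001),(nat_lit 0x173f001),(nat_lit 0x1742001),(nat_lit 0x1602001)],[(nat_lit 0x173a001),(nat_lit 0x173d001),(nat_lit 0x1741001),(nat_lit 0x1647001),(nat_lit 0x15a3001),(nat_lit 0x2bfc001),(nat_lit 0x1796001)],[(nat_lit 0x4b0001),(nat_lit 0xc7e001),(nat_lit 0xce6001),(nat_lit 0x4b1001),(nat_lit 0xd01001),(nat_lit 0x4af001),(nat_lit 0x1601013fb002)],[(nat_lit 0x1780001),(nat_lit 0x1787001),(nat_lit 0x3f41001),(nat_lit 0x15a5001),(nat_lit 0x1648001),(nat_lit 0x178c001),(nat_lit 0x3f43001)],[(nat_lit 0x1782001),(nat_lit 0x1789001),(nat_lit 0x178b001),(nat_lit 0x178d001),(nat_lit 0x1649001),(nat_lit 0x15a6001),(nat_lit 0x3f47001)],[(nat_lit 0x517ca03f48002),(nat_lit 0x3f49001),(nat_lit 0x4b30a03f4a002),(nat_lit 0x3f4b001),(nat_lit 0x3f4c001),(nat_lit 0x517c103f4d002),(nat_lit 0x15a7001)],[(nat_lit 0x3171001),(nat_lit 0x3172001),(nat_lit 0x3174001),(nat_lit 0x3170001),(nat_lit 0x3516001),(nat_lit 0x3173001),(nat_lit 0x3175001)],[(nat_lit 0x1049001),(nat_lit 0x1073001),(nat_lit 0x104a001),(nat_lit 0x31f5001),(nat_lit 0x1048001),(nat_lit 0x1076001),(nat_lit 0x31f7001)],[(nat_lit 0x12c1001),(nat_lit 0x12bc001),(nat_lit 0x12bd001),(nat_lit 0x380c001),(nat_lit 0x19a4001),(nat_lit 0x12be001),(nat_lit 0x3177001)],[(nat_lit 0x104c001),(nat_lit 0x104d001),(nat_lit 0x1078001),(nat_lit 0x104e001),(nat_lit 0x104f001),(nat_lit 0x104b001),(nat_lit 0x31f8001)],[(nat_lit 0xf18f03206002),(nat_lit 0x3207001),(nat_lit 0x3208001),(nat_lit 0x3209001),(nat_lit 0x20acc0320a002),(nat_lit 0xf29b0320b002),(nat_lit 0x105b001)],[(nat_lit 0xb93001),(nat_lit 0xb22001),(nat_lit 0x19a3001),(nat_lit 0x19e6001),(nat_lit 0xb21001),(nat_lit 0x19e9001),(nat_lit 0x20b1602409002)],[(nat_lit 0xa93f001),(nat_lit 0x317a001),(nat_lit 0xc5c10a940002),(nat_lit 0x31ad001),(nat_lit 0x31af001),(nat_lit 0x31b1001),(nat_lit 0xa941001)],[(nat_lit 0x31aa001),(nat_lit 0x31ae001),(nat_lit 0xc4670a602002),(nat_lit 0x317c001),(nat_lit 0xa942001),(nat_lit 0x31b5001),(nat_lit 0xa943001)],[(nat_lit 0x31ac001),(nat_lit 0x31b0001),(nat_lit 0x31b4001),(nat_lit 0xa944001),(nat_lit 0x317d001),(nat_lit 0xc5c70a613002),(nat_lit 0xa945001)],[(nat_lit 0x1c6001),(nat_lit 0x289001),(nat_lit 0x1c5001),(nat_lit 0x71a001),(nat_lit 0x1c7001),(nat_lit 0x715001),(nat_lit 0x156b00841002)],[(nat_lit 0xb2d001),(nat_lit 0xb0f001),(nat_lit 0xb2f001),(nat_lit 0xb17001),(nat_lit 0xb0e001),(nat_lit 0x23c7001),(nat_lit 0x23f6001)],[(nat_lit 0x71b001),(nat_lit 0x290001),(nat_lit 0xce7001),(nat_lit 0x28f001),(nat_lit 0xb19001),(nat_lit 0x71c001),(nat_lit 0xce8001)],[(nat_lit 0x716001),(nat_lit 0x1ce001),(nat_lit 0x1cf001),(nat_lit 0x71e001),(nat_lit 0x6a30025a002),(nat_lit 0x1cd001),(nat_lit 0x156500861002)],[(nat_lit 0x1585001),(nat_lit 0x19ef001),(nat_lit 0x1586001),(nat_lit 0x1587001),(nat_lit 0x19f1001),(nat_lit 0x1588001),(nat_lit 0x719001)],[(nat_lit 0x3000001),(nat_lit 0xfee001),(nat_lit 0x1011001),(nat_lit 0xfed001),(nat_lit 0x1026001),(nat_lit 0xfef001),(nat_lit 0x3004001)],[(nat_lit 0xb2a001),(nat_lit 0x1027001),(nat_lit 0xb11001),(nat_lit 0x1013001),(nat_lit 0xb10001),(nat_lit 0x23cf001),(nat_lit 0x23fd001)],[(nat_lit 0xb1b001),(nat_lit 0xb18001),(nat_lit 0xcc5001),(nat_lit 0xafd001),(nat_lit 0xafe001),(nat_lit 0x2386001),(nat_lit 0x2388001)],[(nat_lit 0x23c5001),(nat_lit 0x23c8001),(nat_lit 0x23d0001),(nat_lit 0x2387001),(nat_lit 0x237c001),(nat_lit 0x237b001),(nat_lit 0x67d3001)],[(nat_lit 0xf90a067d4002),(nat_lit 0x67d5001),(nat_lit 0x20b1a067d6002),(nat_lit 0x67d7001),(nat_lit 0x20c1f067d8002),(nat_lit 0xf8fc067d9002),(nat_lit 0x237d001)],[(nat_lit 0xcc3001),(nat_lit 0x26b9001),(nat_lit 0xc8b001),(nat_lit 0xc96001),(nat_lit 0xcc4001),(nat_lit 0xcc6001),(nat_lit 0x17be001)],[(nat_lit 0x4b0001),(nat_lit 0x71d001),(nat_lit 0xcc7001),(nat_lit 0x292001),(nat_lit 0xce9001),(nat_lit 0x291001),(nat_lit 0x16b500ceb002)],[(nat_lit 0x1672001),(nat_lit 0x16c501682002),(nat_lit 0x16ab001),(nat_lit 0x167901673002),(nat_lit 0x18bf001),(nat_lit 0x1674001),(nat_lit 0xc8c001)],[(nat_lit 0xcb9001),(nat_lit 0xcd3001),(nat_lit 0xcba001),(nat_lit 0xcbb001),(nat_lit 0xcbc001),(nat_lit 0xcbd001),(nat_lit 0x7c4001)],[(nat_lit 0x26bd001),(nat_lit 0xc8d001),(nat_lit 0x1c8d001),(nat_lit 0xccb001),(nat_lit 0xccf001),(nat_lit 0xcd2001),(nat_lit 0x26d1001)],[(nat_lit 0xbe7001),(nat_lit 0xbe8001),(nat_lit 0xbe9001),(nat_lit 0xbea001),(nat_lit 0xcd4001),(nat_lit 0xbeb001),(nat_lit 0x7d6001)],[(nat_lit 0xcc9001),(nat_lit 0xcd0001),(nat_lit 0xcd5001),(nat_lit 0xc8f001),(nat_lit 0xc8e001),(nat_lit 0x1c90001),(nat_lit 0x26e0001)],[(nat_lit 0xc74001),(nat_lit 0x19e8001),(nat_lit 0xf0d001),(nat_lit 0xbf6001),(nat_lit 0xbf5001),(nat_lit 0x19ed001),(nat_lit 0x24af001)],[(nat_lit 0x19cf001),(nat_lit 0x19eb001),(nat_lit 0x19ac001),(nat_lit 0x19ee001),(nat_lit 0x19ad001),(nat_lit 0x19ab001),(nat_lit 0xa6380459e002)],[(nat_lit 0xc4ed04640002),(nat_lit 0x4641001),(nat_lit 0xbcca04642002),(nat_lit 0x4643001),(nat_lit 0x4644001),(nat_lit 0xc52504645002),(nat_lit 0x19e5001)],[(nat_lit 0x1d34001),(nat_lit 0x8bb001),(nat_lit 0x8bc001),(nat_lit 0xaae001),(nat_lit 0x8bd001),(nat_lit 0x8d7001),(nat_lit 0x1d69001)],[(nat_lit 0xaad001),(nat_lit 0xaaf001),(nat_lit 0xcf5001),(nat_lit 0xa9e001),(nat_lit 0x2101001),(nat_lit 0xab0001),(nat_lit 0xbdd001)],[(nat_lit 0x352001),(nat_lit 0x8d5001),(nat_lit 0x21e001),(nat_lit 0xab1001),(nat_lit 0x7cd001),(nat_lit 0x21d001),(nat_lit 0xad0001)],[(nat_lit 0x16e6001),(nat_lit 0x21ef001),(nat_lit 0x175601675002),(nat_lit 0x1670001),(nat_lit 0x1a52001),(nat_lit 0x16e5001),(nat_lit 0xa9f001)],[(nat_lit 0x2cc001),(nat_lit 0x237001),(nat_lit 0x7ce001),(nat_lit 0x6f300248002),(nat_lit 0x236001),(nat_lit 0x238001),(nat_lit 0xaf9001)],[(nat_lit 0x172b001),(nat_lit 0xab2001),(nat_lit 0x204a01cca002),(nat_lit 0x201c00ac1002),(nat_lit 0xac3001),(nat_lit 0x204b00ac5002),(nat_lit 0x222e001)],[(nat_lit 0xabc001),(nat_lit 0x1cb1001),(nat_lit 0xab3001),(nat_lit 0x17b8001),(nat_lit 0xac6001),(nat_lit 0xac8001),(nat_lit 0x172e001)],[(nat_lit 0xac0001),(nat_lit 0xac4001),(nat_lit 0xac7001),(nat_lit 0x20c8001),(nat_lit 0xab5001),(nat_lit 0x223f001),(nat_lit 0x2240001)],[(nat_lit 0x1b4b001),(nat_lit 0x1563007bc002),(nat_lit 0x1b4f001),(nat_lit 0x158a001),(nat_lit 0x1afc001),(nat_lit 0x7bb001),(nat_lit 0x1bb2001)],[(nat_lit 0x15840157c002),(nat_lit 0x1851001),(nat_lit 0x1563007c0002),(nat_lit 0x157d001),(nat_lit 0x1a09001),(nat_lit 0x7bf001),(nat_lit 0x157e001)],[(nat_lit 0x1ae7001),(nat_lit 0x1afd001),(nat_lit 0x1ae8001),(nat_lit 0x2bf9001),(nat_lit 0x1ae6001),(nat_lit 0x1b54001),(nat_lit 0x49cd001)],[(nat_lit 0x1b1a001),(nat_lit 0x1b22001),(nat_lit 0x1b44001),(nat_lit 0x1b46001),(nat_lit 0x1b48001),(nat_lit 0x1b4a001),(nat_lit 0x2115104acb002)],[(nat_lit 0x1b45001),(nat_lit 0x1b23001),(nat_lit 0x1b1b001),(nat_lit 0x4acc001),(nat_lit 0x1b4c001),(nat_lit 0x1b4e001),(nat_lit 0x4acd001)],[(nat_lit 0x1b49001),(nat_lit 0x7ba001),(nat_lit 0x1b4d001),(nat_lit 0x1b6d001),(nat_lit 0x7b9001),(nat_lit 0x1b6f001),(nat_lit 0x1ba5001)],[(nat_lit 0x1857204ace002),(nat_lit 0x4acf001),(nat_lit 0x4ad0001),(nat_lit 0x1857504ad1002),(nat_lit 0x4ad2001),(nat_lit 0x2118304ad3002),(nat_lit 0x1b1c001)],[(nat_lit 0x9abc804180002),(nat_lit 0x1b1d001),(nat_lit 0x1b24001),(nat_lit 0x1b1e001),(nat_lit 0x1b50001),(nat_lit 0x1b1f001),(nat_lit 0x4ad4001)],[(nat_lit 0x154d001),(nat_lit 0x1853001),(nat_lit 0x1505001),(nat_lit 0x156101548002),(nat_lit 0x20de001),(nat_lit 0x154b001),(nat_lit 0xa5c001)],[(nat_lit 0x158b001),(nat_lit 0x1b51001),(nat_lit 0x7be001),(nat_lit 0x1bc3001),(nat_lit 0x7bd001),(nat_lit 0x1b71001),(nat_lit 0x1bc4001)],[(nat_lit 0x716001),(nat_lit 0x7c6001),(nat_lit 0x717001),(nat_lit 0x847001),(nat_lit 0x718001),(nat_lit 0x715001),(nat_lit 0x156101547002)],[(nat_lit 0x1b67001),(nat_lit 0x1b6e001),(nat_lit 0x4ad8001),(nat_lit 0x1b20001),(nat_lit 0x1b26001),(nat_lit 0x1b73001),(nat_lit 0x4ada001)],[(nat_lit 0x1b69001),(nat_lit 0x1b70001),(nat_lit 0x1b72001),(nat_lit 0x1b74001),(nat_lit 0x1b53001),(nat_lit 0x1b52001),(nat_lit 0x4b93001)],[(nat_lit 0x5167504baa002),(nat_lit 0x4bab001),(nat_lit 0x4bac001),(nat_lit 0x4bad001),(nat_lit 0x4bae001),(nat_lit 0x516e104baf002),(nat_lit 0x1b62001)],[(nat_lit 0xbfb001),(nat_lit 0x2496001),(nat_lit 0xbfa001),(nat_lit 0x13ab001),(nat_lit 0xc4e001),(nat_lit 0x10b300c62002),(nat_lit 0x13e8001)],[(nat_lit 0xba6001),(nat_lit 0xc0d001),(nat_lit 0xc4c001),(nat_lit 0xc4f001),(nat_lit 0xba5001),(nat_lit 0xc51001),(nat_lit 0x24a0001)],[(nat_lit 0x13ac001),(nat_lit 0x134b001),(nat_lit 0x1388001),(nat_lit 0x134a001),(nat_lit 0x2533001),(nat_lit 0x134c001),(nat_lit 0x1384001)],[(nat_lit 0xc4d001),(nat_lit 0xc11001),(nat_lit 0xbfd001),(nat_lit 0x24dc001),(nat_lit 0xbfc001),(nat_lit 0xc53001),(nat_lit 0x24dd001)],[(nat_lit 0x13e5001),(nat_lit 0x3406001),(nat_lit 0x12b9001),(nat_lit 0x12bb001),(nat_lit 0x33c4001),(nat_lit 0x12ba001),(nat_lit 0x1362001)],[(nat_lit 0xc50001),(nat_lit 0xc15001),(nat_lit 0x254d001),(nat_lit 0xc14001),(nat_lit 0xc1f001),(nat_lit 0xc55001),(nat_lit 0x254e001)],[(nat_lit 0xc52001),(nat_lit 0xc23001),(nat_lit 0xc54001),(nat_lit 0xc57001),(nat_lit 0x10b400c33002),(nat_lit 0xc22001),(nat_lit 0x2581001)],[(nat_lit 0x30ea6025c4002),(nat_lit 0x25c5001),(nat_lit 0x25c6001),(nat_lit 0x25c7001),(nat_lit 0x25c8001),(nat_lit 0x30e63025c9002),(nat_lit 0xc4b001)],[(nat_lit 0x19fc001),(nat_lit 0x137200c58002),(nat_lit 0xc59001),(nat_lit 0x1354001),(nat_lit 0x10d4001),(nat_lit 0x10a100c69002),(nat_lit 0x13b0001)],[(nat_lit 0x144b001),(nat_lit 0x10d2001),(nat_lit 0xc5d001),(nat_lit 0x25da001),(nat_lit 0x137200c5c002),(nat_lit 0x1456001),(nat_lit 0x25db001)],[(nat_lit 0x2461001),(nat_lit 0xc01001),(nat_lit 0xc12001),(nat_lit 0xc6c001),(nat_lit 0xc00001),(nat_lit 0xc65001),(nat_lit 0x24e3001)],[(nat_lit 0x1538001),(nat_lit 0x1539001),(nat_lit 0xa8a001),(nat_lit 0x153a001),(nat_lit 0xa89001),(nat_lit 0x153b001),(nat_lit 0x21d1001)],[(nat_lit 0xc3e001),(nat_lit 0xc66001),(nat_lit 0xc25001),(nat_lit 0xc6f001),(nat_lit 0x10a000c35002),(nat_lit 0xc24001),(nat_lit 0x2582001)],[(nat_lit 0xef3e02646002),(nat_lit 0x2647001),(nat_lit 0x2648001),(nat_lit 0x2649001),(nat_lit 0x264a001),(nat_lit 0xef3d0264b002),(nat_lit 0xc64001)],[(nat_lit 0x24ac001),(nat_lit 0x6b85001),(nat_lit 0x24a9001),(nat_lit 0x24b5001),(nat_lit 0x24ad001),(nat_lit 0x24cc001),(nat_lit 0x6b86001)],[(nat_lit 0xc41001),(nat_lit 0xc56001),(nat_lit 0x24cd001),(nat_lit 0xc27001),(nat_lit 0x2583001),(nat_lit 0xc26001),(nat_lit 0x2585001)],[(nat_lit 0xc51706b87002),(nat_lit 0x6b88001),(nat_lit 0x6b89001),(nat_lit 0x6b8a001),(nat_lit 0x6b8b001),(nat_lit 0xc51406b8c002),(nat_lit 0x24aa001)],[(nat_lit 0xc43304ae6002),(nat_lit 0xc44306cf1002),(nat_lit 0xbccc06cf2002),(nat_lit 0xc41706cf4002),(nat_lit 0xbccd06cf7002),(nat_lit 0xc44604ae7002),(nat_lit 0x24fa001)],[(nat_lit 0x6d01001),(nat_lit 0x24fc001),(nat_lit 0x6d02001),(nat_lit 0x253d001),(nat_lit 0x2568001),(nat_lit 0x256a001),(nat_lit 0x6d03001)],[(nat_lit 0x253a001),(nat_lit 0xc4b806d07002),(nat_lit 0x24fd001),(nat_lit 0xc4b104c76002),(nat_lit 0x256c001),(nat_lit 0xc4440256e002),(nat_lit 0xa63906d08002)],[(nat_lit 0x253c001),(nat_lit 0x253e001),(nat_lit 0x6d0c001),(nat_lit 0x24fe001),(nat_lit 0x4ca0001),(nat_lit 0x2570001),(nat_lit 0x6d0d001)],[(nat_lit 0x2565001),(nat_lit 0x2569001),(nat_lit 0x256d001),(nat_lit 0x6e10001),(nat_lit 0x2537001),(nat_lit 0x6e11001),(nat_lit 0x6e12001)],[(nat_lit 0x1d17001),(nat_lit 0x1d3b001),(nat_lit 0x1d18001),(nat_lit 0x1d4c001),(nat_lit 0x1d36001),(nat_lit 0x1d4e001),(nat_lit 0x5219001)],[(nat_lit 0x1d4d001),(nat_lit 0xa6c001),(nat_lit 0x212e001),(nat_lit 0xa6b001),(nat_lit 0x2123001),(nat_lit 0xaa3001),(nat_lit 0x212f001)],[(nat_lit 0x1d4f001),(nat_lit 0x8be001),(nat_lit 0x8bf001),(nat_lit 0xaa1001),(nat_lit 0xaa4001),(nat_lit 0x8c0001),(nat_lit 0x1d6f001)],[(nat_lit 0x1aa000521a002),(nat_lit 0x521b001),(nat_lit 0x521c001),(nat_lit 0x521d001),(nat_lit 0x521e001),(nat_lit 0x1a9f20521f002),(nat_lit 0x1d19001)],[(nat_lit 0xa7b001),(nat_lit 0x18b2001),(nat_lit 0xa68001),(nat_lit 0xa67001),(nat_lit 0x2125001),(nat_lit 0xa78001),(nat_lit 0x1790001)],[(nat_lit 0x2122001),(nat_lit 0x2124001),(nat_lit 0x2126001),(nat_lit 0x2100001),(nat_lit 0x20ea001),(nat_lit 0x600b001),(nat_lit 0x600c001)],[(nat_lit 0xa98001),(nat_lit 0xaa2001),(nat_lit 0xa77001),(nat_lit 0xa6e001),(nat_lit 0x2130001),(nat_lit 0xa6d001),(nat_lit 0x17c4001)],[(nat_lit 0x179d001),(nat_lit 0x17c6001),(nat_lit 0x17e6001),(nat_lit 0x1794001),(nat_lit 0x17c7001),(nat_lit 0x17c3001),(nat_lit 0x1795001)],[(nat_lit 0x4d8001),(nat_lit 0xaa5001),(nat_lit 0x2d3001),(nat_lit 0xe41001),(nat_lit 0x2d2001),(nat_lit 0x7cf001),(nat_lit 0xe42001)],[(nat_lit 0xbc0001),(nat_lit 0x1c1f001),(nat_lit 0xbda00bbc002),(nat_lit 0xb8d001),(nat_lit 0xbf5001),(nat_lit 0xbe5001),(nat_lit 0xaa0001)],[(nat_lit 0x20ef001),(nat_lit 0x20ee001),(nat_lit 0x2e78001),(nat_lit 0x20f0001),(nat_lit 0x2127001),(nat_lit 0x20f1001),(nat_lit 0x6011001)],[(nat_lit 0xbdf001),(nat_lit 0xf28001),(nat_lit 0xbe1001),(nat_lit 0xbd4001),(nat_lit 0x1aab001),(nat_lit 0xbe0001),(nat_lit 0x751001)],[(nat_lit 0xcb3001),(nat_lit 0x1c49001),(nat_lit 0xcb2001),(nat_lit 0xcb4001),(nat_lit 0xcc0001),(nat_lit 0xcb5001),(nat_lit 0xcbf001)],[(nat_lit 0x1cf2001),(nat_lit 0x2129001),(nat_lit 0x1acb001),(nat_lit 0x1acc001),(nat_lit 0x1aca001),(nat_lit 0x20f2001),(nat_lit 0x49a8001)],[(nat_lit 0x259d02367002),(nat_lit 0x2368001),(nat_lit 0x259902369002),(nat_lit 0x236a001),(nat_lit 0x236b001),(nat_lit 0x25a00236c002),(nat_lit 0xaf5001)],[(nat_lit 0x1bb9001),(nat_lit 0x15d000a88002),(nat_lit 0x1737001),(nat_lit 0x14f0001),(nat_lit 0x15d8001),(nat_lit 0xa87001),(nat_lit 0x21bd001)],[(nat_lit 0x155801531002),(nat_lit 0x1650001),(nat_lit 0x15d000a8c002),(nat_lit 0x15cb001),(nat_lit 0x15d1001),(nat_lit 0xa8b001),(nat_lit 0x154f001)],[(nat_lit 0xe3a001),(nat_lit 0xe3c001),(nat_lit 0xe3e001),(nat_lit 0x2b70001),(nat_lit 0xe2d001),(nat_lit 0x2147001),(nat_lit 0x2b71001)],[(nat_lit 0x1b56001),(nat_lit 0x1b55001),(nat_lit 0x20f6001),(nat_lit 0x1b57001),(nat_lit 0x20f8001),(nat_lit 0x1bbb001),(nat_lit 0x178c104b99002)],[(nat_lit 0x20f7001),(nat_lit 0x1845001),(nat_lit 0x1844001),(nat_lit 0x26e6001),(nat_lit 0x20fb001),(nat_lit 0x1846001),(nat_lit 0x410c001)],[(nat_lit 0x20f9001),(nat_lit 0xa86001),(nat_lit 0x20fc001),(nat_lit 0x20ff001),(nat_lit 0xa85001),(nat_lit 0x2172001),(nat_lit 0x21b0001)],[(nat_lit 0x1abfb0601b002),(nat_lit 0x99b530601c002),(nat_lit 0x601d001),(nat_lit 0x17a0f0601e002),(nat_lit 0x99b550601f002),(nat_lit 0x1abb206020002),(nat_lit 0x20f5001)],[(nat_lit 0x251f001),(nat_lit 0x1839001),(nat_lit 0x183d001),(nat_lit 0x183a001),(nat_lit 0x183b001),(nat_lit 0x183c001),(nat_lit 0x4108001)],[(nat_lit 0x74e001),(nat_lit 0xf30001),(nat_lit 0x74f001),(nat_lit 0xf34001),(nat_lit 0xf0e001),(nat_lit 0x74d001),(nat_lit 0x152f001)],[(nat_lit 0x1b83001),(nat_lit 0x20fe001),(nat_lit 0x2504001),(nat_lit 0x1b84001),(nat_lit 0x1b82001),(nat_lit 0x2174001),(nat_lit 0xc43f0364d002)],[(nat_lit 0x2170001),(nat_lit 0x2173001),(nat_lit 0x2136001),(nat_lit 0x2175001),(nat_lit 0x2145001),(nat_lit 0x2135001),(nat_lit 0x60fe001)],[(nat_lit 0xc50006102002),(nat_lit 0x6103001),(nat_lit 0xa64f06104002),(nat_lit 0xc53906105002),(nat_lit 0x6106001),(nat_lit 0xc48206107002),(nat_lit 0x2137001)],[(nat_lit 0xd26001),(nat_lit 0xd72001),(nat_lit 0xddc001),(nat_lit 0xda6001),(nat_lit 0xddf001),(nat_lit 0xd25001),(nat_lit 0x281c001)],[(nat_lit 0xddd001),(nat_lit 0xd76001),(nat_lit 0xd3c001),(nat_lit 0x280b001),(nat_lit 0xde1001),(nat_lit 0xd3b001),(nat_lit 0x2831001)],[(nat_lit 0x2058017df002),(nat_lit 0x205900ae1002),(nat_lit 0x205a001),(nat_lit 0x202500ae0002),(nat_lit 0x205b017e0002),(nat_lit 0x205c017e1002),(nat_lit 0x2303001)],[(nat_lit 0x205d001),(nat_lit 0xae3001),(nat_lit 0x205e001),(nat_lit 0x22a6001),(nat_lit 0x202500ae2002),(nat_lit 0x205f001),(nat_lit 0x9dee102309002)],[(nat_lit 0x20fbc02a6d002),(nat_lit 0x20ff402a6e002),(nat_lit 0x20fc202a6f002),(nat_lit 0x20ffe02a70002),(nat_lit 0x2a71001),(nat_lit 0x2100002a72002),(nat_lit 0xddb001)],[(nat_lit 0x1f7b001),(nat_lit 0xd44001),(nat_lit 0xd77001),(nat_lit 0xde8001),(nat_lit 0xdeb001),(nat_lit 0xd43001),(nat_lit 0x287e001)],[(nat_lit 0xa47001),(nat_lit 0x170b001),(nat_lit 0x200201fbb002),(nat_lit 0x16fe00a46002),(nat_lit 0x1fbe001),(nat_lit 0x170c001),(nat_lit 0x200d01fd3002)],[(nat_lit 0xa49001),(nat_lit 0x170d001),(nat_lit 0x20280170e002),(nat_lit 0x1fd4001),(nat_lit 0x16fe00a48002),(nat_lit 0x170f001),(nat_lit 0x1fd6001)],[(nat_lit 0xabc001),(nat_lit 0x2242001),(nat_lit 0x172200abb002),(nat_lit 0x2061001),(nat_lit 0x172f001),(nat_lit 0x1730001),(nat_lit 0x2063001)],[(nat_lit 0xac0001),(nat_lit 0x1731001),(nat_lit 0x1732001),(nat_lit 0x2102001),(nat_lit 0x172200abf002),(nat_lit 0x2265001),(nat_lit 0x2272001)],[(nat_lit 0x20cf001),(nat_lit 0x22a5001),(nat_lit 0x5f3d001),(nat_lit 0x20ce001),(nat_lit 0x2104001),(nat_lit 0x2300001),(nat_lit 0x5f40001)],[(nat_lit 0xd7f001),(nat_lit 0xd85001),(nat_lit 0xd99001),(nat_lit 0x2302001),(nat_lit 0xd63001),(nat_lit 0x202800d64002),(nat_lit 0x28f0001)],[(nat_lit 0x5188a066b8002),(nat_lit 0x66b9001),(nat_lit 0x4b053066ba002),(nat_lit 0x51790066bb002),(nat_lit 0x5188b066bc002),(nat_lit 0x51882066bd002),(nat_lit 0x22ff001)],[(nat_lit 0xd38001),(nat_lit 0x282a001),(nat_lit 0xd37001),(nat_lit 0x2806001),(nat_lit 0xdd1001),(nat_lit 0xdde001),(nat_lit 0x282b001)],[(nat_lit 0xd22001),(nat_lit 0xd4b001),(nat_lit 0xda0001),(nat_lit 0xd21001),(nat_lit 0xda2001),(nat_lit 0xda4001),(nat_lit 0x2811001)],[(nat_lit 0xd24001),(nat_lit 0xd5b001),(nat_lit 0xdcf001),(nat_lit 0xdd2001),(nat_lit 0xd23001),(nat_lit 0xdd4001),(nat_lit 0x2815001)],[(nat_lit 0x2104f07956002),(nat_lit 0x17a4f07957002),(nat_lit 0x20fc507958002),(nat_lit 0x17a4307959002),(nat_lit 0x210060795a002),(nat_lit 0x210070795b002),(nat_lit 0x27e2001)],[(nat_lit 0x2823001),(nat_lit 0xd2d001),(nat_lit 0xd2e001),(nat_lit 0x2808001),(nat_lit 0xd5f001),(nat_lit 0xd78001),(nat_lit 0x2827001)],[(nat_lit 0x2807001),(nat_lit 0x2809001),(nat_lit 0x7a7f001),(nat_lit 0x27f1001),(nat_lit 0x7a81001),(nat_lit 0x280a001),(nat_lit 0x7a82001)],[(nat_lit 0xdd0001),(nat_lit 0xd5d001),(nat_lit 0xd3a001),(nat_lit 0x282c001),(nat_lit 0xd39001),(nat_lit 0xdd6001),(nat_lit 0x282d001)],[(nat_lit 0x1aa4007a86002),(nat_lit 0x7a87001),(nat_lit 0x7a88001),(nat_lit 0x7a89001),(nat_lit 0x7a8a001),(nat_lit 0x1aaaf07a8b002),(nat_lit 0x27f2001)],[(nat_lit 0xda1001),(nat_lit 0x224c001),(nat_lit 0xd97001),(nat_lit 0x2951001),(nat_lit 0xda7001),(nat_lit 0xda9001),(nat_lit 0x2953001)],[(nat_lit 0xda3001),(nat_lit 0xd52001),(nat_lit 0xda8001),(nat_lit 0xd81001),(nat_lit 0xd51001),(nat_lit 0x22ec001),(nat_lit 0x28a8001)],[(nat_lit 0x211680298b002),(nat_lit 0x298c001),(nat_lit 0x298d001),(nat_lit 0x298e001),(nat_lit 0x298f001),(nat_lit 0x2116d02990002),(nat_lit 0xd9f001)],[(nat_lit 0xdd3001),(nat_lit 0xd6a001),(nat_lit 0x28f7001),(nat_lit 0xd69001),(nat_lit 0xd83001),(nat_lit 0xdd8001),(nat_lit 0x28f8001)],[(nat_lit 0xdd5001),(nat_lit 0xd6c001),(nat_lit 0xdd7001),(nat_lit 0xdda001),(nat_lit 0xd84001),(nat_lit 0xd6b001),(nat_lit 0x28f9001)],[(nat_lit 0x51a52029f2002),(nat_lit 0x29f3001),(nat_lit 0x2a20001),(nat_lit 0x2a21001),(nat_lit 0x2a22001),(nat_lit 0x519cb02a23002),(nat_lit 0xdc4001)],[(nat_lit 0x7ad9001),(nat_lit 0x280c001),(nat_lit 0x7ada001),(nat_lit 0x2842001),(nat_lit 0x2844001),(nat_lit 0x2846001),(nat_lit 0x7adb001)],[(nat_lit 0x283b001),(nat_lit 0x7adf001),(nat_lit 0x280d001),(nat_lit 0x7ae0001),(nat_lit 0x2848001),(nat_lit 0x284a001),(nat_lit 0x7ae1001)],[(nat_lit 0x210030283d002),(nat_lit 0x2843001),(nat_lit 0x2104907ae2002),(nat_lit 0x280e001),(nat_lit 0x2104c07ae3002),(nat_lit 0x284c001),(nat_lit 0x17add07ae4002)],[(nat_lit 0x283f001),(nat_lit 0x2845001),(nat_lit 0x2849001),(nat_lit 0x7ae5001),(nat_lit 0x280f001),(nat_lit 0x7ae6001),(nat_lit 0x7ae7001)],[(nat_lit 0x1fea001),(nat_lit 0x1fe9001),(nat_lit 0x2822001),(nat_lit 0x20ba001),(nat_lit 0x20cd001),(nat_lit 0x1feb001),(nat_lit 0x5eed001)],[(nat_lit 0x20b7001),(nat_lit 0x16f700d40002),(nat_lit 0x200f01802002),(nat_lit 0xd3f001),(nat_lit 0x278c001),(nat_lit 0xdea001),(nat_lit 0x2832001)],[(nat_lit 0x20cc001),(nat_lit 0xd42001),(nat_lit 0xd5e001),(nat_lit 0xdf7001),(nat_lit 0xd41001),(nat_lit 0xde5001),(nat_lit 0x2876001)],[(nat_lit 0x1914a07bc3002),(nat_lit 0x7bc4001),(nat_lit 0x7bc5001),(nat_lit 0x9c8ed07bc6002),(nat_lit 0x7bc7001),(nat_lit 0x1912107bc8002),(nat_lit 0x2821001)],[(nat_lit 0x200401fc5002),(nat_lit 0x1801001),(nat_lit 0x1800001),(nat_lit 0x180d001),(nat_lit 0x2513001),(nat_lit 0x200201fbd002),(nat_lit 0x17ff001)],[(nat_lit 0x20d5001),(nat_lit 0x278d001),(nat_lit 0x2511001),(nat_lit 0x2105001),(nat_lit 0x20d4001),(nat_lit 0x4989001),(nat_lit 0x5fe9001)],[(nat_lit 0xdf6001),(nat_lit 0xdf8001),(nat_lit 0x25a1001),(nat_lit 0xde3001),(nat_lit 0x2107001),(nat_lit 0xdf9001),(nat_lit 0x2a7c001)],[(nat_lit 0xdbb001),(nat_lit 0xde6001),(nat_lit 0xd6e001),(nat_lit 0xdfa001),(nat_lit 0xd98001),(nat_lit 0xd6d001),(nat_lit 0x28fa001)],[(nat_lit 0x4ccc102a81002),(nat_lit 0x2a82001),(nat_lit 0x2a83001),(nat_lit 0x2ab2001),(nat_lit 0x2ab3001),(nat_lit 0x4ccc602ab4002),(nat_lit 0xde4001)],[(nat_lit 0x2c5001),(nat_lit 0x2c6001),(nat_lit 0x6bd00343002),(nat_lit 0x516001),(nat_lit 0x6bd00344002),(nat_lit 0x2c7001),(nat_lit 0xe28001)],[(nat_lit 0x4eb001),(nat_lit 0x515001),(nat_lit 0xa5a001),(nat_lit 0x4ec001),(nat_lit 0xa5d001),(nat_lit 0x4ea001),(nat_lit 0x1530001)],[(nat_lit 0x3be5001),(nat_lit 0x223d001),(nat_lit 0x224d001),(nat_lit 0x2297001),(nat_lit 0x2894001),(nat_lit 0x2243001),(nat_lit 0x223e001)],[(nat_lit 0x2090001),(nat_lit 0x2294001),(nat_lit 0x1791001),(nat_lit 0x16f5001),(nat_lit 0x17fc001),(nat_lit 0x208f001),(nat_lit 0x16f6001)],[(nat_lit 0xd92001),(nat_lit 0x2895001),(nat_lit 0xd54001),(nat_lit 0x2062017fd002),(nat_lit 0xd53001),(nat_lit 0x22f9001),(nat_lit 0x28b1001)],[(nat_lit 0x550001),(nat_lit 0xe5a001),(nat_lit 0x31e001),(nat_lit 0xc09001),(nat_lit 0x31d001),(nat_lit 0x555001),(nat_lit 0x171a00f39002)],[(nat_lit 0xd7c001),(nat_lit 0xd82001),(nat_lit 0x28d5001),(nat_lit 0xd61001),(nat_lit 0xd62001),(nat_lit 0x2898001),(nat_lit 0x28ef001)],[(nat_lit 0x22a2001),(nat_lit 0x22ed001),(nat_lit 0x22f8001),(nat_lit 0x2899001),(nat_lit 0x22a3001),(nat_lit 0x22a1001),(nat_lit 0x65af001)],[(nat_lit 0xc5ed07db2002),(nat_lit 0x7db3001),(nat_lit 0x7db4001),(nat_lit 0x7de407db5002),(nat_lit 0x7db6001),(nat_lit 0xc5f407db7002),(nat_lit 0x2897001)],[(nat_lit 0x352001),(nat_lit 0xab9001),(nat_lit 0x353001),(nat_lit 0xace001),(nat_lit 0xa9a001),(nat_lit 0x351001),(nat_lit 0xf84001)],[(nat_lit 0x2cc001),(nat_lit 0x6f400340002),(nat_lit 0xa9c001),(nat_lit 0x6f400341002),(nat_lit 0x2cb001),(nat_lit 0x2cd001),(nat_lit 0xe40001)],[(nat_lit 0x28d3001),(nat_lit 0x7e7b001),(nat_lit 0x28b2001),(nat_lit 0x697b001),(nat_lit 0x28d4001),(nat_lit 0x28d6001),(nat_lit 0x7e7c001)],[(nat_lit 0xdbe001),(nat_lit 0xdd9001),(nat_lit 0x28d7001),(nat_lit 0xd70001),(nat_lit 0x28ff001),(nat_lit 0xd6f001),(nat_lit 0x2900001)],[(nat_lit 0x5180a07e7f002),(nat_lit 0x7e80001),(nat_lit 0x7e81001),(nat_lit 0x7e82001),(nat_lit 0x1f75907e83002),(nat_lit 0x5176407e84002),(nat_lit 0x28b3001)],[(nat_lit 0x4e83e07e85002),(nat_lit 0x4daae07e86002),(nat_lit 0x4b17d07e87002),(nat_lit 0x4da7307e88002),(nat_lit 0x4b17f07e89002),(nat_lit 0x4db5207e8a002),(nat_lit 0x28b4001)],[(nat_lit 0x7e94001),(nat_lit 0x28b6001),(nat_lit 0x7e95001),(nat_lit 0x28e0001),(nat_lit 0x28e2001),(nat_lit 0x28e4001),(nat_lit 0x7e96001)],[(nat_lit 0x28d9001),(nat_lit 0x4db6607e9a002),(nat_lit 0x28b7001),(nat_lit 0x4db6707e9b002),(nat_lit 0x28e6001),(nat_lit 0x4daba028e8002),(nat_lit 0x4b18807e9c002)],[(nat_lit 0x28db001),(nat_lit 0x28e1001),(nat_lit 0x7e9d001),(nat_lit 0x28b8001),(nat_lit 0x7e9e001),(nat_lit 0x28ea001),(nat_lit 0x7e9f001)],[(nat_lit 0x28dd001),(nat_lit 0x28e3001),(nat_lit 0x28e7001),(nat_lit 0x9c78207ea0002),(nat_lit 0x28b9001),(nat_lit 0x9b1fe07ea1002),(nat_lit 0x7ea2001)],[(nat_lit 0x118c001),(nat_lit 0x1182001),(nat_lit 0x118a001),(nat_lit 0x11a1001),(nat_lit 0x11a5001),(nat_lit 0x1183001),(nat_lit 0x1a1b001)],[(nat_lit 0x1121001),(nat_lit 0x11a2001),(nat_lit 0x12b9001),(nat_lit 0x1120001),(nat_lit 0x3377001),(nat_lit 0x11a4001),(nat_lit 0x1293001)],[(nat_lit 0x459001),(nat_lit 0x11a6001),(nat_lit 0x458001),(nat_lit 0x11cb001),(nat_lit 0x45a001),(nat_lit 0x111a001),(nat_lit 0x12ae001)],[(nat_lit 0x138b001),(nat_lit 0x24f1001),(nat_lit 0x1388001),(nat_lit 0x1387001),(nat_lit 0x33ac001),(nat_lit 0x138c001),(nat_lit 0x11a0001)],[(nat_lit 0x45c001),(nat_lit 0x117a010fc002),(nat_lit 0x1223001),(nat_lit 0x45b001),(nat_lit 0xf92001),(nat_lit 0x111d001),(nat_lit 0x12b8001)],[(nat_lit 0x45e001),(nat_lit 0x117b010ff002),(nat_lit 0x111c001),(nat_lit 0x111f001),(nat_lit 0x117701108002),(nat_lit 0x45d001),(nat_lit 0xc3f6012e7002)],[(nat_lit 0x329f203388002),(nat_lit 0x3389001),(nat_lit 0x329fa0338a002),(nat_lit 0x329d2033b4002),(nat_lit 0x329fb033b5002),(nat_lit 0x329fc033b6002),(nat_lit 0x1119001)],[(nat_lit 0x128f001),(nat_lit 0x1189001),(nat_lit 0x118a001),(nat_lit 0x12f8001),(nat_lit 0x11bf001),(nat_lit 0x118b001),(nat_lit 0x338d001)],[(nat_lit 0xf8e001),(nat_lit 0x11bd001),(nat_lit 0x116f00f8d002),(nat_lit 0x130f001),(nat_lit 0xf8f001),(nat_lit 0x11f2001),(nat_lit 0x2f97001)],[(nat_lit 0x119e001),(nat_lit 0x409001),(nat_lit 0x40a001),(nat_lit 0x11cd001),(nat_lit 0x40b001),(nat_lit 0x11a9001),(nat_lit 0x11fa001)],[(nat_lit 0x13e5001),(nat_lit 0x25dd001),(nat_lit 0x13e6001),(nat_lit 0x13e4001),(nat_lit 0x3379001),(nat_lit 0x13e7001),(nat_lit 0x13e8001)],[(nat_lit 0x3378001),(nat_lit 0x191a001),(nat_lit 0x337a001),(nat_lit 0x193c001),(nat_lit 0x1919001),(nat_lit 0x3b66001),(nat_lit 0x165fc0444d002)],[(nat_lit 0x13bb001),(nat_lit 0x2720001),(nat_lit 0x13ba001),(nat_lit 0x13e4001),(nat_lit 0x2608001),(nat_lit 0x13bc001),(nat_lit 0x13b9001)],[(nat_lit 0x11cc001),(nat_lit 0x11ce001),(nat_lit 0x33df001),(nat_lit 0x11a7001),(nat_lit 0x193e001),(nat_lit 0x11cf001),(nat_lit 0x33e0001)],[(nat_lit 0x111b001),(nat_lit 0x11aa001),(nat_lit 0x460001),(nat_lit 0x11d0001),(nat_lit 0x117501111002),(nat_lit 0x45f001),(nat_lit 0x12ec001)],[(nat_lit 0xf760033e1002),(nat_lit 0x33e2001),(nat_lit 0x33e3001),(nat_lit 0x33e4001),(nat_lit 0x33e5001),(nat_lit 0xf76b033e6002),(nat_lit 0x11a8001)],[(nat_lit 0x3480001),(nat_lit 0x337b001),(nat_lit 0x339d001),(nat_lit 0x337c001),(nat_lit 0x33af001),(nat_lit 0x337d001),(nat_lit 0x337e001)],[(nat_lit 0x13ac001),(nat_lit 0x24d8001),(nat_lit 0x13ad001),(nat_lit 0x13ab001),(nat_lit 0x33b1001),(nat_lit 0x13ae001),(nat_lit 0x13af001)],[(nat_lit 0x12a3001),(nat_lit 0x2561001),(nat_lit 0x1369012a2002),(nat_lit 0x137b001),(nat_lit 0x3374001),(nat_lit 0x137d001),(nat_lit 0x13af001)],[(nat_lit 0x33ad001),(nat_lit 0x33b0001),(nat_lit 0x33b3001),(nat_lit 0x39c0001),(nat_lit 0x3380001),(nat_lit 0xb4d8001),(nat_lit 0x32cfd0b4dc002)],[(nat_lit 0x1224001),(nat_lit 0x3485001),(nat_lit 0x120a001),(nat_lit 0x35b5001),(nat_lit 0x1225001),(nat_lit 0x1227001),(nat_lit 0x35b6001)],[(nat_lit 0x111e001),(nat_lit 0x462001),(nat_lit 0x1228001),(nat_lit 0x463001),(nat_lit 0x1236001),(nat_lit 0x461001),(nat_lit 0x12f1001)],[(nat_lit 0x30da003641002),(nat_lit 0x3642001),(nat_lit 0x3643001),(nat_lit 0x3644001),(nat_lit 0x3645001),(nat_lit 0x30d9d03646002),(nat_lit 0x1222001)],[(nat_lit 0x32a720368d002),(nat_lit 0x32a730368e002),(nat_lit 0x329ec0368f002),(nat_lit 0x329f303690002),(nat_lit 0x3691001),(nat_lit 0x32a7503692002),(nat_lit 0x1229001)],[(nat_lit 0x382d001),(nat_lit 0x12a9001),(nat_lit 0x382e001),(nat_lit 0x12d8001),(nat_lit 0x12da001),(nat_lit 0x12dc001),(nat_lit 0x382f001)],[(nat_lit 0x12d1001),(nat_lit 0x3833001),(nat_lit 0x12aa001),(nat_lit 0x3834001),(nat_lit 0x12de001),(nat_lit 0x12e0001),(nat_lit 0x1038c03835002)],[(nat_lit 0x12d3001),(nat_lit 0x12d9001),(nat_lit 0x3836001),(nat_lit 0x12ab001),(nat_lit 0x3837001),(nat_lit 0x12e2001),(nat_lit 0x3838001)],[(nat_lit 0x12d5001),(nat_lit 0x12db001),(nat_lit 0x12df001),(nat_lit 0x3839001),(nat_lit 0x12ac001),(nat_lit 0x383a001),(nat_lit 0x383b001)],[(nat_lit 0x1242001),(nat_lit 0x1290001),(nat_lit 0x1241001),(nat_lit 0x1257001),(nat_lit 0x124b001),(nat_lit 0x1243001),(nat_lit 0x1298001)],[(nat_lit 0x124a001),(nat_lit 0xf7c001),(nat_lit 0x114d00f7d002),(nat_lit 0x1311001),(nat_lit 0x114c00f7e002),(nat_lit 0x1209001),(nat_lit 0x2f7d001)],[(nat_lit 0x1980001),(nat_lit 0x1981001),(nat_lit 0x19830197f002),(nat_lit 0x1992001),(nat_lit 0x19c2001),(nat_lit 0x1982001),(nat_lit 0x1989001)],[(nat_lit 0x13bb001),(nat_lit 0x1360001),(nat_lit 0x1294001),(nat_lit 0x12bb001),(nat_lit 0x3385001),(nat_lit 0x1295001),(nat_lit 0x1293001)],[(nat_lit 0x2604001),(nat_lit 0x2605001),(nat_lit 0x3387001),(nat_lit 0x2631001),(nat_lit 0x2603001),(nat_lit 0x3b7b001),(nat_lit 0x30f090727e002)],[(nat_lit 0x1310001),(nat_lit 0x1312001),(nat_lit 0x39a0001),(nat_lit 0x12fb001),(nat_lit 0x2634001),(nat_lit 0x1313001),(nat_lit 0x39a1001)],[(nat_lit 0x11f3001),(nat_lit 0x1206001),(nat_lit 0x117200f96002),(nat_lit 0x1314001),(nat_lit 0x117901103002),(nat_lit 0xf95001),(nat_lit 0x2fc2001)],[(nat_lit 0x32c60039a2002),(nat_lit 0x39a3001),(nat_lit 0x39a4001),(nat_lit 0x39a5001),(nat_lit 0x39a6001),(nat_lit 0x32c80039a7002),(nat_lit 0x12fc001)],[(nat_lit 0x1190001),(nat_lit 0x11c3001),(nat_lit 0x11c4001),(nat_lit 0x118f001),(nat_lit 0x1517011d6002),(nat_lit 0x1191001),(nat_lit 0x1414001)],[(nat_lit 0x1193001),(nat_lit 0x11b2001),(nat_lit 0x119f001),(nat_lit 0x1523011d8002),(nat_lit 0x1192001),(nat_lit 0x11d9001),(nat_lit 0x33ce001)],[(nat_lit 0x11da001),(nat_lit 0x475001),(nat_lit 0x11ab001),(nat_lit 0x1524011dd002),(nat_lit 0x11570112b002),(nat_lit 0x474001),(nat_lit 0x1307001)],[(nat_lit 0xf2de033e8002),(nat_lit 0x33e9001),(nat_lit 0x33ea001),(nat_lit 0x33eb001),(nat_lit 0x33ec001),(nat_lit 0xf2c7033ed002),(nat_lit 0x11ae001)],[(nat_lit 0x1960001),(nat_lit 0x198301961002),(nat_lit 0x1962001),(nat_lit 0x198301963002),(nat_lit 0x199e001),(nat_lit 0x1964001),(nat_lit 0x19c6001)],[(nat_lit 0x198b001),(nat_lit 0x199c001),(nat_lit 0x19bf001),(nat_lit 0x19da001),(nat_lit 0x198a001),(nat_lit 0x19dc001),(nat_lit 0x4514001)],[(nat_lit 0xef3903693002),(nat_lit 0xeeb503694002),(nat_lit 0xeeb603695002),(nat_lit 0xee8e03696002),(nat_lit 0x3697001),(nat_lit 0xeeb803698002),(nat_lit 0x122a001)],[(nat_lit 0x39b1001),(nat_lit 0x1302001),(nat_lit 0x39b2001),(nat_lit 0x131c001),(nat_lit 0x131e001),(nat_lit 0x1320001),(nat_lit 0x39b3001)],[(nat_lit 0x1316001),(nat_lit 0x39b7001),(nat_lit 0x1303001),(nat_lit 0x3a13001),(nat_lit 0x1322001),(nat_lit 0x1324001),(nat_lit 0xbfd303a14002)],[(nat_lit 0x1318001),(nat_lit 0x131d001),(nat_lit 0x3a19001),(nat_lit 0x1304001),(nat_lit 0x3a1a001),(nat_lit 0x1326001),(nat_lit 0x3a1b001)],[(nat_lit 0x131a001),(nat_lit 0x131f001),(nat_lit 0x1323001),(nat_lit 0x9dcf803a1c002),(nat_lit 0x1305001),(nat_lit 0x9e89903a1d002),(nat_lit 0x3a1e001)],[(nat_lit 0xbc96001),(nat_lit 0x3474001),(nat_lit 0x3486001),(nat_lit 0x3494001),(nat_lit 0x3496001),(nat_lit 0x3499001),(nat_lit 0xbc97001)],[(nat_lit 0x1220001),(nat_lit 0x3495001),(nat_lit 0x1221001),(nat_lit 0x3477001),(nat_lit 0x1274001),(nat_lit 0x121f001),(nat_lit 0x363c001)],[(nat_lit 0x1220001),(nat_lit 0x349a001),(nat_lit 0x11ea001),(nat_lit 0x3478001),(nat_lit 0x1239001),(nat_lit 0x11e9001),(nat_lit 0x34af001)],[(nat_lit 0xee0e0bc98002),(nat_lit 0xedea0bc9a002),(nat_lit 0x3a27001),(nat_lit 0x3b54001),(nat_lit 0xbc9b001),(nat_lit 0xefe40bc9d002),(nat_lit 0x347a001)],[(nat_lit 0x1233001),(nat_lit 0x1237001),(nat_lit 0x123a001),(nat_lit 0x1230001),(nat_lit 0x122f001),(nat_lit 0x1235001),(nat_lit 0x369a001)],[(nat_lit 0xc42b035d3002),(nat_lit 0xc4650369b002),(nat_lit 0xc4220369c002),(nat_lit 0xc4670369f002),(nat_lit 0x36a2001),(nat_lit 0xc468035d4002),(nat_lit 0x1231001)],[(nat_lit 0xbca8001),(nat_lit 0x347c001),(nat_lit 0xbca9001),(nat_lit 0x34a2001),(nat_lit 0x34f6001),(nat_lit 0x34f8001),(nat_lit 0xbcaa001)],[(nat_lit 0x349f001),(nat_lit 0xc6c80bcb1002),(nat_lit 0x347d001),(nat_lit 0x34e8001),(nat_lit 0x34fa001),(nat_lit 0x34fc001),(nat_lit 0xbcb30bcb2002)],[(nat_lit 0x34a1001),(nat_lit 0x34a3001),(nat_lit 0xc4fd03488002),(nat_lit 0x347e001),(nat_lit 0x6d78001),(nat_lit 0x34ff001),(nat_lit 0xac08001)],[(nat_lit 0x34f5001),(nat_lit 0x34f7001),(nat_lit 0x34fb001),(nat_lit 0x6bd8001),(nat_lit 0x349c001),(nat_lit 0x6bd9001),(nat_lit 0xbd08001)],[(nat_lit 0x3529001),(nat_lit 0xc4d001218002),(nat_lit 0x352d001),(nat_lit 0x34be001),(nat_lit 0xc5a103556002),(nat_lit 0x1217001),(nat_lit 0x3629001)],[(nat_lit 0xc4a6034b7002),(nat_lit 0x34bd001),(nat_lit 0x3546001),(nat_lit 0xc4d00121e002),(nat_lit 0x363a001),(nat_lit 0x121d001),(nat_lit 0x363b001)],[(nat_lit 0xc5770a619002),(nat_lit 0xa61a001),(nat_lit 0x31b4001),(nat_lit 0xab1b001),(nat_lit 0xa60a031b3002),(nat_lit 0xc5a60a61b002),(nat_lit 0xa374b0ab1c002)],[(nat_lit 0x34b9001),(nat_lit 0x34e0001),(nat_lit 0x3522001),(nat_lit 0x3524001),(nat_lit 0x3526001),(nat_lit 0x3528001),(nat_lit 0x329530be44002)],[(nat_lit 0x3523001),(nat_lit 0x34e1001),(nat_lit 0x34ba001),(nat_lit 0xbe4b001),(nat_lit 0x352a001),(nat_lit 0x352c001),(nat_lit 0xbe4c001)],[(nat_lit 0x3525001),(nat_lit 0x1214001),(nat_lit 0xee59035cd002),(nat_lit 0x1213001),(nat_lit 0x3540001),(nat_lit 0x34bc001),(nat_lit 0x35ce001)],[(nat_lit 0x3527001),(nat_lit 0x1216001),(nat_lit 0x352b001),(nat_lit 0x354c001),(nat_lit 0x1215001),(nat_lit 0x354e001),(nat_lit 0x361c001)],[(nat_lit 0x3291c0be50002),(nat_lit 0xbe51001),(nat_lit 0x3291e0be52002),(nat_lit 0xbe53001),(nat_lit 0x329200be54002),(nat_lit 0x329210be55002),(nat_lit 0x34bb001)],[(nat_lit 0xaa82001),(nat_lit 0xc565031b2002),(nat_lit 0xc59e0aa86002),(nat_lit 0xc5620a617002),(nat_lit 0xc5a40a618002),(nat_lit 0x31b1001),(nat_lit 0xab1a001)],[(nat_lit 0xc4c10a60d002),(nat_lit 0xc5620a60e002),(nat_lit 0xc4a10a60f002),(nat_lit 0xc565031b6002),(nat_lit 0xab22001),(nat_lit 0x31b5001),(nat_lit 0xab23001)],[(nat_lit 0xc574034b2002),(nat_lit 0x3534001),(nat_lit 0x121a001),(nat_lit 0x3631001),(nat_lit 0x1219001),(nat_lit 0x3550001),(nat_lit 0x3632001)],[(nat_lit 0x353b001),(nat_lit 0xee5d0be63002),(nat_lit 0x34c1001),(nat_lit 0x34db001),(nat_lit 0x3542001),(nat_lit 0x3544001),(nat_lit 0xbe66001)],[(nat_lit 0x353f001),(nat_lit 0x3541001),(nat_lit 0x3543001),(nat_lit 0x34e3001),(nat_lit 0x34c2001),(nat_lit 0xc4540be67002),(nat_lit 0x34c3001)],[(nat_lit 0xc57c0be6c002),(nat_lit 0xf8940be6e002),(nat_lit 0xac18001),(nat_lit 0xa7c0001),(nat_lit 0xbe6f001),(nat_lit 0xc5480be71002),(nat_lit 0x34c4001)],[(nat_lit 0x3549001),(nat_lit 0x354d001),(nat_lit 0xbe73001),(nat_lit 0x34c5001),(nat_lit 0x34e4001),(nat_lit 0x3552001),(nat_lit 0xbe75001)],[(nat_lit 0x354b001),(nat_lit 0x354f001),(nat_lit 0x3551001),(nat_lit 0x3553001),(nat_lit 0x34e5001),(nat_lit 0x34c6001),(nat_lit 0xbe79001)],[(nat_lit 0x8fc210be80002),(nat_lit 0xbe81001),(nat_lit 0xa13dc0be82002),(nat_lit 0xbe83001),(nat_lit 0xa2cff0be84002),(nat_lit 0x8fc270be85002),(nat_lit 0x34c7001)],[(nat_lit 0x1c9001),(nat_lit 0x690002ed002),(nat_lit 0x54f001),(nat_lit 0x1c8001),(nat_lit 0x1ca001),(nat_lit 0x552001),(nat_lit 0x175b0085c002)],[(nat_lit 0x1cc001),(nat_lit 0x69100538002),(nat_lit 0x717001),(nat_lit 0x554001),(nat_lit 0x69100535002),(nat_lit 0x1cb001),(nat_lit 0xcb600860002)],[(nat_lit 0xbc7001),(nat_lit 0xf24001),(nat_lit 0xbc8001),(nat_lit 0xbda00bbb002),(nat_lit 0xbc9001),(nat_lit 0xbca001),(nat_lit 0x5c8001)],[(nat_lit 0x1960001),(nat_lit 0xb7b00620002),(nat_lit 0x621001),(nat_lit 0x61f001),(nat_lit 0x1916001),(nat_lit 0xb91001),(nat_lit 0x129a001)],[(nat_lit 0x61c001),(nat_lit 0x1917001),(nat_lit 0xb16001),(nat_lit 0x198f001),(nat_lit 0xb780061b002),(nat_lit 0x199f001),(nat_lit 0x19bb001)],[(nat_lit 0x31c001),(nat_lit 0xf11001),(nat_lit 0x31b001),(nat_lit 0xf13001),(nat_lit 0x551001),(nat_lit 0x74d001),(nat_lit 0x154e00f29002)],[(nat_lit 0x319001),(nat_lit 0x69200325002),(nat_lit 0x74f001),(nat_lit 0x31a001),(nat_lit 0x752001),(nat_lit 0x318001),(nat_lit 0xbe4001)],[(nat_lit 0xbf0001),(nat_lit 0xbf1001),(nat_lit 0xbf2001),(nat_lit 0xbf3001),(nat_lit 0xf20001),(nat_lit 0xbf4001),(nat_lit 0x742001)],[(nat_lit 0x1a2f001),(nat_lit 0x1871001),(nat_lit 0x29f5001),(nat_lit 0x1937001),(nat_lit 0x193a001),(nat_lit 0x1870001),(nat_lit 0x41d0001)],[(nat_lit 0x73f001),(nat_lit 0x1938001),(nat_lit 0x175d001),(nat_lit 0x174f0073e002),(nat_lit 0x20d7d01a2d002),(nat_lit 0x175e001),(nat_lit 0x175f001)],[(nat_lit 0x744001),(nat_lit 0x193b001),(nat_lit 0x177501760002),(nat_lit 0x20db601a4a002),(nat_lit 0x174f00743002),(nat_lit 0x1896001),(nat_lit 0x1a72001)],[(nat_lit 0x140f001),(nat_lit 0x1410001),(nat_lit 0x1411001),(nat_lit 0x1412001),(nat_lit 0x190f001),(nat_lit 0x1413001),(nat_lit 0x1414001)],[(nat_lit 0x190c001),(nat_lit 0x1036001),(nat_lit 0x1037001),(nat_lit 0x13a5001),(nat_lit 0x1035001),(nat_lit 0x13d4001),(nat_lit 0x31e5001)],[(nat_lit 0x1071001),(nat_lit 0x13a6001),(nat_lit 0x322b001),(nat_lit 0x1070001),(nat_lit 0x1072001),(nat_lit 0x13d8001),(nat_lit 0x322e001)],[(nat_lit 0x1055001),(nat_lit 0x13d5001),(nat_lit 0x1056001),(nat_lit 0x13da001),(nat_lit 0x1057001),(nat_lit 0x1054001),(nat_lit 0xbfc003205002)],[(nat_lit 0xc017039ae002),(nat_lit 0x3a18001),(nat_lit 0xee6f01325002),(nat_lit 0xbfc203a4a002),(nat_lit 0xbfe603a72002),(nat_lit 0x1324001),(nat_lit 0xee7103aa1002)],[(nat_lit 0x553001),(nat_lit 0x1d1001),(nat_lit 0x556001),(nat_lit 0x1d2001),(nat_lit 0x333001),(nat_lit 0x1d0001),(nat_lit 0x175600862002)],[(nat_lit 0x175b016de002),(nat_lit 0x186d001),(nat_lit 0x16e1001),(nat_lit 0x16df001),(nat_lit 0x193f001),(nat_lit 0x1756016e0002),(nat_lit 0x54e001)],[(nat_lit 0x1c52001),(nat_lit 0x83c001),(nat_lit 0x1c53001),(nat_lit 0x850001),(nat_lit 0x852001),(nat_lit 0x854001),(nat_lit 0x1c54001)],[(nat_lit 0x84d001),(nat_lit 0x853001),(nat_lit 0x857001),(nat_lit 0x1c55001),(nat_lit 0x83f001),(nat_lit 0x1c56001),(nat_lit 0x1c57001)],[(nat_lit 0x1980001),(nat_lit 0x12bc001),(nat_lit 0x1296001),(nat_lit 0x13a9001),(nat_lit 0x195e001),(nat_lit 0x1297001),(nat_lit 0x1298001)],[(nat_lit 0x198b001),(nat_lit 0x70b001),(nat_lit 0x195f001),(nat_lit 0x19a6001),(nat_lit 0x70a001),(nat_lit 0x19a8001),(nat_lit 0x19be001)],[(nat_lit 0x1990001),(nat_lit 0x19a7001),(nat_lit 0x4586001),(nat_lit 0x198c001),(nat_lit 0x1991001),(nat_lit 0x19ae001),(nat_lit 0x4587001)],[(nat_lit 0x19a0001),(nat_lit 0x19a9001),(nat_lit 0x19ac001),(nat_lit 0x19af001),(nat_lit 0x198e001),(nat_lit 0x198d001),(nat_lit 0xef9104588002)],[(nat_lit 0xef900458e002),(nat_lit 0x458f001),(nat_lit 0xb3ae04590002),(nat_lit 0x4591001),(nat_lit 0x4592001),(nat_lit 0xb3b604593002),(nat_lit 0x199a001)],[(nat_lit 0x2be0001),(nat_lit 0xe58001),(nat_lit 0xe59001),(nat_lit 0xf1c001),(nat_lit 0xe5c001),(nat_lit 0xe7b001),(nat_lit 0x2be2001)],[(nat_lit 0xf14001),(nat_lit 0xf1d001),(nat_lit 0xf19001),(nat_lit 0xf09001),(nat_lit 0x1c63001),(nat_lit 0xf1e001),(nat_lit 0x17b7001)],[(nat_lit 0x74e001),(nat_lit 0xe79001),(nat_lit 0x320001),(nat_lit 0xf1f001),(nat_lit 0x756001),(nat_lit 0x31f001),(nat_lit 0x154100f3c002)],[(nat_lit 0x155b001),(nat_lit 0x2177001),(nat_lit 0x15bb00e24002),(nat_lit 0x15de001),(nat_lit 0x15bd001),(nat_lit 0x155500e23002),(nat_lit 0x155c001)],[(nat_lit 0x753001),(nat_lit 0x32d001),(nat_lit 0x757001),(nat_lit 0x6a500336002),(nat_lit 0x32c001),(nat_lit 0x335001),(nat_lit 0xf5c001)],[(nat_lit 0x1c95001),(nat_lit 0xf0b001),(nat_lit 0x2e17001),(nat_lit 0xf23001),(nat_lit 0xf25001),(nat_lit 0xf27001),(nat_lit 0x2e52001)],[(nat_lit 0xf21001),(nat_lit 0xf26001),(nat_lit 0xf0d001),(nat_lit 0x1c99001),(nat_lit 0xf0c001),(nat_lit 0x24d1001),(nat_lit 0x2e60001)],[(nat_lit 0x1a1f001),(nat_lit 0x1a30001),(nat_lit 0x1a3a001),(nat_lit 0x1a3c001),(nat_lit 0x1a3f001),(nat_lit 0x1a41001),(nat_lit 0x470f001)],[(nat_lit 0x1a3b001),(nat_lit 0x17ec001),(nat_lit 0x17eb001),(nat_lit 0x3fc7001),(nat_lit 0x1a21001),(nat_lit 0x17ed001),(nat_lit 0x406e001)],[(nat_lit 0x1a3d001),(nat_lit 0x741001),(nat_lit 0x17cb001),(nat_lit 0x740001),(nat_lit 0x20da201a43002),(nat_lit 0x177b001),(nat_lit 0x1a56001)],[(nat_lit 0x1a40001),(nat_lit 0x746001),(nat_lit 0x1a23001),(nat_lit 0x20e2801a4c002),(nat_lit 0x745001),(nat_lit 0x1a24001),(nat_lit 0x1a79001)],[(nat_lit 0x1aaa504715002),(nat_lit 0x4716001),(nat_lit 0x4717001),(nat_lit 0x4718001),(nat_lit 0x4719001),(nat_lit 0x1ab100471a002),(nat_lit 0x1a20001)],[(nat_lit 0x16e6001),(nat_lit 0x17c8001),(nat_lit 0x1751016ea002),(nat_lit 0x17c1001),(nat_lit 0x1a45001),(nat_lit 0x16eb001),(nat_lit 0xab7001)],[(nat_lit 0x20d7d01a2e002),(nat_lit 0x20da201a44002),(nat_lit 0x1a47001),(nat_lit 0x20da301a31002),(nat_lit 0x1a27001),(nat_lit 0x20da00451b002),(nat_lit 0x4728001)],[(nat_lit 0x553001),(nat_lit 0x761001),(nat_lit 0x85f001),(nat_lit 0x554001),(nat_lit 0x75c001),(nat_lit 0x552001),(nat_lit 0x1751016ee002)],[(nat_lit 0x20db601a4b002),(nat_lit 0x20e2801a4d002),(nat_lit 0x20e2a04730002),(nat_lit 0x1a2b001),(nat_lit 0x20da301a32002),(nat_lit 0x1a4e001),(nat_lit 0x4732001)],[(nat_lit 0x1894001),(nat_lit 0x1a25001),(nat_lit 0x17ef001),(nat_lit 0x1a4f001),(nat_lit 0x17f0001),(nat_lit 0x17ee001),(nat_lit 0x4c8ab0406f002)],[(nat_lit 0x4a26d04733002),(nat_lit 0x4734001),(nat_lit 0x4c88e04735002),(nat_lit 0x4736001),(nat_lit 0x9c79404737002),(nat_lit 0x4c92404738002),(nat_lit 0x1a2c001)],[(nat_lit 0x13b2001),(nat_lit 0x13b3001),(nat_lit 0x13eb001),(nat_lit 0x13b1001),(nat_lit 0x1926001),(nat_lit 0x13b4001),(nat_lit 0x13b0001)],[(nat_lit 0x1909001),(nat_lit 0x190d001),(nat_lit 0x1923001),(nat_lit 0x1927001),(nat_lit 0x1908001),(nat_lit 0x1929001),(nat_lit 0xf418043c4002)],[(nat_lit 0x129e001),(nat_lit 0x3172001),(nat_lit 0x129c001),(nat_lit 0x11e1001),(nat_lit 0x34aa001),(nat_lit 0x11e2001),(nat_lit 0x1284011e3002)],[(nat_lit 0x1924001),(nat_lit 0x1073001),(nat_lit 0x1074001),(nat_lit 0x31fb001),(nat_lit 0x1075001),(nat_lit 0x192c001),(nat_lit 0x322f001)],[(nat_lit 0x19fc001),(nat_lit 0x249d001),(nat_lit 0x19fb001),(nat_lit 0x19fe001),(nat_lit 0x2479001),(nat_lit 0x19fd001),(nat_lit 0x19ff001)],[(nat_lit 0x1928001),(nat_lit 0x107b001),(nat_lit 0x3236001),(nat_lit 0x107a001),(nat_lit 0x13a7001),(nat_lit 0x1930001),(nat_lit 0x3237001)],[(nat_lit 0x192a001),(nat_lit 0x107d001),(nat_lit 0x192e001),(nat_lit 0x1932001),(nat_lit 0x107e001),(nat_lit 0x107c001),(nat_lit 0x323b001)],[(nat_lit 0xf26504460002),(nat_lit 0x4461001),(nat_lit 0xf26104462002),(nat_lit 0x4463001),(nat_lit 0x4464001),(nat_lit 0xf81704465002),(nat_lit 0x1922001)],[(nat_lit 0x135a001),(nat_lit 0x135b001),(nat_lit 0x19fb001),(nat_lit 0x1a00001),(nat_lit 0x245e001),(nat_lit 0x135c001),(nat_lit 0x133d001)],[(nat_lit 0x109d00fca002),(nat_lit 0x24bd001),(nat_lit 0x1341001),(nat_lit 0x135501344002),(nat_lit 0x1348001),(nat_lit 0x10b9001),(nat_lit 0xfc9001)],[(nat_lit 0x19c4001),(nat_lit 0x1a02001),(nat_lit 0x1a03001),(nat_lit 0x19c3001),(nat_lit 0x24d3001),(nat_lit 0x19c5001),(nat_lit 0x19c6001)],[(nat_lit 0x2461001),(nat_lit 0x2460001),(nat_lit 0x2463001),(nat_lit 0x24cb001),(nat_lit 0x2462001),(nat_lit 0x24e4001),(nat_lit 0x6b3e001)],[(nat_lit 0x322c001),(nat_lit 0xabae001),(nat_lit 0x320c001),(nat_lit 0x3244001),(nat_lit 0x322d001),(nat_lit 0x323d001),(nat_lit 0xc4220a633002)],[(nat_lit 0x13d9001),(nat_lit 0x1931001),(nat_lit 0x323c001),(nat_lit 0x1080001),(nat_lit 0x323f001),(nat_lit 0x107f001),(nat_lit 0x32bb001)],[(nat_lit 0xee270abaf002),(nat_lit 0xabb0001),(nat_lit 0xbfba0abb1002),(nat_lit 0xbfd40abb2002),(nat_lit 0xefe90abb3002),(nat_lit 0xedfd0abb4002),(nat_lit 0x320d001)],[(nat_lit 0x1316001),(nat_lit 0xbfd703a8e002),(nat_lit 0xee6501315002),(nat_lit 0xbfbc03a45002),(nat_lit 0xa0573039aa002),(nat_lit 0xc017039ad002),(nat_lit 0xee8003a8f002)],[(nat_lit 0xa05e50abbe002),(nat_lit 0x320f001),(nat_lit 0xa05c50abbf002),(nat_lit 0x3277001),(nat_lit 0x3279001),(nat_lit 0x327b001),(nat_lit 0xabc0001)],[(nat_lit 0xeedf03778002),(nat_lit 0x9fb2303779002),(nat_lit 0xbfdb0377a002),(nat_lit 0xee67037db002),(nat_lit 0xbffa037dc002),(nat_lit 0xeee2037dd002),(nat_lit 0x1272001)],[(nat_lit 0x3272001),(nat_lit 0x3278001),(nat_lit 0xbfbe0abd0002),(nat_lit 0x3211001),(nat_lit 0xabc7001),(nat_lit 0x3281001),(nat_lit 0xabd1001)],[(nat_lit 0x3274001),(nat_lit 0x327a001),(nat_lit 0x327e001),(nat_lit 0xeee30abd2002),(nat_lit 0x3212001),(nat_lit 0xa20460abd3002),(nat_lit 0xabd4001)],[(nat_lit 0x2bcf001),(nat_lit 0xe4a001),(nat_lit 0xe5b001),(nat_lit 0xe67001),(nat_lit 0xe4b001),(nat_lit 0xe69001),(nat_lit 0x2bd2001)],[(nat_lit 0x6b700331002),(nat_lit 0x334001),(nat_lit 0x7da001),(nat_lit 0x6b700332002),(nat_lit 0x32a001),(nat_lit 0x32b001),(nat_lit 0xf57001)],[(nat_lit 0x16c700ed9002),(nat_lit 0xaeb001),(nat_lit 0x16c5016ac002),(nat_lit 0x16ca00aea002),(nat_lit 0xe6d001),(nat_lit 0x16b600e50002),(nat_lit 0x2318001)],[(nat_lit 0x16b400e4e002),(nat_lit 0x16aa001),(nat_lit 0x9c0009a6002),(nat_lit 0x9b6001),(nat_lit 0xe6f001),(nat_lit 0x16b000e53002),(nat_lit 0x8dd001)],[(nat_lit 0x16c300e6c002),(nat_lit 0xe6e001),(nat_lit 0xe70001),(nat_lit 0xebe001),(nat_lit 0xe4c001),(nat_lit 0x2374001),(nat_lit 0xa7cb602bd3002)],[(nat_lit 0x1bfc001),(nat_lit 0x9ef007e7002),(nat_lit 0x1bec001),(nat_lit 0xe49001),(nat_lit 0x1ae9001),(nat_lit 0x7e6001),(nat_lit 0x1c15001)],[(nat_lit 0xa01001),(nat_lit 0x1aea001),(nat_lit 0x7e9001),(nat_lit 0x1c16001),(nat_lit 0x9d3007e8002),(nat_lit 0x1bf0001),(nat_lit 0xa7cae01c18002)],[(nat_lit 0x1bd0001),(nat_lit 0x1bd1001),(nat_lit 0x1bf9001),(nat_lit 0x1bdf001),(nat_lit 0x1be5001),(nat_lit 0x1bfb001),(nat_lit 0x18d8904d63002)],[(nat_lit 0x1bfa001),(nat_lit 0x1beb001),(nat_lit 0x1bd2001),(nat_lit 0x4d64001),(nat_lit 0x1be7001),(nat_lit 0x1bed001),(nat_lit 0x4d65001)],[(nat_lit 0x1be2001),(nat_lit 0x7e5001),(nat_lit 0x1be6001),(nat_lit 0x8f4001),(nat_lit 0x7e4001),(nat_lit 0x1be8001),(nat_lit 0x1c0b001)],[(nat_lit 0x183b004d66002),(nat_lit 0x4d67001),(nat_lit 0x4dc5001),(nat_lit 0x183b404dc6002),(nat_lit 0x4dc7001),(nat_lit 0x18d9004dc8002),(nat_lit 0x1bd3001)],[(nat_lit 0x1bd5001),(nat_lit 0x1be9001),(nat_lit 0x1bf1001),(nat_lit 0x1bd6001),(nat_lit 0x1bee001),(nat_lit 0x1bd4001),(nat_lit 0xaa60e04dc9002)],[(nat_lit 0x1ad7104dca002),(nat_lit 0xa8f5b04dcb002),(nat_lit 0xa9a3e04dcc002),(nat_lit 0xa864204dcd002),(nat_lit 0xa999804dce002),(nat_lit 0xa9a3f04dcf002),(nat_lit 0x1bd7001)],[(nat_lit 0x80a001),(nat_lit 0x9ec00814002),(nat_lit 0x82a001),(nat_lit 0x82d001),(nat_lit 0x809001),(nat_lit 0x82f001),(nat_lit 0xd1a001)],[(nat_lit 0x830001),(nat_lit 0x81b001),(nat_lit 0x833001),(nat_lit 0x836001),(nat_lit 0x9e100821002),(nat_lit 0x81a001),(nat_lit 0xd1e001)],[(nat_lit 0xd18001),(nat_lit 0x1c1b001),(nat_lit 0xc08001),(nat_lit 0xc05001),(nat_lit 0x1c1c001),(nat_lit 0xd1d001),(nat_lit 0x829001)],[(nat_lit 0x1d91001),(nat_lit 0x9c9008df002),(nat_lit 0x1dc8001),(nat_lit 0x8de001),(nat_lit 0x1c38001),(nat_lit 0x8e0001),(nat_lit 0x1ddc001)],[(nat_lit 0x1c1a001),(nat_lit 0x1c39001),(nat_lit 0x1c3c001),(nat_lit 0x1c21001),(nat_lit 0x1c19001),(nat_lit 0x4b15001),(nat_lit 0xa99c104eaa002)],[(nat_lit 0x2bc6001),(nat_lit 0x2bc7001),(nat_lit 0x2be1001),(nat_lit 0x2c27001),(nat_lit 0x2bd1001),(nat_lit 0x2c2a001),(nat_lit 0x8d65001)],[(nat_lit 0x2c28001),(nat_lit 0xe64001),(nat_lit 0x1d82001),(nat_lit 0xe63001),(nat_lit 0x1d31001),(nat_lit 0xe81001),(nat_lit 0x2c51001)],[(nat_lit 0x2c2b001),(nat_lit 0xe66001),(nat_lit 0xe7a001),(nat_lit 0xe7f001),(nat_lit 0xe82001),(nat_lit 0xe65001),(nat_lit 0x2c55001)],[(nat_lit 0x1ab2708d66002),(nat_lit 0x8d67001),(nat_lit 0x8d68001),(nat_lit 0x999dc08d69002),(nat_lit 0x8d6a001),(nat_lit 0x1aaa708d6b002),(nat_lit 0x2bc8001)],[(nat_lit 0x1c61001),(nat_lit 0x1d32001),(nat_lit 0x1d29001),(nat_lit 0x1c62001),(nat_lit 0x1c60001),(nat_lit 0x4bd6001),(nat_lit 0xa8f7f04f85002)],[(nat_lit 0x1641001),(nat_lit 0x15e7001),(nat_lit 0x98e001),(nat_lit 0x98d001),(nat_lit 0x990001),(nat_lit 0x1640001),(nat_lit 0x98f001)],[(nat_lit 0x6b800349002),(nat_lit 0xe83001),(nat_lit 0x32f001),(nat_lit 0x9ab001),(nat_lit 0x32e001),(nat_lit 0x7db001),(nat_lit 0xf5d001)],[(nat_lit 0xb03001),(nat_lit 0x1af0001),(nat_lit 0xb04001),(nat_lit 0xb05001),(nat_lit 0xb02001),(nat_lit 0xb06001),(nat_lit 0xa647a023e1002)],[(nat_lit 0x1eb3001),(nat_lit 0x2ed0001),(nat_lit 0x1eb2001),(nat_lit 0x2bf0001),(nat_lit 0x2d65001),(nat_lit 0x1eb4001),(nat_lit 0xf50001)],[(nat_lit 0x1c08001),(nat_lit 0xe48001),(nat_lit 0xf54001),(nat_lit 0xe49001),(nat_lit 0xf70001),(nat_lit 0xe47001),(nat_lit 0x2bca001)],[(nat_lit 0xf52001),(nat_lit 0xf71001),(nat_lit 0xf75001),(nat_lit 0x1c26001),(nat_lit 0xf51001),(nat_lit 0xf53001),(nat_lit 0xa53f902ed1002)],[(nat_lit 0x1bdd001),(nat_lit 0x1bde001),(nat_lit 0x1c04001),(nat_lit 0x1bdf001),(nat_lit 0x1be0001),(nat_lit 0x1c07001),(nat_lit 0x1745804de6002)],[(nat_lit 0x188fe04de7002),(nat_lit 0x4de8001),(nat_lit 0x4de9001),(nat_lit 0x1780104dea002),(nat_lit 0x4deb001),(nat_lit 0x1899104dec002),(nat_lit 0x1be1001)],[(nat_lit 0xe92001),(nat_lit 0x16d200e9a002),(nat_lit 0xef5001),(nat_lit 0xed5001),(nat_lit 0xef8001),(nat_lit 0xe91001),(nat_lit 0x2d0f001)],[(nat_lit 0x16da001),(nat_lit 0xe77001),(nat_lit 0x16ca00e78002),(nat_lit 0x2cab001),(nat_lit 0xeb1001),(nat_lit 0x16c800e9e002),(nat_lit 0x2cae001)],[(nat_lit 0x16d900efc002),(nat_lit 0xaed001),(nat_lit 0xeb0001),(nat_lit 0xf00001),(nat_lit 0x16ca00aec002),(nat_lit 0x16db00f02002),(nat_lit 0x231f001)],[(nat_lit 0x188cf02df9002),(nat_lit 0x188d802dfa002),(nat_lit 0x1889202dfb002),(nat_lit 0x188db02dfc002),(nat_lit 0x2dfd001),(nat_lit 0x1888f02dfe002),(nat_lit 0xef4001)],[(nat_lit 0x16d600eff002),(nat_lit 0xf01001),(nat_lit 0x2d67001),(nat_lit 0xed7001),(nat_lit 0xed6001),(nat_lit 0xf04001),(nat_lit 0x2daf001)],[(nat_lit 0x16d700ec0002),(nat_lit 0xedf001),(nat_lit 0x16cd00ebc002),(nat_lit 0x16dc001),(nat_lit 0xeba001),(nat_lit 0x16cb00ebb002),(nat_lit 0xab20802d64002)],[(nat_lit 0x16d800ece002),(nat_lit 0xef2001),(nat_lit 0xa99c902d54002),(nat_lit 0xec9001),(nat_lit 0x2d1d001),(nat_lit 0xec8001),(nat_lit 0xa99d202d6b002)],[(nat_lit 0xe8c001),(nat_lit 0x2cff001),(nat_lit 0xe8b001),(nat_lit 0x2ce0001),(nat_lit 0xeea001),(nat_lit 0xef7001),(nat_lit 0x2d01001)],[(nat_lit 0xe8e001),(nat_lit 0x16bd00ea0002),(nat_lit 0xee1001),(nat_lit 0xe8d001),(nat_lit 0xed1001),(nat_lit 0xed3001),(nat_lit 0x2d02001)],[(nat_lit 0xe90001),(nat_lit 0x16d100ead002),(nat_lit 0xee8001),(nat_lit 0xeeb001),(nat_lit 0xe8f001),(nat_lit 0xeed001),(nat_lit 0x2d07001)],[(nat_lit 0x188cb09032002),(nat_lit 0x1782409033002),(nat_lit 0x1888e09034002),(nat_lit 0x177ea09035002),(nat_lit 0x188ce09036002),(nat_lit 0x1894009037002),(nat_lit 0x2ca3001)],[(nat_lit 0x2ce1001),(nat_lit 0x2cac001),(nat_lit 0x2ccb001),(nat_lit 0x2ca9001),(nat_lit 0x903c001),(nat_lit 0x2cad001),(nat_lit 0x9ab470903d002)],[(nat_lit 0xee9001),(nat_lit 0xeaf001),(nat_lit 0xe94001),(nat_lit 0x2d10001),(nat_lit 0xe93001),(nat_lit 0xeef001),(nat_lit 0x2d11001)],[(nat_lit 0x189e00903e002),(nat_lit 0x903f001),(nat_lit 0x9040001),(nat_lit 0x5737001),(nat_lit 0x9041001),(nat_lit 0x18a6609042002),(nat_lit 0x2caa001)],[(nat_lit 0x17af001),(nat_lit 0x17a400db4002),(nat_lit 0x17b0001),(nat_lit 0xdb3001),(nat_lit 0x17b1001),(nat_lit 0x17b2001),(nat_lit 0x29a9001)],[(nat_lit 0xed2001),(nat_lit 0xea5001),(nat_lit 0xee4001),(nat_lit 0xedb001),(nat_lit 0xea4001),(nat_lit 0x23ca001),(nat_lit 0x2d12001)],[(nat_lit 0x18d7802d6e002),(nat_lit 0x2d6f001),(nat_lit 0x2d70001),(nat_lit 0x2d71001),(nat_lit 0x2d72001),(nat_lit 0x18daf02d73002),(nat_lit 0xed0001)],[(nat_lit 0xeec001),(nat_lit 0xec5001),(nat_lit 0x2d68001),(nat_lit 0xec4001),(nat_lit 0xedd001),(nat_lit 0xef1001),(nat_lit 0x2d69001)],[(nat_lit 0xeee001),(nat_lit 0xec7001),(nat_lit 0xef0001),(nat_lit 0xef3001),(nat_lit 0xede001),(nat_lit 0xec6001),(nat_lit 0x2d6a001)],[(nat_lit 0x5b48e02dc1002),(nat_lit 0x2dc2001),(nat_lit 0x2dc3001),(nat_lit 0x2dc4001),(nat_lit 0x2dc5001),(nat_lit 0x5b49f02dc6002),(nat_lit 0xee7001)],[(nat_lit 0x99c58090bf002),(nat_lit 0x2cfa001),(nat_lit 0x90c0001),(nat_lit 0x2d37001),(nat_lit 0x2d39001),(nat_lit 0x2d3b001),(nat_lit 0x9996f090c1002)],[(nat_lit 0x2d30001),(nat_lit 0x90c5001),(nat_lit 0x2cfb001),(nat_lit 0x90c6001),(nat_lit 0x2d3d001),(nat_lit 0x2d3f001),(nat_lit 0x90c7001)],[(nat_lit 0x188cd02d32002),(nat_lit 0x2d38001),(nat_lit 0x188d9090c8002),(nat_lit 0x2cfc001),(nat_lit 0x188da090c9002),(nat_lit 0x2d41001),(nat_lit 0x17459090ca002)],[(nat_lit 0x2d34001),(nat_lit 0x2d3a001),(nat_lit 0x2d3e001),(nat_lit 0x90cb001),(nat_lit 0x2cfd001),(nat_lit 0x90cc001),(nat_lit 0x90cd001)],[(nat_lit 0x1666001),(nat_lit 0x16b0016af002),(nat_lit 0x1665001),(nat_lit 0x17f1001),(nat_lit 0x1863001),(nat_lit 0x16ad001),(nat_lit 0x16e4001)],[(nat_lit 0x17e9001),(nat_lit 0x17f3001),(nat_lit 0xa17001),(nat_lit 0xa16001),(nat_lit 0xa19001),(nat_lit 0x17ea001),(nat_lit 0xa18001)],[(nat_lit 0x16b300ecb002),(nat_lit 0x1865001),(nat_lit 0xea7001),(nat_lit 0xea8001),(nat_lit 0xea6001),(nat_lit 0x2bd7001),(nat_lit 0x1ead001)],[(nat_lit 0x16c200ec3002),(nat_lit 0xedc001),(nat_lit 0xf61001),(nat_lit 0xeb8001),(nat_lit 0xeb9001),(nat_lit 0x2bdd001),(nat_lit 0xa71f402d63002)],[(nat_lit 0x238d001),(nat_lit 0x23cb001),(nat_lit 0x2bd9001),(nat_lit 0x2bdf001),(nat_lit 0x238c001),(nat_lit 0x238e001),(nat_lit 0x238f001)],[(nat_lit 0xaf7001),(nat_lit 0xb08001),(nat_lit 0x1ea6001),(nat_lit 0xaf6001),(nat_lit 0x1d39001),(nat_lit 0xb09001),(nat_lit 0xe57001)],[(nat_lit 0x1e87001),(nat_lit 0xab20a05701002),(nat_lit 0x1e88001),(nat_lit 0xab26b0571e002),(nat_lit 0x1ee3001),(nat_lit 0xa99d401e86002),(nat_lit 0xa99d305721002)],[(nat_lit 0x68b9001),(nat_lit 0xa99d4023d3002),(nat_lit 0x2417001),(nat_lit 0xab2200576c002),(nat_lit 0x23d2001),(nat_lit 0xab20a05700002),(nat_lit 0x691f001)],[(nat_lit 0x1b62202d59002),(nat_lit 0x2d5d001),(nat_lit 0xab221092c3002),(nat_lit 0x2d22001),(nat_lit 0xa9a09092c4002),(nat_lit 0x2d7b001),(nat_lit 0xa9a15092c5002)],[(nat_lit 0x1dd5001),(nat_lit 0x237e001),(nat_lit 0xafc001),(nat_lit 0xafb001),(nat_lit 0xa99d401e71002),(nat_lit 0x1e78001),(nat_lit 0x2381001)],[(nat_lit 0x3039001),(nat_lit 0x1085001),(nat_lit 0x10ce001),(nat_lit 0x1084001),(nat_lit 0x10dd001),(nat_lit 0x1086001),(nat_lit 0x24ff001)],[(nat_lit 0xb3f001),(nat_lit 0x10de001),(nat_lit 0xb40001),(nat_lit 0x10d5001),(nat_lit 0xb3e001),(nat_lit 0x2450001),(nat_lit 0x248b001)],[(nat_lit 0x3065001),(nat_lit 0x3066001),(nat_lit 0x3067001),(nat_lit 0x3068001),(nat_lit 0x315c001),(nat_lit 0x3069001),(nat_lit 0x306b001)],[(nat_lit 0x3008001),(nat_lit 0x10c0001),(nat_lit 0x10ca001),(nat_lit 0x10c1001),(nat_lit 0x10df001),(nat_lit 0x10c2001),(nat_lit 0x1331001)],[(nat_lit 0x315d001),(nat_lit 0x10f7001),(nat_lit 0x10f8001),(nat_lit 0x2455001),(nat_lit 0x10f6001),(nat_lit 0x2458001),(nat_lit 0x336e001)],[(nat_lit 0x24be001),(nat_lit 0x2496001),(nat_lit 0x2495001),(nat_lit 0x24d7001),(nat_lit 0x24da001),(nat_lit 0x2497001),(nat_lit 0x2498001)],[(nat_lit 0x55d001),(nat_lit 0x10e0001),(nat_lit 0x55e001),(nat_lit 0x10e1001),(nat_lit 0x55c001),(nat_lit 0x10bc001),(nat_lit 0x1948001)],[(nat_lit 0x10ef001),(nat_lit 0x2456001),(nat_lit 0x3349001),(nat_lit 0x10ee001),(nat_lit 0x10f0001),(nat_lit 0x245c001),(nat_lit 0x336a001)],[(nat_lit 0x2451001),(nat_lit 0x2459001),(nat_lit 0x23fb001),(nat_lit 0x245d001),(nat_lit 0x23fc001),(nat_lit 0x23fa001),(nat_lit 0x20c2306958002)],[(nat_lit 0xf90c06a90002),(nat_lit 0x20c1c06a91002),(nat_lit 0xdfdd06a92002),(nat_lit 0x20b1b06a93002),(nat_lit 0x6a94001),(nat_lit 0x20c1a06a95002),(nat_lit 0x2454001)],[(nat_lit 0x1d1f001),(nat_lit 0x1d20001),(nat_lit 0x1d35001),(nat_lit 0x1d5e001),(nat_lit 0x1d21001),(nat_lit 0x1d61001),(nat_lit 0x5229001)],[(nat_lit 0x1d5f001),(nat_lit 0x8c5001),(nat_lit 0x1d8a001),(nat_lit 0x8c4001),(nat_lit 0x1b42001),(nat_lit 0x8e0001),(nat_lit 0x1d8b001)],[(nat_lit 0x1d62001),(nat_lit 0x8c7001),(nat_lit 0x8d6001),(nat_lit 0x8de001),(nat_lit 0x8e1001),(nat_lit 0x8c6001),(nat_lit 0x1d94001)],[(nat_lit 0x1815e0522a002),(nat_lit 0x9aade0522b002),(nat_lit 0x119ee0522c002),(nat_lit 0x9be900522d002),(nat_lit 0x9c6960522e002),(nat_lit 0x1812b0522f002),(nat_lit 0x1d22001)],[(nat_lit 0x1b18001),(nat_lit 0x1b43001),(nat_lit 0x1b19001),(nat_lit 0x1b29001),(nat_lit 0x1b17001),(nat_lit 0x4ac7001),(nat_lit 0xa8f6404aca002)],[(nat_lit 0x77b001),(nat_lit 0x8e2001),(nat_lit 0x77c001),(nat_lit 0xb0b001),(nat_lit 0x77a001),(nat_lit 0x77d001),(nat_lit 0xebd001)],[(nat_lit 0x1dd4001),(nat_lit 0x2361001),(nat_lit 0x1e0b01dd3002),(nat_lit 0xafb001),(nat_lit 0x2365001),(nat_lit 0x1e7a001),(nat_lit 0xaf4001)],[(nat_lit 0x161d00a07002),(nat_lit 0x162400a1a002),(nat_lit 0x1632001),(nat_lit 0xa08001),(nat_lit 0x1d2b001),(nat_lit 0xa06001),(nat_lit 0x1efe001)],[(nat_lit 0x1d2c001),(nat_lit 0x900001),(nat_lit 0x160a001),(nat_lit 0x16f2001),(nat_lit 0x8ff001),(nat_lit 0x1dc9001),(nat_lit 0x1de5001)],[(nat_lit 0x18ef905238002),(nat_lit 0x18e6d05239002),(nat_lit 0x18e7e0523a002),(nat_lit 0x18e6c0523b002),(nat_lit 0x214170523c002),(nat_lit 0x18e920523d002),(nat_lit 0x1d2a001)],[(nat_lit 0x161800a3a002),(nat_lit 0x1605001),(nat_lit 0x904001),(nat_lit 0x991001),(nat_lit 0x903001),(nat_lit 0xa8f5d01dcc002),(nat_lit 0xa8f5e01de9002)],[(nat_lit 0x162f00a38002),(nat_lit 0x16f3001),(nat_lit 0x1e77001),(nat_lit 0xa29001),(nat_lit 0xa28001),(nat_lit 0x1e0b01dd0002),(nat_lit 0xa2a001)],[(nat_lit 0x1db2001),(nat_lit 0x1dca001),(nat_lit 0xa8f5d01dcf002),(nat_lit 0x1e0b01dd2002),(nat_lit 0x1db4001),(nat_lit 0x1db1001),(nat_lit 0xa7cad053bb002)],[(nat_lit 0x1ade001),(nat_lit 0x1adf001),(nat_lit 0x1b09001),(nat_lit 0x1b03001),(nat_lit 0x1b0c001),(nat_lit 0x1add001),(nat_lit 0x172b3049c3002)],[(nat_lit 0x1b0a001),(nat_lit 0x1aba001),(nat_lit 0x1abb001),(nat_lit 0x4935001),(nat_lit 0x1af8001),(nat_lit 0x1abc001),(nat_lit 0x4938001)],[(nat_lit 0x1b0d001),(nat_lit 0x1ab0001),(nat_lit 0x1af7001),(nat_lit 0x1b3a001),(nat_lit 0x1aaf001),(nat_lit 0x1b33001),(nat_lit 0x490f001)],[(nat_lit 0x18e0004a11002),(nat_lit 0x18e4b04a12002),(nat_lit 0x18dfd04a13002),(nat_lit 0x1840704a14002),(nat_lit 0x4a15001),(nat_lit 0x18e4e04a16002),(nat_lit 0x1b08001)],[(nat_lit 0x1b10001),(nat_lit 0x1b3b001),(nat_lit 0x4ab1001),(nat_lit 0x1b0f001),(nat_lit 0x1b2a001),(nat_lit 0x1b3c001),(nat_lit 0xa7cb804ab3002)],[(nat_lit 0x1af2001),(nat_lit 0x1b32001),(nat_lit 0x1af5001),(nat_lit 0x1b3e001),(nat_lit 0x1af1001),(nat_lit 0x1af3001),(nat_lit 0xa8f5c049e5002)],[(nat_lit 0x1ad4001),(nat_lit 0x49bb001),(nat_lit 0x1ad3001),(nat_lit 0x496c001),(nat_lit 0x1b07001),(nat_lit 0x1b0b001),(nat_lit 0x49bd001)],[(nat_lit 0x1ada001),(nat_lit 0x1adb001),(nat_lit 0x1b05001),(nat_lit 0x1adc001),(nat_lit 0x1ad9001),(nat_lit 0x1b34001),(nat_lit 0x49bf001)],[(nat_lit 0x172ab059d3002),(nat_lit 0x18e3c059d9002),(nat_lit 0x1729705a7a002),(nat_lit 0x18e5b01f28002),(nat_lit 0x172b205bbb002),(nat_lit 0x1f27001),(nat_lit 0x18e5e05bbc002)],[(nat_lit 0x496d001),(nat_lit 0x4936001),(nat_lit 0x496b001),(nat_lit 0x4924001),(nat_lit 0x13c4b001),(nat_lit 0x4937001),(nat_lit 0x1897013c4c002)],[(nat_lit 0x1b06001),(nat_lit 0x1af6001),(nat_lit 0x1ae1001),(nat_lit 0x49c4001),(nat_lit 0x1ae0001),(nat_lit 0x1b38001),(nat_lit 0x49c5001)],[(nat_lit 0x18e1e13c4d002),(nat_lit 0x13c4e001),(nat_lit 0x1729013c4f002),(nat_lit 0x1728613c50002),(nat_lit 0x2144d13c51002),(nat_lit 0x18e2613c52002),(nat_lit 0x4925001)],[(nat_lit 0x1b35001),(nat_lit 0x1afa001),(nat_lit 0x1b39001),(nat_lit 0x1afb001),(nat_lit 0x1b31001),(nat_lit 0x1af9001),(nat_lit 0x49ed001)],[(nat_lit 0x5db7104a05002),(nat_lit 0x4a06001),(nat_lit 0x4a07001),(nat_lit 0x4a08001),(nat_lit 0x4a09001),(nat_lit 0x5db8504a0a002),(nat_lit 0x1b04001)],[(nat_lit 0x172cd13c5a002),(nat_lit 0x4927001),(nat_lit 0x13c5b001),(nat_lit 0x213e604995002),(nat_lit 0x4997001),(nat_lit 0x4999001),(nat_lit 0x13c5c001)]]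

theorem rows0_0_ok : okRows data table 980686 0 rows0_0 = true := by decide +kernel

theorem rows0_0_len : rows0_0.length = 1000 := by decide +kernel

/-- Completion of the rows from 1000. -/
noncomputable def rows0_1 : List (List ℕ) := [[(nat_lit 0x498e001),(nat_lit 0x13c5f001),(nat_lit 0x4928001),(nat_lit 0x172ad13c60002),(nat_lit 0x499b001),(nat_lit 0x499d001),(nat_lit 0x13c61001)],[(nat_lit 0x18ebf059ea002),(nat_lit 0x21457059eb002),(nat_lit 0x18ec0059ec002),(nat_lit 0x172db059ed002),(nat_lit 0x214d4059ee002),(nat_lit 0x18ec2059ef002),(nat_lit 0x1efe001)],[(nat_lit 0x4992001),(nat_lit 0x4998001),(nat_lit 0x499c001),(nat_lit 0x214ce13c67002),(nat_lit 0x492a001),(nat_lit 0x214cf13c68002),(nat_lit 0x13c69001)],[(nat_lit 0x1e06001),(nat_lit 0x1e07001),(nat_lit 0x1e08001),(nat_lit 0xa8f5d01e0a002),(nat_lit 0xa8f5d01e05002),(nat_lit 0x1e09001),(nat_lit 0x1ea5001)],[(nat_lit 0x2c2e001),(nat_lit 0xe68001),(nat_lit 0x1e03001),(nat_lit 0xe67001),(nat_lit 0x1d2f001),(nat_lit 0xe86001),(nat_lit 0x2c56001)],[(nat_lit 0x1c3b001),(nat_lit 0x1d30001),(nat_lit 0x1c3c001),(nat_lit 0x1c62001),(nat_lit 0x1c3a001),(nat_lit 0x4b11001),(nat_lit 0xa9a0b04ed8002)],[(nat_lit 0x2c80001),(nat_lit 0x2c81001),(nat_lit 0x2cee001),(nat_lit 0x2c82001),(nat_lit 0x2cf1001),(nat_lit 0x2c7f001),(nat_lit 0x99b4c0900d002)],[(nat_lit 0x2cef001),(nat_lit 0x1dbd001),(nat_lit 0x1dbc001),(nat_lit 0x53c3001),(nat_lit 0x2cc7001),(nat_lit 0x1e04001),(nat_lit 0x53c5001)],[(nat_lit 0x2c31001),(nat_lit 0xe6a001),(nat_lit 0xe7d001),(nat_lit 0xe84001),(nat_lit 0xe87001),(nat_lit 0xe69001),(nat_lit 0x2c86001)],[(nat_lit 0x2cf2001),(nat_lit 0x1b41001),(nat_lit 0x2cc9001),(nat_lit 0x2c8b001),(nat_lit 0x1b40001),(nat_lit 0x4b2e001),(nat_lit 0x4b6b001)],[(nat_lit 0x99a0909079002),(nat_lit 0x99a0a0907a002),(nat_lit 0x99e6b0907b002),(nat_lit 0x182d60907c002),(nat_lit 0x99a060907d002),(nat_lit 0x1aba90907e002),(nat_lit 0x2cc6001)],[(nat_lit 0x7d9001),(nat_lit 0xe88001),(nat_lit 0x7da001),(nat_lit 0xf7a001),(nat_lit 0x7d8001),(nat_lit 0x7db001),(nat_lit 0xa2a001)],[(nat_lit 0x1b2f001),(nat_lit 0x2c8c001),(nat_lit 0x2f79001),(nat_lit 0x1b2e001),(nat_lit 0x1b30001),(nat_lit 0x4b30001),(nat_lit 0x4b5f001)],[(nat_lit 0x4ac5001),(nat_lit 0x4b2f001),(nat_lit 0x4ac9001),(nat_lit 0x4b32001),(nat_lit 0x4b0f001),(nat_lit 0x4ac4001),(nat_lit 0xaa4f9142c7002)],[(nat_lit 0x2e0f001),(nat_lit 0x6823001),(nat_lit 0x2e10001),(nat_lit 0x68ff001),(nat_lit 0x2e0e001),(nat_lit 0x2e11001),(nat_lit 0xaa54309784002)],[(nat_lit 0x1d1a001),(nat_lit 0x1d1b001),(nat_lit 0x1d51001),(nat_lit 0x1d1c001),(nat_lit 0x1d53001),(nat_lit 0x1d56001),(nat_lit 0x5220001)],[(nat_lit 0x1d23001),(nat_lit 0x1d24001),(nat_lit 0x1d50001),(nat_lit 0x1d59001),(nat_lit 0x1d64001),(nat_lit 0x1d25001),(nat_lit 0x5230001)],[(nat_lit 0x1921d164f6002),(nat_lit 0x18241164f7002),(nat_lit 0x1921e164f8002),(nat_lit 0x18242164f9002),(nat_lit 0x1921f164fa002),(nat_lit 0x19220164fb002),(nat_lit 0x5175001)],[(nat_lit 0x1d52001),(nat_lit 0x1d48001),(nat_lit 0x1d1d001),(nat_lit 0x5221001),(nat_lit 0x1d5a001),(nat_lit 0x1d5c001),(nat_lit 0x5222001)],[(nat_lit 0x1d54001),(nat_lit 0x1d12001),(nat_lit 0x1d5b001),(nat_lit 0x1d13001),(nat_lit 0x1d11001),(nat_lit 0x4b59001),(nat_lit 0x520e001)],[(nat_lit 0x1d57001),(nat_lit 0x8c9001),(nat_lit 0x1d5d001),(nat_lit 0x8c8001),(nat_lit 0x1d67001),(nat_lit 0x8ca001),(nat_lit 0x1d9c001)],[(nat_lit 0x17bb105223002),(nat_lit 0x5224001),(nat_lit 0x5225001),(nat_lit 0x5226001),(nat_lit 0x5227001),(nat_lit 0x17b7c05228002),(nat_lit 0x1d1e001)],[(nat_lit 0x1d65001),(nat_lit 0x8cc001),(nat_lit 0xaa6001),(nat_lit 0xb07001),(nat_lit 0x8cb001),(nat_lit 0x8e3001),(nat_lit 0x1da5001)],[(nat_lit 0x1917a05231002),(nat_lit 0x5232001),(nat_lit 0x5233001),(nat_lit 0x5234001),(nat_lit 0x5235001),(nat_lit 0x1917d05236002),(nat_lit 0x1d26001)],[(nat_lit 0x177ae16506002),(nat_lit 0x5177001),(nat_lit 0x1779b16507002),(nat_lit 0x9aae105208002),(nat_lit 0x520a001),(nat_lit 0x190e405256002),(nat_lit 0x16508001)],[(nat_lit 0x5203001),(nat_lit 0x1778d1650c002),(nat_lit 0x5178001),(nat_lit 0x1929c1650d002),(nat_lit 0x520c001),(nat_lit 0x190ed05258002),(nat_lit 0x188b71650e002)],[(nat_lit 0x1921b05205002),(nat_lit 0x9aae105209002),(nat_lit 0x192241650f002),(nat_lit 0x5179001),(nat_lit 0x1922816510002),(nat_lit 0x1917b0525a002),(nat_lit 0x18b8216511002)],[(nat_lit 0x5207001),(nat_lit 0x520b001),(nat_lit 0x520d001),(nat_lit 0x16512001),(nat_lit 0x517a001),(nat_lit 0x16513001),(nat_lit 0x16514001)],[(nat_lit 0x2c73001),(nat_lit 0xe80001),(nat_lit 0x1d49001),(nat_lit 0xe7f001),(nat_lit 0x1d4a001),(nat_lit 0xe81001),(nat_lit 0x2cc1001)],[(nat_lit 0x1d15001),(nat_lit 0x1d4b001),(nat_lit 0x1d16001),(nat_lit 0x1d41001),(nat_lit 0x1d14001),(nat_lit 0x4b5c001),(nat_lit 0xa864005218002)],[(nat_lit 0x4ae9001),(nat_lit 0x4b5a001),(nat_lit 0x4b5e001),(nat_lit 0x4aea001),(nat_lit 0x4b16001),(nat_lit 0x4ae8001),(nat_lit 0xa7cd114321002)],[(nat_lit 0x1d28001),(nat_lit 0x1d68001),(nat_lit 0x1d29001),(nat_lit 0x1d37001),(nat_lit 0x1d27001),(nat_lit 0x4b18001),(nat_lit 0xa863f05237002)],[(nat_lit 0x17e4001),(nat_lit 0x17e5001),(nat_lit 0x17e6001),(nat_lit 0x17e3001),(nat_lit 0x17f7001),(nat_lit 0x17f5001),(nat_lit 0x17e7001)],[(nat_lit 0x1eaa001),(nat_lit 0x2370001),(nat_lit 0x1ea8001),(nat_lit 0x2372001),(nat_lit 0x2375001),(nat_lit 0x1ea9001),(nat_lit 0xaf8001)],[(nat_lit 0xc9c001),(nat_lit 0xc9f001),(nat_lit 0xc9e001),(nat_lit 0xc9b001),(nat_lit 0x1c4c001),(nat_lit 0xc9d001),(nat_lit 0xcbe001)],[(nat_lit 0x1c4d001),(nat_lit 0x18f6001),(nat_lit 0x18f7001),(nat_lit 0x18f8001),(nat_lit 0x18f5001),(nat_lit 0x18f9001),(nat_lit 0x4396001)],[(nat_lit 0x670c001),(nat_lit 0x2332001),(nat_lit 0x2358001),(nat_lit 0x235c001),(nat_lit 0x235e001),(nat_lit 0x2360001),(nat_lit 0x670e001)],[(nat_lit 0x1e79001),(nat_lit 0x235d001),(nat_lit 0x1e76001),(nat_lit 0x1e75001),(nat_lit 0x2385001),(nat_lit 0x1e78001),(nat_lit 0xa7cb505715002)],[(nat_lit 0x1f5f001),(nat_lit 0x235f001),(nat_lit 0x1f5e001),(nat_lit 0xa99e205732002),(nat_lit 0x1f60001),(nat_lit 0x1f74001),(nat_lit 0xad5a505c71002)],[(nat_lit 0x1b00001),(nat_lit 0x1b01001),(nat_lit 0x1b02001),(nat_lit 0x1b03001),(nat_lit 0x1d71001),(nat_lit 0x1aff001),(nat_lit 0x18a6d04a04002)],[(nat_lit 0x1d72001),(nat_lit 0xb00001),(nat_lit 0x1aef001),(nat_lit 0x1b5e001),(nat_lit 0xaff001),(nat_lit 0xb01001),(nat_lit 0x23dc001)],[(nat_lit 0x177da05306002),(nat_lit 0x18a3405307002),(nat_lit 0x189c905308002),(nat_lit 0x177cc05309002),(nat_lit 0x530a001),(nat_lit 0x18a4a0530b002),(nat_lit 0x1d70001)],[(nat_lit 0x1b2b001),(nat_lit 0x1b5f001),(nat_lit 0x4aec001),(nat_lit 0x1b2c001),(nat_lit 0x1b2a001),(nat_lit 0x1b2d001),(nat_lit 0xa53f704af1002)],[(nat_lit 0x18ad013f3a002),(nat_lit 0x49ff001),(nat_lit 0x13f3b001),(nat_lit 0x4a72001),(nat_lit 0x4a74001),(nat_lit 0x4a76001),(nat_lit 0x9bf4c13f3c002)],[(nat_lit 0x4a6b001),(nat_lit 0x13f3f001),(nat_lit 0x4a00001),(nat_lit 0x18a4f13f40002),(nat_lit 0x4a78001),(nat_lit 0x4a7a001),(nat_lit 0x13f41001)],[(nat_lit 0x4a6f001),(nat_lit 0x4a75001),(nat_lit 0x4a79001),(nat_lit 0x18a5113f43002),(nat_lit 0x4a02001),(nat_lit 0x21eba13f44002),(nat_lit 0x3cabb13f45002)],[(nat_lit 0x163300a23002),(nat_lit 0x1e3f001),(nat_lit 0xa22001),(nat_lit 0x1e3a001),(nat_lit 0x1ded001),(nat_lit 0xa24001),(nat_lit 0x1f57001)],[(nat_lit 0x163500a26002),(nat_lit 0x163900a2c002),(nat_lit 0x1deb001),(nat_lit 0x1dee001),(nat_lit 0xa25001),(nat_lit 0x1df2001),(nat_lit 0x1f5d001)],[(nat_lit 0x189fd01e49002),(nat_lit 0x177d1055d1002),(nat_lit 0x1896405542002),(nat_lit 0x177d205545002),(nat_lit 0x18a0805603002),(nat_lit 0x1896301e48002),(nat_lit 0x557c001)],[(nat_lit 0x1e3b001),(nat_lit 0x1e2c001),(nat_lit 0x1e33001),(nat_lit 0x1e2b001),(nat_lit 0x5559001),(nat_lit 0x1e2d001),(nat_lit 0x555b001)],[(nat_lit 0x1dec001),(nat_lit 0x986001),(nat_lit 0x987001),(nat_lit 0x1e82001),(nat_lit 0x988001),(nat_lit 0x1df7001),(nat_lit 0x1e96001)],[(nat_lit 0x189250555c002),(nat_lit 0x555d001),(nat_lit 0x555e001),(nat_lit 0x555f001),(nat_lit 0x5560001),(nat_lit 0x1892805561002),(nat_lit 0x1e2e001)],[(nat_lit 0x1def001),(nat_lit 0xa32001),(nat_lit 0x1f6c001),(nat_lit 0xa31001),(nat_lit 0x16f4001),(nat_lit 0x1dfb001),(nat_lit 0x1f6d001)],[(nat_lit 0x1df3001),(nat_lit 0x9ae001),(nat_lit 0x1df9001),(nat_lit 0x1dfd001),(nat_lit 0x9ad001),(nat_lit 0x1635009af002),(nat_lit 0x1eec001)],[(nat_lit 0x5d96105501002),(nat_lit 0x5502001),(nat_lit 0x5503001),(nat_lit 0x5504001),(nat_lit 0x5505001),(nat_lit 0x5d98405506002),(nat_lit 0x1dea001)],[(nat_lit 0x55d9001),(nat_lit 0x189fd01e4f002),(nat_lit 0x55dd001),(nat_lit 0x18a1d0554b002),(nat_lit 0x18a9105604002),(nat_lit 0x1e4e001),(nat_lit 0x5638001)],[(nat_lit 0x1896405541002),(nat_lit 0x55e6001),(nat_lit 0x189fd01e53002),(nat_lit 0x55ea001),(nat_lit 0x189ff05605002),(nat_lit 0x1e52001),(nat_lit 0x563b001)],[(nat_lit 0x177d205544002),(nat_lit 0x18a1d0554a002),(nat_lit 0x177f0055f5002),(nat_lit 0x189fd01e55002),(nat_lit 0x177f10563c002),(nat_lit 0x1e54001),(nat_lit 0x18a1f0563d002)],[(nat_lit 0x1f81001),(nat_lit 0x1f87001),(nat_lit 0x1f8b001),(nat_lit 0x5c60001),(nat_lit 0x1f53001),(nat_lit 0x18a9405c61002),(nat_lit 0xa8ef105c62002)],[(nat_lit 0x1642001),(nat_lit 0x1dfc001),(nat_lit 0x1f72001),(nat_lit 0x163700a36002),(nat_lit 0x1eba001),(nat_lit 0xa35001),(nat_lit 0x1f75001)],[(nat_lit 0x1ace905c76002),(nat_lit 0x5c77001),(nat_lit 0xaa5e905c78002),(nat_lit 0xa862705c79002),(nat_lit 0xa99f305c7a002),(nat_lit 0x1acdc05c7b002),(nat_lit 0x1f61001)],[(nat_lit 0x1e66001),(nat_lit 0xa14001),(nat_lit 0x1ed7001),(nat_lit 0xa15001),(nat_lit 0x1ee1001),(nat_lit 0xa13001),(nat_lit 0x1f14001)],[(nat_lit 0x1e9f001),(nat_lit 0x1ee2001),(nat_lit 0x1ee5001),(nat_lit 0x1eb8001),(nat_lit 0x1e9e001),(nat_lit 0x1eb7001),(nat_lit 0xa9a0a058da002)],[(nat_lit 0x1e3e001),(nat_lit 0x1e2f001),(nat_lit 0x1e30001),(nat_lit 0x1e56001),(nat_lit 0x1e58001),(nat_lit 0x1e41001),(nat_lit 0x5562001)],[(nat_lit 0x1e32001),(nat_lit 0x1e57001),(nat_lit 0x1e33001),(nat_lit 0x1e31001),(nat_lit 0x5563001),(nat_lit 0x1e3c001),(nat_lit 0x5566001)],[(nat_lit 0xa0b001),(nat_lit 0x1e59001),(nat_lit 0xa0a001),(nat_lit 0x1e80001),(nat_lit 0xa0c001),(nat_lit 0x1e37001),(nat_lit 0x1f05001)],[(nat_lit 0x189ce05567002),(nat_lit 0x5619001),(nat_lit 0x189cb0561a002),(nat_lit 0x189260561d002),(nat_lit 0x189cf0561f002),(nat_lit 0x189250556c002),(nat_lit 0x1e34001)],[(nat_lit 0xa05001),(nat_lit 0x1e22001),(nat_lit 0x1e64001),(nat_lit 0x1e1d001),(nat_lit 0xa04001),(nat_lit 0x1e5f001),(nat_lit 0x1efd001)],[(nat_lit 0x18e8505620002),(nat_lit 0x2149105621002),(nat_lit 0x18e8605622002),(nat_lit 0x183ed05623002),(nat_lit 0x18e8705624002),(nat_lit 0x18eeb05625002),(nat_lit 0x1e35001)],[(nat_lit 0xa0e001),(nat_lit 0x1e21001),(nat_lit 0x1ed4001),(nat_lit 0xa0d001),(nat_lit 0x1e1f001),(nat_lit 0x1e65001),(nat_lit 0x1f0e001)],[(nat_lit 0xa10001),(nat_lit 0x1df6001),(nat_lit 0x1e39001),(nat_lit 0x1e68001),(nat_lit 0x1df5001),(nat_lit 0xa0f001),(nat_lit 0x1f12001)],[(nat_lit 0x621fa05626002),(nat_lit 0x5627001),(nat_lit 0x6222505628002),(nat_lit 0x621be05629002),(nat_lit 0x622260562a002),(nat_lit 0x622270562b002),(nat_lit 0x1e36001)],[(nat_lit 0x18a4713fda002),(nat_lit 0x1740104a73002),(nat_lit 0x1740e13fdc002),(nat_lit 0x4a72001),(nat_lit 0x1741013fdd002),(nat_lit 0x18a8413f3d002),(nat_lit 0x222da13fde002)],[(nat_lit 0x1e43001),(nat_lit 0x5632001),(nat_lit 0x1896301e42002),(nat_lit 0x188de055de002),(nat_lit 0x553d001),(nat_lit 0x1896405540002),(nat_lit 0x5633001)],[(nat_lit 0x1e47001),(nat_lit 0x18a03055cf002),(nat_lit 0x553f001),(nat_lit 0x55f7001),(nat_lit 0x1896301e46002),(nat_lit 0x55f9001),(nat_lit 0x5634001)],[(nat_lit 0x1e3b001),(nat_lit 0x1f5a001),(nat_lit 0x1e3d001),(nat_lit 0x1e3a001),(nat_lit 0x55b5001),(nat_lit 0x1e3c001),(nat_lit 0x5630001)],[(nat_lit 0x5564001),(nat_lit 0x555a001),(nat_lit 0x55b7001),(nat_lit 0x556f001),(nat_lit 0x5534001),(nat_lit 0x18844001),(nat_lit 0x18845001)],[(nat_lit 0x18dff172d0002),(nat_lit 0x172d1001),(nat_lit 0x5bde001),(nat_lit 0x172b705a26002),(nat_lit 0x2036f18846002),(nat_lit 0x18dfc172d2002),(nat_lit 0x5535001)],[(nat_lit 0x1e81001),(nat_lit 0x1e83001),(nat_lit 0x564a001),(nat_lit 0x1e6a001),(nat_lit 0x5570001),(nat_lit 0x1e84001),(nat_lit 0x564b001)],[(nat_lit 0x1e38001),(nat_lit 0x1df8001),(nat_lit 0xa12001),(nat_lit 0x1e85001),(nat_lit 0x1dfa001),(nat_lit 0xa11001),(nat_lit 0x1f13001)],[(nat_lit 0x5b3760564c002),(nat_lit 0x564d001),(nat_lit 0x56f6001),(nat_lit 0x56f7001),(nat_lit 0x56f8001),(nat_lit 0x5b33b056f9002),(nat_lit 0x1e6b001)],[(nat_lit 0x1892b08641002),(nat_lit 0x5537001),(nat_lit 0x16a34001),(nat_lit 0x55bf001),(nat_lit 0x55c1001),(nat_lit 0x188b1055c3002),(nat_lit 0x1a0e618861002)],[(nat_lit 0x55b9001),(nat_lit 0x189d718875002),(nat_lit 0x5538001),(nat_lit 0x189d605550002),(nat_lit 0x55c5001),(nat_lit 0x18927055c7002),(nat_lit 0x18877001)],[(nat_lit 0x55bb001),(nat_lit 0x55c0001),(nat_lit 0x557a001),(nat_lit 0x5539001),(nat_lit 0x18c11001),(nat_lit 0x188b0055c9002),(nat_lit 0x177c5001)],[(nat_lit 0x55be001),(nat_lit 0x55c2001),(nat_lit 0x55c6001),(nat_lit 0x18c14001),(nat_lit 0x553a001),(nat_lit 0x18c15001),(nat_lit 0x18c16001)],[(nat_lit 0x1e1e001),(nat_lit 0x9a0001),(nat_lit 0x1e9b001),(nat_lit 0x99f001),(nat_lit 0x9a1001),(nat_lit 0x1e8f001),(nat_lit 0x1e9d001)],[(nat_lit 0x1e60001),(nat_lit 0x1dff001),(nat_lit 0x1e00001),(nat_lit 0x1e91001),(nat_lit 0x1e01001),(nat_lit 0x1dfe001),(nat_lit 0x5517001)],[(nat_lit 0x1b320057e2002),(nat_lit 0x57e3001),(nat_lit 0x57e4001),(nat_lit 0x57e5001),(nat_lit 0x57e6001),(nat_lit 0x1a736057e7002),(nat_lit 0x1e92001)],[(nat_lit 0x213c0059d5002),(nat_lit 0x1ef8001),(nat_lit 0x59d6001),(nat_lit 0x1f1d001),(nat_lit 0x1f1f001),(nat_lit 0x1f21001),(nat_lit 0x59d7001)],[(nat_lit 0x1f16001),(nat_lit 0x59db001),(nat_lit 0x1ef9001),(nat_lit 0x59dc001),(nat_lit 0x1f23001),(nat_lit 0x1f25001),(nat_lit 0x59dd001)],[(nat_lit 0x18e2101f18002),(nat_lit 0x1f1e001),(nat_lit 0x18dc5059de002),(nat_lit 0x1efa001),(nat_lit 0x18e2a059df002),(nat_lit 0x1f27001),(nat_lit 0x172a2059e0002)],[(nat_lit 0x1f1a001),(nat_lit 0x1f20001),(nat_lit 0x1f24001),(nat_lit 0x59e1001),(nat_lit 0x1efb001),(nat_lit 0x21493059e2002),(nat_lit 0x59e3001)],[(nat_lit 0x1ed5001),(nat_lit 0x2416001),(nat_lit 0x1e97001),(nat_lit 0x57ef001),(nat_lit 0x1e9c001),(nat_lit 0x1ed6001),(nat_lit 0x57f0001)],[(nat_lit 0x5d9aa057f1002),(nat_lit 0x57f2001),(nat_lit 0x57f3001),(nat_lit 0x57f4001),(nat_lit 0x57f5001),(nat_lit 0x5dae7057f6002),(nat_lit 0x1e98001)],[(nat_lit 0x622de057f7002),(nat_lit 0x622da057f8002),(nat_lit 0x62218057f9002),(nat_lit 0x621fb057fa002),(nat_lit 0x57fb001),(nat_lit 0x622d7057fc002),(nat_lit 0x1e99001)],[(nat_lit 0x59fa001),(nat_lit 0x1f00001),(nat_lit 0x59fb001),(nat_lit 0x1f31001),(nat_lit 0x1f33001),(nat_lit 0x1f35001),(nat_lit 0x59fc001)],[(nat_lit 0x1f2a001),(nat_lit 0x5a00001),(nat_lit 0x1f01001),(nat_lit 0xa8fdf05a01002),(nat_lit 0x1f37001),(nat_lit 0x1f39001),(nat_lit 0x5a02001)],[(nat_lit 0x1f2c001),(nat_lit 0x1f32001),(nat_lit 0x5a03001),(nat_lit 0x1f02001),(nat_lit 0x5a04001),(nat_lit 0x1f3b001),(nat_lit 0x5a05001)],[(nat_lit 0x1f2e001),(nat_lit 0x1f34001),(nat_lit 0x1f38001),(nat_lit 0x5abf001),(nat_lit 0x1f03001),(nat_lit 0x5ac0001),(nat_lit 0x5ac1001)],[(nat_lit 0x5546001),(nat_lit 0x5572001),(nat_lit 0x55d2001),(nat_lit 0x55d4001),(nat_lit 0x55d6001),(nat_lit 0x55d8001),(nat_lit 0x18c1f001)],[(nat_lit 0x55d3001),(nat_lit 0x5573001),(nat_lit 0x5547001),(nat_lit 0x18c24001),(nat_lit 0x55da001),(nat_lit 0x55dc001),(nat_lit 0x18c25001)],[(nat_lit 0x55d5001),(nat_lit 0x1e4b001),(nat_lit 0x5635001),(nat_lit 0x1e4a001),(nat_lit 0x55f0001),(nat_lit 0x18a1d05549002),(nat_lit 0x5636001)],[(nat_lit 0x55d7001),(nat_lit 0x1e4d001),(nat_lit 0x55db001),(nat_lit 0x55fb001),(nat_lit 0x1e4c001),(nat_lit 0x55fd001),(nat_lit 0x5637001)],[(nat_lit 0x28d0518c26002),(nat_lit 0x9b47d18c27002),(nat_lit 0x9cd6318c28002),(nat_lit 0x232f618c29002),(nat_lit 0x9cd6718c2a002),(nat_lit 0x2331b18c2b002),(nat_lit 0x5548001)],[(nat_lit 0x99b6001),(nat_lit 0x554c001),(nat_lit 0x5574001),(nat_lit 0x55e1001),(nat_lit 0x55e3001),(nat_lit 0x55e5001),(nat_lit 0x18368001)],[(nat_lit 0x188de055df002),(nat_lit 0x55e2001),(nat_lit 0x558b001),(nat_lit 0x554d001),(nat_lit 0x2039918c39002),(nat_lit 0x55e7001),(nat_lit 0x18c3a001)],[(nat_lit 0x553e001),(nat_lit 0x55e4001),(nat_lit 0x1e51001),(nat_lit 0x203da05639002),(nat_lit 0x1e50001),(nat_lit 0x55ff001),(nat_lit 0x563a001)],[(nat_lit 0x189651887e002),(nat_lit 0x18c3b001),(nat_lit 0x18396001),(nat_lit 0x18c3d001),(nat_lit 0x18c3f001),(nat_lit 0x18a0018397002),(nat_lit 0x554e001)],[(nat_lit 0x4a6b001),(nat_lit 0x13fcb001),(nat_lit 0x18a9304a6a002),(nat_lit 0x18a2113fcc002),(nat_lit 0x18a7113f32002),(nat_lit 0x18a1213f35002),(nat_lit 0x13fce001)],[(nat_lit 0x4a6f001),(nat_lit 0x18ae413fd3002),(nat_lit 0x18a7113f34002),(nat_lit 0x18a9213fd5002),(nat_lit 0x18a9304a6e002),(nat_lit 0x13fd7001),(nat_lit 0x13fd9001)],[(nat_lit 0x55f8001),(nat_lit 0x55fc001),(nat_lit 0x2154c18c40002),(nat_lit 0x5555001),(nat_lit 0x5576001),(nat_lit 0x5601001),(nat_lit 0x18c41001)],[(nat_lit 0x55fa001),(nat_lit 0x55fe001),(nat_lit 0x5600001),(nat_lit 0x5602001),(nat_lit 0x5577001),(nat_lit 0x5556001),(nat_lit 0xacc0f18c46002)],[(nat_lit 0x595fc18c4d002),(nat_lit 0xac00818c4e002),(nat_lit 0x18c4f001),(nat_lit 0xac00718c50002),(nat_lit 0x18c51001),(nat_lit 0xad72a18c52002),(nat_lit 0x5557001)],[(nat_lit 0x1e95001),(nat_lit 0x57e8001),(nat_lit 0x1e94001),(nat_lit 0x1ea3001),(nat_lit 0x23e8001),(nat_lit 0x1ea7001),(nat_lit 0x1e93001)],[(nat_lit 0x1e6d001),(nat_lit 0x1e90001),(nat_lit 0x1e76001),(nat_lit 0x1e6e001),(nat_lit 0x1eb5001),(nat_lit 0x1e6c001),(nat_lit 0xa7caf054ae002)],[(nat_lit 0x1c17001),(nat_lit 0x1c33001),(nat_lit 0x4ea1001),(nat_lit 0x1c16001),(nat_lit 0x1c24001),(nat_lit 0x1c34001),(nat_lit 0xa71f204ea3002)],[(nat_lit 0xf79001),(nat_lit 0x1bdb001),(nat_lit 0x1eae001),(nat_lit 0xf7a001),(nat_lit 0x1b30001),(nat_lit 0xf78001),(nat_lit 0x1db7001)],[(nat_lit 0x2cec001),(nat_lit 0xf5f001),(nat_lit 0x2f21001),(nat_lit 0xf5e001),(nat_lit 0x1ee6001),(nat_lit 0x1bdc001),(nat_lit 0x2f22001)],[(nat_lit 0x1ea2001),(nat_lit 0x58e3001),(nat_lit 0x1ea1001),(nat_lit 0x1eaf001),(nat_lit 0x1ee9001),(nat_lit 0x1eb1001),(nat_lit 0x2bdc001)],[(nat_lit 0x1d42001),(nat_lit 0x1ee7001),(nat_lit 0x1eeb001),(nat_lit 0x1d41001),(nat_lit 0x1d43001),(nat_lit 0x4bde001),(nat_lit 0x52cf001)],[(nat_lit 0x57b1001),(nat_lit 0x1ace401ec8002),(nat_lit 0x57b5001),(nat_lit 0x5727001),(nat_lit 0x1acdf05842002),(nat_lit 0x1ec7001),(nat_lit 0xac1c105918002)],[(nat_lit 0x1ace305714002),(nat_lit 0x5726001),(nat_lit 0xaa528057c8002),(nat_lit 0x1ace401ece002),(nat_lit 0x591f001),(nat_lit 0x1ecd001),(nat_lit 0xaa52905983002)],[(nat_lit 0x2d91001),(nat_lit 0xaa5a1093af002),(nat_lit 0x2d92001),(nat_lit 0xaa52e0941d002),(nat_lit 0xa99c902d90002),(nat_lit 0x2f2b001),(nat_lit 0xaa60d0941f002)],[(nat_lit 0x5722001),(nat_lit 0x1ad2b0573e002),(nat_lit 0x57aa001),(nat_lit 0x57ac001),(nat_lit 0x57ae001),(nat_lit 0x57b0001),(nat_lit 0xabfda19b61002)],[(nat_lit 0xab20d09e19002),(nat_lit 0x2fa6001),(nat_lit 0xa99ca02fa7002),(nat_lit 0x94ed001),(nat_lit 0x2fa8001),(nat_lit 0xab20c092e1002),(nat_lit 0x9ed2001)],[(nat_lit 0x57ad001),(nat_lit 0x1ec4001),(nat_lit 0x5904001),(nat_lit 0x1ec3001),(nat_lit 0x57c3001),(nat_lit 0x5725001),(nat_lit 0x5905001)],[(nat_lit 0x57af001),(nat_lit 0xa8f8b01ec6002),(nat_lit 0xaa58f057b3002),(nat_lit 0xa8f8a057cd002),(nat_lit 0x1ec5001),(nat_lit 0xa8f8f057cf002),(nat_lit 0x590b001)],[(nat_lit 0xac1c219b6c002),(nat_lit 0xac1c319b6d002),(nat_lit 0xac1c419b6e002),(nat_lit 0xac1c519b6f002),(nat_lit 0xac1c619b70002),(nat_lit 0xac1c719b71002),(nat_lit 0x5724001)],[(nat_lit 0x1acea05c9f002),(nat_lit 0x5ca0001),(nat_lit 0xaa57105ca1002),(nat_lit 0xa8f9405ca2002),(nat_lit 0xab27305ca3002),(nat_lit 0x1ad2805ca4002),(nat_lit 0x1f75001)],[(nat_lit 0x1acfb057c2002),(nat_lit 0x57c4001),(nat_lit 0x57c6001),(nat_lit 0xa8f8c05741002),(nat_lit 0x572c001),(nat_lit 0xaa60c19b85002),(nat_lit 0x143c5001)],[(nat_lit 0x2d66001),(nat_lit 0x2f11001),(nat_lit 0x2d67001),(nat_lit 0xa8f93092d6002),(nat_lit 0x2d65001),(nat_lit 0x2db0001),(nat_lit 0xaa5e8093c3002)],[(nat_lit 0x1eab001),(nat_lit 0x2f13001),(nat_lit 0x1ea8001),(nat_lit 0xf60001),(nat_lit 0x23aa001),(nat_lit 0x1eb4001),(nat_lit 0xf57001)],[(nat_lit 0x2bef001),(nat_lit 0x2f0f001),(nat_lit 0x2bee001),(nat_lit 0x2bf0001),(nat_lit 0x2f2e001),(nat_lit 0x2bf1001),(nat_lit 0xa71ef05816002)],[(nat_lit 0x5868001),(nat_lit 0x5938001),(nat_lit 0xa7caf054af002),(nat_lit 0xa71ef053d1002),(nat_lit 0x5819001),(nat_lit 0xa7ca905847002),(nat_lit 0x2f2a001)],[(nat_lit 0x49f001),(nat_lit 0x10c9001),(nat_lit 0x49e001),(nat_lit 0x735001),(nat_lit 0xfcb001),(nat_lit 0x739001),(nat_lit 0xb89001)],[(nat_lit 0x48f001),(nat_lit 0x490001),(nat_lit 0xfcd001),(nat_lit 0x549001),(nat_lit 0x48e001),(nat_lit 0x1063001),(nat_lit 0x134d001)],[(nat_lit 0x493001),(nat_lit 0x494001),(nat_lit 0xdff001),(nat_lit 0x492001),(nat_lit 0x54c001),(nat_lit 0x517001),(nat_lit 0x1399001)],[(nat_lit 0x233e01956002),(nat_lit 0x1957001),(nat_lit 0x233d01958002),(nat_lit 0x234801959002),(nat_lit 0x23490195a002),(nat_lit 0x22890195b002),(nat_lit 0x560001)],[(nat_lit 0x128401258002),(nat_lit 0x25bf001),(nat_lit 0x1259001),(nat_lit 0x1257001),(nat_lit 0x191b001),(nat_lit 0x125a001),(nat_lit 0x129b001)],[(nat_lit 0x135e001),(nat_lit 0x191a001),(nat_lit 0x191d001),(nat_lit 0x13b6001),(nat_lit 0x135d001),(nat_lit 0x3b19001),(nat_lit 0x3b61001)],[(nat_lit 0x3056001),(nat_lit 0xfd5001),(nat_lit 0xfd6001),(nat_lit 0x133e001),(nat_lit 0x1018001),(nat_lit 0xfd7001),(nat_lit 0x3064001)],[(nat_lit 0x736001),(nat_lit 0x133f001),(nat_lit 0x737001),(nat_lit 0x72b001),(nat_lit 0x1a13001),(nat_lit 0x72c001),(nat_lit 0x113b0072a002)],[(nat_lit 0xfcc001),(nat_lit 0x1016001),(nat_lit 0x4a1001),(nat_lit 0x13de001),(nat_lit 0x4a0001),(nat_lit 0x1067001),(nat_lit 0x13df001)],[(nat_lit 0x54a001),(nat_lit 0x484001),(nat_lit 0xe02001),(nat_lit 0x483001),(nat_lit 0x485001),(nat_lit 0x1029001),(nat_lit 0x1333001)],[(nat_lit 0x1064001),(nat_lit 0xff3001),(nat_lit 0x1068001),(nat_lit 0x102b001),(nat_lit 0xff4001),(nat_lit 0xff2001),(nat_lit 0x3118001)],[(nat_lit 0xf00903215002),(nat_lit 0x3216001),(nat_lit 0x3217001),(nat_lit 0x3218001),(nat_lit 0x3219001),(nat_lit 0xf00f0321a002),(nat_lit 0x1062001)],[(nat_lit 0x135501345002),(nat_lit 0x134b001),(nat_lit 0x19d7001),(nat_lit 0xc07001),(nat_lit 0x24f0001),(nat_lit 0x1347001),(nat_lit 0xc06001)],[(nat_lit 0x1349001),(nat_lit 0xc11001),(nat_lit 0xc12001),(nat_lit 0x252d001),(nat_lit 0xc13001),(nat_lit 0x24de001),(nat_lit 0x2548001)],[(nat_lit 0xe00001),(nat_lit 0x164b001),(nat_lit 0xdf3001),(nat_lit 0x229c001),(nat_lit 0xe01001),(nat_lit 0xe03001),(nat_lit 0x2ac5001)],[(nat_lit 0x514001),(nat_lit 0x496001),(nat_lit 0xe04001),(nat_lit 0x497001),(nat_lit 0xe06001),(nat_lit 0x495001),(nat_lit 0x139d001)],[(nat_lit 0x2208001),(nat_lit 0x1845001),(nat_lit 0x183d001),(nat_lit 0x183e001),(nat_lit 0x213a001),(nat_lit 0x183f001),(nat_lit 0xdf4001)],[(nat_lit 0x2338001),(nat_lit 0x234c001),(nat_lit 0x234002339002),(nat_lit 0x234a0233a002),(nat_lit 0x2b1a001),(nat_lit 0x233e0233b002),(nat_lit 0xe05001)],[(nat_lit 0x3b83001),(nat_lit 0x1394001),(nat_lit 0x3b85001),(nat_lit 0x13c3001),(nat_lit 0x13c5001),(nat_lit 0x13c7001),(nat_lit 0x3b86001)],[(nat_lit 0x13be001),(nat_lit 0x2980001),(nat_lit 0x1395001),(nat_lit 0x233f001),(nat_lit 0x13c9001),(nat_lit 0x13cb001),(nat_lit 0x3b87001)],[(nat_lit 0x13c0001),(nat_lit 0x13c4001),(nat_lit 0x3b8c001),(nat_lit 0x1396001),(nat_lit 0x3b8e001),(nat_lit 0x13cd001),(nat_lit 0x234b001)],[(nat_lit 0x13c2001),(nat_lit 0x13c6001),(nat_lit 0x13ca001),(nat_lit 0x3b90001),(nat_lit 0x1397001),(nat_lit 0x3b91001),(nat_lit 0x3b92001)],[(nat_lit 0x132e001),(nat_lit 0x11a2001),(nat_lit 0x33d6001),(nat_lit 0x11a1001),(nat_lit 0x33c1001),(nat_lit 0x11a3001),(nat_lit 0x337f001)],[(nat_lit 0x33d7001),(nat_lit 0x1360001),(nat_lit 0x135f001),(nat_lit 0x3407001),(nat_lit 0x3808001),(nat_lit 0x1361001),(nat_lit 0x3410001)],[(nat_lit 0x118c001),(nat_lit 0x118d001),(nat_lit 0x1291001),(nat_lit 0x132f001),(nat_lit 0x11ca001),(nat_lit 0x118e001),(nat_lit 0x3075001)],[(nat_lit 0x33c2001),(nat_lit 0x138e001),(nat_lit 0x380b001),(nat_lit 0x342b001),(nat_lit 0x138d001),(nat_lit 0x3b1c001),(nat_lit 0x3b70001)],[(nat_lit 0x191c001),(nat_lit 0x2605001),(nat_lit 0x1390001),(nat_lit 0x19bc001),(nat_lit 0x138f001),(nat_lit 0x3b1f001),(nat_lit 0x3b7a001)],[(nat_lit 0x119e001),(nat_lit 0x11c9001),(nat_lit 0x119f001),(nat_lit 0x11fb001),(nat_lit 0x119d001),(nat_lit 0x11fd001),(nat_lit 0x33cf001)],[(nat_lit 0x5c6001),(nat_lit 0x5c7001),(nat_lit 0x72d001),(nat_lit 0x5c5001),(nat_lit 0xb3b001),(nat_lit 0xc7b001),(nat_lit 0x1180001)],[(nat_lit 0x13b7001),(nat_lit 0x342d001),(nat_lit 0x359d001),(nat_lit 0x1392001),(nat_lit 0x1391001),(nat_lit 0x3b22001),(nat_lit 0x3b80001)],[(nat_lit 0x3b1a001),(nat_lit 0x3b1d001),(nat_lit 0x3b20001),(nat_lit 0x3b23001),(nat_lit 0x3aa5001),(nat_lit 0x3aa4001),(nat_lit 0xdf12001)],[(nat_lit 0x364550df13002),(nat_lit 0xdf14001),(nat_lit 0x364450df15002),(nat_lit 0xd23c90df16002),(nat_lit 0xdf17001),(nat_lit 0x3645a0df18002),(nat_lit 0x3aa6001)],[(nat_lit 0x2ffd001),(nat_lit 0x2ffe001),(nat_lit 0x3055001),(nat_lit 0x3002001),(nat_lit 0x3007001),(nat_lit 0x2fff001),(nat_lit 0x306a001)],[(nat_lit 0x3005001),(nat_lit 0xff1001),(nat_lit 0x1017001),(nat_lit 0x106b001),(nat_lit 0xff0001),(nat_lit 0x106d001),(nat_lit 0x3114001)],[(nat_lit 0x1000001),(nat_lit 0x106c001),(nat_lit 0x30d9001),(nat_lit 0xfff001),(nat_lit 0x1015001),(nat_lit 0x1081001),(nat_lit 0x311c001)],[(nat_lit 0xff6001),(nat_lit 0x106e001),(nat_lit 0xff7001),(nat_lit 0x1083001),(nat_lit 0xff8001),(nat_lit 0xff5001),(nat_lit 0xa9c003119002)],[(nat_lit 0xc11e03222002),(nat_lit 0x3223001),(nat_lit 0xb53003224002),(nat_lit 0xc13103225002),(nat_lit 0xc13303226002),(nat_lit 0xc0ef03227002),(nat_lit 0x106a001)],[(nat_lit 0x15ab001),(nat_lit 0x15ae001),(nat_lit 0x10dc001),(nat_lit 0x15b0001),(nat_lit 0x10db001),(nat_lit 0x15c4001),(nat_lit 0x1540001)],[(nat_lit 0x506001),(nat_lit 0x1820001),(nat_lit 0x507001),(nat_lit 0x1855001),(nat_lit 0x505001),(nat_lit 0x102c001),(nat_lit 0x18a9001)],[(nat_lit 0xfe6001),(nat_lit 0x102a001),(nat_lit 0x102e001),(nat_lit 0xfe7001),(nat_lit 0x1008001),(nat_lit 0xfe5001),(nat_lit 0xa5060310e002)],[(nat_lit 0xf38903184002),(nat_lit 0x3185001),(nat_lit 0xf36803186002),(nat_lit 0xf39503187002),(nat_lit 0xf39803188002),(nat_lit 0xf36503189002),(nat_lit 0x1028001)],[(nat_lit 0xf5d10a102002),(nat_lit 0xf5ce0a103002),(nat_lit 0xd9d50a104002),(nat_lit 0xf5cc0a105002),(nat_lit 0xd9d60a106002),(nat_lit 0xf8740a107002),(nat_lit 0x2fe9001)],[(nat_lit 0xf6040a260002),(nat_lit 0x304b001),(nat_lit 0xa261001),(nat_lit 0x309a001),(nat_lit 0x309c001),(nat_lit 0x309e001),(nat_lit 0xa262001)],[(nat_lit 0x3025001),(nat_lit 0xd9d40a233002),(nat_lit 0xf5d403024002),(nat_lit 0xd9ca0a18e002),(nat_lit 0xf6160a0da002),(nat_lit 0xd9c90a0dd002),(nat_lit 0xf6170a234002)],[(nat_lit 0x3027001),(nat_lit 0xf5d00a17d002),(nat_lit 0xa1eef0a198002),(nat_lit 0xf5d403026002),(nat_lit 0xa1eed0a19a002),(nat_lit 0xf5ad0a0df002),(nat_lit 0xf5d70a235002)],[(nat_lit 0x3029001),(nat_lit 0xf6080a17f002),(nat_lit 0xf6160a0dc002),(nat_lit 0xa1a2001),(nat_lit 0xf5d403028002),(nat_lit 0xa1a4001),(nat_lit 0xa236001)],[(nat_lit 0x105f001),(nat_lit 0x1060001),(nat_lit 0x1061001),(nat_lit 0x1c1d001),(nat_lit 0x105e001),(nat_lit 0x1c47001),(nat_lit 0x3214001)],[(nat_lit 0xacd001),(nat_lit 0xf86001),(nat_lit 0xc95001),(nat_lit 0xace001),(nat_lit 0x225c001),(nat_lit 0xacc001),(nat_lit 0xb95001)],[(nat_lit 0x3ec4001),(nat_lit 0x15a9001),(nat_lit 0x164c001),(nat_lit 0x178e001),(nat_lit 0x181f001),(nat_lit 0x1821001),(nat_lit 0x3f4e001)],[(nat_lit 0xaa9001),(nat_lit 0x178f001),(nat_lit 0xa77001),(nat_lit 0xa79001),(nat_lit 0x216d001),(nat_lit 0xa78001),(nat_lit 0x1815001)],[(nat_lit 0x509001),(nat_lit 0x1822001),(nat_lit 0x50a001),(nat_lit 0xa67001),(nat_lit 0xe09001),(nat_lit 0x508001),(nat_lit 0x15b3001)],[(nat_lit 0x1589001),(nat_lit 0x1504001),(nat_lit 0x1505001),(nat_lit 0x15c1001),(nat_lit 0x2117001),(nat_lit 0x15be001),(nat_lit 0x155d001)],[(nat_lit 0x522001),(nat_lit 0xe07001),(nat_lit 0xe0b001),(nat_lit 0x6db00527002),(nat_lit 0x521001),(nat_lit 0x100b001),(nat_lit 0x18fe001)],[(nat_lit 0xc91001),(nat_lit 0x1828001),(nat_lit 0xc9e001),(nat_lit 0xcb800c92002),(nat_lit 0x18ee001),(nat_lit 0xc90001),(nat_lit 0xc93001)],[(nat_lit 0x1c28001),(nat_lit 0xccc001),(nat_lit 0xccd001),(nat_lit 0xccb001),(nat_lit 0xcce001),(nat_lit 0x1827001),(nat_lit 0x2740001)],[(nat_lit 0x82e001),(nat_lit 0xca0001),(nat_lit 0xb92001),(nat_lit 0x82d001),(nat_lit 0xbba001),(nat_lit 0xc9d001),(nat_lit 0xbee001)],[(nat_lit 0x1804001),(nat_lit 0x17a600dcc002),(nat_lit 0x29e2001),(nat_lit 0x17b4001),(nat_lit 0x17b5001),(nat_lit 0xdcb001),(nat_lit 0x2a34001)],[(nat_lit 0x177200e32002),(nat_lit 0x1779001),(nat_lit 0x177a001),(nat_lit 0x1a97001),(nat_lit 0x176d00e31002),(nat_lit 0x180a001),(nat_lit 0x4dadf02b75002)],[(nat_lit 0x17aa01643002),(nat_lit 0x1644001),(nat_lit 0x29dd001),(nat_lit 0x16e2001),(nat_lit 0x177e001),(nat_lit 0x1806001),(nat_lit 0x3f52001)],[(nat_lit 0x29de001),(nat_lit 0x29b1001),(nat_lit 0x29a1001),(nat_lit 0x2d26001),(nat_lit 0x29df001),(nat_lit 0x29e1001),(nat_lit 0x8323001)],[(nat_lit 0x17b3001),(nat_lit 0x17a500dca002),(nat_lit 0x29e0001),(nat_lit 0x1872001),(nat_lit 0xdc9001),(nat_lit 0x1874001),(nat_lit 0x2a25001)],[(nat_lit 0x189c408326002),(nat_lit 0x8329001),(nat_lit 0x832a001),(nat_lit 0x173cc0832c002),(nat_lit 0x832d001),(nat_lit 0x189da0832e002),(nat_lit 0x29a2001)],[(nat_lit 0x1a5e001),(nat_lit 0x1862001),(nat_lit 0x29b2001),(nat_lit 0x186c001),(nat_lit 0x186e001),(nat_lit 0x1870001),(nat_lit 0x414f001)],[(nat_lit 0x17a7001),(nat_lit 0x186f001),(nat_lit 0x17a500dce002),(nat_lit 0x18b9001),(nat_lit 0x179e00dcd002),(nat_lit 0x1876001),(nat_lit 0x2a3a001)],[(nat_lit 0x173a001),(nat_lit 0x173b001),(nat_lit 0x1866001),(nat_lit 0x1816001),(nat_lit 0x1739001),(nat_lit 0x2c4a001),(nat_lit 0x17c9001)],[(nat_lit 0x1780001),(nat_lit 0x1873001),(nat_lit 0x3fa7001),(nat_lit 0x177f001),(nat_lit 0x1818001),(nat_lit 0x1879001),(nat_lit 0x4005001)],[(nat_lit 0x1782001),(nat_lit 0x1875001),(nat_lit 0x1878001),(nat_lit 0x187b001),(nat_lit 0x180c001),(nat_lit 0x1781001),(nat_lit 0x2d2340400a002)],[(nat_lit 0x5180704155002),(nat_lit 0x4156001),(nat_lit 0x4b01d04157002),(nat_lit 0x517ff04158002),(nat_lit 0x5184504159002),(nat_lit 0x517fe0415a002),(nat_lit 0x1867001)],[(nat_lit 0xc58e0ab87002),(nat_lit 0x3200001),(nat_lit 0xc5910ab88002),(nat_lit 0x324d001),(nat_lit 0x324f001),(nat_lit 0x3251001),(nat_lit 0xab89001)],[(nat_lit 0x31aa001),(nat_lit 0xc4be0a605002),(nat_lit 0xc4490a606002),(nat_lit 0xc563031a9002),(nat_lit 0xaa89001),(nat_lit 0xc4c10a608002),(nat_lit 0xab0f001)],[(nat_lit 0x31ac001),(nat_lit 0xc5920a614002),(nat_lit 0xc5770a615002),(nat_lit 0xaa8f001),(nat_lit 0xc563031ab002),(nat_lit 0xc5980a616002),(nat_lit 0xab10001)],[(nat_lit 0x288001),(nat_lit 0x289001),(nat_lit 0x6c10033b002),(nat_lit 0x842001),(nat_lit 0x28a001),(nat_lit 0x7c7001),(nat_lit 0xc94001)],[(nat_lit 0xc78001),(nat_lit 0xfdb001),(nat_lit 0xc77001),(nat_lit 0xc83001),(nat_lit 0xc85001),(nat_lit 0xc79001),(nat_lit 0x11bc001)],[(nat_lit 0xb3c001),(nat_lit 0xb28001),(nat_lit 0xc86001),(nat_lit 0xc2a001),(nat_lit 0xb27001),(nat_lit 0x23ef001),(nat_lit 0x243d001)],[(nat_lit 0x843001),(nat_lit 0x4ac001),(nat_lit 0x13f8001),(nat_lit 0x4ab001),(nat_lit 0xc2c001),(nat_lit 0xc7d001),(nat_lit 0x13f9001)],[(nat_lit 0x7c5001),(nat_lit 0x4ae001),(nat_lit 0x7ca001),(nat_lit 0xc7f001),(nat_lit 0x7cb001),(nat_lit 0x4ad001),(nat_lit 0x13fa001)],[(nat_lit 0x2524001),(nat_lit 0x2664001),(nat_lit 0x2552001),(nat_lit 0x2523001),(nat_lit 0x2665001),(nat_lit 0x267202666002),(nat_lit 0xc7c001)],[(nat_lit 0x2502001),(nat_lit 0x2501001),(nat_lit 0x2562001),(nat_lit 0x2500001),(nat_lit 0x2586001),(nat_lit 0x2503001),(nat_lit 0x24ff001)],[(nat_lit 0x19d8001),(nat_lit 0x137a001),(nat_lit 0x135501352002),(nat_lit 0x1354001),(nat_lit 0x2588001),(nat_lit 0x1353001),(nat_lit 0x13a8001)],[(nat_lit 0x2532001),(nat_lit 0x2587001),(nat_lit 0x258b001),(nat_lit 0x25b6001),(nat_lit 0x2531001),(nat_lit 0x6dc2001),(nat_lit 0x6e0d001)],[(nat_lit 0xb1b001),(nat_lit 0xc2b001),(nat_lit 0xce3001),(nat_lit 0xb1a001),(nat_lit 0xb1c001),(nat_lit 0x23d4001),(nat_lit 0x2407001)],[(nat_lit 0x23c5001),(nat_lit 0x23f0001),(nat_lit 0x23f4001),(nat_lit 0x23d6001),(nat_lit 0x23c6001),(nat_lit 0x23c4001),(nat_lit 0x6837001)],[(nat_lit 0xf9040693d002),(nat_lit 0x693e001),(nat_lit 0x20b930693f002),(nat_lit 0xf90f06940002),(nat_lit 0x20cd606941002),(nat_lit 0xf8ff06942002),(nat_lit 0x23eb001)],[(nat_lit 0xcc3001),(nat_lit 0x2731001),(nat_lit 0xcc2001),(nat_lit 0xcdd001),(nat_lit 0xce1001),(nat_lit 0xce4001),(nat_lit 0x17cd001)],[(nat_lit 0xcb800849002),(nat_lit 0x1419001),(nat_lit 0xbc600848002),(nat_lit 0xbd1001),(nat_lit 0x19b8001),(nat_lit 0xbcd001),(nat_lit 0xbdc001)],[(nat_lit 0x26c1001),(nat_lit 0x13f3001),(nat_lit 0x2f3d001),(nat_lit 0x13f4001),(nat_lit 0x1415001),(nat_lit 0x1418001),(nat_lit 0x3cce001)],[(nat_lit 0xbe60084f002),(nat_lit 0x19b6001),(nat_lit 0xbcc001),(nat_lit 0xbd4001),(nat_lit 0x13f5001),(nat_lit 0xbc60084e002),(nat_lit 0xcb7001)],[(nat_lit 0xcc9001),(nat_lit 0x1416001),(nat_lit 0x13f7001),(nat_lit 0xcca001),(nat_lit 0xcc8001),(nat_lit 0x1ccc001),(nat_lit 0x273c001)],[(nat_lit 0xc74001),(nat_lit 0xc75001),(nat_lit 0xf22001),(nat_lit 0xc76001),(nat_lit 0xc73001),(nat_lit 0x2402001),(nat_lit 0x265d001)],[(nat_lit 0x19cf001),(nat_lit 0x19d0001),(nat_lit 0x19d1001),(nat_lit 0x2405001),(nat_lit 0x19d2001),(nat_lit 0x19ce001),(nat_lit 0xc55b04636002)],[(nat_lit 0xc49406968002),(nat_lit 0x6969001),(nat_lit 0xa63a0696a002),(nat_lit 0xc4960696b002),(nat_lit 0xc4970696c002),(nat_lit 0xa6420696d002),(nat_lit 0x2401001)],[(nat_lit 0x1d3d001),(nat_lit 0xa92001),(nat_lit 0xa93001),(nat_lit 0xaca001),(nat_lit 0xa91001),(nat_lit 0xab8001),(nat_lit 0x21e3001)],[(nat_lit 0xaad001),(nat_lit 0xacb001),(nat_lit 0xcdf001),(nat_lit 0xaac001),(nat_lit 0x214a001),(nat_lit 0xacc001),(nat_lit 0xcbf001)],[(nat_lit 0x1b58001),(nat_lit 0x157700cad002),(nat_lit 0x9a6e8021af002),(nat_lit 0x14f0001),(nat_lit 0x1b7c001),(nat_lit 0x14e600cac002),(nat_lit 0x26ff001)],[(nat_lit 0x1ae7001),(nat_lit 0x1b7d001),(nat_lit 0x1a12001),(nat_lit 0x2b95001),(nat_lit 0x1a11001),(nat_lit 0x1b87001),(nat_lit 0x46f8001)],[(nat_lit 0x1b21001),(nat_lit 0x1b22001),(nat_lit 0x99d4e021aa002),(nat_lit 0x1b57001),(nat_lit 0x1b65001),(nat_lit 0x1b5a001),(nat_lit 0x1a2cd04adb002)],[(nat_lit 0x1b63001),(nat_lit 0x156600cab002),(nat_lit 0x99d48021ad002),(nat_lit 0x1b92001),(nat_lit 0x14e600caa002),(nat_lit 0x1b94001),(nat_lit 0x26ef001)],[(nat_lit 0x1853206165002),(nat_lit 0x6166001),(nat_lit 0x6167001),(nat_lit 0x1853606226002),(nat_lit 0x6227001),(nat_lit 0x1a30106228002),(nat_lit 0x217d001)],[(nat_lit 0x158b001),(nat_lit 0x9a7fb01b7a002),(nat_lit 0x156600caf002),(nat_lit 0x9b78901bf2002),(nat_lit 0x157000cae002),(nat_lit 0x9b6f901b96002),(nat_lit 0x2708001)],[(nat_lit 0x154d001),(nat_lit 0x1b76001),(nat_lit 0x14df001),(nat_lit 0x1570014e0002),(nat_lit 0x2111001),(nat_lit 0x1583001),(nat_lit 0x1530001)],[(nat_lit 0x1b67001),(nat_lit 0x1b93001),(nat_lit 0x4b4c001),(nat_lit 0x1b66001),(nat_lit 0x1b82001),(nat_lit 0x1b99001),(nat_lit 0x4bb8001)],[(nat_lit 0x1b69001),(nat_lit 0x1b95001),(nat_lit 0x9b6f901b98002),(nat_lit 0x1b9b001),(nat_lit 0x1b85001),(nat_lit 0x1b68001),(nat_lit 0x4bb9001)],[(nat_lit 0x5169704c59002),(nat_lit 0x4c5a001),(nat_lit 0x516bd04c5b002),(nat_lit 0x5163604c5c002),(nat_lit 0x5163904c5d002),(nat_lit 0x516bb04c5e002),(nat_lit 0x1b7b001)],[(nat_lit 0x10b000c0c002),(nat_lit 0xc0d001),(nat_lit 0x144a001),(nat_lit 0x144d001),(nat_lit 0xc0e001),(nat_lit 0x1451001),(nat_lit 0x253f001)],[(nat_lit 0x144e001),(nat_lit 0xc1e001),(nat_lit 0x254f001),(nat_lit 0xc1d001),(nat_lit 0xc1f001),(nat_lit 0x1459001),(nat_lit 0x2551001)],[(nat_lit 0x1452001),(nat_lit 0xc3c001),(nat_lit 0x1457001),(nat_lit 0x145b001),(nat_lit 0x10b700c4a002),(nat_lit 0x10b000c3b002),(nat_lit 0x25bb001)],[(nat_lit 0x1660003d9c002),(nat_lit 0x3d9d001),(nat_lit 0x3d9e001),(nat_lit 0x3d9f001),(nat_lit 0x3da0001),(nat_lit 0x1660703da1002),(nat_lit 0x1449001)],[(nat_lit 0x25c0001),(nat_lit 0x137f012f9002),(nat_lit 0x3381001),(nat_lit 0x12f8001),(nat_lit 0x2606001),(nat_lit 0x12fa001),(nat_lit 0x24f4001)],[(nat_lit 0x2604001),(nat_lit 0x2607001),(nat_lit 0x2609001),(nat_lit 0x25e5001),(nat_lit 0x25be001),(nat_lit 0x708f001),(nat_lit 0x30ef007092002)],[(nat_lit 0x1a01001),(nat_lit 0xb9c001),(nat_lit 0xbf7001),(nat_lit 0xb9b001),(nat_lit 0x1843001),(nat_lit 0x109500c39002),(nat_lit 0xc82001)],[(nat_lit 0x245f001),(nat_lit 0xb38001),(nat_lit 0x10d3001),(nat_lit 0x145d001),(nat_lit 0xb37001),(nat_lit 0x145f001),(nat_lit 0x2476001)],[(nat_lit 0x10d8001),(nat_lit 0x1842001),(nat_lit 0x15aa001),(nat_lit 0x1533010e8002),(nat_lit 0x10d7001),(nat_lit 0x15e2001),(nat_lit 0x154c001)],[(nat_lit 0x153500c6b002),(nat_lit 0x145e001),(nat_lit 0x1543001),(nat_lit 0x109c00c6a002),(nat_lit 0x1533010ea002),(nat_lit 0x1462001),(nat_lit 0x2650001)],[(nat_lit 0xc3e001),(nat_lit 0x1460001),(nat_lit 0xc3f001),(nat_lit 0x1464001),(nat_lit 0x10a700c44002),(nat_lit 0x109c00c3d002),(nat_lit 0x25bc001)],[(nat_lit 0xef0e03db5002),(nat_lit 0x3dd4001),(nat_lit 0xeee703dd5002),(nat_lit 0xef0b03dd6002),(nat_lit 0xef8b03dd7002),(nat_lit 0xef0903dd8002),(nat_lit 0x145c001)],[(nat_lit 0x24ac001),(nat_lit 0x6b8d001),(nat_lit 0x24ab001),(nat_lit 0x24c3001),(nat_lit 0x24ad001),(nat_lit 0x24ce001),(nat_lit 0x6b8f001)],[(nat_lit 0xc41001),(nat_lit 0x145a001),(nat_lit 0x24d0001),(nat_lit 0xc42001),(nat_lit 0x25ab001),(nat_lit 0x10b100c40002),(nat_lit 0x25bd001)],[(nat_lit 0xc4ad06b90002),(nat_lit 0x6b91001),(nat_lit 0x6b92001),(nat_lit 0x6b93001),(nat_lit 0x6b94001),(nat_lit 0xc4d406b95002),(nat_lit 0x24ae001)],[(nat_lit 0xc42702567002),(nat_lit 0xc45b06ddc002),(nat_lit 0xa63c06cfd002),(nat_lit 0xc41f06d00002),(nat_lit 0xa63d06e4e002),(nat_lit 0xc46002566002),(nat_lit 0x4c79001)],[(nat_lit 0xc4df06fe8002),(nat_lit 0x2594001),(nat_lit 0x6fe9001),(nat_lit 0x25f3001),(nat_lit 0x25f5001),(nat_lit 0x25f7001),(nat_lit 0x6fea001)],[(nat_lit 0x253a001),(nat_lit 0xa64706e14002),(nat_lit 0xc46002539002),(nat_lit 0xc4ef06d09002),(nat_lit 0xc4f006cf9002),(nat_lit 0xa63c06cfc002),(nat_lit 0xc4f106e15002)],[(nat_lit 0x253c001),(nat_lit 0xc45d06dd8002),(nat_lit 0x6df3001),(nat_lit 0xc4600253b002),(nat_lit 0xc46106d0e002),(nat_lit 0xc41f06cfe002),(nat_lit 0x6e18001)],[(nat_lit 0x2565001),(nat_lit 0xc4e506dda002),(nat_lit 0xc4f006cfb002),(nat_lit 0x6e49001),(nat_lit 0xc46002564002),(nat_lit 0x6e4b001),(nat_lit 0x6e4d001)],[(nat_lit 0x1d3a001),(nat_lit 0x1d3b001),(nat_lit 0x1d3c001),(nat_lit 0x20ed001),(nat_lit 0x1d40001),(nat_lit 0x1d79001),(nat_lit 0x52cd001)],[(nat_lit 0x20eb001),(nat_lit 0xa90001),(nat_lit 0x21de001),(nat_lit 0xa8f001),(nat_lit 0x215f001),(nat_lit 0xe14001),(nat_lit 0x21df001)],[(nat_lit 0x1d76001),(nat_lit 0xa95001),(nat_lit 0xa96001),(nat_lit 0xe12001),(nat_lit 0xe15001),(nat_lit 0xa94001),(nat_lit 0x21e7001)],[(nat_lit 0x1b11706111002),(nat_lit 0x6112001),(nat_lit 0x6113001),(nat_lit 0x6114001),(nat_lit 0x6115001),(nat_lit 0x1b0f706116002),(nat_lit 0x2144001)],[(nat_lit 0xa7b001),(nat_lit 0x185e001),(nat_lit 0xa7a001),(nat_lit 0xa7c001),(nat_lit 0x215a001),(nat_lit 0xaab001),(nat_lit 0x1792001)],[(nat_lit 0x2122001),(nat_lit 0x2160001),(nat_lit 0x215c001),(nat_lit 0x2148001),(nat_lit 0x2121001),(nat_lit 0x605c001),(nat_lit 0x605e001)],[(nat_lit 0xa98001),(nat_lit 0xe13001),(nat_lit 0xaaa001),(nat_lit 0xa99001),(nat_lit 0x2169001),(nat_lit 0xa97001),(nat_lit 0x166e001)],[(nat_lit 0x179d001),(nat_lit 0x22d6001),(nat_lit 0x1798001),(nat_lit 0x1799001),(nat_lit 0x1797001),(nat_lit 0x179b001),(nat_lit 0x179a001)],[(nat_lit 0x4d8001),(nat_lit 0xe16001),(nat_lit 0x4d9001),(nat_lit 0xe5d001),(nat_lit 0x4d7001),(nat_lit 0xa9d001),(nat_lit 0x14d2001)],[(nat_lit 0xbdf001),(nat_lit 0x1a5b001),(nat_lit 0xbd5001),(nat_lit 0xbe60085b002),(nat_lit 0x1ac6001),(nat_lit 0xbef0085a002),(nat_lit 0xbe4001)],[(nat_lit 0x1cf2001),(nat_lit 0x1cf3001),(nat_lit 0x1cf4001),(nat_lit 0x1cf5001),(nat_lit 0x1cf1001),(nat_lit 0x2419001),(nat_lit 0x514c001)],[(nat_lit 0x259b0255b002),(nat_lit 0x2bb8001),(nat_lit 0x255c001),(nat_lit 0x25a2001),(nat_lit 0x25a3001),(nat_lit 0x255d001),(nat_lit 0xe3f001)],[(nat_lit 0x1b9f001),(nat_lit 0x15bb00e22002),(nat_lit 0x1ba4001),(nat_lit 0x158a001),(nat_lit 0x15bc001),(nat_lit 0x156900e21002),(nat_lit 0x20fd802b64002)],[(nat_lit 0xe3a001),(nat_lit 0x15d9001),(nat_lit 0x15da001),(nat_lit 0x2ba2001),(nat_lit 0x15d200e39002),(nat_lit 0x2186001),(nat_lit 0x2ba8001)],[(nat_lit 0x1b47001),(nat_lit 0x1b55001),(nat_lit 0x1b9c001),(nat_lit 0x1b46001),(nat_lit 0x1b80001),(nat_lit 0x1b9e001),(nat_lit 0x17adc04b79002)],[(nat_lit 0x1b9d001),(nat_lit 0x214d001),(nat_lit 0x1b7e001),(nat_lit 0x4c66001),(nat_lit 0x1ba1001),(nat_lit 0x1ba3001),(nat_lit 0x4c68001)],[(nat_lit 0x1b81001),(nat_lit 0x155600e20002),(nat_lit 0x1ba2001),(nat_lit 0x1b88001),(nat_lit 0x156900e1f002),(nat_lit 0x21a5001),(nat_lit 0x2b54001)],[(nat_lit 0x2106404c69002),(nat_lit 0x4c6a001),(nat_lit 0x4c6b001),(nat_lit 0x17a4704c6c002),(nat_lit 0x4c6d001),(nat_lit 0x17a4804c6e002),(nat_lit 0x1b7f001)],[(nat_lit 0x24b1001),(nat_lit 0x213b001),(nat_lit 0x214e001),(nat_lit 0x213c001),(nat_lit 0x213d001),(nat_lit 0x2176001),(nat_lit 0x213e001)],[(nat_lit 0x1b83001),(nat_lit 0x1b89001),(nat_lit 0x2507001),(nat_lit 0x1b25001),(nat_lit 0x1b26001),(nat_lit 0x21a7001),(nat_lit 0x34c3001)],[(nat_lit 0x2170001),(nat_lit 0x21a6001),(nat_lit 0x2171001),(nat_lit 0x21a9001),(nat_lit 0x2183001),(nat_lit 0x216f001),(nat_lit 0x6142001)],[(nat_lit 0xc4c706150002),(nat_lit 0x6151001),(nat_lit 0x6152001),(nat_lit 0x6bd506153002),(nat_lit 0x6154001),(nat_lit 0xc4ac06155002),(nat_lit 0x2178001)],[(nat_lit 0x204500d71002),(nat_lit 0xd72001),(nat_lit 0x2046001),(nat_lit 0xdf1001),(nat_lit 0x2048001),(nat_lit 0xd73001),(nat_lit 0x2901001)],[(nat_lit 0x14b2001),(nat_lit 0x146f001),(nat_lit 0x142f001),(nat_lit 0x3d66001),(nat_lit 0x14b6001),(nat_lit 0x142e001),(nat_lit 0x3d96001)],[(nat_lit 0x204c001),(nat_lit 0x171000dc2002),(nat_lit 0x204101ff9002),(nat_lit 0x20d0001),(nat_lit 0x204500dc1002),(nat_lit 0x204d001),(nat_lit 0x29f1001)],[(nat_lit 0x1ab9803e1f002),(nat_lit 0x1abd203e20002),(nat_lit 0x1abc303e21002),(nat_lit 0x1ab9403e22002),(nat_lit 0x3e23001),(nat_lit 0x1abc103e24002),(nat_lit 0x14b0001)],[(nat_lit 0x20cf001),(nat_lit 0x20d1001),(nat_lit 0x5f1f001),(nat_lit 0x20b4001),(nat_lit 0x20c7001),(nat_lit 0x20d2001),(nat_lit 0x5f21001)],[(nat_lit 0xd7f001),(nat_lit 0x2053001),(nat_lit 0xdc7001),(nat_lit 0x20d3001),(nat_lit 0xd7e001),(nat_lit 0x171000d80002),(nat_lit 0x2938001)],[(nat_lit 0x5191205f25002),(nat_lit 0x5f26001),(nat_lit 0x4b2ba05f27002),(nat_lit 0x5f28001),(nat_lit 0x5f29001),(nat_lit 0x5183f05f2a002),(nat_lit 0x20b5001)],[(nat_lit 0x1425001),(nat_lit 0x2836001),(nat_lit 0x204901424002),(nat_lit 0x3d0f001),(nat_lit 0x14a6001),(nat_lit 0x14b3001),(nat_lit 0x3d86001)],[(nat_lit 0x207500d4a002),(nat_lit 0xd4b001),(nat_lit 0x2076001),(nat_lit 0xd4c001),(nat_lit 0x2077001),(nat_lit 0xdf2001),(nat_lit 0x289a001)],[(nat_lit 0x204e00d5a002),(nat_lit 0xd5b001),(nat_lit 0x2078001),(nat_lit 0x2079001),(nat_lit 0xd5c001),(nat_lit 0x207a001),(nat_lit 0xa0932028bb002)],[(nat_lit 0x1ac1407a62002),(nat_lit 0x9a6e107a63002),(nat_lit 0x1abbd07a64002),(nat_lit 0x17a0b07a65002),(nat_lit 0x1abe307a66002),(nat_lit 0x1abdb07a67002),(nat_lit 0x27e6001)],[(nat_lit 0x20b0001),(nat_lit 0x1436001),(nat_lit 0x201b01437002),(nat_lit 0x2913001),(nat_lit 0x146a001),(nat_lit 0x1471001),(nat_lit 0x3d9b001)],[(nat_lit 0x3d10001),(nat_lit 0x3ced001),(nat_lit 0x45bb001),(nat_lit 0x3cec001),(nat_lit 0x811c001),(nat_lit 0x3d64001),(nat_lit 0xe709001)],[(nat_lit 0x14a5001),(nat_lit 0x1468001),(nat_lit 0x142d001),(nat_lit 0x3d90001),(nat_lit 0x142c001),(nat_lit 0x14ab001),(nat_lit 0x3d91001)],[(nat_lit 0x20fb40e70e002),(nat_lit 0x227540e70f002),(nat_lit 0xe710001),(nat_lit 0x9a7f60e711002),(nat_lit 0xe712001),(nat_lit 0x20fb70e713002),(nat_lit 0x3cee001)],[(nat_lit 0x149f001),(nat_lit 0x234e0224e002),(nat_lit 0x1492001),(nat_lit 0x2288001),(nat_lit 0x14a0001),(nat_lit 0x14a2001),(nat_lit 0x3df5001)],[(nat_lit 0x207b001),(nat_lit 0xd8d001),(nat_lit 0x207c001),(nat_lit 0x207d001),(nat_lit 0x207500d8c002),(nat_lit 0x22aa001),(nat_lit 0x2948001)],[(nat_lit 0x1a29c03df9002),(nat_lit 0x3dfa001),(nat_lit 0x3dfb001),(nat_lit 0x3dfc001),(nat_lit 0x3dfd001),(nat_lit 0x1a2a103dfe002),(nat_lit 0x1493001)],[(nat_lit 0x207e001),(nat_lit 0xdb7001),(nat_lit 0x29e7001),(nat_lit 0x204e00db6002),(nat_lit 0x207f001),(nat_lit 0x2080001),(nat_lit 0x29e8001)],[(nat_lit 0x2081001),(nat_lit 0xdb9001),(nat_lit 0x2082001),(nat_lit 0x2083001),(nat_lit 0x2084001),(nat_lit 0x204e00db8002),(nat_lit 0xa0a7e029e9002)],[(nat_lit 0x99e0c0e722002),(nat_lit 0x3cf3001),(nat_lit 0xe723001),(nat_lit 0x999ea03d6f002),(nat_lit 0x3d71001),(nat_lit 0x3d73001),(nat_lit 0x9b42f0e724002)],[(nat_lit 0x3d68001),(nat_lit 0x212430e728002),(nat_lit 0x3cf4001),(nat_lit 0xe729001),(nat_lit 0x3d75001),(nat_lit 0x3d77001),(nat_lit 0xe72a001)],[(nat_lit 0x1ab9a03d6a002),(nat_lit 0x999ea03d70002),(nat_lit 0x999680e72b002),(nat_lit 0x3cf5001),(nat_lit 0x99cc00e72c002),(nat_lit 0x3d79001),(nat_lit 0x178c70e72d002)],[(nat_lit 0x3d6c001),(nat_lit 0x3d72001),(nat_lit 0x3d76001),(nat_lit 0xe72e001),(nat_lit 0x3cf6001),(nat_lit 0xe72f001),(nat_lit 0xe730001)],[(nat_lit 0x1fb3001),(nat_lit 0x1fe9001),(nat_lit 0x20af001),(nat_lit 0x1fe2001),(nat_lit 0x20b2001),(nat_lit 0x1fb2001),(nat_lit 0x912a05e2c002)],[(nat_lit 0x1fe1001),(nat_lit 0x170100d9c002),(nat_lit 0x201501955002),(nat_lit 0x16ff00d9b002),(nat_lit 0x20d6001),(nat_lit 0x171c001),(nat_lit 0x295f001)],[(nat_lit 0x20b3001),(nat_lit 0x202100d9e002),(nat_lit 0x2042001),(nat_lit 0x2043001),(nat_lit 0x16ff00d9d002),(nat_lit 0x204401ff4002),(nat_lit 0x2964001)],[(nat_lit 0x1892f05ee6002),(nat_lit 0x1893205ee7002),(nat_lit 0x1893305ee8002),(nat_lit 0x9da5305ee9002),(nat_lit 0x5eea001),(nat_lit 0x1893405eeb002),(nat_lit 0x1fe6001)],[(nat_lit 0x200a001),(nat_lit 0x1801001),(nat_lit 0x2009017f9002),(nat_lit 0x1814001),(nat_lit 0x20d8001),(nat_lit 0x200102000002),(nat_lit 0x17f8001)],[(nat_lit 0x20d5001),(nat_lit 0x20d7001),(nat_lit 0x20d9001),(nat_lit 0x20db020c9002),(nat_lit 0x20b6001),(nat_lit 0x490e001),(nat_lit 0x5f2b001)],[(nat_lit 0x71b001),(nat_lit 0x844001),(nat_lit 0xcf9001),(nat_lit 0x71a001),(nat_lit 0xb33001),(nat_lit 0x845001),(nat_lit 0x20090168f002)],[(nat_lit 0xdf6001),(nat_lit 0x2056001),(nat_lit 0x25a8001),(nat_lit 0x202100df5002),(nat_lit 0x20db020ca002),(nat_lit 0x2057001),(nat_lit 0x2acf001)],[(nat_lit 0xdbb001),(nat_lit 0x204401ff3002),(nat_lit 0xdbc001),(nat_lit 0x2055001),(nat_lit 0xdc5001),(nat_lit 0x202100dba002),(nat_lit 0x29ea001)],[(nat_lit 0x4ccde03e30002),(nat_lit 0x3e97001),(nat_lit 0x4cca003e98002),(nat_lit 0x4cce603e99002),(nat_lit 0x4cce703e9a002),(nat_lit 0x4cce803e9b002),(nat_lit 0x14b9001)],[(nat_lit 0x3b8d001),(nat_lit 0x223c001),(nat_lit 0x234e0224f002),(nat_lit 0x227f001),(nat_lit 0x227e001),(nat_lit 0x223b001),(nat_lit 0x4677001)],[(nat_lit 0x2090001),(nat_lit 0x2280001),(nat_lit 0x1793001),(nat_lit 0x20500168d002),(nat_lit 0x17bb001),(nat_lit 0x2091001),(nat_lit 0x168e001)],[(nat_lit 0xd92001),(nat_lit 0x227d001),(nat_lit 0xd93001),(nat_lit 0x204f017fe002),(nat_lit 0x172d00d91002),(nat_lit 0x22b2001),(nat_lit 0x294c001)],[(nat_lit 0x550001),(nat_lit 0xf2d001),(nat_lit 0x54f001),(nat_lit 0xd33001),(nat_lit 0x551001),(nat_lit 0x85d001),(nat_lit 0x20500169a002)],[(nat_lit 0xd7c001),(nat_lit 0x2085001),(nat_lit 0x2910001),(nat_lit 0xd7b001),(nat_lit 0xd7d001),(nat_lit 0x28a5001),(nat_lit 0x2931001)],[(nat_lit 0x22a2001),(nat_lit 0x22ab001),(nat_lit 0x22b1001),(nat_lit 0x28a7001),(nat_lit 0x2248001),(nat_lit 0x2249001),(nat_lit 0x64d2001)],[(nat_lit 0xc58807dce002),(nat_lit 0x7dcf001),(nat_lit 0x7dd0001),(nat_lit 0x7ddc07dd1002),(nat_lit 0x7dd2001),(nat_lit 0xc62c07dd3002),(nat_lit 0x28a1001)],[(nat_lit 0x28d3001),(nat_lit 0x7ec4001),(nat_lit 0x28d2001),(nat_lit 0x697f001),(nat_lit 0x2912001),(nat_lit 0x2922001),(nat_lit 0x7ec5001)],[(nat_lit 0xdbe001),(nat_lit 0x2086001),(nat_lit 0x2924001),(nat_lit 0xdbf001),(nat_lit 0x292b001),(nat_lit 0xdbd001),(nat_lit 0x29eb001)],[(nat_lit 0x517cd07f1c002),(nat_lit 0x7f1d001),(nat_lit 0x7f1e001),(nat_lit 0x7f1f001),(nat_lit 0x5188d07f20002),(nat_lit 0x5179907f21002),(nat_lit 0x28f1001)],[(nat_lit 0x4da8d028df002),(nat_lit 0x4dacd07ee0002),(nat_lit 0x4dba507e90002),(nat_lit 0x4da7e07e93002),(nat_lit 0x7ee2001),(nat_lit 0x4dae0028de002),(nat_lit 0x1f39407ee4002)],[(nat_lit 0x4db7308403002),(nat_lit 0x29b0001),(nat_lit 0x8404001),(nat_lit 0x2a08001),(nat_lit 0x2a0a001),(nat_lit 0x2a0c001),(nat_lit 0x8405001)],[(nat_lit 0x28d9001),(nat_lit 0x7ecf001),(nat_lit 0x4dae0028d8002),(nat_lit 0x99c5f07ed0002),(nat_lit 0x4dbac07e8c002),(nat_lit 0x4dba507e8f002),(nat_lit 0x4dbad07ed1002)],[(nat_lit 0x28db001),(nat_lit 0x4dace07ed2002),(nat_lit 0x7ed4001),(nat_lit 0x4dae0028da002),(nat_lit 0x7ed6001),(nat_lit 0x4da7e07e91002),(nat_lit 0x7ed8001)],[(nat_lit 0x28dd001),(nat_lit 0x4db7f07ed9002),(nat_lit 0x4dbac07e8e002),(nat_lit 0x9bb7107edb002),(nat_lit 0x4dae0028dc002),(nat_lit 0x9ba0307edd002),(nat_lit 0x7edf001)],[(nat_lit 0xf91001),(nat_lit 0x11760110d002),(nat_lit 0x123c001),(nat_lit 0x116f00f90002),(nat_lit 0xf92001),(nat_lit 0x11f6001),(nat_lit 0x2f9d001)],[(nat_lit 0x117200f94002),(nat_lit 0x117701109002),(nat_lit 0x11f4001),(nat_lit 0x11f9001),(nat_lit 0x117b01100002),(nat_lit 0x116f00f93002),(nat_lit 0x2fa1001)],[(nat_lit 0xf6c1034c9002),(nat_lit 0x34ca001),(nat_lit 0xf6cd034cb002),(nat_lit 0xf6a1034cc002),(nat_lit 0xf6d0034cd002),(nat_lit 0xf69f034ce002),(nat_lit 0x11f1001)],[(nat_lit 0x12c3001),(nat_lit 0x258a001),(nat_lit 0x3376001),(nat_lit 0x25e7001),(nat_lit 0x1369012c2002),(nat_lit 0x385e001),(nat_lit 0x32ae1038d2002)],[(nat_lit 0x123d001),(nat_lit 0x34e9001),(nat_lit 0x1226001),(nat_lit 0x3649001),(nat_lit 0x1225001),(nat_lit 0x123f001),(nat_lit 0x364a001)],[(nat_lit 0x11f7001),(nat_lit 0x117400f98002),(nat_lit 0x1240001),(nat_lit 0x117200f99002),(nat_lit 0x125b001),(nat_lit 0xf97001),(nat_lit 0x2fc8001)],[(nat_lit 0xf4bc036aa002),(nat_lit 0x36ab001),(nat_lit 0x36ac001),(nat_lit 0x36ad001),(nat_lit 0x36ae001),(nat_lit 0xf4b5036af002),(nat_lit 0x123b001)],[(nat_lit 0xf6be0375f002),(nat_lit 0xf6bb03760002),(nat_lit 0xf6bf03761002),(nat_lit 0xf69a03762002),(nat_lit 0x3763001),(nat_lit 0xf70f03764002),(nat_lit 0x1256001)],[(nat_lit 0x9ea3001),(nat_lit 0x2f92001),(nat_lit 0x9ea4001),(nat_lit 0x2fb6001),(nat_lit 0x2fb8001),(nat_lit 0x2fba001),(nat_lit 0x9ea5001)],[(nat_lit 0x2faf001),(nat_lit 0x9ea9001),(nat_lit 0x2f93001),(nat_lit 0x9eaa001),(nat_lit 0x2fbc001),(nat_lit 0x2fbe001),(nat_lit 0xe51509eab002)],[(nat_lit 0x2fb1001),(nat_lit 0x2fb7001),(nat_lit 0x9eac001),(nat_lit 0x2f94001),(nat_lit 0xaf91509ead002),(nat_lit 0x2fc0001),(nat_lit 0x9eae001)],[(nat_lit 0x2fb3001),(nat_lit 0x2fb9001),(nat_lit 0x2fbd001),(nat_lit 0x9eaf001),(nat_lit 0x2f95001),(nat_lit 0x9eb0001),(nat_lit 0x9eb1001)],[(nat_lit 0x1a07001),(nat_lit 0x1a06001),(nat_lit 0x24f2001),(nat_lit 0x249e001),(nat_lit 0x37e1001),(nat_lit 0x1a08001),(nat_lit 0x24f4001)],[(nat_lit 0x3400001),(nat_lit 0x3481001),(nat_lit 0x33ff001),(nat_lit 0x3401001),(nat_lit 0x37e5001),(nat_lit 0x3402001),(nat_lit 0x33fe001)],[(nat_lit 0x249c001),(nat_lit 0x1364012a7002),(nat_lit 0x2495001),(nat_lit 0x12a6001),(nat_lit 0x2527001),(nat_lit 0x137c001),(nat_lit 0x3403001)],[(nat_lit 0x37e2001),(nat_lit 0x12c7001),(nat_lit 0x37e7001),(nat_lit 0x381e001),(nat_lit 0x12c6001),(nat_lit 0x3865001),(nat_lit 0x38d3001)],[(nat_lit 0x25c0001),(nat_lit 0x25bf001),(nat_lit 0x25dc001),(nat_lit 0x25c1001),(nat_lit 0x3765001),(nat_lit 0x25c2001),(nat_lit 0x25c3001)],[(nat_lit 0x339f001),(nat_lit 0x2518001),(nat_lit 0x3482001),(nat_lit 0x2517001),(nat_lit 0x3802001),(nat_lit 0x2519001),(nat_lit 0x2516001)],[(nat_lit 0x3375001),(nat_lit 0x3803001),(nat_lit 0x12cb001),(nat_lit 0x3907001),(nat_lit 0x12ca001),(nat_lit 0x3868001),(nat_lit 0x109a603908002)],[(nat_lit 0x144b001),(nat_lit 0x2525001),(nat_lit 0x144a001),(nat_lit 0x2640001),(nat_lit 0x144c001),(nat_lit 0x2540001),(nat_lit 0x3da2001)],[(nat_lit 0x2678001),(nat_lit 0x381f001),(nat_lit 0x720e001),(nat_lit 0x2679001),(nat_lit 0x2677001),(nat_lit 0x386b001),(nat_lit 0x7358001)],[(nat_lit 0x385f001),(nat_lit 0x3866001),(nat_lit 0x3869001),(nat_lit 0x386c001),(nat_lit 0x381c001),(nat_lit 0x381b001),(nat_lit 0x1038d0d07b002)],[(nat_lit 0x32a1a03828002),(nat_lit 0x3886001),(nat_lit 0x32a1d012e1002),(nat_lit 0x3888001),(nat_lit 0x32a1e038a3002),(nat_lit 0x12e0001),(nat_lit 0x32a200394e002)],[(nat_lit 0x11c2001),(nat_lit 0x11c3001),(nat_lit 0x11c4001),(nat_lit 0x11c5001),(nat_lit 0x151a01246002),(nat_lit 0x11c6001),(nat_lit 0x11c7001)],[(nat_lit 0x11b1001),(nat_lit 0x11b2001),(nat_lit 0x1249001),(nat_lit 0x15250124c002),(nat_lit 0x11b3001),(nat_lit 0x122e001),(nat_lit 0x33ee001)],[(nat_lit 0x122b001),(nat_lit 0x115500fab002),(nat_lit 0x1207001),(nat_lit 0x15270124f002),(nat_lit 0x115f010f3002),(nat_lit 0x114d00faa002),(nat_lit 0x2fd2001)],[(nat_lit 0xeda403703002),(nat_lit 0x3704001),(nat_lit 0xedab03705002),(nat_lit 0x3706001),(nat_lit 0x3707001),(nat_lit 0xedad03708002),(nat_lit 0x1248001)],[(nat_lit 0x3070001),(nat_lit 0x10cd001),(nat_lit 0x10ce001),(nat_lit 0x1a18001),(nat_lit 0x1a1c001),(nat_lit 0x10cf001),(nat_lit 0x2ffc001)],[(nat_lit 0xc98001),(nat_lit 0x1a19001),(nat_lit 0xc9a001),(nat_lit 0xc97001),(nat_lit 0x26a9001),(nat_lit 0xc99001),(nat_lit 0x1a05001)],[(nat_lit 0x19b1001),(nat_lit 0x1a1d001),(nat_lit 0x19b2001),(nat_lit 0x26af001),(nat_lit 0x19b0001),(nat_lit 0x2487001),(nat_lit 0x45a4001)],[(nat_lit 0xb2d001),(nat_lit 0xb3d001),(nat_lit 0xb40001),(nat_lit 0xb31001),(nat_lit 0xb2c001),(nat_lit 0x23f7001),(nat_lit 0x244f001)],[(nat_lit 0x2b00001),(nat_lit 0x9d44f02b02002),(nat_lit 0x2a85001),(nat_lit 0x2a87001),(nat_lit 0x2a80001),(nat_lit 0x2a7f001),(nat_lit 0x8794001)],[(nat_lit 0x1318001),(nat_lit 0x9f64203a04002),(nat_lit 0x3a4e001),(nat_lit 0xee6501317002),(nat_lit 0x9f63903a50002),(nat_lit 0xeed5039af002),(nat_lit 0x3a90001)],[(nat_lit 0x131a001),(nat_lit 0x9c78703a06002),(nat_lit 0xa0573039ac002),(nat_lit 0x9c78603a5b002),(nat_lit 0xee6501319002),(nat_lit 0x9d40b03a5d002),(nat_lit 0x3a91001)],[(nat_lit 0xbcfe001),(nat_lit 0x3497001),(nat_lit 0x34ea001),(nat_lit 0x349b001),(nat_lit 0x3496001),(nat_lit 0x3498001),(nat_lit 0xbd02001)],[(nat_lit 0xedfc0b37d002),(nat_lit 0xed360bd22002),(nat_lit 0xb37e09f37002),(nat_lit 0xa136001),(nat_lit 0xebd20b380002),(nat_lit 0xee000b381002),(nat_lit 0x34ae001)],[(nat_lit 0x1233001),(nat_lit 0x125c001),(nat_lit 0x1276001),(nat_lit 0x1234001),(nat_lit 0x1232001),(nat_lit 0x1235001),(nat_lit 0x36a3001)],[(nat_lit 0xc436034dc002),(nat_lit 0xc448037de002),(nat_lit 0x34da001),(nat_lit 0x35d7001),(nat_lit 0xc41a037df002),(nat_lit 0xc44a034dd002),(nat_lit 0x1273001)],[(nat_lit 0xc4bc0c380002),(nat_lit 0x35a6001),(nat_lit 0xed740c381002),(nat_lit 0x35f5001),(nat_lit 0x35f7001),(nat_lit 0x35f9001),(nat_lit 0x329220c382002)],[(nat_lit 0x349f001),(nat_lit 0xed540bd18002),(nat_lit 0xc44a0349e002),(nat_lit 0x3547001),(nat_lit 0xc4510bca4002),(nat_lit 0x34de001),(nat_lit 0xc4520bd19002)],[(nat_lit 0x34a1001),(nat_lit 0xc4bb0bca0002),(nat_lit 0xb03c03530002),(nat_lit 0xc44a034a0002),(nat_lit 0xc4c50b16a002),(nat_lit 0x35d8001),(nat_lit 0xc4c60bd1a002)],[(nat_lit 0x34f5001),(nat_lit 0xc4bd0bca3002),(nat_lit 0xc4510bca6002),(nat_lit 0xc4c706bda002),(nat_lit 0xc44a034f4002),(nat_lit 0xc44d0bd09002),(nat_lit 0xbee4001)],[(nat_lit 0xc5d303743002),(nat_lit 0xc5070126b002),(nat_lit 0x3747001),(nat_lit 0xc50403715002),(nat_lit 0xc5dc0375b002),(nat_lit 0x126a001),(nat_lit 0x3772001)],[(nat_lit 0xc485035e2002),(nat_lit 0xc50403714002),(nat_lit 0xc46a03738002),(nat_lit 0xc50701271002),(nat_lit 0xc50803776002),(nat_lit 0xc46901270002),(nat_lit 0x3777001)],[(nat_lit 0xc5c40ab75002),(nat_lit 0xb05c0ad98002),(nat_lit 0xc53303254002),(nat_lit 0xc5e70af42002),(nat_lit 0xb04403253002),(nat_lit 0xb05d0adac002),(nat_lit 0xa05790af43002)],[(nat_lit 0xc503034df002),(nat_lit 0x34e0001),(nat_lit 0xc5d10bd2d002),(nat_lit 0x3570001),(nat_lit 0x3573001),(nat_lit 0x3579001),(nat_lit 0xf5920beca002)],[(nat_lit 0x373d001),(nat_lit 0x3722001),(nat_lit 0x3711001),(nat_lit 0xcdd5001),(nat_lit 0x3744001),(nat_lit 0x3746001),(nat_lit 0x106d70cdd6002)],[(nat_lit 0xc5010373f002),(nat_lit 0xc46901267002),(nat_lit 0xc6aa0376b002),(nat_lit 0x1266001),(nat_lit 0xc47003755002),(nat_lit 0xc50403713002),(nat_lit 0x376c001)],[(nat_lit 0xc5d203741002),(nat_lit 0xc50601269002),(nat_lit 0x3745001),(nat_lit 0xc5220376d002),(nat_lit 0x1268001),(nat_lit 0xc5db0376f002),(nat_lit 0x3771001)],[(nat_lit 0xf9190cdda002),(nat_lit 0xf91a0cddb002),(nat_lit 0xf9160cddc002),(nat_lit 0xcddd001),(nat_lit 0xf91c0cdde002),(nat_lit 0xf91d0cddf002),(nat_lit 0x3712001)],[(nat_lit 0xc5e10ad90002),(nat_lit 0xb04603252002),(nat_lit 0xc5d80ad94002),(nat_lit 0xb0470ab8c002),(nat_lit 0xb05b0adaf002),(nat_lit 0x3251001),(nat_lit 0xaf3a001)],[(nat_lit 0xc9530ab7a002),(nat_lit 0xb0470ab8b002),(nat_lit 0xb0360ada5002),(nat_lit 0xb04603258002),(nat_lit 0xc5350af48002),(nat_lit 0xc47d03257002),(nat_lit 0xaf49001)],[(nat_lit 0xc5420370f002),(nat_lit 0xc5e20374b002),(nat_lit 0xc5060126d002),(nat_lit 0xc5e303773002),(nat_lit 0xc5050126c002),(nat_lit 0xc5e403774002),(nat_lit 0x3775001)],[(nat_lit 0x353b001),(nat_lit 0xc6ab0bf36002),(nat_lit 0x353a001),(nat_lit 0x353d001),(nat_lit 0x35bf001),(nat_lit 0x353c001),(nat_lit 0xbf3a001)],[(nat_lit 0x353f001),(nat_lit 0x35be001),(nat_lit 0x35c1001),(nat_lit 0x355f001),(nat_lit 0x353e001),(nat_lit 0x7112001),(nat_lit 0xc4720bf3b002)],[(nat_lit 0xc50a0c3b1002),(nat_lit 0x32a440c3b2002),(nat_lit 0xc50b0c3b3002),(nat_lit 0xc50c0c3b4002),(nat_lit 0xc50d0c3b5002),(nat_lit 0xc57e0c3b6002),(nat_lit 0x35bc001)],[(nat_lit 0x3549001),(nat_lit 0x35c4001),(nat_lit 0xbf47001),(nat_lit 0x3548001),(nat_lit 0x3561001),(nat_lit 0x35ca001),(nat_lit 0xbf4a001)],[(nat_lit 0x354b001),(nat_lit 0x35c6001),(nat_lit 0x35c9001),(nat_lit 0x35cc001),(nat_lit 0x3562001),(nat_lit 0x354a001),(nat_lit 0xbf4b001)],[(nat_lit 0x8fc1a0c3bc002),(nat_lit 0xc3bd001),(nat_lit 0xa2da60c3be002),(nat_lit 0x8fc310c3bf002),(nat_lit 0xa47e80c3c0002),(nat_lit 0x8fc320c3c1002),(nat_lit 0x35c2001)],[(nat_lit 0x4e8001),(nat_lit 0x54b001),(nat_lit 0xa45001),(nat_lit 0x4e9001),(nat_lit 0x4e7001),(nat_lit 0x1030001),(nat_lit 0x1832001)],[(nat_lit 0xffa001),(nat_lit 0x1065001),(nat_lit 0x10be001),(nat_lit 0x1032001),(nat_lit 0xffb001),(nat_lit 0xff9001),(nat_lit 0xa9e00311a002)],[(nat_lit 0xc0f7032cc002),(nat_lit 0x32cd001),(nat_lit 0xb4f7032ce002),(nat_lit 0xc0dc032cf002),(nat_lit 0xc0f9032d0002),(nat_lit 0xc143032d1002),(nat_lit 0x10bb001)],[(nat_lit 0x50c001),(nat_lit 0x18b6001),(nat_lit 0x50b001),(nat_lit 0xf40001),(nat_lit 0xa43001),(nat_lit 0xa58001),(nat_lit 0xcbe001)],[(nat_lit 0x154a001),(nat_lit 0x184e001),(nat_lit 0x166a001),(nat_lit 0x158401549002),(nat_lit 0x15c0001),(nat_lit 0x1583001),(nat_lit 0xa42001)],[(nat_lit 0x2fdd001),(nat_lit 0x3009001),(nat_lit 0x2fde001),(nat_lit 0x3038001),(nat_lit 0x303b001),(nat_lit 0x2fdf001),(nat_lit 0x3075001)],[(nat_lit 0x303c001),(nat_lit 0xfe0001),(nat_lit 0xfe1001),(nat_lit 0x10e3001),(nat_lit 0xfe2001),(nat_lit 0x10c5001),(nat_lit 0x30fd001)],[(nat_lit 0x10e2001),(nat_lit 0x10e4001),(nat_lit 0x32d6001),(nat_lit 0x10c3001),(nat_lit 0x10d6001),(nat_lit 0x10e5001),(nat_lit 0x32d7001)],[(nat_lit 0x10bd001),(nat_lit 0x10c6001),(nat_lit 0xffd001),(nat_lit 0x10e6001),(nat_lit 0xffe001),(nat_lit 0xffc001),(nat_lit 0xda150311b002)],[(nat_lit 0xf610032db002),(nat_lit 0x32dc001),(nat_lit 0xba34032dd002),(nat_lit 0x32de001),(nat_lit 0x32df001),(nat_lit 0xf621032e0002),(nat_lit 0x10c4001)],[(nat_lit 0xa44001),(nat_lit 0x158c001),(nat_lit 0x50e001),(nat_lit 0x18d2001),(nat_lit 0x50d001),(nat_lit 0x1033001),(nat_lit 0x18d3001)],[(nat_lit 0x1031001),(nat_lit 0xfe9001),(nat_lit 0x1034001),(nat_lit 0xfea001),(nat_lit 0x100c001),(nat_lit 0xfe8001),(nat_lit 0x310f001)],[(nat_lit 0xeb740318f002),(nat_lit 0x3190001),(nat_lit 0xa9e403191002),(nat_lit 0x3192001),(nat_lit 0x3193001),(nat_lit 0xeb6503194002),(nat_lit 0x102f001)],[(nat_lit 0xc1530a108002),(nat_lit 0xc1050a109002),(nat_lit 0xb5350a10a002),(nat_lit 0xc0e20a10b002),(nat_lit 0x9b6ea0a10c002),(nat_lit 0xc1020a10d002),(nat_lit 0x2fea001)],[(nat_lit 0xa277001),(nat_lit 0x3051001),(nat_lit 0xa278001),(nat_lit 0x30ad001),(nat_lit 0x30af001),(nat_lit 0x30d3001),(nat_lit 0xa279001)],[(nat_lit 0xc0f8030a8002),(nat_lit 0xc1080a27d002),(nat_lit 0x3052001),(nat_lit 0xc1090a27e002),(nat_lit 0x30b1001),(nat_lit 0xc164030d5002),(nat_lit 0xa9ac0a27f002)],[(nat_lit 0x30aa001),(nat_lit 0x30ae001),(nat_lit 0xa105e0a280002),(nat_lit 0x3053001),(nat_lit 0x9dcfa0a281002),(nat_lit 0x30d7001),(nat_lit 0xa282001)],[(nat_lit 0x30ac001),(nat_lit 0x30b0001),(nat_lit 0x30b2001),(nat_lit 0xa283001),(nat_lit 0x3054001),(nat_lit 0x9b6c10a284002),(nat_lit 0xa285001)],[(nat_lit 0x24d4001),(nat_lit 0x10da001),(nat_lit 0x1841001),(nat_lit 0x183a001),(nat_lit 0x10d9001),(nat_lit 0x21d7001),(nat_lit 0x32f8001)],[(nat_lit 0x15df001),(nat_lit 0x21d6001),(nat_lit 0x15ca001),(nat_lit 0x15cb001),(nat_lit 0x15cc001),(nat_lit 0x15cd001),(nat_lit 0x15c9001)],[(nat_lit 0xd30001),(nat_lit 0x1946001),(nat_lit 0xd32001),(nat_lit 0xd2f001),(nat_lit 0x27ff001),(nat_lit 0xd31001),(nat_lit 0x153c001)],[(nat_lit 0x3ef2001),(nat_lit 0x14dd001),(nat_lit 0x14de001),(nat_lit 0x182b001),(nat_lit 0x158e001),(nat_lit 0x164f001),(nat_lit 0x3efc001)],[(nat_lit 0xf41001),(nat_lit 0x182c001),(nat_lit 0xf3e001),(nat_lit 0xf3d001),(nat_lit 0x2ec5001),(nat_lit 0xf3f001),(nat_lit 0x16f1001)],[(nat_lit 0xa59001),(nat_lit 0x164d001),(nat_lit 0x510001),(nat_lit 0xf15001),(nat_lit 0xa60001),(nat_lit 0x50f001),(nat_lit 0xbed001)],[(nat_lit 0xa5e001),(nat_lit 0x524001),(nat_lit 0xa61001),(nat_lit 0x6c400529002),(nat_lit 0x523001),(nat_lit 0x100f001),(nat_lit 0x1902001)],[(nat_lit 0x40b3001),(nat_lit 0x1830001),(nat_lit 0x184d001),(nat_lit 0x1850001),(nat_lit 0x1831001),(nat_lit 0x1852001),(nat_lit 0x40b5001)],[(nat_lit 0x1668001),(nat_lit 0x1669001),(nat_lit 0x15b2001),(nat_lit 0x15b0001),(nat_lit 0x15b1001),(nat_lit 0x15be001),(nat_lit 0x15b3001)],[(nat_lit 0x1f76001),(nat_lit 0x1f7c001),(nat_lit 0x1fac001),(nat_lit 0x1fae001),(nat_lit 0x1fb0001),(nat_lit 0x1fb2001),(nat_lit 0x5ca5001)],[(nat_lit 0x202b001),(nat_lit 0x146f001),(nat_lit 0x200e01470002),(nat_lit 0x2884001),(nat_lit 0x202d001),(nat_lit 0x1471001),(nat_lit 0x3dea001)],[(nat_lit 0x1faf001),(nat_lit 0xa4d001),(nat_lit 0x200b01954002),(nat_lit 0xa4c001),(nat_lit 0x1fc0001),(nat_lit 0x171c001),(nat_lit 0x1fdd001)],[(nat_lit 0x1fb1001),(nat_lit 0xa4f001),(nat_lit 0x1fb5001),(nat_lit 0x1fe3001),(nat_lit 0xa4e001),(nat_lit 0x1fc9001),(nat_lit 0x1fe5001)],[(nat_lit 0x1898105ca9002),(nat_lit 0x5d6b001),(nat_lit 0x5d6c001),(nat_lit 0x9b1a805d6d002),(nat_lit 0x5d6e001),(nat_lit 0x188f605d6f002),(nat_lit 0x1f78001)],[(nat_lit 0x200201fbc002),(nat_lit 0x17e2001),(nat_lit 0x17bf001),(nat_lit 0x17c0001),(nat_lit 0x1fc2001),(nat_lit 0x200401fc4002),(nat_lit 0x17be001)],[(nat_lit 0x1fbf001),(nat_lit 0x1fc1001),(nat_lit 0x1fc3001),(nat_lit 0x1fe7001),(nat_lit 0x1f79001),(nat_lit 0x4970001),(nat_lit 0x1f7a001)],[(nat_lit 0x846001),(nat_lit 0xcd8001),(nat_lit 0xc04001),(nat_lit 0x847001),(nat_lit 0x19f6001),(nat_lit 0x845001),(nat_lit 0x171d001)],[(nat_lit 0x1fd5001),(nat_lit 0x1fe4001),(nat_lit 0x5e3d001),(nat_lit 0x1fc7001),(nat_lit 0x1fe8001),(nat_lit 0x1ffb001),(nat_lit 0x5e3f001)],[(nat_lit 0xdc6001),(nat_lit 0x1fca001),(nat_lit 0xdc7001),(nat_lit 0x1ffc001),(nat_lit 0xdc5001),(nat_lit 0x170a00dc8002),(nat_lit 0x2a24001)],[(nat_lit 0x52f3205e40002),(nat_lit 0x5e41001),(nat_lit 0x4caa805e42002),(nat_lit 0x5e43001),(nat_lit 0x5e44001),(nat_lit 0x52f0305e45002),(nat_lit 0x1fc8001)],[(nat_lit 0x2fe0001),(nat_lit 0x3001001),(nat_lit 0x2ff8001),(nat_lit 0x2fe1001),(nat_lit 0x303e001),(nat_lit 0x2fe2001),(nat_lit 0x306a001)],[(nat_lit 0x2fe3001),(nat_lit 0x3006001),(nat_lit 0x303d001),(nat_lit 0x3040001),(nat_lit 0x2fe4001),(nat_lit 0x3042001),(nat_lit 0xa0f2001)],[(nat_lit 0x2ff9001),(nat_lit 0xfdb001),(nat_lit 0xfdc001),(nat_lit 0x2661001),(nat_lit 0x23ee001),(nat_lit 0xfdd001),(nat_lit 0x3076001)],[(nat_lit 0x303f001),(nat_lit 0xfe4001),(nat_lit 0x23ed001),(nat_lit 0x2446001),(nat_lit 0xfe3001),(nat_lit 0x2449001),(nat_lit 0x3107001)],[(nat_lit 0x3041001),(nat_lit 0x1002001),(nat_lit 0x311d001),(nat_lit 0x1001001),(nat_lit 0x2448001),(nat_lit 0x2fe6001),(nat_lit 0x311e001)],[(nat_lit 0x3043001),(nat_lit 0x1004001),(nat_lit 0x10c7001),(nat_lit 0x2fe8001),(nat_lit 0x1005001),(nat_lit 0x1003001),(nat_lit 0x3122001)],[(nat_lit 0x354220a0f3002),(nat_lit 0xa0f4001),(nat_lit 0x3202b0a0f5002),(nat_lit 0xa0f6001),(nat_lit 0xa0f7001),(nat_lit 0x354160a0f8002),(nat_lit 0x2fe5001)],[(nat_lit 0x1014001),(nat_lit 0x2447001),(nat_lit 0x30c8001),(nat_lit 0xfde001),(nat_lit 0xfdf001),(nat_lit 0x244c001),(nat_lit 0x30f4001)],[(nat_lit 0x23f3001),(nat_lit 0x244a001),(nat_lit 0x23f4001),(nat_lit 0x244e001),(nat_lit 0x23f5001),(nat_lit 0x23f2001),(nat_lit 0x6950001)],[(nat_lit 0xebf406a77002),(nat_lit 0x6a78001),(nat_lit 0xba7406a79002),(nat_lit 0xebf306a7a002),(nat_lit 0x9b30406a7b002),(nat_lit 0xebfd06a7c002),(nat_lit 0x2445001)],[(nat_lit 0x30da001),(nat_lit 0xa485001),(nat_lit 0x30b3001),(nat_lit 0x30cb001),(nat_lit 0x30c9001),(nat_lit 0x30db001),(nat_lit 0xa486001)],[(nat_lit 0x1082001),(nat_lit 0x2fe7001),(nat_lit 0x30dc001),(nat_lit 0x1007001),(nat_lit 0x3123001),(nat_lit 0x1006001),(nat_lit 0x3125001)],[(nat_lit 0xeb1f0a487002),(nat_lit 0xa488001),(nat_lit 0xa489001),(nat_lit 0xa48a001),(nat_lit 0xeb270a48b002),(nat_lit 0xeb280a48c002),(nat_lit 0x30b4001)],[(nat_lit 0xc11a0a10e002),(nat_lit 0xc11b0a10f002),(nat_lit 0xb4f10a110002),(nat_lit 0xc11c0a111002),(nat_lit 0xb4fe0a112002),(nat_lit 0xc18c0a113002),(nat_lit 0x2feb001)],[(nat_lit 0xa49a001),(nat_lit 0x30b9001),(nat_lit 0xa49b001),(nat_lit 0x30e5001),(nat_lit 0x30e7001),(nat_lit 0x30e9001),(nat_lit 0xa49c001)],[(nat_lit 0xc120030de002),(nat_lit 0xc17e0a4a0002),(nat_lit 0x30ba001),(nat_lit 0xc1210a4a1002),(nat_lit 0x30eb001),(nat_lit 0xc123030ed002),(nat_lit 0xa9e10a4a2002)],[(nat_lit 0x30e0001),(nat_lit 0x30e6001),(nat_lit 0xa4a3001),(nat_lit 0x30bb001),(nat_lit 0xa5260a4a4002),(nat_lit 0x30ef001),(nat_lit 0xa4a5001)],[(nat_lit 0x30e2001),(nat_lit 0x30e8001),(nat_lit 0x30ec001),(nat_lit 0x9ae4b0a4a6002),(nat_lit 0x30bc001),(nat_lit 0x9ae260a4a7002),(nat_lit 0xa4a8001)],[(nat_lit 0x1668001),(nat_lit 0x1669001),(nat_lit 0x166a001),(nat_lit 0x1667001),(nat_lit 0x166b001),(nat_lit 0x166c001),(nat_lit 0x166d001)],[(nat_lit 0x15c2001),(nat_lit 0x15c3001),(nat_lit 0x15e0001),(nat_lit 0x1506001),(nat_lit 0x150e001),(nat_lit 0x15af001),(nat_lit 0x1507001)],[(nat_lit 0xcf4001),(nat_lit 0x2793001),(nat_lit 0xcf5001),(nat_lit 0xcf3001),(nat_lit 0x21ed001),(nat_lit 0xcf6001),(nat_lit 0x15ad001)],[(nat_lit 0x3ef6001),(nat_lit 0x1503001),(nat_lit 0x158d001),(nat_lit 0x1857001),(nat_lit 0x1502001),(nat_lit 0x1859001),(nat_lit 0x3f2b001)],[(nat_lit 0x1856001),(nat_lit 0x1858001),(nat_lit 0x3197001),(nat_lit 0x1840001),(nat_lit 0x21c5001),(nat_lit 0x185b001),(nat_lit 0x4109001)],[(nat_lit 0x102d001),(nat_lit 0x185a001),(nat_lit 0xfec001),(nat_lit 0x185c001),(nat_lit 0x14da001),(nat_lit 0xfeb001),(nat_lit 0x3110001)],[(nat_lit 0xeb8f0412b002),(nat_lit 0xf1dd0412c002),(nat_lit 0xa9ed0412d002),(nat_lit 0x412e001),(nat_lit 0x412f001),(nat_lit 0xeb8c04130002),(nat_lit 0x1854001)],[(nat_lit 0x1009001),(nat_lit 0x100d001),(nat_lit 0x14db001),(nat_lit 0xfd9001),(nat_lit 0xfd8001),(nat_lit 0xfda001),(nat_lit 0x30c1001)],[(nat_lit 0xf3850a114002),(nat_lit 0xf3860a115002),(nat_lit 0xe7960a116002),(nat_lit 0xf3870a117002),(nat_lit 0xe7a60a118002),(nat_lit 0xf3d50a119002),(nat_lit 0x2fec001)],[(nat_lit 0xa247001),(nat_lit 0x3045001),(nat_lit 0xa248001),(nat_lit 0x3086001),(nat_lit 0x3088001),(nat_lit 0x308a001),(nat_lit 0xa249001)],[(nat_lit 0x307f001),(nat_lit 0xf3840a24d002),(nat_lit 0x3046001),(nat_lit 0xf38c0a24e002),(nat_lit 0x308c001),(nat_lit 0xf3640308e002),(nat_lit 0xd9de0a24f002)],[(nat_lit 0x3081001),(nat_lit 0x3087001),(nat_lit 0xa250001),(nat_lit 0x3047001),(nat_lit 0xa251001),(nat_lit 0x3090001),(nat_lit 0xa252001)],[(nat_lit 0x3083001),(nat_lit 0x3089001),(nat_lit 0x308d001),(nat_lit 0xa253001),(nat_lit 0x3048001),(nat_lit 0xa254001),(nat_lit 0xa255001)],[(nat_lit 0xa189001),(nat_lit 0xf5b103031002),(nat_lit 0xa18d001),(nat_lit 0x9d6c50a0e7002),(nat_lit 0x9c4320a1af002),(nat_lit 0x3030001),(nat_lit 0xa23a001)],[(nat_lit 0xf5ad0a0e0002),(nat_lit 0x9d6c50a0e6002),(nat_lit 0x9c3770a1a1002),(nat_lit 0xf5b103037002),(nat_lit 0x9b3cc0a23d002),(nat_lit 0x3036001),(nat_lit 0xa23e001)],[(nat_lit 0xf5f20b25a002),(nat_lit 0xa6ce90b376002),(nat_lit 0x3342001),(nat_lit 0x9a52a0b47b002),(nat_lit 0xba3403341002),(nat_lit 0x9b3090b47c002),(nat_lit 0xb47d001)],[(nat_lit 0xa0e2001),(nat_lit 0xa13a001),(nat_lit 0xa182001),(nat_lit 0xa184001),(nat_lit 0xa186001),(nat_lit 0xa188001),(nat_lit 0x30a56001)],[(nat_lit 0xa183001),(nat_lit 0xa13b001),(nat_lit 0xa0e3001),(nat_lit 0x30a61001),(nat_lit 0xa18a001),(nat_lit 0xa18c001),(nat_lit 0x30a62001)],[(nat_lit 0xa185001),(nat_lit 0x302d001),(nat_lit 0xa237001),(nat_lit 0x302c001),(nat_lit 0xa19c001),(nat_lit 0x9d6c50a0e5002),(nat_lit 0xa238001)],[(nat_lit 0xa187001),(nat_lit 0x302f001),(nat_lit 0xa18b001),(nat_lit 0xa1a6001),(nat_lit 0x302e001),(nat_lit 0xa1a8001),(nat_lit 0xa239001)],[(nat_lit 0xb75e430a67002),(nat_lit 0x30a68001),(nat_lit 0x30a69001),(nat_lit 0x30a6a001),(nat_lit 0x30a6b001),(nat_lit 0xb75f030a6c002),(nat_lit 0xa0e4001)],[(nat_lit 0xb36e001),(nat_lit 0xf62103340002),(nat_lit 0xf61e0b372002),(nat_lit 0xf6530b266002),(nat_lit 0xf6560b479002),(nat_lit 0x333f001),(nat_lit 0xb47a001)],[(nat_lit 0xf8720b25f002),(nat_lit 0xf6530b265002),(nat_lit 0xf6260b47e002),(nat_lit 0xf62103344002),(nat_lit 0xb480001),(nat_lit 0x3343001),(nat_lit 0xb481001)],[(nat_lit 0xf6160a0db002),(nat_lit 0xa193001),(nat_lit 0x3033001),(nat_lit 0xa23b001),(nat_lit 0x3032001),(nat_lit 0xa1aa001),(nat_lit 0xa23c001)],[(nat_lit 0x7fd1001),(nat_lit 0x7fd7001),(nat_lit 0xa1ef807fdb002),(nat_lit 0xa1eff270bf002),(nat_lit 0x7eb1001),(nat_lit 0xa1f00270c0002),(nat_lit 0xa1f01270c1002)],[(nat_lit 0x7fcd001),(nat_lit 0xa1ef6270b9002),(nat_lit 0x7eaf001),(nat_lit 0xa1ef7270ba002),(nat_lit 0xa1ef807fda002),(nat_lit 0x7fdc001),(nat_lit 0xa1efa270bb002)],[(nat_lit 0xc40b0b06d002),(nat_lit 0xf9340cc03002),(nat_lit 0xc4120724c002),(nat_lit 0xc4130bd17002),(nat_lit 0xc4140724b002),(nat_lit 0xf5b40c415002),(nat_lit 0xc416001)],[(nat_lit 0xa1a3001),(nat_lit 0xa1a7001),(nat_lit 0x9f9a730a74002),(nat_lit 0xa0ee001),(nat_lit 0xa13e001),(nat_lit 0xa1ac001),(nat_lit 0xa2aa230a75002)],[(nat_lit 0xa1a5001),(nat_lit 0xa1a9001),(nat_lit 0xa1ab001),(nat_lit 0xa1ad001),(nat_lit 0x9a5280a13f002),(nat_lit 0xa0ef001),(nat_lit 0xa120530a76002)],[(nat_lit 0x930cf30a7b002),(nat_lit 0x30a7c001),(nat_lit 0x30a7d001),(nat_lit 0x30a7e001),(nat_lit 0x30a7f001),(nat_lit 0xa408b30a80002),(nat_lit 0xa0f0001)],[(nat_lit 0x1dab001),(nat_lit 0xad2001),(nat_lit 0x2228001),(nat_lit 0xad1001),(nat_lit 0x225e001),(nat_lit 0xad3001),(nat_lit 0x22de001)],[(nat_lit 0xcdc001),(nat_lit 0x2772001),(nat_lit 0xcdb001),(nat_lit 0xcdd001),(nat_lit 0x2260001),(nat_lit 0xcf6001),(nat_lit 0x1507001)],[(nat_lit 0x225d001),(nat_lit 0x225f001),(nat_lit 0x2261001),(nat_lit 0x224a001),(nat_lit 0x2229001),(nat_lit 0x6073001),(nat_lit 0x64b0001)],[(nat_lit 0x3eb8001),(nat_lit 0x3ec5001),(nat_lit 0x3ef1001),(nat_lit 0x3ef3001),(nat_lit 0x3ef5001),(nat_lit 0x3ef7001),(nat_lit 0x1061c001)],[(nat_lit 0x3ef4001),(nat_lit 0x1501001),(nat_lit 0x225a001),(nat_lit 0x1500001),(nat_lit 0x21fc001),(nat_lit 0x185f001),(nat_lit 0x3f27001)],[(nat_lit 0x3ef8001),(nat_lit 0x1590001),(nat_lit 0x164e001),(nat_lit 0x185d001),(nat_lit 0x1860001),(nat_lit 0x158f001),(nat_lit 0x3f30001)],[(nat_lit 0x276cf1061d002),(nat_lit 0x1061e001),(nat_lit 0x1061f001),(nat_lit 0x10620001),(nat_lit 0x10621001),(nat_lit 0x276cb10622002),(nat_lit 0x3eb9001)],[(nat_lit 0x219f001),(nat_lit 0x21fd001),(nat_lit 0x21a0001),(nat_lit 0x21c3001),(nat_lit 0x219e001),(nat_lit 0x616b001),(nat_lit 0x624f001)],[(nat_lit 0x208a001),(nat_lit 0x1812001),(nat_lit 0x180e001),(nat_lit 0x180d001),(nat_lit 0x1810001),(nat_lit 0x2089001),(nat_lit 0x180f001)],[(nat_lit 0xe0a001),(nat_lit 0x1861001),(nat_lit 0x526001),(nat_lit 0x1903001),(nat_lit 0x525001),(nat_lit 0x14dc001),(nat_lit 0x1904001)],[(nat_lit 0x3ebe001),(nat_lit 0x3ebf001),(nat_lit 0x3ec0001),(nat_lit 0x3ec1001),(nat_lit 0x3ebd001),(nat_lit 0x3ec2001),(nat_lit 0x6e8d001)],[(nat_lit 0x1120004373002),(nat_lit 0x4374001),(nat_lit 0x103ba04375002),(nat_lit 0x4376001),(nat_lit 0x4377001),(nat_lit 0x103c104378002),(nat_lit 0x18dd001)],[(nat_lit 0x2763001),(nat_lit 0xf55001),(nat_lit 0xf54001),(nat_lit 0x141a001),(nat_lit 0x18f1001),(nat_lit 0xf56001),(nat_lit 0x2ed2001)],[(nat_lit 0x18ef001),(nat_lit 0x18f2001),(nat_lit 0x18f7001),(nat_lit 0x1d46001),(nat_lit 0x18de001),(nat_lit 0x18df001),(nat_lit 0x4379001)],[(nat_lit 0x1c05001),(nat_lit 0x1c29001),(nat_lit 0x1c04001),(nat_lit 0x26c3001),(nat_lit 0x1c06001),(nat_lit 0x2765001),(nat_lit 0x4e12001)],[(nat_lit 0x18a5708d6c002),(nat_lit 0x8d6d001),(nat_lit 0x8d6e001),(nat_lit 0x178db08d6f002),(nat_lit 0x8d70001),(nat_lit 0x18ad308d71002),(nat_lit 0x2bc9001)],[(nat_lit 0x1660001),(nat_lit 0x1805001),(nat_lit 0x1898001),(nat_lit 0x1883001),(nat_lit 0x189b001),(nat_lit 0x165f001),(nat_lit 0x1094003fe4002)],[(nat_lit 0x1899001),(nat_lit 0x17ec001),(nat_lit 0x1664001),(nat_lit 0x3f92001),(nat_lit 0x189d001),(nat_lit 0x1663001),(nat_lit 0x3fea001)],[(nat_lit 0x1881001),(nat_lit 0x176900e34002),(nat_lit 0x176e001),(nat_lit 0x176f00e33002),(nat_lit 0x18c1001),(nat_lit 0x1770001),(nat_lit 0x2b7b001)],[(nat_lit 0x189c001),(nat_lit 0x177200e36002),(nat_lit 0x189e001),(nat_lit 0x1a99001),(nat_lit 0x176f00e35002),(nat_lit 0x181e001),(nat_lit 0x2b7f001)],[(nat_lit 0x190f004263002),(nat_lit 0x1910a04264002),(nat_lit 0x190b204265002),(nat_lit 0x1910d04266002),(nat_lit 0x4267001),(nat_lit 0x190b004268002),(nat_lit 0x1897001)],[(nat_lit 0x1743001),(nat_lit 0x1744001),(nat_lit 0x1745001),(nat_lit 0x1747001),(nat_lit 0x18c4001),(nat_lit 0x1742001),(nat_lit 0x1746001)],[(nat_lit 0x18c0001),(nat_lit 0x18c2001),(nat_lit 0x18c6001),(nat_lit 0x18e1001),(nat_lit 0x18a3001),(nat_lit 0x2bc4001),(nat_lit 0x427e001)],[(nat_lit 0x1a98001),(nat_lit 0x1a9a001),(nat_lit 0x2f20001),(nat_lit 0x190b001),(nat_lit 0x190a001),(nat_lit 0x1a9b001),(nat_lit 0x43c5001)],[(nat_lit 0x180b001),(nat_lit 0x181d001),(nat_lit 0x17ef001),(nat_lit 0x1a9c001),(nat_lit 0x1649001),(nat_lit 0x17550164a002),(nat_lit 0x4b15d03f5a002)],[(nat_lit 0x4b1b404862002),(nat_lit 0x4863001),(nat_lit 0x4b15804864002),(nat_lit 0x4865001),(nat_lit 0x4866001),(nat_lit 0x4dbe404867002),(nat_lit 0x1a93001)],[(nat_lit 0x1659001),(nat_lit 0x3fda001),(nat_lit 0x1658001),(nat_lit 0x3f8c001),(nat_lit 0x1887001),(nat_lit 0x189a001),(nat_lit 0x3fdb001)],[(nat_lit 0x165b001),(nat_lit 0x16e7001),(nat_lit 0x165c001),(nat_lit 0x165a001),(nat_lit 0x187d001),(nat_lit 0x1880001),(nat_lit 0x3fdc001)],[(nat_lit 0x165e001),(nat_lit 0x177d001),(nat_lit 0x1885001),(nat_lit 0x1888001),(nat_lit 0x165d001),(nat_lit 0x188a001),(nat_lit 0x3fdd001)],[(nat_lit 0x190ec10843002),(nat_lit 0x1792510844002),(nat_lit 0x190ac10845002),(nat_lit 0x179e910846002),(nat_lit 0x190ef10847002),(nat_lit 0x1967110848002),(nat_lit 0x3f34001)],[(nat_lit 0x1a88001),(nat_lit 0x1645001),(nat_lit 0x175901646002),(nat_lit 0x3f53001),(nat_lit 0x1785001),(nat_lit 0x17ed001),(nat_lit 0x3f55001)],[(nat_lit 0x3f8d001),(nat_lit 0x3f54001),(nat_lit 0x3f5e001),(nat_lit 0x3f39001),(nat_lit 0x1084d001),(nat_lit 0x3f8f001),(nat_lit 0x1084e001)],[(nat_lit 0x1886001),(nat_lit 0x1783001),(nat_lit 0x1662001),(nat_lit 0x3fe8001),(nat_lit 0x1661001),(nat_lit 0x188c001),(nat_lit 0x3fe9001)],[(nat_lit 0x190c81084f002),(nat_lit 0x10850001),(nat_lit 0x10851001),(nat_lit 0x10852001),(nat_lit 0x10853001),(nat_lit 0x190be10854002),(nat_lit 0x3f3a001)],[(nat_lit 0x187e001),(nat_lit 0x173d001),(nat_lit 0x173e001),(nat_lit 0x1819001),(nat_lit 0x173c001),(nat_lit 0x2c5f001),(nat_lit 0x3ff8001)],[(nat_lit 0x180d6041e0002),(nat_lit 0x41e1001),(nat_lit 0x41e2001),(nat_lit 0x41e3001),(nat_lit 0x41e4001),(nat_lit 0x180a0041e5002),(nat_lit 0x187c001)],[(nat_lit 0x1889001),(nat_lit 0x1787001),(nat_lit 0x4059001),(nat_lit 0x1786001),(nat_lit 0x181b001),(nat_lit 0x188e001),(nat_lit 0x405a001)],[(nat_lit 0x188b001),(nat_lit 0x1789001),(nat_lit 0x188d001),(nat_lit 0x1890001),(nat_lit 0x181c001),(nat_lit 0x1788001),(nat_lit 0x405b001)],[(nat_lit 0xa27f1041e8002),(nat_lit 0x41e9001),(nat_lit 0x41ea001),(nat_lit 0x41eb001),(nat_lit 0x41ec001),(nat_lit 0xa0e54041ed002),(nat_lit 0x1884001)],[(nat_lit 0x1085f001),(nat_lit 0x3f3c001),(nat_lit 0x10860001),(nat_lit 0x3f9b001),(nat_lit 0x3f9d001),(nat_lit 0x3f9f001),(nat_lit 0x2a9ed10861002)],[(nat_lit 0x3f94001),(nat_lit 0x10865001),(nat_lit 0x3f3d001),(nat_lit 0x10866001),(nat_lit 0x3fa1001),(nat_lit 0x3fa3001),(nat_lit 0x10867001)],[(nat_lit 0x190ee03f96002),(nat_lit 0x3f9c001),(nat_lit 0x1910b10868002),(nat_lit 0x3f3e001),(nat_lit 0x1910c1086c002),(nat_lit 0x3fa5001),(nat_lit 0x1746a1086d002)],[(nat_lit 0x3f98001),(nat_lit 0x3f9e001),(nat_lit 0x3fa2001),(nat_lit 0x1086e001),(nat_lit 0x3f3f001),(nat_lit 0x1086f001),(nat_lit 0x10870001)],[(nat_lit 0x1a42001),(nat_lit 0x1a5f001),(nat_lit 0x1a87001),(nat_lit 0x1a71001),(nat_lit 0x1a8a001),(nat_lit 0x1a41001),(nat_lit 0x12eee047a4002)],[(nat_lit 0x1a6f001),(nat_lit 0x176600f69002),(nat_lit 0x17cc001),(nat_lit 0x175900f68002),(nat_lit 0x1a9d001),(nat_lit 0x177b001),(nat_lit 0x2f2f001)],[(nat_lit 0x1a8b001),(nat_lit 0x15f400f6b002),(nat_lit 0x1784001),(nat_lit 0x18bb001),(nat_lit 0x175900f6a002),(nat_lit 0x18a1001),(nat_lit 0x2f33001)],[(nat_lit 0x1aacd0484b002),(nat_lit 0x1ab4f0484c002),(nat_lit 0x1ab4d0484d002),(nat_lit 0x1aac50484e002),(nat_lit 0x484f001),(nat_lit 0x1aae404850002),(nat_lit 0x1a86001)],[(nat_lit 0x16e8001),(nat_lit 0x17ca001),(nat_lit 0x175b016e9002),(nat_lit 0x1794001),(nat_lit 0x1aa0001),(nat_lit 0x16eb001),(nat_lit 0xf84001)],[(nat_lit 0x1968001),(nat_lit 0x1a9e001),(nat_lit 0x1aa3001),(nat_lit 0x1997001),(nat_lit 0x1967001),(nat_lit 0x20d85044ee002),(nat_lit 0x44ef001)],[(nat_lit 0x18ba001),(nat_lit 0x18bc001),(nat_lit 0x4272001),(nat_lit 0x189f001),(nat_lit 0x1999001),(nat_lit 0x18bd001),(nat_lit 0x4273001)],[(nat_lit 0x1877001),(nat_lit 0x18a2001),(nat_lit 0x178b001),(nat_lit 0x18be001),(nat_lit 0x17f0001),(nat_lit 0x178a001),(nat_lit 0x405c001)],[(nat_lit 0x52f3004274002),(nat_lit 0x4275001),(nat_lit 0x4cb7d04276002),(nat_lit 0x4277001),(nat_lit 0x4278001),(nat_lit 0x52f1c04279002),(nat_lit 0x18a0001)],[(nat_lit 0x17f2001),(nat_lit 0x15e6001),(nat_lit 0x166f001),(nat_lit 0x15e4001),(nat_lit 0x16ef001),(nat_lit 0x1748001),(nat_lit 0x15e5001)],[(nat_lit 0x1864001),(nat_lit 0x1740001),(nat_lit 0x1741001),(nat_lit 0x18c7001),(nat_lit 0x173f001),(nat_lit 0x300f001),(nat_lit 0x2468001)],[(nat_lit 0xcfa001),(nat_lit 0x24eb001),(nat_lit 0xcf9001),(nat_lit 0xd1b001),(nat_lit 0x19f3001),(nat_lit 0xcfb001),(nat_lit 0x1602001)],[(nat_lit 0x1817001),(nat_lit 0x181a001),(nat_lit 0x1ab7001),(nat_lit 0x1647001),(nat_lit 0x1648001),(nat_lit 0x2fa4001),(nat_lit 0x3f56001)],[(nat_lit 0x2c48001),(nat_lit 0x2c60001),(nat_lit 0x300c001),(nat_lit 0x2fa2001),(nat_lit 0x2bfd001),(nat_lit 0x2bfc001),(nat_lit 0x2bfe001)],[(nat_lit 0xe5e001),(nat_lit 0x14d4001),(nat_lit 0x240b001),(nat_lit 0xe5d001),(nat_lit 0x2189001),(nat_lit 0x14d5001),(nat_lit 0x1796001)],[(nat_lit 0xcd7001),(nat_lit 0xc7e001),(nat_lit 0x1420001),(nat_lit 0xc7f001),(nat_lit 0x13fc001),(nat_lit 0xc7d001),(nat_lit 0x234e02251002)],[(nat_lit 0xce5001),(nat_lit 0x2776001),(nat_lit 0xce6001),(nat_lit 0xcf3001),(nat_lit 0x13ff001),(nat_lit 0xce4001),(nat_lit 0x17ff001)],[(nat_lit 0xd02001),(nat_lit 0x13fd001),(nat_lit 0x1401001),(nat_lit 0xd03001),(nat_lit 0xd01001),(nat_lit 0x2411001),(nat_lit 0x27a1001)],[(nat_lit 0x3fa8001),(nat_lit 0x49a2001),(nat_lit 0x3f41001),(nat_lit 0x9130001),(nat_lit 0x3f42001),(nat_lit 0x3faa001),(nat_lit 0x9e0f510872002)],[(nat_lit 0x187a001),(nat_lit 0x188f001),(nat_lit 0x3fab001),(nat_lit 0x178d001),(nat_lit 0x3f46001),(nat_lit 0x178c001),(nat_lit 0x4060001)],[(nat_lit 0x4dc7f1087d002),(nat_lit 0x1087e001),(nat_lit 0x1087f001),(nat_lit 0x9df9510880002),(nat_lit 0x10881001),(nat_lit 0x4dcbf10882002),(nat_lit 0x3f43001)],[(nat_lit 0x518f010884002),(nat_lit 0x5183310885002),(nat_lit 0x4b03810886002),(nat_lit 0x5175710887002),(nat_lit 0x4b08a10888002),(nat_lit 0x5190f10889002),(nat_lit 0x3f47001)],[(nat_lit 0x10893001),(nat_lit 0x3f49001),(nat_lit 0x10894001),(nat_lit 0x3fb4001),(nat_lit 0x3fb6001),(nat_lit 0x3fb8001),(nat_lit 0x10895001)],[(nat_lit 0x5180607f16002),(nat_lit 0x5180407f17002),(nat_lit 0x4b36707f18002),(nat_lit 0x5172d07f19002),(nat_lit 0x4b36907f1a002),(nat_lit 0x5190a07f1b002),(nat_lit 0x28f0001)],[(nat_lit 0x3faf001),(nat_lit 0x3fb5001),(nat_lit 0x1089c001),(nat_lit 0x3f4b001),(nat_lit 0x1089d001),(nat_lit 0x3fbe001),(nat_lit 0x1089e001)],[(nat_lit 0x3fb1001),(nat_lit 0x3fb7001),(nat_lit 0x3fbb001),(nat_lit 0x1089f001),(nat_lit 0x3f4c001),(nat_lit 0x108a0001),(nat_lit 0x108a1001)],[(nat_lit 0x3517001),(nat_lit 0x3518001),(nat_lit 0x3519001),(nat_lit 0x355b001),(nat_lit 0x3516001),(nat_lit 0x4af7001),(nat_lit 0x20d1504957002)],[(nat_lit 0x31f6001),(nat_lit 0x31fc001),(nat_lit 0xab5f001),(nat_lit 0x31f5001),(nat_lit 0x355e001),(nat_lit 0x31fd001),(nat_lit 0xab62001)],[(nat_lit 0x1077001),(nat_lit 0x192d001),(nat_lit 0x1078001),(nat_lit 0x31ff001),(nat_lit 0x1079001),(nat_lit 0x1076001),(nat_lit 0xf19f03235002)],[(nat_lit 0xf2b10ab63002),(nat_lit 0xf39b0ab64002),(nat_lit 0xf2a90ab65002),(nat_lit 0xab66001),(nat_lit 0x20a700ab67002),(nat_lit 0xf2b00ab68002),(nat_lit 0x31f7001)],[(nat_lit 0x380d001),(nat_lit 0x380e001),(nat_lit 0x3810001),(nat_lit 0x380c001),(nat_lit 0x3bae001),(nat_lit 0x380f001),(nat_lit 0x3811001)],[(nat_lit 0x19a5001),(nat_lit 0x19a2001),(nat_lit 0x19a3001),(nat_lit 0x4565001),(nat_lit 0x19a4001),(nat_lit 0x2434001),(nat_lit 0x20b150459a002)],[(nat_lit 0xf2a10ab69002),(nat_lit 0xf29d0ab6a002),(nat_lit 0xf2b80ab6b002),(nat_lit 0xf2980ab6c002),(nat_lit 0x20a750ab6d002),(nat_lit 0xf2a00ab6e002),(nat_lit 0x31f8001)],[(nat_lit 0xab9f001),(nat_lit 0x3207001),(nat_lit 0xaba0001),(nat_lit 0x325f001),(nat_lit 0x3261001),(nat_lit 0x3263001),(nat_lit 0xaba1001)],[(nat_lit 0xf18e0325a002),(nat_lit 0x2120a0aba5002),(nat_lit 0x3208001),(nat_lit 0xaba6001),(nat_lit 0x20aa103265002),(nat_lit 0xf2ab03267002),(nat_lit 0xf19e0aba7002)],[(nat_lit 0xf1930325c002),(nat_lit 0x3260001),(nat_lit 0xaba8001),(nat_lit 0x3209001),(nat_lit 0x1262e0aba9002),(nat_lit 0x3269001),(nat_lit 0xabaa001)],[(nat_lit 0x19e7001),(nat_lit 0x19e8001),(nat_lit 0x2e7b001),(nat_lit 0x19e6001),(nat_lit 0x1c20001),(nat_lit 0x2439001),(nat_lit 0x4646001)],[(nat_lit 0x19ea001),(nat_lit 0x19eb001),(nat_lit 0x2437001),(nat_lit 0x243c001),(nat_lit 0x19ec001),(nat_lit 0x19e9001),(nat_lit 0x20ad104650002)],[(nat_lit 0xa93f001),(nat_lit 0xaa11001),(nat_lit 0xaa7b001),(nat_lit 0xaa7d001),(nat_lit 0xaa7f001),(nat_lit 0xaa81001),(nat_lit 0xb97f53269a002)],[(nat_lit 0xc60d0bf34002),(nat_lit 0x357a001),(nat_lit 0xc5610357b002),(nat_lit 0xbf78001),(nat_lit 0xc6110b2d3002),(nat_lit 0x357c001),(nat_lit 0xbf7b001)],[(nat_lit 0xaa7e001),(nat_lit 0x31ae001),(nat_lit 0xab17001),(nat_lit 0x31ad001),(nat_lit 0xaa8b001),(nat_lit 0xc5620a635002),(nat_lit 0xab18001)],[(nat_lit 0xaa80001),(nat_lit 0x31b0001),(nat_lit 0xaa84001),(nat_lit 0xaa91001),(nat_lit 0x31af001),(nat_lit 0xa946001),(nat_lit 0xab19001)],[(nat_lit 0xb981e3269e002),(nat_lit 0xb98183269f002),(nat_lit 0xb981c326a0002),(nat_lit 0xb981f326a1002),(nat_lit 0xb97ed326a2002),(nat_lit 0x96add326a3002),(nat_lit 0xa941001)],[(nat_lit 0x35d6001),(nat_lit 0xc49e0bcaf002),(nat_lit 0xc56003538002),(nat_lit 0xc43603500002),(nat_lit 0xc4a00b03a002),(nat_lit 0x34ff001),(nat_lit 0xc4a20beeb002)],[(nat_lit 0xaa8a001),(nat_lit 0xaa8c001),(nat_lit 0xaa8e001),(nat_lit 0xaa14001),(nat_lit 0xa942001),(nat_lit 0x2217e001),(nat_lit 0x35b4d326a4002)],[(nat_lit 0xf8db001),(nat_lit 0xdd68001),(nat_lit 0xbd83001),(nat_lit 0xc5680ba1d002),(nat_lit 0xc3fa001),(nat_lit 0xf8da001),(nat_lit 0xa943001)],[(nat_lit 0xaa90001),(nat_lit 0xaa92001),(nat_lit 0xa3c29326a9002),(nat_lit 0xa944001),(nat_lit 0xaa15001),(nat_lit 0xaa93001),(nat_lit 0xa056c2ee73002)],[(nat_lit 0x360e001),(nat_lit 0xc6130b062002),(nat_lit 0x356c001),(nat_lit 0xc6170b063002),(nat_lit 0x356b001),(nat_lit 0xc6120356d002),(nat_lit 0xbf6b001)],[(nat_lit 0x91273326aa002),(nat_lit 0x326ab001),(nat_lit 0xa2c32326ac002),(nat_lit 0xa300e326ad002),(nat_lit 0xa2880326ae002),(nat_lit 0x91277326af002),(nat_lit 0xa945001)],[(nat_lit 0xb32001),(nat_lit 0xb18001),(nat_lit 0xcfd001),(nat_lit 0xb17001),(nat_lit 0xb19001),(nat_lit 0x23d7001),(nat_lit 0x2406001)],[(nat_lit 0x23f8001),(nat_lit 0x23c8001),(nat_lit 0x23fb001),(nat_lit 0x23d9001),(nat_lit 0x23c9001),(nat_lit 0x23c7001),(nat_lit 0x691b001)],[(nat_lit 0xec0006951002),(nat_lit 0x6952001),(nat_lit 0xb84806953002),(nat_lit 0x6954001),(nat_lit 0x6955001),(nat_lit 0xebfb06956002),(nat_lit 0x23f6001)],[(nat_lit 0xcfa001),(nat_lit 0x26bf001),(nat_lit 0xce7001),(nat_lit 0xcf8001),(nat_lit 0xcfc001),(nat_lit 0xcfe001),(nat_lit 0x16e4001)],[(nat_lit 0x846001),(nat_lit 0x71d001),(nat_lit 0xd00001),(nat_lit 0x71e001),(nat_lit 0xd04001),(nat_lit 0x71c001),(nat_lit 0x20050169b002)],[(nat_lit 0x9ab4c0415e002),(nat_lit 0x19ef001),(nat_lit 0x9b0fa021c6002),(nat_lit 0x19f0001),(nat_lit 0x1a0c001),(nat_lit 0x9ab9501a0f002),(nat_lit 0x4652001)],[(nat_lit 0x1a0a001),(nat_lit 0x1a0d001),(nat_lit 0x1a12001),(nat_lit 0x19f2001),(nat_lit 0x19f1001),(nat_lit 0x9c7b601bbc002),(nat_lit 0x465f001)],[(nat_lit 0x3000001),(nat_lit 0x3001001),(nat_lit 0x3067001),(nat_lit 0x3002001),(nat_lit 0x3079001),(nat_lit 0x3003001),(nat_lit 0x3004001)],[(nat_lit 0x3078001),(nat_lit 0x1027001),(nat_lit 0x10f8001),(nat_lit 0x23fe001),(nat_lit 0x1026001),(nat_lit 0x2424001),(nat_lit 0x317f001)],[(nat_lit 0x1014001),(nat_lit 0x23ff001),(nat_lit 0x30f5001),(nat_lit 0x1013001),(nat_lit 0x1015001),(nat_lit 0x2427001),(nat_lit 0x315f001)],[(nat_lit 0x23f3001),(nat_lit 0x2425001),(nat_lit 0x23d0001),(nat_lit 0x2428001),(nat_lit 0x23d1001),(nat_lit 0x23cf001),(nat_lit 0x691e001)],[(nat_lit 0xebf706959002),(nat_lit 0x695a001),(nat_lit 0xba6d0695b002),(nat_lit 0x695c001),(nat_lit 0x9a7cc0695d002),(nat_lit 0xebfa0695e002),(nat_lit 0x23fd001)],[(nat_lit 0xce2001),(nat_lit 0x26ce001),(nat_lit 0xcc5001),(nat_lit 0x2736001),(nat_lit 0xcc4001),(nat_lit 0x23da001),(nat_lit 0x2737001)],[(nat_lit 0x23d5001),(nat_lit 0x23d8001),(nat_lit 0x23db001),(nat_lit 0x2387001),(nat_lit 0x2389001),(nat_lit 0x2386001),(nat_lit 0x67fa001)],[(nat_lit 0xf677067fb002),(nat_lit 0x67fc001),(nat_lit 0x67fd001),(nat_lit 0x67fe001),(nat_lit 0x67ff001),(nat_lit 0xf67206800002),(nat_lit 0x2388001)],[(nat_lit 0xf8ff0dfdb002),(nat_lit 0xf902001),(nat_lit 0xdfdc001),(nat_lit 0xf903001),(nat_lit 0xdfde001),(nat_lit 0xf9040dfdf002),(nat_lit 0x67d3001)],[(nat_lit 0x1f3da001),(nat_lit 0x67d5001),(nat_lit 0x20cc41f3db002),(nat_lit 0x68ad001),(nat_lit 0x68af001),(nat_lit 0x68b1001),(nat_lit 0x1f3dc001)],[(nat_lit 0x2ea3001),(nat_lit 0x47bf001),(nat_lit 0x20b7f09969002),(nat_lit 0x2ea2001),(nat_lit 0x45b1001),(nat_lit 0x20b8109961002),(nat_lit 0x20b8209ac1002)],[(nat_lit 0x68a8001),(nat_lit 0x68ae001),(nat_lit 0xc083001),(nat_lit 0x67d7001),(nat_lit 0x1f3e0001),(nat_lit 0x68b6001),(nat_lit 0xfbbc001)],[(nat_lit 0x5102001),(nat_lit 0x20cc815f4f002),(nat_lit 0x5101001),(nat_lit 0x99a711611a002),(nat_lit 0x20b7f0996a002),(nat_lit 0x12988001),(nat_lit 0x16185001)],[(nat_lit 0x74fe001),(nat_lit 0x26b9001),(nat_lit 0x26c0001),(nat_lit 0x26cb001),(nat_lit 0x26cd001),(nat_lit 0x26cf001),(nat_lit 0x7500001)],[(nat_lit 0xcdc001),(nat_lit 0x26cc001),(nat_lit 0xc95001),(nat_lit 0xc96001),(nat_lit 0x22d1001),(nat_lit 0xce0001),(nat_lit 0x15c5001)],[(nat_lit 0xce5001),(nat_lit 0x26d0001),(nat_lit 0xcc7001),(nat_lit 0xcde001),(nat_lit 0xd07001),(nat_lit 0xcc6001),(nat_lit 0x17f8001)],[(nat_lit 0xd02001),(nat_lit 0xd05001),(nat_lit 0xd08001),(nat_lit 0xcea001),(nat_lit 0xce9001),(nat_lit 0x238b001),(nat_lit 0x278f001)],[(nat_lit 0x18a4001),(nat_lit 0x16cf001),(nat_lit 0x16bf00ee6002),(nat_lit 0x17ae016d0002),(nat_lit 0x231c001),(nat_lit 0x17ac00ee5002),(nat_lit 0x2dc0001)],[(nat_lit 0x1743001),(nat_lit 0x16aa001),(nat_lit 0x16ab001),(nat_lit 0x17e3001),(nat_lit 0x1dd6001),(nat_lit 0x16ad001),(nat_lit 0x16ae001)],[(nat_lit 0x18c0001),(nat_lit 0x231d001),(nat_lit 0x1dd9001),(nat_lit 0x1abd001),(nat_lit 0x18bf001),(nat_lit 0x2c1a001),(nat_lit 0x431a001)],[(nat_lit 0x26d8001),(nat_lit 0xcd3001),(nat_lit 0x1c5b001),(nat_lit 0x182a001),(nat_lit 0x1bca001),(nat_lit 0xcd2001),(nat_lit 0x274e001)],[(nat_lit 0x19b9001),(nat_lit 0x1bcb001),(nat_lit 0x857001),(nat_lit 0x1cea001),(nat_lit 0xcb800856002),(nat_lit 0x1c7e001),(nat_lit 0x1ceb001)],[(nat_lit 0x26bd001),(nat_lit 0x26c2001),(nat_lit 0x26d2001),(nat_lit 0x26be001),(nat_lit 0x26d4001),(nat_lit 0x26d7001),(nat_lit 0x1815f07505002)],[(nat_lit 0x26d3001),(nat_lit 0x1c8e001),(nat_lit 0x1c8d001),(nat_lit 0x5034001),(nat_lit 0x26d9001),(nat_lit 0x1c8f001),(nat_lit 0x506a001)],[(nat_lit 0x26d5001),(nat_lit 0xcd0001),(nat_lit 0x26db001),(nat_lit 0xcd1001),(nat_lit 0xccf001),(nat_lit 0x26dc001),(nat_lit 0x2745001)],[(nat_lit 0x184b4075e6002),(nat_lit 0x21735075e7002),(nat_lit 0x75e8001),(nat_lit 0x184b0075e9002),(nat_lit 0x75ea001),(nat_lit 0x184bb075eb002),(nat_lit 0x26d1001)],[(nat_lit 0x1c71001),(nat_lit 0xbe600855002),(nat_lit 0x1c75001),(nat_lit 0x1a5d001),(nat_lit 0x1bd8001),(nat_lit 0x854001),(nat_lit 0x1ce2001)],[(nat_lit 0x13f6001),(nat_lit 0x1bd9001),(nat_lit 0xcd5001),(nat_lit 0x2758001),(nat_lit 0xcd4001),(nat_lit 0x1c5f001),(nat_lit 0x2759001)],[(nat_lit 0x1ccd001),(nat_lit 0x26dd001),(nat_lit 0x1c91001),(nat_lit 0x1c92001),(nat_lit 0x1c93001),(nat_lit 0x1c90001),(nat_lit 0x506b001)],[(nat_lit 0x4dc3c07606002),(nat_lit 0x7607001),(nat_lit 0x4b05007608002),(nat_lit 0x7609001),(nat_lit 0x760a001),(nat_lit 0x4dc480760b002),(nat_lit 0x26e0001)],[(nat_lit 0x2403001),(nat_lit 0x243b001),(nat_lit 0x24d2001),(nat_lit 0x19ee001),(nat_lit 0x20f4001),(nat_lit 0x19ed001),(nat_lit 0x4651001)],[(nat_lit 0xc5ef06b96002),(nat_lit 0x6b97001),(nat_lit 0xbcb806b98002),(nat_lit 0x6b99001),(nat_lit 0x6b9a001),(nat_lit 0xc59b06b9b002),(nat_lit 0x24af001)],[(nat_lit 0x12a5b001),(nat_lit 0x4641001),(nat_lit 0xc4b6001),(nat_lit 0x46d5001),(nat_lit 0x46d7001),(nat_lit 0x46d9001),(nat_lit 0xa7b9912a5c002)],[(nat_lit 0x46d2001),(nat_lit 0x46d6001),(nat_lit 0xbcd9001),(nat_lit 0x4643001),(nat_lit 0x12a63001),(nat_lit 0x46dd001),(nat_lit 0x12a66001)],[(nat_lit 0x46d4001),(nat_lit 0x46d8001),(nat_lit 0x46dc001),(nat_lit 0x12a6b001),(nat_lit 0x4644001),(nat_lit 0xc4b90bcdb002),(nat_lit 0x12a6c001)],[(nat_lit 0x1d34001),(nat_lit 0x1d3e001),(nat_lit 0x1d35001),(nat_lit 0x1d6a001),(nat_lit 0x1d36001),(nat_lit 0x1d6c001),(nat_lit 0x52cb001)],[(nat_lit 0x1d6b001),(nat_lit 0xaaf001),(nat_lit 0x2201001),(nat_lit 0xaae001),(nat_lit 0x2157001),(nat_lit 0xad3001),(nat_lit 0x221f001)],[(nat_lit 0x1d6d001),(nat_lit 0x8d5001),(nat_lit 0x8d6001),(nat_lit 0xad1001),(nat_lit 0xad4001),(nat_lit 0x8d7001),(nat_lit 0x1da9001)],[(nat_lit 0x1a120052f5002),(nat_lit 0x52f6001),(nat_lit 0x52f7001),(nat_lit 0x52f8001),(nat_lit 0x52f9001),(nat_lit 0x1a10d052fa002),(nat_lit 0x1d69001)],[(nat_lit 0x2149001),(nat_lit 0x2156001),(nat_lit 0x21ee001),(nat_lit 0x2100001),(nat_lit 0x2101001),(nat_lit 0x6032001),(nat_lit 0x6034001)],[(nat_lit 0xa9b001),(nat_lit 0xad5001),(nat_lit 0x7ce001),(nat_lit 0xe62001),(nat_lit 0x7cd001),(nat_lit 0x7cf001),(nat_lit 0x18e0001)],[(nat_lit 0x16e8001),(nat_lit 0x221e001),(nat_lit 0x16e1001),(nat_lit 0x1799001),(nat_lit 0x196b001),(nat_lit 0x16e5001),(nat_lit 0xad0001)],[(nat_lit 0x21f0001),(nat_lit 0x21ef001),(nat_lit 0x20d4804295002),(nat_lit 0x2215001),(nat_lit 0x2219001),(nat_lit 0x221c001),(nat_lit 0x4fc1001)],[(nat_lit 0x17c2001),(nat_lit 0x2217001),(nat_lit 0x166f001),(nat_lit 0x1670001),(nat_lit 0x1797001),(nat_lit 0x179b001),(nat_lit 0x166e001)],[(nat_lit 0x1a53001),(nat_lit 0x221b001),(nat_lit 0x20d7d01a54002),(nat_lit 0x1a55001),(nat_lit 0x1a52001),(nat_lit 0x20d7e0451d002),(nat_lit 0x47b4001)],[(nat_lit 0x20c6001),(nat_lit 0x2377001),(nat_lit 0x2378001),(nat_lit 0x20c3001),(nat_lit 0x2379001),(nat_lit 0x259b0237a002),(nat_lit 0xaf9001)],[(nat_lit 0x172400def002),(nat_lit 0xdf0001),(nat_lit 0x222f001),(nat_lit 0xdf1001),(nat_lit 0x2232001),(nat_lit 0xdf2001),(nat_lit 0x2ac4001)],[(nat_lit 0x2230001),(nat_lit 0x206a001),(nat_lit 0x2031014a3002),(nat_lit 0x228e001),(nat_lit 0x2234001),(nat_lit 0x14a2001),(nat_lit 0x3e11001)],[(nat_lit 0x2233001),(nat_lit 0xac4001),(nat_lit 0x2235001),(nat_lit 0x2108001),(nat_lit 0xac3001),(nat_lit 0x226a001),(nat_lit 0x2275001)],[(nat_lit 0x1a2bf064b5002),(nat_lit 0x1a2ca064b6002),(nat_lit 0x1a271064b7002),(nat_lit 0x1a30a064b8002),(nat_lit 0x64b9001),(nat_lit 0x1a270064ba002),(nat_lit 0x222e001)],[(nat_lit 0x3c24001),(nat_lit 0x1cb1001),(nat_lit 0x1cb2001),(nat_lit 0x2236001),(nat_lit 0x2239001),(nat_lit 0x223b001),(nat_lit 0x4afc001)],[(nat_lit 0x208e001),(nat_lit 0x2237001),(nat_lit 0x180e001),(nat_lit 0x17b8001),(nat_lit 0x17bb001),(nat_lit 0x2091001),(nat_lit 0x17b7001)],[(nat_lit 0x1736001),(nat_lit 0x223a001),(nat_lit 0xac7001),(nat_lit 0x206e017bc002),(nat_lit 0xac6001),(nat_lit 0x226c001),(nat_lit 0x227b001)],[(nat_lit 0x85e001),(nat_lit 0x1943001),(nat_lit 0x85f001),(nat_lit 0xd14001),(nat_lit 0xf35001),(nat_lit 0x85d001),(nat_lit 0x172701719002)],[(nat_lit 0x2103001),(nat_lit 0x2109001),(nat_lit 0x2966001),(nat_lit 0x20c8001),(nat_lit 0x20c7001),(nat_lit 0x226e001),(nat_lit 0x4b0b001)],[(nat_lit 0x2266001),(nat_lit 0x226b001),(nat_lit 0x226d001),(nat_lit 0x226f001),(nat_lit 0x2248001),(nat_lit 0x223f001),(nat_lit 0x64c5001)],[(nat_lit 0x14096064c6002),(nat_lit 0x64c7001),(nat_lit 0x64c8001),(nat_lit 0x64c9001),(nat_lit 0x64ca001),(nat_lit 0x1408b064cb002),(nat_lit 0x2240001)],[(nat_lit 0x1b4b001),(nat_lit 0x1b59001),(nat_lit 0x1bb3001),(nat_lit 0x1ba0001),(nat_lit 0x1bb6001),(nat_lit 0x1b4a001),(nat_lit 0x1856104b84002)],[(nat_lit 0x1bb4001),(nat_lit 0x1b5b001),(nat_lit 0x1b4f001),(nat_lit 0x4b38001),(nat_lit 0x1bc1001),(nat_lit 0x1b4e001),(nat_lit 0x4b8a001)],[(nat_lit 0x1bb7001),(nat_lit 0x1afd001),(nat_lit 0x1bc2001),(nat_lit 0x2c69001),(nat_lit 0x1afc001),(nat_lit 0x1b8d001),(nat_lit 0x49ee001)],[(nat_lit 0x2113904d25002),(nat_lit 0x2116104d26002),(nat_lit 0x2113d04d27002),(nat_lit 0x17e6004d28002),(nat_lit 0x4d29001),(nat_lit 0x2116a04d2a002),(nat_lit 0x1bb2001)],[(nat_lit 0x9b711040f1002),(nat_lit 0x1851001),(nat_lit 0x1b5c001),(nat_lit 0x1850001),(nat_lit 0x1bc7001),(nat_lit 0x1b1f001),(nat_lit 0x411e001)],[(nat_lit 0x1a0a001),(nat_lit 0x1bc8001),(nat_lit 0x1ae8001),(nat_lit 0x1a0b001),(nat_lit 0x1a09001),(nat_lit 0x1b90001),(nat_lit 0x4676001)],[(nat_lit 0x2bfa001),(nat_lit 0x2c68001),(nat_lit 0x8da9001),(nat_lit 0x2bf9001),(nat_lit 0x2bfb001),(nat_lit 0x49ce001),(nat_lit 0x8dac001)],[(nat_lit 0x1b86001),(nat_lit 0x1b8c001),(nat_lit 0x1b8f001),(nat_lit 0x49d0001),(nat_lit 0x1b53001),(nat_lit 0x1b54001),(nat_lit 0x4b94001)],[(nat_lit 0x4dd0313ede002),(nat_lit 0x13edf001),(nat_lit 0x4b32713ee0002),(nat_lit 0x4db5b13ee1002),(nat_lit 0x9ca2c13ee2002),(nat_lit 0x4dd3413ee3002),(nat_lit 0x49cd001)],[(nat_lit 0x1b45001),(nat_lit 0x9a03804b77002),(nat_lit 0x1b44001),(nat_lit 0x4b35001),(nat_lit 0x1ba8001),(nat_lit 0x1bb5001),(nat_lit 0x4b78001)],[(nat_lit 0x1b49001),(nat_lit 0x1b64001),(nat_lit 0x1ba6001),(nat_lit 0x1ba9001),(nat_lit 0x1b48001),(nat_lit 0x1bab001),(nat_lit 0x4b7d001)],[(nat_lit 0x18571081c7002),(nat_lit 0x2113c082e8002),(nat_lit 0x1857808375002),(nat_lit 0x2116d029c9002),(nat_lit 0x1857a08426002),(nat_lit 0x29c8001),(nat_lit 0x2117008427002)],[(nat_lit 0x9b02404ad6002),(nat_lit 0x1b23001),(nat_lit 0x1b24001),(nat_lit 0x4ae0001),(nat_lit 0x1b6c001),(nat_lit 0x1b5d001),(nat_lit 0x4ae2001)],[(nat_lit 0x4b36001),(nat_lit 0x4ae1001),(nat_lit 0x142da001),(nat_lit 0x4acc001),(nat_lit 0x142dc001),(nat_lit 0x4b37001),(nat_lit 0x1aab6142dd002)],[(nat_lit 0x1ba7001),(nat_lit 0x1b6a001),(nat_lit 0x1b4d001),(nat_lit 0x4b85001),(nat_lit 0x1b4c001),(nat_lit 0x1bad001),(nat_lit 0x4b86001)],[(nat_lit 0x1a164142e2002),(nat_lit 0x142e3001),(nat_lit 0x142e4001),(nat_lit 0x18564142e5002),(nat_lit 0xa2fe7142e6002),(nat_lit 0x1a1d9142e7002),(nat_lit 0x4acd001)],[(nat_lit 0x1baa001),(nat_lit 0x1b6e001),(nat_lit 0x4bc1001),(nat_lit 0x1b6d001),(nat_lit 0x1b8a001),(nat_lit 0x1baf001),(nat_lit 0x4bc2001)],[(nat_lit 0x1bac001),(nat_lit 0x1b70001),(nat_lit 0x1bae001),(nat_lit 0x1bb1001),(nat_lit 0x1b8b001),(nat_lit 0x1b6f001),(nat_lit 0x4bc3001)],[(nat_lit 0x4df3e04c9d002),(nat_lit 0x4c9e001),(nat_lit 0x4c9f001),(nat_lit 0x4d11001),(nat_lit 0x4d12001),(nat_lit 0x4df4604d13002),(nat_lit 0x1ba5001)],[(nat_lit 0x1857c142ee002),(nat_lit 0x4acf001),(nat_lit 0x142ef001),(nat_lit 0x4b40001),(nat_lit 0x4b42001),(nat_lit 0x4b44001),(nat_lit 0x142f0001)],[(nat_lit 0x4b3a001),(nat_lit 0x142f3001),(nat_lit 0x4ad0001),(nat_lit 0x20f4d142f4002),(nat_lit 0x4b46001),(nat_lit 0x4b48001),(nat_lit 0x142f5001)],[(nat_lit 0x211b808305002),(nat_lit 0x185ac08306002),(nat_lit 0x211f208307002),(nat_lit 0x1857d08308002),(nat_lit 0x211b908309002),(nat_lit 0x211ba0830a002),(nat_lit 0x2997001)],[(nat_lit 0x4b3e001),(nat_lit 0x4b43001),(nat_lit 0x4b47001),(nat_lit 0x142f7001),(nat_lit 0x4ad2001),(nat_lit 0x142f8001),(nat_lit 0x142f9001)],[(nat_lit 0x9b54e04741002),(nat_lit 0x1b51001),(nat_lit 0x1b6b001),(nat_lit 0x1bf4001),(nat_lit 0x1b50001),(nat_lit 0x1bc5001),(nat_lit 0x4b8b001)],[(nat_lit 0x9b7e3040f3002),(nat_lit 0x1853001),(nat_lit 0x1b78001),(nat_lit 0x1b1e001),(nat_lit 0x2114001),(nat_lit 0x1852001),(nat_lit 0x4126001)],[(nat_lit 0x9d385142fb002),(nat_lit 0x1847f142fc002),(nat_lit 0x18480142fd002),(nat_lit 0x1847a142fe002),(nat_lit 0x142ff001),(nat_lit 0x1848114300002),(nat_lit 0x4ad4001)],[(nat_lit 0x2112001),(nat_lit 0x2115001),(nat_lit 0x2118001),(nat_lit 0x210b001),(nat_lit 0x20de001),(nat_lit 0x20df001),(nat_lit 0x5fec001)],[(nat_lit 0x9b78901bf3002),(nat_lit 0x1bf5001),(nat_lit 0x9c8f404d36002),(nat_lit 0x1bc3001),(nat_lit 0x210c001),(nat_lit 0x1bf6001),(nat_lit 0x4d37001)],[(nat_lit 0x9b6f901b97002),(nat_lit 0x1bc6001),(nat_lit 0x1b72001),(nat_lit 0x1bf7001),(nat_lit 0x1b8e001),(nat_lit 0x1b71001),(nat_lit 0x4c46001)],[(nat_lit 0x52f9404d38002),(nat_lit 0x4d39001),(nat_lit 0x4d3a001),(nat_lit 0x9a3ac04d3b002),(nat_lit 0x4d3c001),(nat_lit 0x52f4c04d3d002),(nat_lit 0x1bc4001)],[(nat_lit 0x7c5001),(nat_lit 0x7c6001),(nat_lit 0x7c8001),(nat_lit 0xcd9001),(nat_lit 0x7c9001),(nat_lit 0x7c7001),(nat_lit 0x1bcc001)],[(nat_lit 0x4b4d001),(nat_lit 0x9b7b806dfb002),(nat_lit 0x4ad8001),(nat_lit 0x9b7b90700a002),(nat_lit 0x4ad9001),(nat_lit 0x9a75204b4f002),(nat_lit 0x9a3a414302002)],[(nat_lit 0x1b9a001),(nat_lit 0x1bb0001),(nat_lit 0x9a75204b50002),(nat_lit 0x1b74001),(nat_lit 0x4c4b001),(nat_lit 0x1b73001),(nat_lit 0x4c4c001)],[(nat_lit 0x5161c14309002),(nat_lit 0x9c1981430a002),(nat_lit 0x9ab881430b002),(nat_lit 0x9a7f01430c002),(nat_lit 0x516b81430d002),(nat_lit 0x515fc1430e002),(nat_lit 0x4ada001)],[(nat_lit 0x5173b14694002),(nat_lit 0x5172014695002),(nat_lit 0x4b3f014696002),(nat_lit 0x5169514697002),(nat_lit 0x4b3f114698002),(nat_lit 0x5172114699002),(nat_lit 0x4b93001)],[(nat_lit 0x9c6f114861002),(nat_lit 0x4bab001),(nat_lit 0x9c6e914862002),(nat_lit 0x4c29001),(nat_lit 0x4c2b001),(nat_lit 0x4c2d001),(nat_lit 0xa259214863002)],[(nat_lit 0x4c22001),(nat_lit 0x9c6ea14867002),(nat_lit 0x4bac001),(nat_lit 0x5173e14868002),(nat_lit 0x4c2f001),(nat_lit 0x5173c04c31002),(nat_lit 0x4b28314869002)],[(nat_lit 0x4c24001),(nat_lit 0x4c2a001),(nat_lit 0x1486a001),(nat_lit 0x4bad001),(nat_lit 0x2393f1486b002),(nat_lit 0x4c33001),(nat_lit 0x9b0f11486c002)],[(nat_lit 0x4c26001),(nat_lit 0x4c2c001),(nat_lit 0x4c30001),(nat_lit 0x9c17f1486d002),(nat_lit 0x4bae001),(nat_lit 0x1486e001),(nat_lit 0x1486f001)],[(nat_lit 0xc4d001),(nat_lit 0x24db001),(nat_lit 0xc4c001),(nat_lit 0x252b001),(nat_lit 0xc4e001),(nat_lit 0x24a1001),(nat_lit 0x25ca001)],[(nat_lit 0xc50001),(nat_lit 0x144f001),(nat_lit 0x2577001),(nat_lit 0xc4f001),(nat_lit 0x1450001),(nat_lit 0x24a6001),(nat_lit 0x25d3001)],[(nat_lit 0xc52001),(nat_lit 0x1453001),(nat_lit 0x24a3001),(nat_lit 0x24a8001),(nat_lit 0x1455001),(nat_lit 0xc51001),(nat_lit 0x25d7001)],[(nat_lit 0x30e9106b77002),(nat_lit 0x6b78001),(nat_lit 0x30e8906b79002),(nat_lit 0x30e7c06b7a002),(nat_lit 0x30ed106b7b002),(nat_lit 0x30e7b06b7c002),(nat_lit 0x24a0001)],[(nat_lit 0x33b2001),(nat_lit 0x2534001),(nat_lit 0x33ae001),(nat_lit 0x255e001),(nat_lit 0x2533001),(nat_lit 0x6dc6001),(nat_lit 0x106f706e0e002)],[(nat_lit 0x252c001),(nat_lit 0x252e001),(nat_lit 0x6bb7001),(nat_lit 0x24dc001),(nat_lit 0x2560001),(nat_lit 0x252f001),(nat_lit 0x6bb8001)],[(nat_lit 0x24a2001),(nat_lit 0x24df001),(nat_lit 0xc54001),(nat_lit 0x2530001),(nat_lit 0x24a5001),(nat_lit 0xc53001),(nat_lit 0x25d8001)],[(nat_lit 0x143ed06cc4002),(nat_lit 0x6cc5001),(nat_lit 0x6cc6001),(nat_lit 0x6cc7001),(nat_lit 0x6cc8001),(nat_lit 0x1403106cc9002),(nat_lit 0x24dd001)],[(nat_lit 0x3405001),(nat_lit 0x3406001),(nat_lit 0x3404001),(nat_lit 0x3407001),(nat_lit 0x38d0001),(nat_lit 0x3408001),(nat_lit 0x3409001)],[(nat_lit 0x33c5001),(nat_lit 0x38d1001),(nat_lit 0x33c6001),(nat_lit 0x751b001),(nat_lit 0x33c4001),(nat_lit 0xb4cc001),(nat_lit 0x310510b7ac002)],[(nat_lit 0x2578001),(nat_lit 0x6bc2001),(nat_lit 0x254d001),(nat_lit 0x6e2e001),(nat_lit 0x2550001),(nat_lit 0x2579001),(nat_lit 0x6e2f001)],[(nat_lit 0x24a7001),(nat_lit 0xc56001),(nat_lit 0x257a001),(nat_lit 0xc57001),(nat_lit 0x25af001),(nat_lit 0xc55001),(nat_lit 0x25d9001)],[(nat_lit 0x32acd06e30002),(nat_lit 0x6e31001),(nat_lit 0x6e32001),(nat_lit 0x6e33001),(nat_lit 0x6e34001),(nat_lit 0x32a1606e35002),(nat_lit 0x254e001)],[(nat_lit 0x30ecf06e7e002),(nat_lit 0x30e8d06e7f002),(nat_lit 0x30e8f06e80002),(nat_lit 0x30e3206e81002),(nat_lit 0x6e82001),(nat_lit 0x30eeb06e83002),(nat_lit 0x2581001)],[(nat_lit 0x70a1001),(nat_lit 0x25c5001),(nat_lit 0x70a2001),(nat_lit 0x2612001),(nat_lit 0x2614001),(nat_lit 0x2616001),(nat_lit 0x70a3001)],[(nat_lit 0x260b001),(nat_lit 0x70a7001),(nat_lit 0x25c6001),(nat_lit 0x70a8001),(nat_lit 0x2618001),(nat_lit 0x261a001),(nat_lit 0x22e44070a9002)],[(nat_lit 0x260d001),(nat_lit 0x2613001),(nat_lit 0x70aa001),(nat_lit 0x25c7001),(nat_lit 0x70ab001),(nat_lit 0x261c001),(nat_lit 0x70ac001)],[(nat_lit 0x260f001),(nat_lit 0x2615001),(nat_lit 0x2619001),(nat_lit 0x70ad001),(nat_lit 0x25c8001),(nat_lit 0x70ae001),(nat_lit 0x70af001)],[(nat_lit 0x2478001),(nat_lit 0x10d2001),(nat_lit 0x10d3001),(nat_lit 0x2642001),(nat_lit 0x10d4001),(nat_lit 0x247f001),(nat_lit 0x32e8001)],[(nat_lit 0x2641001),(nat_lit 0x2643001),(nat_lit 0x70df001),(nat_lit 0x25da001),(nat_lit 0x25e8001),(nat_lit 0x2644001),(nat_lit 0x70e0001)],[(nat_lit 0x2541001),(nat_lit 0x2480001),(nat_lit 0x1457001),(nat_lit 0x2645001),(nat_lit 0x1458001),(nat_lit 0x1456001),(nat_lit 0x3dab001)],[(nat_lit 0x31814070e1002),(nat_lit 0x70e2001),(nat_lit 0x70e3001),(nat_lit 0x70e4001),(nat_lit 0x70e5001),(nat_lit 0x31056070e6002),(nat_lit 0x25db001)],[(nat_lit 0x24ca001),(nat_lit 0x153500c6d002),(nat_lit 0x2139001),(nat_lit 0xc6c001),(nat_lit 0x183b001),(nat_lit 0x21d2001),(nat_lit 0x2651001)],[(nat_lit 0x24e5001),(nat_lit 0xc66001),(nat_lit 0x24e0001),(nat_lit 0x21d4001),(nat_lit 0x24e2001),(nat_lit 0xc65001),(nat_lit 0x264c001)],[(nat_lit 0x201c306ccb002),(nat_lit 0x6ccc001),(nat_lit 0x103f506ccd002),(nat_lit 0x6cce001),(nat_lit 0x6ccf001),(nat_lit 0x103fe06cd0002),(nat_lit 0x24e3001)],[(nat_lit 0x1463001),(nat_lit 0x21d3001),(nat_lit 0x2136001),(nat_lit 0xc6f001),(nat_lit 0x212b001),(nat_lit 0x153500c6e002),(nat_lit 0x265c001)],[(nat_lit 0xef2b06356002),(nat_lit 0x6357001),(nat_lit 0x6358001),(nat_lit 0x6359001),(nat_lit 0x635a001),(nat_lit 0xeeb30635b002),(nat_lit 0x21d1001)],[(nat_lit 0xef8706e84002),(nat_lit 0xef8406e85002),(nat_lit 0xc00c06e86002),(nat_lit 0xeee406e87002),(nat_lit 0xc00e06fc0002),(nat_lit 0xef8906fc1002),(nat_lit 0x2582001)],[(nat_lit 0x72fc001),(nat_lit 0x2647001),(nat_lit 0x72fd001),(nat_lit 0x268d001),(nat_lit 0x268f001),(nat_lit 0x2691001),(nat_lit 0x72fe001)],[(nat_lit 0x2686001),(nat_lit 0xef0d07302002),(nat_lit 0x2648001),(nat_lit 0xee7607303002),(nat_lit 0x2693001),(nat_lit 0xef0f02695002),(nat_lit 0xb3a407304002)],[(nat_lit 0x2688001),(nat_lit 0x268e001),(nat_lit 0x7305001),(nat_lit 0x2649001),(nat_lit 0x7306001),(nat_lit 0x2697001),(nat_lit 0x7307001)],[(nat_lit 0x268a001),(nat_lit 0x2690001),(nat_lit 0x2694001),(nat_lit 0x7308001),(nat_lit 0x264a001),(nat_lit 0x7309001),(nat_lit 0x99c2b0730a002)],[(nat_lit 0x20765001),(nat_lit 0x6b85001),(nat_lit 0x6bc3001),(nat_lit 0x6b9d001),(nat_lit 0x6b8e001),(nat_lit 0x6baa001),(nat_lit 0x20766001)],[(nat_lit 0x24c2001),(nat_lit 0x6b9c001),(nat_lit 0x24b4001),(nat_lit 0x24b5001),(nat_lit 0x625b001),(nat_lit 0x250a001),(nat_lit 0x6b9e001)],[(nat_lit 0x24cf001),(nat_lit 0x6ba9001),(nat_lit 0x24cd001),(nat_lit 0x2509001),(nat_lit 0x25b2001),(nat_lit 0x24cc001),(nat_lit 0x6bab001)],[(nat_lit 0xeff3001),(nat_lit 0xed7d001),(nat_lit 0xb3cc001),(nat_lit 0xa503001),(nat_lit 0xbe43001),(nat_lit 0xeff2001),(nat_lit 0x6b86001)],[(nat_lit 0x25ac001),(nat_lit 0x25b0001),(nat_lit 0x25b3001),(nat_lit 0x2584001),(nat_lit 0x2583001),(nat_lit 0x25ae001),(nat_lit 0x6fc6001)],[(nat_lit 0xc4d406d4d002),(nat_lit 0xc57f06fc7002),(nat_lit 0xc4aa06d4a002),(nat_lit 0xc58006fc8002),(nat_lit 0x6fcb001),(nat_lit 0xc4ad06d4e002),(nat_lit 0x2585001)],[(nat_lit 0x20767001),(nat_lit 0x6b88001),(nat_lit 0x106c5001),(nat_lit 0x6c78001),(nat_lit 0x6c7a001),(nat_lit 0x6c7c001),(nat_lit 0x20768001)],[(nat_lit 0xc4ab06c71002),(nat_lit 0x1033c001),(nat_lit 0x6b89001),(nat_lit 0xc43e0c3e9002),(nat_lit 0x6c7e001),(nat_lit 0x6c80001),(nat_lit 0xa661001)],[(nat_lit 0xc58206c73002),(nat_lit 0x6c79001),(nat_lit 0x6bc5001),(nat_lit 0x6b8a001),(nat_lit 0x7f4e001),(nat_lit 0x6c82001),(nat_lit 0x108ff001)],[(nat_lit 0xc58306c75002),(nat_lit 0x6c7b001),(nat_lit 0x6c7f001),(nat_lit 0x7de5001),(nat_lit 0x6b8b001),(nat_lit 0x7e3f001),(nat_lit 0x12336001)],[(nat_lit 0x6de8001),(nat_lit 0xc4270256b002),(nat_lit 0x6dec001),(nat_lit 0x6d06001),(nat_lit 0xc47406e55002),(nat_lit 0x256a001),(nat_lit 0x6e56001)],[(nat_lit 0xc41f06cff002),(nat_lit 0x6d05001),(nat_lit 0xc40f06ddd002),(nat_lit 0xc42702571002),(nat_lit 0x6e5c001),(nat_lit 0x2570001),(nat_lit 0x6e5d001)],[(nat_lit 0xc45f0bcd3002),(nat_lit 0xbcd4001),(nat_lit 0x46dc001),(nat_lit 0xcc40001),(nat_lit 0xbcca046db002),(nat_lit 0xc4780bcd5002),(nat_lit 0x9a85f12dff002)],[(nat_lit 0x6d01001),(nat_lit 0x6d5f001),(nat_lit 0x6de1001),(nat_lit 0x6de3001),(nat_lit 0x6de5001),(nat_lit 0x6de7001),(nat_lit 0x2092b001)],[(nat_lit 0x6de2001),(nat_lit 0x6d60001),(nat_lit 0x6d02001),(nat_lit 0x20932001),(nat_lit 0x6de9001),(nat_lit 0x6deb001),(nat_lit 0x21cb4001)],[(nat_lit 0x6de4001),(nat_lit 0x253e001),(nat_lit 0xed7f06e19002),(nat_lit 0x253d001),(nat_lit 0x6d10001),(nat_lit 0x6d04001),(nat_lit 0x6e1a001)],[(nat_lit 0x6de6001),(nat_lit 0x2569001),(nat_lit 0x6dea001),(nat_lit 0x6e50001),(nat_lit 0x2568001),(nat_lit 0x6e52001),(nat_lit 0x6e54001)],[(nat_lit 0x4843321cbf002),(nat_lit 0x21cc0001),(nat_lit 0x21cc1001),(nat_lit 0x21cc2001),(nat_lit 0xaad8f21cc3002),(nat_lit 0x4797921cc4002),(nat_lit 0x6d03001)],[(nat_lit 0x12d4e001),(nat_lit 0xc525046da002),(nat_lit 0xc528001),(nat_lit 0xc5240bce1002),(nat_lit 0xc5290bce2002),(nat_lit 0x46d9001),(nat_lit 0x12dfe001)],[(nat_lit 0xbce3001),(nat_lit 0xc5240bce4002),(nat_lit 0xbce5001),(nat_lit 0xc525046de002),(nat_lit 0xbf49001),(nat_lit 0x46dd001),(nat_lit 0x20c0212345002)],[(nat_lit 0xc4f006cfa002),(nat_lit 0x6df0001),(nat_lit 0x256d001),(nat_lit 0x6e57001),(nat_lit 0x256c001),(nat_lit 0x6e58001),(nat_lit 0x6e5a001)],[(nat_lit 0x6df4001),(nat_lit 0xefe5001),(nat_lit 0x6d0c001),(nat_lit 0x6d2c001),(nat_lit 0x6df6001),(nat_lit 0xc40f06ddf002),(nat_lit 0x12331001)],[(nat_lit 0xc46106d0f002),(nat_lit 0x6d11001),(nat_lit 0x6df7001),(nat_lit 0x6e9a001),(nat_lit 0x4ca0001),(nat_lit 0xc479001),(nat_lit 0x4ca1001)],[(nat_lit 0xec12001),(nat_lit 0x16a3b001),(nat_lit 0xc70e001),(nat_lit 0xbd48001),(nat_lit 0x21cc8001),(nat_lit 0x10635001),(nat_lit 0x6d0d001)],[(nat_lit 0x6e4a001),(nat_lit 0x6e51001),(nat_lit 0xa130721d92002),(nat_lit 0x6e10001),(nat_lit 0x6e9b001),(nat_lit 0x9b05d06eec002),(nat_lit 0x9cf2321d94002)],[(nat_lit 0x6e4c001),(nat_lit 0x6e53001),(nat_lit 0x6e59001),(nat_lit 0x9b05d06eed002),(nat_lit 0x6e9c001),(nat_lit 0x6e11001),(nat_lit 0x21d95001)],[(nat_lit 0x9adb421d96002),(nat_lit 0x21d97001),(nat_lit 0x21d98001),(nat_lit 0x21d99001),(nat_lit 0x9adae21d9a002),(nat_lit 0x9be7d21d9b002),(nat_lit 0x6e12001)],[(nat_lit 0x1d4d001),(nat_lit 0x20ec001),(nat_lit 0x2161001),(nat_lit 0x1d4c001),(nat_lit 0x2163001),(nat_lit 0x1d86001),(nat_lit 0x52de001)],[(nat_lit 0x1d4f001),(nat_lit 0x1d77001),(nat_lit 0x1d50001),(nat_lit 0x1d84001),(nat_lit 0x1d87001),(nat_lit 0x1d4e001),(nat_lit 0x16ab6052e2002)],[(nat_lit 0x1aa95165ae002),(nat_lit 0x18296165af002),(nat_lit 0x1a9dc16895002),(nat_lit 0x1828116896002),(nat_lit 0x1aa3516897002),(nat_lit 0x1aa2f16898002),(nat_lit 0x5219001)],[(nat_lit 0x2162001),(nat_lit 0x2158001),(nat_lit 0x212e001),(nat_lit 0x53d3001),(nat_lit 0x2165001),(nat_lit 0x2167001),(nat_lit 0x60f0001)],[(nat_lit 0x2164001),(nat_lit 0x2124001),(nat_lit 0x2166001),(nat_lit 0x2155001),(nat_lit 0x2123001),(nat_lit 0x605f001),(nat_lit 0x60e8001)],[(nat_lit 0x1d85001),(nat_lit 0xaa2001),(nat_lit 0x2168001),(nat_lit 0xaa1001),(nat_lit 0x216b001),(nat_lit 0xaa3001),(nat_lit 0x21f1001)],[(nat_lit 0x1a1ba060f3002),(nat_lit 0x60f4001),(nat_lit 0x60f5001),(nat_lit 0x171b8060f6002),(nat_lit 0xa9117060f7002),(nat_lit 0x1a1bf060f8002),(nat_lit 0x212f001)],[(nat_lit 0x1d88001),(nat_lit 0xaa5001),(nat_lit 0xaa6001),(nat_lit 0xe5f001),(nat_lit 0xaa4001),(nat_lit 0xad7001),(nat_lit 0x21f9001)],[(nat_lit 0x1a9da05300002),(nat_lit 0x1aa1c05301002),(nat_lit 0x1a9d105302002),(nat_lit 0x1aa1d05303002),(nat_lit 0x5304001),(nat_lit 0x1aa1f05305002),(nat_lit 0x1d6f001)],[(nat_lit 0x1787a168a3002),(nat_lit 0x521b001),(nat_lit 0x17871168a4002),(nat_lit 0x169bf05264002),(nat_lit 0x5266001),(nat_lit 0x5268001),(nat_lit 0x168a5001)],[(nat_lit 0x525d001),(nat_lit 0x1785f168a9002),(nat_lit 0x521c001),(nat_lit 0x17943168aa002),(nat_lit 0x526a001),(nat_lit 0x526c001),(nat_lit 0x168ab001)],[(nat_lit 0x1aa290525f002),(nat_lit 0x169bf05265002),(nat_lit 0x1aa3a168ac002),(nat_lit 0x521d001),(nat_lit 0xa8ee3168ad002),(nat_lit 0x526e001),(nat_lit 0x18b41168ae002)],[(nat_lit 0x5261001),(nat_lit 0x5267001),(nat_lit 0x526b001),(nat_lit 0x168af001),(nat_lit 0x521e001),(nat_lit 0x168b0001),(nat_lit 0x168b1001)],[(nat_lit 0x4015001),(nat_lit 0x18b2001),(nat_lit 0x2159001),(nat_lit 0x18b1001),(nat_lit 0x215d001),(nat_lit 0x18b3001),(nat_lit 0x4293001)],[(nat_lit 0x215b001),(nat_lit 0x215e001),(nat_lit 0x2126001),(nat_lit 0x214f001),(nat_lit 0x2125001),(nat_lit 0x60af001),(nat_lit 0x60ed001)],[(nat_lit 0x2087001),(nat_lit 0x179c001),(nat_lit 0x1791001),(nat_lit 0x17c0001),(nat_lit 0x1811001),(nat_lit 0x2088001),(nat_lit 0x1790001)],[(nat_lit 0x605d001),(nat_lit 0x6060001),(nat_lit 0x60b0001),(nat_lit 0x6033001),(nat_lit 0x606a001),(nat_lit 0x600b001),(nat_lit 0x1d0d8001)],[(nat_lit 0x4a5d11d0d9002),(nat_lit 0x1d0da001),(nat_lit 0x4325e1d0db002),(nat_lit 0x1d0dc001),(nat_lit 0x1d0dd001),(nat_lit 0x4a5d81d0de002),(nat_lit 0x600c001)],[(nat_lit 0x216a001),(nat_lit 0x216c001),(nat_lit 0x216e001),(nat_lit 0x214b001),(nat_lit 0x2130001),(nat_lit 0x606b001),(nat_lit 0x60f9001)],[(nat_lit 0x17c2001),(nat_lit 0x17c5001),(nat_lit 0x17f4001),(nat_lit 0x17c1001),(nat_lit 0x17c7001),(nat_lit 0x17c3001),(nat_lit 0x17c4001)],[(nat_lit 0xe5e001),(nat_lit 0xe60001),(nat_lit 0x2598001),(nat_lit 0xe41001),(nat_lit 0x214c001),(nat_lit 0xe61001),(nat_lit 0x17c9001)],[(nat_lit 0x25aa001),(nat_lit 0x2bc1001),(nat_lit 0x25a6001),(nat_lit 0x2bc3001),(nat_lit 0x2bc5001),(nat_lit 0x25a7001),(nat_lit 0xe42001)],[(nat_lit 0x1c1e001),(nat_lit 0x1c1f001),(nat_lit 0x2e19001),(nat_lit 0x1c1d001),(nat_lit 0x1c20001),(nat_lit 0x20f1001),(nat_lit 0x4eb7001)],[(nat_lit 0x2e7a001),(nat_lit 0x2e77001),(nat_lit 0x2e78001),(nat_lit 0x47dc001),(nat_lit 0x4900001),(nat_lit 0x2e79001),(nat_lit 0x4a25001)],[(nat_lit 0x1c48001),(nat_lit 0x1c49001),(nat_lit 0x1c4a001),(nat_lit 0x20f0001),(nat_lit 0x1c4b001),(nat_lit 0x1c47001),(nat_lit 0x4f63001)],[(nat_lit 0x2128001),(nat_lit 0x2129001),(nat_lit 0x48ff001),(nat_lit 0x212a001),(nat_lit 0x2127001),(nat_lit 0x464b001),(nat_lit 0x60ee001)],[(nat_lit 0x6013001),(nat_lit 0x135d0001),(nat_lit 0x6012001),(nat_lit 0x6063001),(nat_lit 0xab61001),(nat_lit 0x6014001),(nat_lit 0x6011001)],[(nat_lit 0x1cd2001),(nat_lit 0xf28001),(nat_lit 0x2e5c001),(nat_lit 0x19b7001),(nat_lit 0x1ac8001),(nat_lit 0xf27001),(nat_lit 0x2eab001)],[(nat_lit 0x1ac7001),(nat_lit 0x1ac9001),(nat_lit 0x1acb001),(nat_lit 0x27ad001),(nat_lit 0x1aab001),(nat_lit 0x250d001),(nat_lit 0x48fd001)],[(nat_lit 0x830001),(nat_lit 0xca1001),(nat_lit 0xcb2001),(nat_lit 0xc9b001),(nat_lit 0xcc1001),(nat_lit 0x82f001),(nat_lit 0xcf7001)],[(nat_lit 0x241a001),(nat_lit 0x464d001),(nat_lit 0x250c001),(nat_lit 0x20f3001),(nat_lit 0x20f4001),(nat_lit 0x20f2001),(nat_lit 0x6015001)],[(nat_lit 0x140ac13cfc002),(nat_lit 0x13cfd001),(nat_lit 0x1401d13cfe002),(nat_lit 0x13cff001),(nat_lit 0x9f63313d00002),(nat_lit 0x140b613d01002),(nat_lit 0x49a8001)],[(nat_lit 0x67ac001),(nat_lit 0x2368001),(nat_lit 0x2b32001),(nat_lit 0x239d001),(nat_lit 0x239f001),(nat_lit 0x25a4023a1002),(nat_lit 0x67ad001)],[(nat_lit 0x2106001),(nat_lit 0x2825001),(nat_lit 0x259b023b4002),(nat_lit 0x2105001),(nat_lit 0x2107001),(nat_lit 0x23b3001),(nat_lit 0x24b8001)],[(nat_lit 0x239a001),(nat_lit 0x239e001),(nat_lit 0x4a31001),(nat_lit 0x236a001),(nat_lit 0x608c001),(nat_lit 0x25a5023a4002),(nat_lit 0x67b0001)],[(nat_lit 0x239c001),(nat_lit 0x23a0001),(nat_lit 0x259c023a3002),(nat_lit 0x67b7001),(nat_lit 0x236b001),(nat_lit 0x2a7d001),(nat_lit 0x67b8001)],[(nat_lit 0x1bb9001),(nat_lit 0x1bb8001),(nat_lit 0x21be001),(nat_lit 0x1bba001),(nat_lit 0x21c1001),(nat_lit 0x1bbb001),(nat_lit 0x1abd804d32002)],[(nat_lit 0x21bf001),(nat_lit 0x1738001),(nat_lit 0x1737001),(nat_lit 0x272b001),(nat_lit 0x21cf001),(nat_lit 0x1846001),(nat_lit 0x3ff5001)],[(nat_lit 0x21c2001),(nat_lit 0xe3c001),(nat_lit 0x21d0001),(nat_lit 0x2ba4001),(nat_lit 0x15d300e3b002),(nat_lit 0x2197001),(nat_lit 0x2bac001)],[(nat_lit 0x178c306286002),(nat_lit 0x99cbd06287002),(nat_lit 0x1ab3006288002),(nat_lit 0x178c606289002),(nat_lit 0x628a001),(nat_lit 0x1abde0628b002),(nat_lit 0x21bd001)],[(nat_lit 0x2ad9001),(nat_lit 0x1650001),(nat_lit 0x1651001),(nat_lit 0x21d5001),(nat_lit 0x21db001),(nat_lit 0x183c001),(nat_lit 0x3fd5001)],[(nat_lit 0x15dc001),(nat_lit 0x21dc001),(nat_lit 0xe3e001),(nat_lit 0x15db001),(nat_lit 0x15ce00e3d002),(nat_lit 0x212d001),(nat_lit 0x2bb7001)],[(nat_lit 0x2ba3001),(nat_lit 0x2ba5001),(nat_lit 0x8cc0001),(nat_lit 0x2b70001),(nat_lit 0x2b96001),(nat_lit 0x2ba6001),(nat_lit 0x8093001)],[(nat_lit 0x2184001),(nat_lit 0x2196001),(nat_lit 0x2146001),(nat_lit 0x2ba7001),(nat_lit 0x2145001),(nat_lit 0x2147001),(nat_lit 0x6117001)],[(nat_lit 0x1438808cc1002),(nat_lit 0x8cc2001),(nat_lit 0x140c208cc3002),(nat_lit 0x140c308cc4002),(nat_lit 0x9c26708cc5002),(nat_lit 0x140c408cc6002),(nat_lit 0x2b71001)],[(nat_lit 0x20f7001),(nat_lit 0x2ace001),(nat_lit 0x20f6001),(nat_lit 0x410d001),(nat_lit 0x21b3001),(nat_lit 0x21c0001),(nat_lit 0x6021001)],[(nat_lit 0x20f9001),(nat_lit 0x20fa001),(nat_lit 0x21b1001),(nat_lit 0x21b4001),(nat_lit 0x20f8001),(nat_lit 0x21b6001),(nat_lit 0x6022001)],[(nat_lit 0x410e001),(nat_lit 0x26e5001),(nat_lit 0x760d001),(nat_lit 0x26e6001),(nat_lit 0x2727001),(nat_lit 0x2729001),(nat_lit 0x760e001)],[(nat_lit 0x21b2001),(nat_lit 0x2138001),(nat_lit 0x20fc001),(nat_lit 0x602a001),(nat_lit 0x20fb001),(nat_lit 0x21b8001),(nat_lit 0x602b001)],[(nat_lit 0x20f84111b0002),(nat_lit 0x20f66111b1002),(nat_lit 0x196b6111b2002),(nat_lit 0x17aab111b3002),(nat_lit 0x111b4001),(nat_lit 0x20f87111b5002),(nat_lit 0x410c001)],[(nat_lit 0x21b5001),(nat_lit 0x20fe001),(nat_lit 0x4cf6001),(nat_lit 0x20ff001),(nat_lit 0x20fd001),(nat_lit 0x21ba001),(nat_lit 0x602c001)],[(nat_lit 0x21b7001),(nat_lit 0x2173001),(nat_lit 0x21b9001),(nat_lit 0x21bc001),(nat_lit 0x2195001),(nat_lit 0x2172001),(nat_lit 0x6147001)],[(nat_lit 0x534980626c002),(nat_lit 0x626d001),(nat_lit 0x626e001),(nat_lit 0x626f001),(nat_lit 0x6270001),(nat_lit 0x5346a06271002),(nat_lit 0x21b0001)],[(nat_lit 0x4d46001),(nat_lit 0x999e1050d1002),(nat_lit 0x4d45001),(nat_lit 0x50e5001),(nat_lit 0x4d47001),(nat_lit 0x508b001),(nat_lit 0x9ab1114f0d002)],[(nat_lit 0x99898060b2002),(nat_lit 0x999dc17a16002),(nat_lit 0x601d001),(nat_lit 0x17a17001),(nat_lit 0x60b9001),(nat_lit 0x60bb001),(nat_lit 0x1d0fa001)],[(nat_lit 0x5001001),(nat_lit 0x5002001),(nat_lit 0x999e2075fd002),(nat_lit 0x77a6001),(nat_lit 0x999e1050d2002),(nat_lit 0x50d5001),(nat_lit 0x15b90001)],[(nat_lit 0x251f001),(nat_lit 0x2520001),(nat_lit 0x2522001),(nat_lit 0x251e001),(nat_lit 0x2521001),(nat_lit 0x2ada001),(nat_lit 0x4a26001)],[(nat_lit 0x4a28001),(nat_lit 0x10d9f001),(nat_lit 0x4888001),(nat_lit 0x47e3001),(nat_lit 0x111a2001),(nat_lit 0x47e4001),(nat_lit 0x4108001)],[(nat_lit 0x2c5b001),(nat_lit 0xf30001),(nat_lit 0xf31001),(nat_lit 0x1aa5001),(nat_lit 0x1aa8001),(nat_lit 0xf2f001),(nat_lit 0x2eba001)],[(nat_lit 0xf33001),(nat_lit 0x1aa6001),(nat_lit 0xf3e001),(nat_lit 0xf34001),(nat_lit 0x2ebb001),(nat_lit 0xf32001),(nat_lit 0x16f6001)],[(nat_lit 0xf0f001),(nat_lit 0x1aa9001),(nat_lit 0xf10001),(nat_lit 0x1acd001),(nat_lit 0xf0e001),(nat_lit 0xf38001),(nat_lit 0x262e001)],[(nat_lit 0x2508001),(nat_lit 0x6cb7001),(nat_lit 0x2504001),(nat_lit 0x2505001),(nat_lit 0x4b4e001),(nat_lit 0x2506001),(nat_lit 0x6d12001)],[(nat_lit 0x21a8001),(nat_lit 0x21bb001),(nat_lit 0x24c1001),(nat_lit 0x2175001),(nat_lit 0x4cbd001),(nat_lit 0x2174001),(nat_lit 0x614c001)],[(nat_lit 0xc4ac06bdd002),(nat_lit 0xc4c9001),(nat_lit 0xbcba001),(nat_lit 0xc44d0bd0b002),(nat_lit 0xbcbb001),(nat_lit 0xc4c706bde002),(nat_lit 0x60fe001)],[(nat_lit 0xc70a001),(nat_lit 0x6103001),(nat_lit 0x1d472001),(nat_lit 0x6bc8061ae002),(nat_lit 0x61b0001),(nat_lit 0x61b2001),(nat_lit 0x329b61d473002)],[(nat_lit 0xc56a0a650002),(nat_lit 0xc59a001),(nat_lit 0xa651001),(nat_lit 0xa652001),(nat_lit 0xa653001),(nat_lit 0xc4ca0a654002),(nat_lit 0x4651001)],[(nat_lit 0xc569061ab002),(nat_lit 0x61b1001),(nat_lit 0x61b5001),(nat_lit 0x6d7d001),(nat_lit 0x6106001),(nat_lit 0x1d47a001),(nat_lit 0x8fc3c1d47b002)],[(nat_lit 0xddd001),(nat_lit 0x2866001),(nat_lit 0xddc001),(nat_lit 0x2869001),(nat_lit 0x230c001),(nat_lit 0xdde001),(nat_lit 0x2a73001)],[(nat_lit 0x203c00da5002),(nat_lit 0xdf0001),(nat_lit 0x2304001),(nat_lit 0xda6001),(nat_lit 0x2264001),(nat_lit 0xda4001),(nat_lit 0x2997001)],[(nat_lit 0x203d00de0002),(nat_lit 0x208c001),(nat_lit 0x230a001),(nat_lit 0x230d001),(nat_lit 0xddf001),(nat_lit 0x230f001),(nat_lit 0x9f94c02a79002)],[(nat_lit 0x21e3707bb9002),(nat_lit 0x20fd607bba002),(nat_lit 0x20fd707bbb002),(nat_lit 0x2159707bbc002),(nat_lit 0x215ef07bbd002),(nat_lit 0x215f707bbe002),(nat_lit 0x281c001)],[(nat_lit 0x2856001),(nat_lit 0xd76001),(nat_lit 0xd77001),(nat_lit 0x285a001),(nat_lit 0x1fd9001),(nat_lit 0xd78001),(nat_lit 0x2909001)],[(nat_lit 0x2868001),(nat_lit 0x2859001),(nat_lit 0x7ad0001),(nat_lit 0x280b001),(nat_lit 0x7ad3001),(nat_lit 0x280a001),(nat_lit 0x7ad4001)],[(nat_lit 0x230b001),(nat_lit 0x1fd8001),(nat_lit 0x203d00de2002),(nat_lit 0x2a7a001),(nat_lit 0xde1001),(nat_lit 0x2312001),(nat_lit 0x2a7b001)],[(nat_lit 0x1aafb07bf6002),(nat_lit 0x1aaf907bf7002),(nat_lit 0x1aa7907bf8002),(nat_lit 0x1aafa07bf9002),(nat_lit 0x7bfa001),(nat_lit 0x1aaf807bfb002),(nat_lit 0x2831001)],[(nat_lit 0x2305001),(nat_lit 0x2252001),(nat_lit 0x203c00daa002),(nat_lit 0x2981001),(nat_lit 0x2307001),(nat_lit 0xda9001),(nat_lit 0x29a0001)],[(nat_lit 0x2262001),(nat_lit 0x172a00dfc002),(nat_lit 0x2308001),(nat_lit 0x2273001),(nat_lit 0x203c00dfb002),(nat_lit 0x22b4001),(nat_lit 0x2b03001)],[(nat_lit 0x211e0066c3002),(nat_lit 0x21154066c4002),(nat_lit 0x2119b066c5002),(nat_lit 0x2119d066c6002),(nat_lit 0x66c7001),(nat_lit 0x21198066c8002),(nat_lit 0x2303001)],[(nat_lit 0x230e001),(nat_lit 0x22a5001),(nat_lit 0x65b0001),(nat_lit 0x22a6001),(nat_lit 0x22a4001),(nat_lit 0x2315001),(nat_lit 0x65b2001)],[(nat_lit 0x2310001),(nat_lit 0xd85001),(nat_lit 0x2313001),(nat_lit 0x2317001),(nat_lit 0xd84001),(nat_lit 0x203d00d86002),(nat_lit 0x9dee402944002)],[(nat_lit 0x7b79001),(nat_lit 0x20fd502847002),(nat_lit 0x7b7d001),(nat_lit 0x2101b07ade002),(nat_lit 0x2101c07b9f002),(nat_lit 0x2846001),(nat_lit 0x7c14001)],[(nat_lit 0x20faf07a91002),(nat_lit 0x218be07b85002),(nat_lit 0x20fd50284b002),(nat_lit 0x7b87001),(nat_lit 0x20fe207ba0002),(nat_lit 0x284a001),(nat_lit 0x7c17001)],[(nat_lit 0x2102a07a94002),(nat_lit 0x2101b07add002),(nat_lit 0x7b91001),(nat_lit 0x20fd50284d002),(nat_lit 0xa507707c18002),(nat_lit 0x284c001),(nat_lit 0x2102e07c19002)],[(nat_lit 0x2a9a001),(nat_lit 0x2a9f001),(nat_lit 0x2aa1001),(nat_lit 0x8773001),(nat_lit 0x2a71001),(nat_lit 0x2102f08774002),(nat_lit 0x8775001)],[(nat_lit 0x1f7b001),(nat_lit 0x1f7c001),(nat_lit 0x2857001),(nat_lit 0x1fba001),(nat_lit 0x1ff7001),(nat_lit 0x1feb001),(nat_lit 0x5d70001)],[(nat_lit 0x1fb8001),(nat_lit 0x170300de9002),(nat_lit 0x200701803002),(nat_lit 0xde8001),(nat_lit 0x2095001),(nat_lit 0xdea001),(nat_lit 0x2abb001)],[(nat_lit 0x1ff5001),(nat_lit 0x170400dec002),(nat_lit 0x1fd7001),(nat_lit 0x209c001),(nat_lit 0xdeb001),(nat_lit 0x1fda001),(nat_lit 0x2ac0001)],[(nat_lit 0x190fa07d96002),(nat_lit 0x1917707d97002),(nat_lit 0x190e207d98002),(nat_lit 0x1917807d99002),(nat_lit 0x7d9a001),(nat_lit 0x1917907d9b002),(nat_lit 0x287e001)],[(nat_lit 0x200101ffe002),(nat_lit 0x17e2001),(nat_lit 0x2005017ce002),(nat_lit 0x17cf001),(nat_lit 0x2098001),(nat_lit 0x2006001),(nat_lit 0x17cd001)],[(nat_lit 0x1fbf001),(nat_lit 0x2096001),(nat_lit 0x209b001),(nat_lit 0x1fec001),(nat_lit 0x1fbe001),(nat_lit 0x49b4001),(nat_lit 0x208b001)],[(nat_lit 0x1fd5001),(nat_lit 0x209d001),(nat_lit 0x5e88001),(nat_lit 0x1fd4001),(nat_lit 0x1fee001),(nat_lit 0x209e001),(nat_lit 0x5eba001)],[(nat_lit 0xdc6001),(nat_lit 0x1fdb001),(nat_lit 0xd99001),(nat_lit 0x20a0001),(nat_lit 0xd98001),(nat_lit 0x170400d9a002),(nat_lit 0x2957001)],[(nat_lit 0x530cf05ebf002),(nat_lit 0x5ec0001),(nat_lit 0x4cb9d05ec1002),(nat_lit 0x52ed705ec2002),(nat_lit 0x52fc205ec3002),(nat_lit 0x52fba05ec4002),(nat_lit 0x1fd6001)],[(nat_lit 0x3bea001),(nat_lit 0x2242001),(nat_lit 0x2253001),(nat_lit 0x2246001),(nat_lit 0x2270001),(nat_lit 0x2243001),(nat_lit 0x2247001)],[(nat_lit 0x208e001),(nat_lit 0x2245001),(nat_lit 0x1813001),(nat_lit 0x203e017fa002),(nat_lit 0x17fc001),(nat_lit 0x208f001),(nat_lit 0x17fb001)],[(nat_lit 0x1736001),(nat_lit 0x2271001),(nat_lit 0x172a00dfe002),(nat_lit 0x2074017bd002),(nat_lit 0x172900dfd002),(nat_lit 0x22b6001),(nat_lit 0x2b07001)],[(nat_lit 0x85e001),(nat_lit 0xe7c001),(nat_lit 0x556001),(nat_lit 0xd2f001),(nat_lit 0x863001),(nat_lit 0x555001),(nat_lit 0x206401699002)],[(nat_lit 0x2103001),(nat_lit 0x2274001),(nat_lit 0x296a001),(nat_lit 0x2102001),(nat_lit 0x2104001),(nat_lit 0x22b9001),(nat_lit 0x4ca1001)],[(nat_lit 0x2266001),(nat_lit 0x22b5001),(nat_lit 0x22b8001),(nat_lit 0x22bb001),(nat_lit 0x22a3001),(nat_lit 0x2265001),(nat_lit 0x81d70656b002)],[(nat_lit 0x1409206579002),(nat_lit 0x657a001),(nat_lit 0x1408f0657b002),(nat_lit 0x1409b0657c002),(nat_lit 0x1409c0657d002),(nat_lit 0x1408d0657e002),(nat_lit 0x2272001)],[(nat_lit 0x5f3e001),(nat_lit 0x82c5001),(nat_lit 0x5f3d001),(nat_lit 0x84b2001),(nat_lit 0x5f3f001),(nat_lit 0x5fdd001),(nat_lit 0x4cb3f1cd36002)],[(nat_lit 0x2301001),(nat_lit 0x2316001),(nat_lit 0x5fdf001),(nat_lit 0x2302001),(nat_lit 0x291f001),(nat_lit 0x2300001),(nat_lit 0x66be001)],[(nat_lit 0x4dbdb1cd3b002),(nat_lit 0x1cd3c001),(nat_lit 0x4aff71cd3d002),(nat_lit 0x9b8931cd3e002),(nat_lit 0x1cd3f001),(nat_lit 0x4dc8d1cd40002),(nat_lit 0x5f40001)],[(nat_lit 0x519021ec97002),(nat_lit 0x66b9001),(nat_lit 0x519071ec98002),(nat_lit 0x6744001),(nat_lit 0x6746001),(nat_lit 0x6748001),(nat_lit 0x1ec99001)],[(nat_lit 0x5fcc001),(nat_lit 0x519031cefb002),(nat_lit 0x5172e1cf0f002),(nat_lit 0x5191205fcb002),(nat_lit 0x51b4a1cf11002),(nat_lit 0x5180b1ccfb002),(nat_lit 0x1d06a001)],[(nat_lit 0x5fce001),(nat_lit 0x519e31cefd002),(nat_lit 0x518e21ccf9002),(nat_lit 0x9ded61cf19002),(nat_lit 0x5191205fcd002),(nat_lit 0xa19f01cf1b002),(nat_lit 0xa00211d06b002)],[(nat_lit 0x2838001),(nat_lit 0x282a001),(nat_lit 0x2837001),(nat_lit 0x2861001),(nat_lit 0x2863001),(nat_lit 0x2865001),(nat_lit 0x7be0001)],[(nat_lit 0x2807001),(nat_lit 0x2862001),(nat_lit 0x3c86001),(nat_lit 0x2806001),(nat_lit 0x7aca001),(nat_lit 0x2867001),(nat_lit 0x7acc001)],[(nat_lit 0xdd0001),(nat_lit 0x2864001),(nat_lit 0xdcf001),(nat_lit 0x286e001),(nat_lit 0xdd1001),(nat_lit 0x2816001),(nat_lit 0x2a43001)],[(nat_lit 0x1aa7807be1002),(nat_lit 0x7be2001),(nat_lit 0x1aa0a07be3002),(nat_lit 0x1aa7c07be4002),(nat_lit 0x1aa7d07be5002),(nat_lit 0x1aa7e07be6002),(nat_lit 0x282b001)],[(nat_lit 0xda1001),(nat_lit 0x2991001),(nat_lit 0xda0001),(nat_lit 0x297d001),(nat_lit 0x2812001),(nat_lit 0x2306001),(nat_lit 0x2992001)],[(nat_lit 0xda3001),(nat_lit 0x2092001),(nat_lit 0x2814001),(nat_lit 0x27e3001),(nat_lit 0xda2001),(nat_lit 0x28a9001),(nat_lit 0x2993001)],[(nat_lit 0x2119107ae9002),(nat_lit 0x17e6207aea002),(nat_lit 0x2119207aeb002),(nat_lit 0x17e6407aec002),(nat_lit 0x2119307aed002),(nat_lit 0x211d407aee002),(nat_lit 0x2811001)],[(nat_lit 0xdd3001),(nat_lit 0x2093001),(nat_lit 0x2925001),(nat_lit 0xdd2001),(nat_lit 0x27e5001),(nat_lit 0x2819001),(nat_lit 0x2a62001)],[(nat_lit 0xdd5001),(nat_lit 0x2094001),(nat_lit 0x2818001),(nat_lit 0x281b001),(nat_lit 0x2311001),(nat_lit 0xdd4001),(nat_lit 0x27c6a02a66002)],[(nat_lit 0x51a2507af8002),(nat_lit 0x7bac001),(nat_lit 0x51a2007bad002),(nat_lit 0x51a4307bae002),(nat_lit 0x51a8007baf002),(nat_lit 0x51a1e07bb0002),(nat_lit 0x2815001)],[(nat_lit 0x2102914bd3002),(nat_lit 0x17a4704ce1002),(nat_lit 0x1833714bd5002),(nat_lit 0x4ce0001),(nat_lit 0x17a5d14bd6002),(nat_lit 0x17a5e14b16002),(nat_lit 0x14bd7001)],[(nat_lit 0x283b001),(nat_lit 0x20fb207c0e002),(nat_lit 0x20fda0283a002),(nat_lit 0x7b7e001),(nat_lit 0x20fe707a8d002),(nat_lit 0x20faf07a90002),(nat_lit 0x7c0f001)],[(nat_lit 0x283f001),(nat_lit 0x20fe007b5d002),(nat_lit 0x20fe707a8f002),(nat_lit 0x7b92001),(nat_lit 0x20fda0283e002),(nat_lit 0x7b94001),(nat_lit 0x7c10001)],[(nat_lit 0x2823001),(nat_lit 0x2839001),(nat_lit 0x2822001),(nat_lit 0x2850001),(nat_lit 0x2852001),(nat_lit 0x2855001),(nat_lit 0x7bc9001)],[(nat_lit 0x2851001),(nat_lit 0x2809001),(nat_lit 0x284f001),(nat_lit 0x2808001),(nat_lit 0x7acd001),(nat_lit 0x2858001),(nat_lit 0x7acf001)],[(nat_lit 0x2853001),(nat_lit 0xd5d001),(nat_lit 0xd5e001),(nat_lit 0x2870001),(nat_lit 0xd5f001),(nat_lit 0x282e001),(nat_lit 0x28c3001)],[(nat_lit 0x1888707bce002),(nat_lit 0x7bcf001),(nat_lit 0x7bd0001),(nat_lit 0x7bd1001),(nat_lit 0x7bd2001),(nat_lit 0x1888a07bd3002),(nat_lit 0x2827001)],[(nat_lit 0x7a80001),(nat_lit 0x7b44001),(nat_lit 0x7a7f001),(nat_lit 0x7af9001),(nat_lit 0x7b45001),(nat_lit 0x7ad2001),(nat_lit 0x12e71001)],[(nat_lit 0x7acb001),(nat_lit 0x7ace001),(nat_lit 0x7b46001),(nat_lit 0x7b00001),(nat_lit 0x7a81001),(nat_lit 0x25e99001),(nat_lit 0xbf9cb25e9a002)],[(nat_lit 0x1a70f18557002),(nat_lit 0x18558001),(nat_lit 0x24e70001),(nat_lit 0x1855918058002),(nat_lit 0x25e9b001),(nat_lit 0x1a2191855a002),(nat_lit 0x7a82001)],[(nat_lit 0x286f001),(nat_lit 0x2871001),(nat_lit 0x7be7001),(nat_lit 0x282c001),(nat_lit 0x7b01001),(nat_lit 0x2872001),(nat_lit 0x7be8001)],[(nat_lit 0x2817001),(nat_lit 0x282f001),(nat_lit 0xdd7001),(nat_lit 0x2873001),(nat_lit 0x2314001),(nat_lit 0xdd6001),(nat_lit 0x2a67001)],[(nat_lit 0x7ea7e07bec002),(nat_lit 0x7bed001),(nat_lit 0x7bee001),(nat_lit 0x7bef001),(nat_lit 0x7bf0001),(nat_lit 0x7eaf607bf1002),(nat_lit 0x282d001)],[(nat_lit 0x25e75001),(nat_lit 0x7a87001),(nat_lit 0x216dc216ce002),(nat_lit 0x7b4e001),(nat_lit 0x7b50001),(nat_lit 0x7b52001),(nat_lit 0x217c2001)],[(nat_lit 0x7b48001),(nat_lit 0x1b25e001),(nat_lit 0x7a88001),(nat_lit 0x179d0001),(nat_lit 0x7b54001),(nat_lit 0x7b56001),(nat_lit 0xabb7125e9f002)],[(nat_lit 0x7b4a001),(nat_lit 0x7b4f001),(nat_lit 0x131e6001),(nat_lit 0x7a89001),(nat_lit 0x25ea2001),(nat_lit 0x7b58001),(nat_lit 0x17952001)],[(nat_lit 0x7b4c001),(nat_lit 0x7b51001),(nat_lit 0x7b55001),(nat_lit 0x25ea6001),(nat_lit 0x7a8a001),(nat_lit 0x25ea7001),(nat_lit 0x25ea8001)],[(nat_lit 0x3bed001),(nat_lit 0x224c001),(nat_lit 0x224d001),(nat_lit 0x2340022f2002),(nat_lit 0x28cf001),(nat_lit 0x2254001),(nat_lit 0x4a3d001)],[(nat_lit 0x297e001),(nat_lit 0x2952001),(nat_lit 0x3bfb001),(nat_lit 0x2951001),(nat_lit 0x3c75001),(nat_lit 0x297f001),(nat_lit 0x816f001)],[(nat_lit 0x2813001),(nat_lit 0x28cd001),(nat_lit 0xda8001),(nat_lit 0x299b001),(nat_lit 0xda7001),(nat_lit 0x28ac001),(nat_lit 0x299c001)],[(nat_lit 0x1a13b08178002),(nat_lit 0x8179001),(nat_lit 0x817a001),(nat_lit 0x817b001),(nat_lit 0x817c001),(nat_lit 0x1a0e20817d002),(nat_lit 0x2953001)],[(nat_lit 0x27e4001),(nat_lit 0xd82001),(nat_lit 0x2928001),(nat_lit 0xd81001),(nat_lit 0xd83001),(nat_lit 0x28ae001),(nat_lit 0x2940001)],[(nat_lit 0x28aa001),(nat_lit 0x22ed001),(nat_lit 0x28ad001),(nat_lit 0x28b0001),(nat_lit 0x22ee001),(nat_lit 0x22ec001),(nat_lit 0x66a3001)],[(nat_lit 0x2169b07e66002),(nat_lit 0x7e67001),(nat_lit 0x2169d07e68002),(nat_lit 0x7e69001),(nat_lit 0x7e6a001),(nat_lit 0x216cf07e6b002),(nat_lit 0x28a8001)],[(nat_lit 0x81c9001),(nat_lit 0x298c001),(nat_lit 0x81ca001),(nat_lit 0x29be001),(nat_lit 0x29c0001),(nat_lit 0x29c2001),(nat_lit 0x82da001)],[(nat_lit 0x29b7001),(nat_lit 0x82ea001),(nat_lit 0x298d001),(nat_lit 0x82eb001),(nat_lit 0x29c4001),(nat_lit 0x29c6001),(nat_lit 0x82ec001)],[(nat_lit 0x2114e029b9002),(nat_lit 0x29bf001),(nat_lit 0x21126082ed002),(nat_lit 0x298e001),(nat_lit 0x21150082ee002),(nat_lit 0x29c8001),(nat_lit 0x18562082ef002)],[(nat_lit 0x29bb001),(nat_lit 0x29c1001),(nat_lit 0x29c5001),(nat_lit 0x82f0001),(nat_lit 0x298f001),(nat_lit 0x82f1001),(nat_lit 0x82f2001)],[(nat_lit 0x2926001),(nat_lit 0x7f2b001),(nat_lit 0x28f7001),(nat_lit 0x806c001),(nat_lit 0x2927001),(nat_lit 0x2929001),(nat_lit 0x806d001)],[(nat_lit 0x281a001),(nat_lit 0xdd9001),(nat_lit 0x292a001),(nat_lit 0xdda001),(nat_lit 0x292d001),(nat_lit 0xdd8001),(nat_lit 0x2a68001)],[(nat_lit 0x4de6b0806e002),(nat_lit 0x806f001),(nat_lit 0x8070001),(nat_lit 0x8071001),(nat_lit 0x8072001),(nat_lit 0x4de5008073002),(nat_lit 0x28f8001)],[(nat_lit 0x51a7e08074002),(nat_lit 0x51a2208075002),(nat_lit 0x5196208076002),(nat_lit 0x51a2308077002),(nat_lit 0x8078001),(nat_lit 0x51a8d08079002),(nat_lit 0x28f9001)],[(nat_lit 0x847c001),(nat_lit 0x29f3001),(nat_lit 0x847d001),(nat_lit 0x2a4f001),(nat_lit 0x2a51001),(nat_lit 0x2a53001),(nat_lit 0x847e001)],[(nat_lit 0x2a48001),(nat_lit 0x8600001),(nat_lit 0x2a20001),(nat_lit 0x8601001),(nat_lit 0x2a55001),(nat_lit 0x2a57001),(nat_lit 0x8602001)],[(nat_lit 0x2a4a001),(nat_lit 0x2a50001),(nat_lit 0x8603001),(nat_lit 0x2a21001),(nat_lit 0x8604001),(nat_lit 0x2a59001),(nat_lit 0x8605001)],[(nat_lit 0x2a4c001),(nat_lit 0x2a52001),(nat_lit 0x2a56001),(nat_lit 0x8606001),(nat_lit 0x2a22001),(nat_lit 0x8607001),(nat_lit 0x8608001)],[(nat_lit 0x7ad9001),(nat_lit 0x7b03001),(nat_lit 0x7b72001),(nat_lit 0x7b74001),(nat_lit 0x7b76001),(nat_lit 0x7b78001),(nat_lit 0x2af4a25f23002)],[(nat_lit 0x7b73001),(nat_lit 0x7b04001),(nat_lit 0x7ada001),(nat_lit 0x25f28001),(nat_lit 0x7b7a001),(nat_lit 0x7b7c001),(nat_lit 0x25f2a001)],[(nat_lit 0x7b75001),(nat_lit 0x2843001),(nat_lit 0x7c11001),(nat_lit 0x2842001),(nat_lit 0x7b8c001),(nat_lit 0x2101b07adc002),(nat_lit 0x7c12001)],[(nat_lit 0x7b77001),(nat_lit 0x2845001),(nat_lit 0x7b7b001),(nat_lit 0x7b96001),(nat_lit 0x2844001),(nat_lit 0x7b98001),(nat_lit 0x7c13001)],[(nat_lit 0x28df525f2b002),(nat_lit 0x28df625f2c002),(nat_lit 0x28df125f2d002),(nat_lit 0x25f2e001),(nat_lit 0x25f2f001),(nat_lit 0x2925125f30002),(nat_lit 0x7adb001)],[(nat_lit 0x220400fcd5002),(nat_lit 0x7adf001),(nat_lit 0x7b05001),(nat_lit 0x7b80001),(nat_lit 0x7b82001),(nat_lit 0x218be07b84002),(nat_lit 0x21811001)],[(nat_lit 0x7b7f001),(nat_lit 0x7b81001),(nat_lit 0x1836b001),(nat_lit 0x7ae0001),(nat_lit 0x25f31001),(nat_lit 0x7b86001),(nat_lit 0x25f33001)],[(nat_lit 0x20fe707a8e002),(nat_lit 0x7b83001),(nat_lit 0x2849001),(nat_lit 0x7c15001),(nat_lit 0x2848001),(nat_lit 0x7b9a001),(nat_lit 0x7c16001)],[(nat_lit 0x22cf7001),(nat_lit 0xadc2125f34002),(nat_lit 0xaadb02387b002),(nat_lit 0x99e2925441002),(nat_lit 0xaadb125f36002),(nat_lit 0x22cf9001),(nat_lit 0x7ae1001)],[(nat_lit 0x4cdc001),(nat_lit 0x14bc8001),(nat_lit 0x2106404cdb002),(nat_lit 0x2106514bc9002),(nat_lit 0x2107114b0e002),(nat_lit 0x2104614b11002),(nat_lit 0x14bcb001)],[(nat_lit 0x4cde001),(nat_lit 0x2106c14bcc002),(nat_lit 0x2107114b10002),(nat_lit 0x2106714bce002),(nat_lit 0x2106404cdd002),(nat_lit 0xa614414bd0002),(nat_lit 0x14bd1001)],[(nat_lit 0x7b93001),(nat_lit 0x7b97001),(nat_lit 0x25f37001),(nat_lit 0x7ae5001),(nat_lit 0x7b07001),(nat_lit 0x7b9c001),(nat_lit 0x25f38001)],[(nat_lit 0x7b95001),(nat_lit 0x7b99001),(nat_lit 0x7b9b001),(nat_lit 0x7b9d001),(nat_lit 0x7b08001),(nat_lit 0x7ae6001),(nat_lit 0x25f39001)],[(nat_lit 0xc8f2425f3d002),(nat_lit 0x25f3e001),(nat_lit 0x25f3f001),(nat_lit 0x25f40001),(nat_lit 0x25f41001),(nat_lit 0xd32d925f42002),(nat_lit 0x7ae7001)],[(nat_lit 0x20b7001),(nat_lit 0x20b8001),(nat_lit 0x20b9001),(nat_lit 0x20ba001),(nat_lit 0x2874001),(nat_lit 0x20bb001),(nat_lit 0x5f2c001)],[(nat_lit 0x20cc001),(nat_lit 0x20cb001),(nat_lit 0x2854001),(nat_lit 0x2877001),(nat_lit 0x20cd001),(nat_lit 0x2879001),(nat_lit 0x5f3c001)],[(nat_lit 0x1917910c19002),(nat_lit 0x17903001),(nat_lit 0x190fd10c1a002),(nat_lit 0x17904001),(nat_lit 0x191a1001),(nat_lit 0x190fa10c1b002),(nat_lit 0x5eed001)],[(nat_lit 0x2875001),(nat_lit 0x278d001),(nat_lit 0x278e001),(nat_lit 0x2824001),(nat_lit 0x278c001),(nat_lit 0x5e5b001),(nat_lit 0x78c4001)],[(nat_lit 0x1811307bfc002),(nat_lit 0x7bfd001),(nat_lit 0x9d17907bfe002),(nat_lit 0x9c7d807bff002),(nat_lit 0x7c00001),(nat_lit 0x180e207c01002),(nat_lit 0x2832001)],[(nat_lit 0x2878001),(nat_lit 0xdf8001),(nat_lit 0x2ad3001),(nat_lit 0xdf7001),(nat_lit 0x2826001),(nat_lit 0x9c0a20287b002),(nat_lit 0x2af0001)],[(nat_lit 0x287a001),(nat_lit 0xde6001),(nat_lit 0x2830001),(nat_lit 0x9c0a20287d002),(nat_lit 0x1fdc001),(nat_lit 0xde5001),(nat_lit 0x2ab7001)],[(nat_lit 0xa057d07c45002),(nat_lit 0x7c46001),(nat_lit 0x7d87001),(nat_lit 0x7d88001),(nat_lit 0x9eb8b07d89002),(nat_lit 0xa059207d8a002),(nat_lit 0x2876001)],[(nat_lit 0x197b0001),(nat_lit 0x7bc4001),(nat_lit 0x1c292001),(nat_lit 0x7c9c001),(nat_lit 0x7c9e001),(nat_lit 0x7ca0001),(nat_lit 0x2aa4a26080002)],[(nat_lit 0x7c95001),(nat_lit 0x1917611d42002),(nat_lit 0x7bc5001),(nat_lit 0x9a0d717b07002),(nat_lit 0x7ca2001),(nat_lit 0x7ca4001),(nat_lit 0x18359001)],[(nat_lit 0x9de9015209002),(nat_lit 0x9de911520a002),(nat_lit 0x9c64c1520b002),(nat_lit 0x9de921520c002),(nat_lit 0x9de931520d002),(nat_lit 0x9de941520e002),(nat_lit 0x4df8001)],[(nat_lit 0x7c99001),(nat_lit 0x7c9f001),(nat_lit 0x7ca3001),(nat_lit 0x9d3a026090002),(nat_lit 0x7bc7001),(nat_lit 0x26091001),(nat_lit 0x9d3a226092002)],[(nat_lit 0x2512001),(nat_lit 0x2515001),(nat_lit 0x2511001),(nat_lit 0x2514001),(nat_lit 0x2513001),(nat_lit 0x4bd1001),(nat_lit 0x6d1c001)],[(nat_lit 0x4988001),(nat_lit 0x5e5c001),(nat_lit 0x4bd0001),(nat_lit 0x4987001),(nat_lit 0x49b3001),(nat_lit 0x4989001),(nat_lit 0x6a9d001)],[(nat_lit 0x6bf9001),(nat_lit 0xa85f41c9a7002),(nat_lit 0x698d001),(nat_lit 0x6aa40683d002),(nat_lit 0x1c9a8001),(nat_lit 0x6aaa001),(nat_lit 0x5fe9001)],[(nat_lit 0x208d001),(nat_lit 0x9c0a20287c002),(nat_lit 0x2a7e001),(nat_lit 0xdfa001),(nat_lit 0x2a80001),(nat_lit 0xdf9001),(nat_lit 0x2afa001)],[(nat_lit 0x531a90878a002),(nat_lit 0x878b001),(nat_lit 0x878c001),(nat_lit 0x878d001),(nat_lit 0x878e001),(nat_lit 0x531460878f002),(nat_lit 0x2a7c001)],[(nat_lit 0x4cd6e0807a002),(nat_lit 0x4cced0807b002),(nat_lit 0x4ccdd0807c002),(nat_lit 0x4ccee0807d002),(nat_lit 0x4ccef0807e002),(nat_lit 0x4cd480807f002),(nat_lit 0x28fa001)],[(nat_lit 0x88e9001),(nat_lit 0x2a82001),(nat_lit 0x88ea001),(nat_lit 0x2ae4001),(nat_lit 0x2ae6001),(nat_lit 0x2ae8001),(nat_lit 0x88eb001)],[(nat_lit 0x2ab6001),(nat_lit 0x4c8eb088ef002),(nat_lit 0x2a83001),(nat_lit 0x4c8ec088f0002),(nat_lit 0x2aea001),(nat_lit 0x4c8a102aec002),(nat_lit 0x4c8ed088f1002)],[(nat_lit 0x2adf001),(nat_lit 0x2ae5001),(nat_lit 0x891b001),(nat_lit 0x2ab2001),(nat_lit 0x8999001),(nat_lit 0x2aee001),(nat_lit 0x899a001)],[(nat_lit 0x2ae1001),(nat_lit 0x2ae7001),(nat_lit 0x2aeb001),(nat_lit 0x899f001),(nat_lit 0x2ab3001),(nat_lit 0x89a0001),(nat_lit 0x89a1001)],[(nat_lit 0x514001),(nat_lit 0x515001),(nat_lit 0x139c001),(nat_lit 0x516001),(nat_lit 0x139e001),(nat_lit 0x517001),(nat_lit 0x18fa001)],[(nat_lit 0x23370228a002),(nat_lit 0x228b001),(nat_lit 0x228c001),(nat_lit 0x2238001),(nat_lit 0x2b45001),(nat_lit 0x228d001),(nat_lit 0xe28001)],[(nat_lit 0xa59001),(nat_lit 0x18cd001),(nat_lit 0xa5a001),(nat_lit 0xf17001),(nat_lit 0x1836001),(nat_lit 0xa58001),(nat_lit 0xbee001)],[(nat_lit 0xa5e001),(nat_lit 0x13a0001),(nat_lit 0x1838001),(nat_lit 0xa5f001),(nat_lit 0xa5d001),(nat_lit 0x1043001),(nat_lit 0x20e0001)],[(nat_lit 0x3be5001),(nat_lit 0x3be6001),(nat_lit 0x3bee001),(nat_lit 0x3c7e001),(nat_lit 0x3c8b001),(nat_lit 0x3beb001),(nat_lit 0x3be7001)],[(nat_lit 0x3c7f001),(nat_lit 0x2294001),(nat_lit 0x2293001),(nat_lit 0x2297001),(nat_lit 0x2295001),(nat_lit 0x2296001),(nat_lit 0x22e8001)],[(nat_lit 0x3c8a001),(nat_lit 0x2895001),(nat_lit 0x28ce001),(nat_lit 0x2896001),(nat_lit 0x2894001),(nat_lit 0x28d0001),(nat_lit 0x7db1001)],[(nat_lit 0x141c001),(nat_lit 0x251b001),(nat_lit 0x141b001),(nat_lit 0x1892001),(nat_lit 0x1c83001),(nat_lit 0x1c86001),(nat_lit 0x223e001)],[(nat_lit 0x22f7001),(nat_lit 0x28d1001),(nat_lit 0x22f8001),(nat_lit 0x22fa001),(nat_lit 0x22f6001),(nat_lit 0x22f9001),(nat_lit 0x66b0001)],[(nat_lit 0x1292907e75002),(nat_lit 0x7e76001),(nat_lit 0x20da907e77002),(nat_lit 0x7e78001),(nat_lit 0x7e79001),(nat_lit 0x1280807e7a002),(nat_lit 0x28b1001)],[(nat_lit 0x2be6001),(nat_lit 0xe5a001),(nat_lit 0xe5b001),(nat_lit 0xf3a001),(nat_lit 0xe5c001),(nat_lit 0xe7e001),(nat_lit 0x2be9001)],[(nat_lit 0xd34001),(nat_lit 0xf3b001),(nat_lit 0xc08001),(nat_lit 0xc09001),(nat_lit 0x1c45001),(nat_lit 0xd31001),(nat_lit 0x15c9001)],[(nat_lit 0x2911001),(nat_lit 0x7ec9001),(nat_lit 0x28d5001),(nat_lit 0x291b001),(nat_lit 0x28d4001),(nat_lit 0x2920001),(nat_lit 0x7ecb001)],[(nat_lit 0x28a6001),(nat_lit 0x28af001),(nat_lit 0x2921001),(nat_lit 0x2899001),(nat_lit 0x291c001),(nat_lit 0x2898001),(nat_lit 0x7db8001)],[(nat_lit 0x1406d07f10002),(nat_lit 0x7f11001),(nat_lit 0x7f12001),(nat_lit 0x9a84207f13002),(nat_lit 0x7f14001),(nat_lit 0x1406907f15002),(nat_lit 0x28ef001)],[(nat_lit 0xc62c07dde002),(nat_lit 0xc62e001),(nat_lit 0xbcee001),(nat_lit 0xc62f001),(nat_lit 0x1360d001),(nat_lit 0xc58807de1002),(nat_lit 0x65af001)],[(nat_lit 0x21bc1001),(nat_lit 0x7db3001),(nat_lit 0x26c74001),(nat_lit 0x7de8001),(nat_lit 0x7e37001),(nat_lit 0x7e39001),(nat_lit 0x2147d21227002)],[(nat_lit 0xc62a07e34002),(nat_lit 0x1360c001),(nat_lit 0x7db4001),(nat_lit 0x7de2001),(nat_lit 0x7e3b001),(nat_lit 0xc62d07e3d002),(nat_lit 0x20d870a667002)],[(nat_lit 0xc62b07e36002),(nat_lit 0x7e38001),(nat_lit 0x7e3c001),(nat_lit 0x7f4f001),(nat_lit 0x7db6001),(nat_lit 0x9d6c926c83002),(nat_lit 0x26c84001)],[(nat_lit 0x1d7a001),(nat_lit 0xab9001),(nat_lit 0xaba001),(nat_lit 0xf85001),(nat_lit 0xf88001),(nat_lit 0xab8001),(nat_lit 0x2241001)],[(nat_lit 0xa9b001),(nat_lit 0xf89001),(nat_lit 0xa9c001),(nat_lit 0x14d7001),(nat_lit 0xa9a001),(nat_lit 0xa9d001),(nat_lit 0x1ddb001)],[(nat_lit 0x20c6001),(nat_lit 0x2bbd001),(nat_lit 0x24b9023b0002),(nat_lit 0x20c1001),(nat_lit 0x23b5001),(nat_lit 0x255a023b7002),(nat_lit 0xe40001)],[(nat_lit 0x27000001),(nat_lit 0x7e7b001),(nat_lit 0x7f2c001),(nat_lit 0x7f7e001),(nat_lit 0x7eca001),(nat_lit 0x7ecd001),(nat_lit 0x27002001)],[(nat_lit 0x697e001),(nat_lit 0x7f7f001),(nat_lit 0x697a001),(nat_lit 0x697b001),(nat_lit 0x7e7d001),(nat_lit 0x697c001),(nat_lit 0x1f914001)],[(nat_lit 0x2923001),(nat_lit 0x7ecc001),(nat_lit 0x28d7001),(nat_lit 0x683a001),(nat_lit 0x292f001),(nat_lit 0x28d6001),(nat_lit 0x7ece001)],[(nat_lit 0x5311f27003002),(nat_lit 0x9f77427004002),(nat_lit 0x4c9a727005002),(nat_lit 0x9c89227006002),(nat_lit 0xa44df27007002),(nat_lit 0x5300b27008002),(nat_lit 0x7e7c001)],[(nat_lit 0x292c001),(nat_lit 0x292e001),(nat_lit 0x2930001),(nat_lit 0x291e001),(nat_lit 0x28ff001),(nat_lit 0x291d001),(nat_lit 0x8081001)],[(nat_lit 0x524a508082002),(nat_lit 0x517da08083002),(nat_lit 0x5170608084002),(nat_lit 0x517dd08085002),(nat_lit 0x8086001),(nat_lit 0x518c308087002),(nat_lit 0x2900001)],[(nat_lit 0x1f75e001),(nat_lit 0x7e80001),(nat_lit 0x1f75f001),(nat_lit 0x7f87001),(nat_lit 0x1f76107f89002),(nat_lit 0x7f8a001),(nat_lit 0x2700e001)],[(nat_lit 0x5179207f81002),(nat_lit 0x2701c001),(nat_lit 0x7e81001),(nat_lit 0x2701d001),(nat_lit 0x7f8c001),(nat_lit 0x7f8e001),(nat_lit 0x4b1692701e002)],[(nat_lit 0x5188c07f83002),(nat_lit 0x7f88001),(nat_lit 0x519b51f0c7002),(nat_lit 0x7e82001),(nat_lit 0x9c92a1f763002),(nat_lit 0x7f90001),(nat_lit 0x9d5ee27023002)],[(nat_lit 0x5fcc001),(nat_lit 0x5fd2001),(nat_lit 0x1f7621cd05002),(nat_lit 0x5f28001),(nat_lit 0x1f7541cd06002),(nat_lit 0x5fd9001),(nat_lit 0x1cd07001)],[(nat_lit 0x7ef4001),(nat_lit 0x4da8d028e5002),(nat_lit 0x7ef6001),(nat_lit 0x7e99001),(nat_lit 0x7ef8001),(nat_lit 0x28e4001),(nat_lit 0x7efa001)],[(nat_lit 0x4da7e07e92002),(nat_lit 0x7e98001),(nat_lit 0x7f07001),(nat_lit 0x4da8d028eb002),(nat_lit 0x7f09001),(nat_lit 0x28ea001),(nat_lit 0x7f0a001)],[(nat_lit 0x4dae913780002),(nat_lit 0x4daf41396f002),(nat_lit 0x48f2001),(nat_lit 0x13a10001),(nat_lit 0x4b158048f1002),(nat_lit 0x4daf513980002),(nat_lit 0x13a11001)],[(nat_lit 0x7e94001),(nat_lit 0x7f2e001),(nat_lit 0x7fa4001),(nat_lit 0x7ee6001),(nat_lit 0x7eec001),(nat_lit 0x7ef5001),(nat_lit 0x2704b001)],[(nat_lit 0x7fa5001),(nat_lit 0x7f2f001),(nat_lit 0x7e95001),(nat_lit 0x9dcb527052002),(nat_lit 0x7eee001),(nat_lit 0x7ef7001),(nat_lit 0x27053001)],[(nat_lit 0x7ee5001),(nat_lit 0x28e1001),(nat_lit 0x7ee7001),(nat_lit 0x28e0001),(nat_lit 0x7ee8001),(nat_lit 0x7e97001),(nat_lit 0x7eea001)],[(nat_lit 0x7eeb001),(nat_lit 0x28e3001),(nat_lit 0x7eed001),(nat_lit 0x9dce107eef002),(nat_lit 0x28e2001),(nat_lit 0x9c0c407ef1002),(nat_lit 0x7ef3001)],[(nat_lit 0xbc5e127057002),(nat_lit 0x27058001),(nat_lit 0x27059001),(nat_lit 0xbc5e32705a002),(nat_lit 0x2705b001),(nat_lit 0xc12e92705c002),(nat_lit 0x7e96001)],[(nat_lit 0x9b6c713966002),(nat_lit 0x4dbe4048f0002),(nat_lit 0x4dbc61396a002),(nat_lit 0x9b6cd1378a002),(nat_lit 0x9dcb113983002),(nat_lit 0x48ef001),(nat_lit 0x13a0f001)],[(nat_lit 0x9a3b313784002),(nat_lit 0x9b6cd13789002),(nat_lit 0x99d0b1397b002),(nat_lit 0x4dbe4048f6002),(nat_lit 0x99cf613a12002),(nat_lit 0x48f5001),(nat_lit 0x13a13001)],[(nat_lit 0x4dbac07e8d002),(nat_lit 0x9b6ce07efb002),(nat_lit 0x28e7001),(nat_lit 0x9a75607efd002),(nat_lit 0x28e6001),(nat_lit 0x9a78e07efe002),(nat_lit 0x7f00001)],[(nat_lit 0x7ed5001),(nat_lit 0x2706c001),(nat_lit 0x7e9d001),(nat_lit 0x1fa4b001),(nat_lit 0x7fb4001),(nat_lit 0x7f08001),(nat_lit 0x2706d001)],[(nat_lit 0x7ed7001),(nat_lit 0x7ee9001),(nat_lit 0x7fb5001),(nat_lit 0x9dce507f31002),(nat_lit 0x7e9e001),(nat_lit 0xa09be27074002),(nat_lit 0x1f390001)],[(nat_lit 0x4ddf927078002),(nat_lit 0x9f6fe27079002),(nat_lit 0x2707a001),(nat_lit 0x9ed4d2707b002),(nat_lit 0xa101a2707c002),(nat_lit 0x4de122707d002),(nat_lit 0x7e9f001)],[(nat_lit 0xfff80a4b3002),(nat_lit 0x103c70a4b4002),(nat_lit 0xffd80a4b5002),(nat_lit 0x9dce00a4b6002),(nat_lit 0xffd90a4b7002),(nat_lit 0x103c20a4b8002),(nat_lit 0x30c1001)],[(nat_lit 0x11204043e1002),(nat_lit 0x43e6001),(nat_lit 0x20b4b103e7002),(nat_lit 0x4376001),(nat_lit 0x9c0c311e99002),(nat_lit 0x9b6dd043ed002),(nat_lit 0x11e9a001)],[(nat_lit 0x9dcf027087002),(nat_lit 0x27088001),(nat_lit 0x9dcf227089002),(nat_lit 0x9dcf32708a002),(nat_lit 0x9dcf42708b002),(nat_lit 0x9dcf52708c002),(nat_lit 0x7ea2001)],[(nat_lit 0x11c8001),(nat_lit 0x11a6001),(nat_lit 0x11be001),(nat_lit 0x12af001),(nat_lit 0x11a5001),(nat_lit 0x12b1001),(nat_lit 0x33de001)],[(nat_lit 0x3378001),(nat_lit 0x33c3001),(nat_lit 0x33c6001),(nat_lit 0x3394001),(nat_lit 0x3377001),(nat_lit 0x444e001),(nat_lit 0x221b20b4cb002)],[(nat_lit 0x11cc001),(nat_lit 0x12b0001),(nat_lit 0x33f7001),(nat_lit 0x11cb001),(nat_lit 0x3396001),(nat_lit 0x12b5001),(nat_lit 0x33f9001)],[(nat_lit 0x111b001),(nat_lit 0x12b2001),(nat_lit 0x111c001),(nat_lit 0x12b7001),(nat_lit 0x12b4001),(nat_lit 0x111a001),(nat_lit 0x33b9001)],[(nat_lit 0xf7590383d002),(nat_lit 0x383e001),(nat_lit 0xf7730383f002),(nat_lit 0xf75503840002),(nat_lit 0xf77403841002),(nat_lit 0xf77503842002),(nat_lit 0x12ae001)],[(nat_lit 0x3400001),(nat_lit 0x24f1001),(nat_lit 0x24f2001),(nat_lit 0x2517001),(nat_lit 0x342f001),(nat_lit 0x24f3001),(nat_lit 0x3076001)],[(nat_lit 0x33ad001),(nat_lit 0x3430001),(nat_lit 0x33ae001),(nat_lit 0x395e001),(nat_lit 0x33ac001),(nat_lit 0x6ee1001),(nat_lit 0x32c950b778002)],[(nat_lit 0x1224001),(nat_lit 0x3647001),(nat_lit 0x1223001),(nat_lit 0x3601001),(nat_lit 0x123e001),(nat_lit 0x12e4001),(nat_lit 0x3648001)],[(nat_lit 0x111e001),(nat_lit 0x11f8001),(nat_lit 0x12e6001),(nat_lit 0x111f001),(nat_lit 0x12f2001),(nat_lit 0x111d001),(nat_lit 0x33bd001)],[(nat_lit 0x30dca0384d002),(nat_lit 0x384e001),(nat_lit 0x30d950384f002),(nat_lit 0x30dcd03850002),(nat_lit 0x30dd003851002),(nat_lit 0x30d8e03852002),(nat_lit 0x12b8001)],[(nat_lit 0x32a1d012d7002),(nat_lit 0x32a3503872002),(nat_lit 0x32a1a03829002),(nat_lit 0x329e00382c002),(nat_lit 0x32a3d0389f002),(nat_lit 0x329de012d6002),(nat_lit 0xc3f703928002)],[(nat_lit 0x32a2e0b764002),(nat_lit 0x3389001),(nat_lit 0xb765001),(nat_lit 0x341c001),(nat_lit 0x341e001),(nat_lit 0x3420001),(nat_lit 0xb766001)],[(nat_lit 0x12d1001),(nat_lit 0x390c001),(nat_lit 0x329de012d0002),(nat_lit 0x387f001),(nat_lit 0x32a3903824002),(nat_lit 0x32a1a03827002),(nat_lit 0x32a3a0390d002)],[(nat_lit 0x12d3001),(nat_lit 0x329dd0386e002),(nat_lit 0x3889001),(nat_lit 0x329de012d2002),(nat_lit 0x388b001),(nat_lit 0x329e00382a002),(nat_lit 0x3911001)],[(nat_lit 0x12d5001),(nat_lit 0x32a3403870002),(nat_lit 0x32a3903826002),(nat_lit 0x3893001),(nat_lit 0x329de012d4002),(nat_lit 0x3895001),(nat_lit 0x391d001)],[(nat_lit 0x128f001),(nat_lit 0x1290001),(nat_lit 0x1291001),(nat_lit 0x25c1001),(nat_lit 0x1300001),(nat_lit 0x1292001),(nat_lit 0x2722001)],[(nat_lit 0x12fd001),(nat_lit 0x11bd001),(nat_lit 0x11be001),(nat_lit 0x2f98001),(nat_lit 0x11bf001),(nat_lit 0x12eb001),(nat_lit 0x33ef001)],[(nat_lit 0x1310001),(nat_lit 0x2f99001),(nat_lit 0x39ea001),(nat_lit 0x130f001),(nat_lit 0x25e6001),(nat_lit 0x2f9a001),(nat_lit 0x3a82001)],[(nat_lit 0x11f3001),(nat_lit 0x12e8001),(nat_lit 0x11f4001),(nat_lit 0x2f9c001),(nat_lit 0x11f5001),(nat_lit 0x11f2001),(nat_lit 0x34cf001)],[(nat_lit 0x32c6609eb3002),(nat_lit 0x98ac509eb4002),(nat_lit 0x32c6f09eb5002),(nat_lit 0x32c5a09eb6002),(nat_lit 0x32c7009eb7002),(nat_lit 0x32c7109eb8002),(nat_lit 0x2f97001)],[(nat_lit 0x11fc001),(nat_lit 0x11ce001),(nat_lit 0x33fa001),(nat_lit 0x11cd001),(nat_lit 0x13b8001),(nat_lit 0x1201001),(nat_lit 0x33fb001)],[(nat_lit 0x11fe001),(nat_lit 0x11aa001),(nat_lit 0x11ab001),(nat_lit 0x1203001),(nat_lit 0x11ac001),(nat_lit 0x11a9001),(nat_lit 0x33e7001)],[(nat_lit 0xc6b0034d5002),(nat_lit 0x34d6001),(nat_lit 0x34d7001),(nat_lit 0x34d8001),(nat_lit 0x34d9001),(nat_lit 0xc6bc0358d002),(nat_lit 0x11fa001)],[(nat_lit 0x3382001),(nat_lit 0x25dd001),(nat_lit 0x25dc001),(nat_lit 0x271f001),(nat_lit 0x3b64001),(nat_lit 0x25de001),(nat_lit 0x3064001)],[(nat_lit 0x33c5001),(nat_lit 0x3b62001),(nat_lit 0x337a001),(nat_lit 0x739c001),(nat_lit 0x3379001),(nat_lit 0x4452001),(nat_lit 0xb4d0001)],[(nat_lit 0x3395001),(nat_lit 0x193d001),(nat_lit 0x3434001),(nat_lit 0x193c001),(nat_lit 0x193e001),(nat_lit 0x3c46001),(nat_lit 0x44ad001)],[(nat_lit 0x444f001),(nat_lit 0x3b67001),(nat_lit 0x4453001),(nat_lit 0x3c48001),(nat_lit 0x3b68001),(nat_lit 0x3b66001),(nat_lit 0x21e0d0e196002)],[(nat_lit 0x166020eae5002),(nat_lit 0xfad2001),(nat_lit 0x1660703dd1002),(nat_lit 0xfad4001),(nat_lit 0x166080fad6002),(nat_lit 0x3dd0001),(nat_lit 0x166090fad7002)],[(nat_lit 0x338e001),(nat_lit 0x2720001),(nat_lit 0x339b001),(nat_lit 0x271f001),(nat_lit 0x3bb6001),(nat_lit 0x2721001),(nat_lit 0x271e001)],[(nat_lit 0x3386001),(nat_lit 0x3bb7001),(nat_lit 0x2609001),(nat_lit 0x7288001),(nat_lit 0x2608001),(nat_lit 0x716f001),(nat_lit 0x2208f07289002)],[(nat_lit 0x33f8001),(nat_lit 0xb8de001),(nat_lit 0x33df001),(nat_lit 0x36b7001),(nat_lit 0x3433001),(nat_lit 0x33fd001),(nat_lit 0xb8df001)],[(nat_lit 0x12b6001),(nat_lit 0x1202001),(nat_lit 0x33fc001),(nat_lit 0x11d0001),(nat_lit 0x3470001),(nat_lit 0x11cf001),(nat_lit 0x3472001)],[(nat_lit 0xf2130b8e3002),(nat_lit 0xb8e4001),(nat_lit 0xb8e5001),(nat_lit 0xb8e6001),(nat_lit 0xb8e7001),(nat_lit 0xf20b0b8e8002),(nat_lit 0x33e0001)],[(nat_lit 0xf7c70398a002),(nat_lit 0xf7810398b002),(nat_lit 0xf7860398c002),(nat_lit 0xf75a0398d002),(nat_lit 0x398e001),(nat_lit 0xf77e0398f002),(nat_lit 0x12ec001)],[(nat_lit 0xb8f1001),(nat_lit 0x33e2001),(nat_lit 0xb8f2001),(nat_lit 0x343d001),(nat_lit 0x343f001),(nat_lit 0x3441001),(nat_lit 0xb8f3001)],[(nat_lit 0x3436001),(nat_lit 0xb8f7001),(nat_lit 0x33e3001),(nat_lit 0xaf9f70b8f8002),(nat_lit 0x3443001),(nat_lit 0x3445001),(nat_lit 0x1092f0b8f9002)]]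

theorem rows0_1_ok : okRows data table 980686 1000 rows0_1 = true := by decide +kernel

theorem rows0_1_len : rows0_1.length = 1000 := by decide +kernel

/-- Completion of the rows from 2000. -/
noncomputable def rows0_2 : List (List ℕ) := [[(nat_lit 0x3438001),(nat_lit 0x343e001),(nat_lit 0xb8fa001),(nat_lit 0x33e4001),(nat_lit 0xb8fb001),(nat_lit 0x3447001),(nat_lit 0xb8fc001)],[(nat_lit 0x343a001),(nat_lit 0x3440001),(nat_lit 0x3444001),(nat_lit 0xb8fd001),(nat_lit 0x33e5001),(nat_lit 0xb8fe001),(nat_lit 0xb8ff001)],[(nat_lit 0x3480001),(nat_lit 0x3481001),(nat_lit 0x3482001),(nat_lit 0x347f001),(nat_lit 0x3864001),(nat_lit 0x3483001),(nat_lit 0x3484001)],[(nat_lit 0x339f001),(nat_lit 0x340c001),(nat_lit 0x339d001),(nat_lit 0x3401001),(nat_lit 0x6be8001),(nat_lit 0x339e001),(nat_lit 0x33a0001)],[(nat_lit 0x340d001),(nat_lit 0x2561001),(nat_lit 0x2562001),(nat_lit 0x337c001),(nat_lit 0x3820001),(nat_lit 0x2563001),(nat_lit 0x33dd001)],[(nat_lit 0x3862001),(nat_lit 0x33b0001),(nat_lit 0x6be7001),(nat_lit 0xb4dd001),(nat_lit 0x33af001),(nat_lit 0xb753001),(nat_lit 0xb781001)],[(nat_lit 0x2502001),(nat_lit 0x24d8001),(nat_lit 0x340e001),(nat_lit 0x24d7001),(nat_lit 0x3bb2001),(nat_lit 0x24d9001),(nat_lit 0x33db001)],[(nat_lit 0x33b2001),(nat_lit 0x3bb4001),(nat_lit 0x33b3001),(nat_lit 0x3414001),(nat_lit 0x33b1001),(nat_lit 0x6ede001),(nat_lit 0xf7000b784002)],[(nat_lit 0x3375001),(nat_lit 0x3821001),(nat_lit 0x3376001),(nat_lit 0x395f001),(nat_lit 0x3374001),(nat_lit 0x38f7001),(nat_lit 0xfb880b4c5002)],[(nat_lit 0x39bf001),(nat_lit 0xb4de001),(nat_lit 0xd7f5001),(nat_lit 0x39c0001),(nat_lit 0x39be001),(nat_lit 0xb756001),(nat_lit 0x30fbf0d912002)],[(nat_lit 0xb4d9001),(nat_lit 0xb754001),(nat_lit 0xb4da001),(nat_lit 0xb757001),(nat_lit 0xb4db001),(nat_lit 0xb4d8001),(nat_lit 0x1098c001)],[(nat_lit 0x32cd50d8cb002),(nat_lit 0xd968001),(nat_lit 0x32c8003a00002),(nat_lit 0xd96a001),(nat_lit 0x32cd60d96c002),(nat_lit 0x39ff001),(nat_lit 0x32cd70d96e002)],[(nat_lit 0xbcf1001),(nat_lit 0x3485001),(nat_lit 0x3486001),(nat_lit 0x3603001),(nat_lit 0x34eb001),(nat_lit 0x34ee001),(nat_lit 0xbcf3001)],[(nat_lit 0x3602001),(nat_lit 0x3604001),(nat_lit 0x35d0001),(nat_lit 0x35b5001),(nat_lit 0xc3a6001),(nat_lit 0x3605001),(nat_lit 0xc3a7001)],[(nat_lit 0x12e5001),(nat_lit 0x34ec001),(nat_lit 0x1228001),(nat_lit 0x3606001),(nat_lit 0x12f5001),(nat_lit 0x1227001),(nat_lit 0x364b001)],[(nat_lit 0xf1df0c3ab002),(nat_lit 0xf1e30c3ac002),(nat_lit 0xc3ad001),(nat_lit 0xf1e40c3ae002),(nat_lit 0xf1e50c3af002),(nat_lit 0xf1e60c3b0002),(nat_lit 0x35b6001)],[(nat_lit 0x12f3001),(nat_lit 0x1237001),(nat_lit 0x12f6001),(nat_lit 0x1238001),(nat_lit 0x1236001),(nat_lit 0x125e001),(nat_lit 0x36a8001)],[(nat_lit 0x30dc703991002),(nat_lit 0x30dbf03992002),(nat_lit 0x30d9203993002),(nat_lit 0x30dc803994002),(nat_lit 0x3995001),(nat_lit 0x30e3f03996002),(nat_lit 0x12f1001)],[(nat_lit 0xc8d6001),(nat_lit 0x3642001),(nat_lit 0xc8d7001),(nat_lit 0x366e001),(nat_lit 0x3670001),(nat_lit 0x3672001),(nat_lit 0xc8d8001)],[(nat_lit 0x3668001),(nat_lit 0xc8dc001),(nat_lit 0x3643001),(nat_lit 0xc8dd001),(nat_lit 0x3674001),(nat_lit 0x3676001),(nat_lit 0xc8de001)],[(nat_lit 0x366a001),(nat_lit 0x366f001),(nat_lit 0xc8df001),(nat_lit 0x3644001),(nat_lit 0xc8e0001),(nat_lit 0x3678001),(nat_lit 0xc8e1001)],[(nat_lit 0x366c001),(nat_lit 0x3671001),(nat_lit 0x3675001),(nat_lit 0xc8e2001),(nat_lit 0x3645001),(nat_lit 0xc8e3001),(nat_lit 0xc8e4001)],[(nat_lit 0x387a001),(nat_lit 0x32a1d012dd002),(nat_lit 0x387e001),(nat_lit 0x32a2903832002),(nat_lit 0x32ae7038a1002),(nat_lit 0x12dc001),(nat_lit 0x3942001)],[(nat_lit 0x329e00382b002),(nat_lit 0x32a2903831002),(nat_lit 0x3892001),(nat_lit 0x32a1d012e3002),(nat_lit 0x3954001),(nat_lit 0x12e2001),(nat_lit 0x3955001)],[(nat_lit 0x36c3001),(nat_lit 0x36c7001),(nat_lit 0x36c9001),(nat_lit 0xcb6e001),(nat_lit 0x3691001),(nat_lit 0x32ae90c97a002),(nat_lit 0xcb6f001)],[(nat_lit 0x382d001),(nat_lit 0x3854001),(nat_lit 0x3873001),(nat_lit 0x3875001),(nat_lit 0x3877001),(nat_lit 0x3879001),(nat_lit 0xd164001)],[(nat_lit 0x3874001),(nat_lit 0x3855001),(nat_lit 0x382e001),(nat_lit 0xd16b001),(nat_lit 0x387b001),(nat_lit 0x387d001),(nat_lit 0xd16c001)],[(nat_lit 0x3876001),(nat_lit 0x12d9001),(nat_lit 0x392e001),(nat_lit 0x12d8001),(nat_lit 0x388d001),(nat_lit 0x32a2903830002),(nat_lit 0x392f001)],[(nat_lit 0x3878001),(nat_lit 0x12db001),(nat_lit 0x387c001),(nat_lit 0x3897001),(nat_lit 0x12da001),(nat_lit 0x3899001),(nat_lit 0x3935001)],[(nat_lit 0xb36cd0d170002),(nat_lit 0xd171001),(nat_lit 0xd172001),(nat_lit 0xd173001),(nat_lit 0xd174001),(nat_lit 0xb36f40d175002),(nat_lit 0x382f001)],[(nat_lit 0xd17d001),(nat_lit 0x3833001),(nat_lit 0x3856001),(nat_lit 0x3881001),(nat_lit 0x3883001),(nat_lit 0x3885001),(nat_lit 0xd17e001)],[(nat_lit 0x3880001),(nat_lit 0x3882001),(nat_lit 0xcc36001),(nat_lit 0x3834001),(nat_lit 0xd182001),(nat_lit 0x3887001),(nat_lit 0xd183001)],[(nat_lit 0x32a3903825002),(nat_lit 0x3884001),(nat_lit 0x12df001),(nat_lit 0x394a001),(nat_lit 0x12de001),(nat_lit 0x389b001),(nat_lit 0x394b001)],[(nat_lit 0x388a001),(nat_lit 0xd18b001),(nat_lit 0x3836001),(nat_lit 0xc3e3001),(nat_lit 0x388f001),(nat_lit 0x3891001),(nat_lit 0xd18c001)],[(nat_lit 0x388c001),(nat_lit 0x388e001),(nat_lit 0x3890001),(nat_lit 0x3857001),(nat_lit 0x3837001),(nat_lit 0xd193001),(nat_lit 0xd194001)],[(nat_lit 0x32a460d198002),(nat_lit 0xf8a60d199002),(nat_lit 0xd19a001),(nat_lit 0x30e060d19b002),(nat_lit 0xd19c001),(nat_lit 0x32b030d19d002),(nat_lit 0x3838001)],[(nat_lit 0x3894001),(nat_lit 0x3898001),(nat_lit 0xd19e001),(nat_lit 0x3839001),(nat_lit 0x3858001),(nat_lit 0x389d001),(nat_lit 0xd19f001)],[(nat_lit 0x3896001),(nat_lit 0x389a001),(nat_lit 0x389c001),(nat_lit 0x389e001),(nat_lit 0x3859001),(nat_lit 0x383a001),(nat_lit 0xd1a3001)],[(nat_lit 0xd23bc0d1aa002),(nat_lit 0xd1ab001),(nat_lit 0xd1ac001),(nat_lit 0xd1ad001),(nat_lit 0xd1ae001),(nat_lit 0xd40e00d1af002),(nat_lit 0x383b001)],[(nat_lit 0x124a001),(nat_lit 0x12fe001),(nat_lit 0x1249001),(nat_lit 0x2f7e001),(nat_lit 0x124b001),(nat_lit 0x2f80001),(nat_lit 0x3709001)],[(nat_lit 0x2f7f001),(nat_lit 0x1312001),(nat_lit 0x3a89001),(nat_lit 0x1311001),(nat_lit 0x19bd001),(nat_lit 0x2f84001),(nat_lit 0x3a8a001)],[(nat_lit 0x2f81001),(nat_lit 0x1206001),(nat_lit 0x1207001),(nat_lit 0x2f86001),(nat_lit 0x1208001),(nat_lit 0x1209001),(nat_lit 0xf33f035b1002)],[(nat_lit 0xf42b09e74002),(nat_lit 0xf42909e75002),(nat_lit 0xf42c09e76002),(nat_lit 0xf42d09e77002),(nat_lit 0xf42e09e78002),(nat_lit 0xf42f09e79002),(nat_lit 0x2f7d001)],[(nat_lit 0x1993001),(nat_lit 0x1994001),(nat_lit 0x1996001),(nat_lit 0x1992001),(nat_lit 0x34ab001),(nat_lit 0x1995001),(nat_lit 0x19d6001)],[(nat_lit 0x19c0001),(nat_lit 0x19c1001),(nat_lit 0x19bf001),(nat_lit 0x4562001),(nat_lit 0x19c2001),(nat_lit 0x44e2001),(nat_lit 0x462f001)],[(nat_lit 0x3386001),(nat_lit 0x380a001),(nat_lit 0x3387001),(nat_lit 0x73bc001),(nat_lit 0x3385001),(nat_lit 0x727f001),(nat_lit 0x220d80b4e0002)],[(nat_lit 0x2632001),(nat_lit 0x2633001),(nat_lit 0x39ed001),(nat_lit 0x2631001),(nat_lit 0x2634001),(nat_lit 0x4624001),(nat_lit 0x72e4001)],[(nat_lit 0x7090001),(nat_lit 0x3b7c001),(nat_lit 0x7282001),(nat_lit 0x4626001),(nat_lit 0x3b7d001),(nat_lit 0x3b7b001),(nat_lit 0x30ee50e1a8002)],[(nat_lit 0x30ecb2073f002),(nat_lit 0x30ecc20857002),(nat_lit 0x30e7b06c6d002),(nat_lit 0x30e8a20859002),(nat_lit 0x30ecd2085b002),(nat_lit 0x30e8906c6c002),(nat_lit 0x30ece2085c002)],[(nat_lit 0x39eb001),(nat_lit 0xd8bb001),(nat_lit 0x39a0001),(nat_lit 0x39b9001),(nat_lit 0x39ec001),(nat_lit 0x39ee001),(nat_lit 0xd8bc001)],[(nat_lit 0x2f9b001),(nat_lit 0x2f85001),(nat_lit 0x39ef001),(nat_lit 0x1314001),(nat_lit 0x3a8b001),(nat_lit 0x1313001),(nat_lit 0x3a8d001)],[(nat_lit 0x310100d8c0002),(nat_lit 0xd8c1001),(nat_lit 0xd8c2001),(nat_lit 0xd8c3001),(nat_lit 0xd8c4001),(nat_lit 0x3101e0d8c5002),(nat_lit 0x39a1001)],[(nat_lit 0x32cab09f12002),(nat_lit 0x32ca409f13002),(nat_lit 0x32ca909f14002),(nat_lit 0x32c6709f15002),(nat_lit 0x9f16001),(nat_lit 0x32ca109f17002),(nat_lit 0x2fc2001)],[(nat_lit 0x98afa0d8ce002),(nat_lit 0x39a3001),(nat_lit 0xd8cf001),(nat_lit 0x39f7001),(nat_lit 0x39f9001),(nat_lit 0x39fb001),(nat_lit 0xd8d0001)],[(nat_lit 0x39f1001),(nat_lit 0xad4110d8d4002),(nat_lit 0x39a4001),(nat_lit 0xd8d5001),(nat_lit 0x39fd001),(nat_lit 0x39ff001),(nat_lit 0x1098b0d8d6002)],[(nat_lit 0x39f3001),(nat_lit 0x39f8001),(nat_lit 0xd8d7001),(nat_lit 0x39a5001),(nat_lit 0xd8d8001),(nat_lit 0x3a01001),(nat_lit 0xd8d9001)],[(nat_lit 0x39f5001),(nat_lit 0x39fa001),(nat_lit 0x39fe001),(nat_lit 0xd8da001),(nat_lit 0x39a6001),(nat_lit 0xd8db001),(nat_lit 0xd8dc001)],[(nat_lit 0x11da001),(nat_lit 0x122c001),(nat_lit 0x11ff001),(nat_lit 0x152901308002),(nat_lit 0x11db001),(nat_lit 0x11d9001),(nat_lit 0xbbad03473002)],[(nat_lit 0xf2f60b7c1002),(nat_lit 0xb7c2001),(nat_lit 0xf2cf0b7c3002),(nat_lit 0xf2f40b7c4002),(nat_lit 0xf2f70b7c5002),(nat_lit 0xf2ee0b7c6002),(nat_lit 0x33ce001)],[(nat_lit 0xf2cd03a20002),(nat_lit 0xf2d103a21002),(nat_lit 0xf43403a22002),(nat_lit 0xf2d203a23002),(nat_lit 0x3a24001),(nat_lit 0xf2d403a25002),(nat_lit 0x1307001)],[(nat_lit 0xf1b90b911002),(nat_lit 0x33e9001),(nat_lit 0xf1b20b912002),(nat_lit 0x3451001),(nat_lit 0x3453001),(nat_lit 0x3455001),(nat_lit 0xb913001)],[(nat_lit 0x344a001),(nat_lit 0xf4390b917002),(nat_lit 0x33ea001),(nat_lit 0xf4470b918002),(nat_lit 0x3457001),(nat_lit 0xf42a03459002),(nat_lit 0xf3400b919002)],[(nat_lit 0x344c001),(nat_lit 0x3452001),(nat_lit 0xb91a001),(nat_lit 0x33eb001),(nat_lit 0xb91b001),(nat_lit 0x345b001),(nat_lit 0xb91c001)],[(nat_lit 0x344e001),(nat_lit 0x3454001),(nat_lit 0x3458001),(nat_lit 0xb91d001),(nat_lit 0x33ec001),(nat_lit 0xb91e001),(nat_lit 0xb91f001)],[(nat_lit 0x199b001),(nat_lit 0x199c001),(nat_lit 0x199d001),(nat_lit 0x33c7001),(nat_lit 0x199e001),(nat_lit 0x4445001),(nat_lit 0x4594001)],[(nat_lit 0x19db001),(nat_lit 0x33c9001),(nat_lit 0x4607001),(nat_lit 0x19da001),(nat_lit 0x33ca001),(nat_lit 0x4583001),(nat_lit 0x463c001)],[(nat_lit 0x19dd001),(nat_lit 0x4447001),(nat_lit 0x44e5001),(nat_lit 0x4585001),(nat_lit 0x19de001),(nat_lit 0x19dc001),(nat_lit 0x463d001)],[(nat_lit 0x13575125aa002),(nat_lit 0x125ab001),(nat_lit 0x13571125ac002),(nat_lit 0x13577125ad002),(nat_lit 0x13578125ae002),(nat_lit 0x13579125af002),(nat_lit 0x4514001)],[(nat_lit 0x3a0e001),(nat_lit 0xee6f01321002),(nat_lit 0x3a12001),(nat_lit 0xeed4039b6002),(nat_lit 0xef0403a70002),(nat_lit 0x1320001),(nat_lit 0x3a9b001)],[(nat_lit 0xeed5039b0002),(nat_lit 0xeed4039b5002),(nat_lit 0x3a57001),(nat_lit 0xee6f01327002),(nat_lit 0x3aa2001),(nat_lit 0x1326001),(nat_lit 0x3aa3001)],[(nat_lit 0xeee1036cf002),(nat_lit 0x36d5001),(nat_lit 0xee70036d9002),(nat_lit 0xb49680cb75002),(nat_lit 0x3697001),(nat_lit 0xa13d80a2fd002),(nat_lit 0x8fc1c0cb76002)],[(nat_lit 0x39b1001),(nat_lit 0x9cbb4039bb002),(nat_lit 0x3a07001),(nat_lit 0x3a09001),(nat_lit 0x9cbb303a0b002),(nat_lit 0x3a0d001),(nat_lit 0xd8e9001)],[(nat_lit 0x3a08001),(nat_lit 0x39bc001),(nat_lit 0x39b2001),(nat_lit 0xd8f0001),(nat_lit 0x3a0f001),(nat_lit 0x3a11001),(nat_lit 0xd8f1001)],[(nat_lit 0x3a0a001),(nat_lit 0x131d001),(nat_lit 0x3a92001),(nat_lit 0x131c001),(nat_lit 0x3a52001),(nat_lit 0xeed4039b4002),(nat_lit 0x3a93001)],[(nat_lit 0x9cbb303a0c002),(nat_lit 0x131f001),(nat_lit 0x3a10001),(nat_lit 0x9cdac03a62002),(nat_lit 0x131e001),(nat_lit 0x9d18d03a64002),(nat_lit 0x3a97001)],[(nat_lit 0x4519d0d8f5002),(nat_lit 0xd8f6001),(nat_lit 0xd8f7001),(nat_lit 0x9e1ae0d8f8002),(nat_lit 0x965450d8f9002),(nat_lit 0x451ac0d8fa002),(nat_lit 0x39b3001)],[(nat_lit 0xbfe0001),(nat_lit 0x39b7001),(nat_lit 0x39bd001),(nat_lit 0x3a47001),(nat_lit 0x3a15001),(nat_lit 0x3a17001),(nat_lit 0x103990d903002)],[(nat_lit 0xbfbc03a46002),(nat_lit 0x3a48001),(nat_lit 0x3a33001),(nat_lit 0x3a13001),(nat_lit 0x20ba10bfc1002),(nat_lit 0xbfc203a49002),(nat_lit 0xd99e001)],[(nat_lit 0xa0573039ab002),(nat_lit 0x3a16001),(nat_lit 0x1323001),(nat_lit 0x3a9f001),(nat_lit 0x1322001),(nat_lit 0xa024203a66002),(nat_lit 0x3aa0001)],[(nat_lit 0x3a4f001),(nat_lit 0xd9b4001),(nat_lit 0x3a19001),(nat_lit 0x3a28001),(nat_lit 0x3a54001),(nat_lit 0x3a56001),(nat_lit 0xd9b5001)],[(nat_lit 0x9f63903a51002),(nat_lit 0x3a53001),(nat_lit 0x3a55001),(nat_lit 0x9f63703a2f002),(nat_lit 0x3a1a001),(nat_lit 0x9ff790d9b6002),(nat_lit 0xd09e001)],[(nat_lit 0xee680c20c002),(nat_lit 0xefda0dbee002),(nat_lit 0xac09001),(nat_lit 0xeed60a995002),(nat_lit 0xb075001),(nat_lit 0xeed60c20d002),(nat_lit 0x3a1b001)],[(nat_lit 0x287a001),(nat_lit 0x28fc001),(nat_lit 0x28c8001),(nat_lit 0x9d44e02ab8002),(nat_lit 0x295a001),(nat_lit 0x2879001),(nat_lit 0x7d8f001)],[(nat_lit 0x2878001),(nat_lit 0x2987001),(nat_lit 0x2af1001),(nat_lit 0x2877001),(nat_lit 0x2af3001),(nat_lit 0x9d44e02aba002),(nat_lit 0x7d8b001)],[(nat_lit 0x8fb7f0dbf2002),(nat_lit 0xdbf3001),(nat_lit 0x8ad8d0dbf4002),(nat_lit 0xdbf5001),(nat_lit 0xdbf6001),(nat_lit 0xa34420dbf7002),(nat_lit 0x3a1e001)],[(nat_lit 0xbc96001),(nat_lit 0xbcff001),(nat_lit 0xbcf2001),(nat_lit 0xbcfc001),(nat_lit 0xbd00001),(nat_lit 0xbd06001),(nat_lit 0x35a3e001)],[(nat_lit 0xbcfb001),(nat_lit 0x3495001),(nat_lit 0x34f0001),(nat_lit 0x3494001),(nat_lit 0x363d001),(nat_lit 0x3498001),(nat_lit 0xbcfd001)],[(nat_lit 0xbd03001),(nat_lit 0x349a001),(nat_lit 0x34ed001),(nat_lit 0x349b001),(nat_lit 0x351a001),(nat_lit 0x3499001),(nat_lit 0xbd07001)],[(nat_lit 0xcf59d35a3f002),(nat_lit 0x35a40001),(nat_lit 0x35a41001),(nat_lit 0x35a42001),(nat_lit 0x35a43001),(nat_lit 0xcee0335a44002),(nat_lit 0xbc97001)],[(nat_lit 0x1275001),(nat_lit 0x363e001),(nat_lit 0x1276001),(nat_lit 0x3479001),(nat_lit 0x1274001),(nat_lit 0x1277001),(nat_lit 0x37e0001)],[(nat_lit 0xefe40bc9e002),(nat_lit 0xede40c8c7002),(nat_lit 0xbfc303b51002),(nat_lit 0x3a34001),(nat_lit 0xbfc4001),(nat_lit 0xee0e0bc99002),(nat_lit 0x363c001)],[(nat_lit 0x1275001),(nat_lit 0x351b001),(nat_lit 0x123a001),(nat_lit 0x3479001),(nat_lit 0x1239001),(nat_lit 0x1277001),(nat_lit 0x36a9001)],[(nat_lit 0xee000b39f002),(nat_lit 0xed5e0bd29002),(nat_lit 0xb3990a2e6002),(nat_lit 0x9f54001),(nat_lit 0xa502001),(nat_lit 0xedfc0b3a1002),(nat_lit 0x34af001)],[(nat_lit 0x34fd001),(nat_lit 0xefd90be23002),(nat_lit 0x34da001),(nat_lit 0x34db001),(nat_lit 0x3800001),(nat_lit 0x34de001),(nat_lit 0xb030001)],[(nat_lit 0xee230bdc6002),(nat_lit 0xee240dbe1002),(nat_lit 0x3a27001),(nat_lit 0x3a28001),(nat_lit 0xee260bdd2002),(nat_lit 0xee8f0bdd4002),(nat_lit 0xbfef001)],[(nat_lit 0xee280bdca002),(nat_lit 0xee040bdcf002),(nat_lit 0xbfc903b53002),(nat_lit 0x3b54001),(nat_lit 0x3bd4001),(nat_lit 0xee2b0bdd9002),(nat_lit 0xc3ee001)],[(nat_lit 0xedff0bdcd002),(nat_lit 0xee050bdd1002),(nat_lit 0xee260bdd3002),(nat_lit 0xc0ea0bc9c002),(nat_lit 0xbc9b001),(nat_lit 0x100e60ee2d002),(nat_lit 0xfd1e001)],[(nat_lit 0x8faa30cb7c002),(nat_lit 0xcb7d001),(nat_lit 0xcb7e001),(nat_lit 0xcb7f001),(nat_lit 0xcb80001),(nat_lit 0x8fac00cb81002),(nat_lit 0x369a001)],[(nat_lit 0xbde2001),(nat_lit 0xc436034f9002),(nat_lit 0xbde6001),(nat_lit 0xc49e0bcb0002),(nat_lit 0xc4350bd12002),(nat_lit 0x34f8001),(nat_lit 0xbee8001)],[(nat_lit 0x34fd001),(nat_lit 0xbdf4001),(nat_lit 0xc436034fe002),(nat_lit 0x353d001),(nat_lit 0xc4130bd14002),(nat_lit 0x34fc001),(nat_lit 0xc43b0beea002)],[(nat_lit 0x36df001),(nat_lit 0x36e3001),(nat_lit 0x36e6001),(nat_lit 0xa525001),(nat_lit 0x36a2001),(nat_lit 0xc437001),(nat_lit 0xeb3d0c438002)],[(nat_lit 0xbca8001),(nat_lit 0xbd50001),(nat_lit 0xbddd001),(nat_lit 0xbd1c001),(nat_lit 0xbddf001),(nat_lit 0xbde1001),(nat_lit 0xfc50001)],[(nat_lit 0xbdde001),(nat_lit 0xbdee0bd51002),(nat_lit 0xbca9001),(nat_lit 0xc7ba001),(nat_lit 0xbde3001),(nat_lit 0xbde5001),(nat_lit 0x10f56001)],[(nat_lit 0xbd1b001),(nat_lit 0x34a3001),(nat_lit 0xbd1d001),(nat_lit 0x34a2001),(nat_lit 0xbcab001),(nat_lit 0xc49e0bcae002),(nat_lit 0xbd1e001)],[(nat_lit 0xbde0001),(nat_lit 0x34f7001),(nat_lit 0xbde4001),(nat_lit 0x6bdb001),(nat_lit 0x34f6001),(nat_lit 0xbd0c001),(nat_lit 0xbee7001)],[(nat_lit 0xf91b0f8f2002),(nat_lit 0x12520001),(nat_lit 0xfc37001),(nat_lit 0xf465001),(nat_lit 0x354ad001),(nat_lit 0xf47a001),(nat_lit 0xbcaa001)],[(nat_lit 0xbb91001),(nat_lit 0xc6d6001),(nat_lit 0xc6d50bb90002),(nat_lit 0xc6ba0c269002),(nat_lit 0xc6d7001),(nat_lit 0xc6b80bf9c002),(nat_lit 0xed9c001)],[(nat_lit 0x3545001),(nat_lit 0xbdeb001),(nat_lit 0xc4a6034e7002),(nat_lit 0x34e8001),(nat_lit 0xc4a80b26a002),(nat_lit 0x353c001),(nat_lit 0xbed9001)],[(nat_lit 0xc4510bca5002),(nat_lit 0xbdf2001),(nat_lit 0x34fb001),(nat_lit 0xc4aa06d4b002),(nat_lit 0x34fa001),(nat_lit 0xbd0f001),(nat_lit 0xbee9001)],[(nat_lit 0x3242001),(nat_lit 0xade5001),(nat_lit 0x323c001),(nat_lit 0x323e001),(nat_lit 0x32c3001),(nat_lit 0x323d001),(nat_lit 0xbcb40af17002)],[(nat_lit 0xc4c50b16b002),(nat_lit 0xbcac001),(nat_lit 0xc5670b167002),(nat_lit 0x6d79001),(nat_lit 0x6d78001),(nat_lit 0x1d880001),(nat_lit 0x21d13001)],[(nat_lit 0xc1dc001),(nat_lit 0xca8c001),(nat_lit 0xac09001),(nat_lit 0xc4d20b29a002),(nat_lit 0xc1730ae33002),(nat_lit 0xc1de001),(nat_lit 0xac08001)],[(nat_lit 0xc44d0bd0a002),(nat_lit 0xbd0d001),(nat_lit 0xbd10001),(nat_lit 0xc4ac06220002),(nat_lit 0x6d7a001),(nat_lit 0x6bd50621f002),(nat_lit 0x100d1001)],[(nat_lit 0xec74001),(nat_lit 0x53bf335a7c002),(nat_lit 0xfbf7001),(nat_lit 0xbd72001),(nat_lit 0x26299001),(nat_lit 0x100d3001),(nat_lit 0xbd08001)],[(nat_lit 0x3529001),(nat_lit 0x3578001),(nat_lit 0x362a001),(nat_lit 0x3617001),(nat_lit 0x362d001),(nat_lit 0x3528001),(nat_lit 0xbf1c001)],[(nat_lit 0x362b001),(nat_lit 0x357a001),(nat_lit 0x352d001),(nat_lit 0xbf22001),(nat_lit 0x362f001),(nat_lit 0x352c001),(nat_lit 0x10c4f0bf24002)],[(nat_lit 0x3616001),(nat_lit 0x34bd001),(nat_lit 0x361b001),(nat_lit 0x34be001),(nat_lit 0x3663001),(nat_lit 0x34bc001),(nat_lit 0xbe56001)],[(nat_lit 0xc6030ab1e002),(nat_lit 0xa6120350a002),(nat_lit 0xc6050ac46002),(nat_lit 0xac99001),(nat_lit 0xc53f03509002),(nat_lit 0xc6060ab20002),(nat_lit 0xbef3001)],[(nat_lit 0x329470c8a8002),(nat_lit 0x329290c8a9002),(nat_lit 0x328e50c8aa002),(nat_lit 0x3292c0c8ab002),(nat_lit 0xc8ac001),(nat_lit 0x329240c8ad002),(nat_lit 0x3629001)],[(nat_lit 0x3545001),(nat_lit 0xed470be1f002),(nat_lit 0x3546001),(nat_lit 0x3547001),(nat_lit 0x3665001),(nat_lit 0x3544001),(nat_lit 0xc4870bf46002)],[(nat_lit 0x3662001),(nat_lit 0x3664001),(nat_lit 0x3666001),(nat_lit 0xc5450b28e002),(nat_lit 0x363a001),(nat_lit 0xc48e0c02c002),(nat_lit 0xc546001)],[(nat_lit 0xc5090c547002),(nat_lit 0xc549001),(nat_lit 0xc54a001),(nat_lit 0xc54b001),(nat_lit 0xc8c5001),(nat_lit 0xc54c001),(nat_lit 0x363b001)],[(nat_lit 0xac98001),(nat_lit 0xac9a001),(nat_lit 0x2ee72001),(nat_lit 0xab1b001),(nat_lit 0xac07001),(nat_lit 0xac9b001),(nat_lit 0xa5c9c3284f002)],[(nat_lit 0x3563001),(nat_lit 0x3569001),(nat_lit 0x356c001),(nat_lit 0xc6090be88002),(nat_lit 0x34e5001),(nat_lit 0xc544034e6002),(nat_lit 0xbed8001)],[(nat_lit 0x8b5d001),(nat_lit 0xa3e1e2ae06002),(nat_lit 0xa1f0d08b5c002),(nat_lit 0xa0d422abce002),(nat_lit 0xa4c982a7b0002),(nat_lit 0xa27552a7b3002),(nat_lit 0xa374e2ae07002)],[(nat_lit 0x3523001),(nat_lit 0xbf0d001),(nat_lit 0x3522001),(nat_lit 0xbf0e001),(nat_lit 0x361f001),(nat_lit 0x362c001),(nat_lit 0xbf10001)],[(nat_lit 0x3525001),(nat_lit 0x356f001),(nat_lit 0x3611001),(nat_lit 0x3524001),(nat_lit 0x3613001),(nat_lit 0x3615001),(nat_lit 0xbf11001)],[(nat_lit 0x3527001),(nat_lit 0x3572001),(nat_lit 0x361d001),(nat_lit 0x3620001),(nat_lit 0x3526001),(nat_lit 0x3622001),(nat_lit 0xbf15001)],[(nat_lit 0x3291b0a4ac002),(nat_lit 0xf998001),(nat_lit 0xa4ab001),(nat_lit 0x3292f0f99b002),(nat_lit 0xa4ad001),(nat_lit 0x329490e6bd002),(nat_lit 0x329523171d002)],[(nat_lit 0xc6040be5f002),(nat_lit 0x34e1001),(nat_lit 0xc541034e2002),(nat_lit 0xbed1001),(nat_lit 0x3576001),(nat_lit 0x357c001),(nat_lit 0xbed3001)],[(nat_lit 0xbf0f001),(nat_lit 0xbed2001),(nat_lit 0xfc3b001),(nat_lit 0xbe4b001),(nat_lit 0x35b29001),(nat_lit 0xbf23001),(nat_lit 0xa45a635b2a002)],[(nat_lit 0x361e001),(nat_lit 0x3574001),(nat_lit 0x352b001),(nat_lit 0xbf20001),(nat_lit 0x352a001),(nat_lit 0x3624001),(nat_lit 0xbf21001)],[(nat_lit 0x106da103a4002),(nat_lit 0x103a5001),(nat_lit 0x103a6001),(nat_lit 0x103a7001),(nat_lit 0x103a8001),(nat_lit 0x103a9001),(nat_lit 0xbe4c001)],[(nat_lit 0xee440ae03002),(nat_lit 0x3278001),(nat_lit 0xee3e0af7a002),(nat_lit 0x3277001),(nat_lit 0xee940ae19002),(nat_lit 0xee950abc1002),(nat_lit 0xaf7b001)],[(nat_lit 0x3614001),(nat_lit 0x3541001),(nat_lit 0x3619001),(nat_lit 0x3565001),(nat_lit 0x3540001),(nat_lit 0xbf3e001),(nat_lit 0xbf40001)],[(nat_lit 0x3857e0c3cb002),(nat_lit 0xc3cc001),(nat_lit 0xc3cd001),(nat_lit 0xc3ce001),(nat_lit 0xc3cf001),(nat_lit 0x385960c3d0002),(nat_lit 0x35ce001)],[(nat_lit 0x3621001),(nat_lit 0x354d001),(nat_lit 0xbf4c001),(nat_lit 0x354c001),(nat_lit 0x3567001),(nat_lit 0x3626001),(nat_lit 0xbf4d001)],[(nat_lit 0x3623001),(nat_lit 0x354f001),(nat_lit 0x3625001),(nat_lit 0x3628001),(nat_lit 0x3568001),(nat_lit 0x354e001),(nat_lit 0xbf4e001)],[(nat_lit 0xc68180c88f002),(nat_lit 0xc890001),(nat_lit 0xc891001),(nat_lit 0xc892001),(nat_lit 0xc893001),(nat_lit 0xc67f90c894002),(nat_lit 0x361c001)],[(nat_lit 0x43ca935b32002),(nat_lit 0xbe51001),(nat_lit 0x32925001),(nat_lit 0xc0b2001),(nat_lit 0xc0b4001),(nat_lit 0xc0b6001),(nat_lit 0x35b33001)],[(nat_lit 0x3cc7001),(nat_lit 0x30bf001),(nat_lit 0x3291b03d4f002),(nat_lit 0x30be001),(nat_lit 0x30c0001),(nat_lit 0x47f3001),(nat_lit 0xa4aa001)],[(nat_lit 0xc0af001),(nat_lit 0xc0b3001),(nat_lit 0x3292a001),(nat_lit 0xbe53001),(nat_lit 0x34ae2001),(nat_lit 0xc0b8001),(nat_lit 0x3292d001)],[(nat_lit 0x3d4d001),(nat_lit 0x329280e6b0002),(nat_lit 0x3cc4001),(nat_lit 0xb562001),(nat_lit 0x3291b03d4e002),(nat_lit 0x3d50001),(nat_lit 0xf8600e6b2002)],[(nat_lit 0xaa82001),(nat_lit 0xac0f001),(nat_lit 0xac92001),(nat_lit 0xac81001),(nat_lit 0xac95001),(nat_lit 0xaa81001),(nat_lit 0xb98103278c002)],[(nat_lit 0xc5c00b164002),(nat_lit 0xc4fd03532002),(nat_lit 0xc5be0bdff002),(nat_lit 0xc54103531002),(nat_lit 0xc5c30bcf5002),(nat_lit 0xc4fa03637002),(nat_lit 0xbf25001)],[(nat_lit 0xc6070b298002),(nat_lit 0x3534001),(nat_lit 0x3575001),(nat_lit 0x3659001),(nat_lit 0xc54103533002),(nat_lit 0x3633001),(nat_lit 0xbf28001)],[(nat_lit 0xb984f32849002),(nat_lit 0xb98463284a002),(nat_lit 0x3284b001),(nat_lit 0xb984d3284c002),(nat_lit 0xb98503284d002),(nat_lit 0x96acc3284e002),(nat_lit 0xab1a001)],[(nat_lit 0xac9e001),(nat_lit 0xaca1001),(nat_lit 0xc4ff0aca4002),(nat_lit 0xac12001),(nat_lit 0xab22001),(nat_lit 0x21d14001),(nat_lit 0xa3c5b32858002)],[(nat_lit 0xf8d9001),(nat_lit 0xdd6d001),(nat_lit 0xc5c9001),(nat_lit 0xc5ca001),(nat_lit 0xc5cb001),(nat_lit 0xf8da001),(nat_lit 0xab23001)],[(nat_lit 0x3658001),(nat_lit 0x365a001),(nat_lit 0xc8b7001),(nat_lit 0x3631001),(nat_lit 0xc5c80b28d002),(nat_lit 0x365b001),(nat_lit 0xc8b8001)],[(nat_lit 0x35c8001),(nat_lit 0x3634001),(nat_lit 0x3551001),(nat_lit 0x365c001),(nat_lit 0x356b001),(nat_lit 0x3550001),(nat_lit 0xbf4f001)],[(nat_lit 0x912d20c8b9002),(nat_lit 0xc8ba001),(nat_lit 0xa1f060c8bb002),(nat_lit 0xc8bc001),(nat_lit 0x9ff1f0c8bd002),(nat_lit 0x912c90c8be002),(nat_lit 0x3632001)],[(nat_lit 0x35c0001),(nat_lit 0xee2a0bf41002),(nat_lit 0x3543001),(nat_lit 0x6d42001),(nat_lit 0x3542001),(nat_lit 0xc4300bf43002),(nat_lit 0xbcc2001)],[(nat_lit 0xf8f3001),(nat_lit 0x35b49001),(nat_lit 0xee480c009002),(nat_lit 0xc46b0c409002),(nat_lit 0xa566f33bbf002),(nat_lit 0xf8f4001),(nat_lit 0xbe66001)],[(nat_lit 0x3560001),(nat_lit 0x3566001),(nat_lit 0x4ae4001),(nat_lit 0x34e3001),(nat_lit 0x34e4001),(nat_lit 0xc48b0bed4002),(nat_lit 0xbed7001)],[(nat_lit 0xc48c001),(nat_lit 0xc48d001),(nat_lit 0x6d2b001),(nat_lit 0x6e98001),(nat_lit 0x6ea3001),(nat_lit 0xc42f06d2d002),(nat_lit 0x625a001)],[(nat_lit 0xf8a60f895002),(nat_lit 0xf896001),(nat_lit 0x303a3001),(nat_lit 0xf897001),(nat_lit 0xf898001),(nat_lit 0xf899001),(nat_lit 0x9ee2001)],[(nat_lit 0xc1f10c0c1002),(nat_lit 0x33352001),(nat_lit 0xac18001),(nat_lit 0xb556001),(nat_lit 0xc0ce001),(nat_lit 0xc0d0001),(nat_lit 0xac17001)],[(nat_lit 0xc1f20c0c3002),(nat_lit 0xc0c9001),(nat_lit 0xeed60a996002),(nat_lit 0xa7c0001),(nat_lit 0xa7bf001),(nat_lit 0xc1bb0c0d2002),(nat_lit 0xc4670b29d002)],[(nat_lit 0xc0c6001),(nat_lit 0xc0cb001),(nat_lit 0xc0cf001),(nat_lit 0xa24c90be70002),(nat_lit 0xbe6f001),(nat_lit 0xafcf220a47002),(nat_lit 0xa2e4435b4f002)],[(nat_lit 0xbf48001),(nat_lit 0x14320001),(nat_lit 0xbe73001),(nat_lit 0xc07c001),(nat_lit 0xbe74001),(nat_lit 0xbf51001),(nat_lit 0x9fa2435b59002)],[(nat_lit 0x35cb001),(nat_lit 0x3627001),(nat_lit 0xbf50001),(nat_lit 0x3553001),(nat_lit 0xbf52001),(nat_lit 0x3552001),(nat_lit 0xbf53001)],[(nat_lit 0x8e72835b5e002),(nat_lit 0x35b5f001),(nat_lit 0xa155135b60002),(nat_lit 0x8d51e35b61002),(nat_lit 0x8d51535b62002),(nat_lit 0x8e73135b63002),(nat_lit 0xbe75001)],[(nat_lit 0x8fc5f35b64002),(nat_lit 0x8fc3a35b65002),(nat_lit 0x8fc3d35b66002),(nat_lit 0x8fc6035b67002),(nat_lit 0xa2cba35b68002),(nat_lit 0x8fc3935b69002),(nat_lit 0xbe79001)],[(nat_lit 0xa439535b77002),(nat_lit 0xbe81001),(nat_lit 0xa439435b78002),(nat_lit 0xc21d001),(nat_lit 0xc21f001),(nat_lit 0xc221001),(nat_lit 0xa439735b79002)],[(nat_lit 0x9d3a8080e3002),(nat_lit 0x80e9001),(nat_lit 0xa13de080ed002),(nat_lit 0x9d17127a81002),(nat_lit 0x8086001),(nat_lit 0xa3c3f1f7ab002),(nat_lit 0x9de4f27a82002)],[(nat_lit 0xc218001),(nat_lit 0xc21e001),(nat_lit 0xa240835b7f002),(nat_lit 0xbe83001),(nat_lit 0xa0a0f35b80002),(nat_lit 0xc227001),(nat_lit 0x37ca935b81002)],[(nat_lit 0x517341f0ec002),(nat_lit 0xa4396273c2002),(nat_lit 0x5176407f8f002),(nat_lit 0xa1236273c5002),(nat_lit 0xa31c927021002),(nat_lit 0x7f8e001),(nat_lit 0x5176627632002)],[(nat_lit 0x1c58001),(nat_lit 0xf24001),(nat_lit 0x2e98001),(nat_lit 0xf23001),(nat_lit 0x19b3001),(nat_lit 0x19b5001),(nat_lit 0x2e99001)],[(nat_lit 0x84d001),(nat_lit 0x19b4001),(nat_lit 0x19ba001),(nat_lit 0x1c76001),(nat_lit 0xbc60084c002),(nat_lit 0x1c78001),(nat_lit 0x1cb5001)],[(nat_lit 0x199b001),(nat_lit 0x1917001),(nat_lit 0x1918001),(nat_lit 0x19c7001),(nat_lit 0x1916001),(nat_lit 0x19ca001),(nat_lit 0x4444001)],[(nat_lit 0x1990001),(nat_lit 0x19c8001),(nat_lit 0x4589001),(nat_lit 0x198f001),(nat_lit 0x1991001),(nat_lit 0x19d3001),(nat_lit 0x458c001)],[(nat_lit 0x19a0001),(nat_lit 0x19cb001),(nat_lit 0x19d1001),(nat_lit 0x19d5001),(nat_lit 0x19a1001),(nat_lit 0x199f001),(nat_lit 0xb3a504599002)],[(nat_lit 0xefbf0461a002),(nat_lit 0x461b001),(nat_lit 0xc00a0461c002),(nat_lit 0xeebf0461d002),(nat_lit 0xef670461e002),(nat_lit 0xef620461f002),(nat_lit 0x19bb001)],[(nat_lit 0x2bf2001),(nat_lit 0xf11001),(nat_lit 0xf12001),(nat_lit 0xf2a001),(nat_lit 0xf2c001),(nat_lit 0xf2f001),(nat_lit 0x2e67001)],[(nat_lit 0xf14001),(nat_lit 0xf2b001),(nat_lit 0xf16001),(nat_lit 0xf13001),(nat_lit 0x250e001),(nat_lit 0xf32001),(nat_lit 0x17fb001)],[(nat_lit 0x753001),(nat_lit 0x754001),(nat_lit 0xf10001),(nat_lit 0x755001),(nat_lit 0x752001),(nat_lit 0x75f001),(nat_lit 0x1aac001)],[(nat_lit 0x1c6c001),(nat_lit 0xbef00851002),(nat_lit 0xbcb001),(nat_lit 0x850001),(nat_lit 0x1a57001),(nat_lit 0x1a5a001),(nat_lit 0x1cc2001)],[(nat_lit 0xf21001),(nat_lit 0x1a58001),(nat_lit 0xf22001),(nat_lit 0x1c5c001),(nat_lit 0xf20001),(nat_lit 0x265e001),(nat_lit 0x2e91001)],[(nat_lit 0x1a2f001),(nat_lit 0x1a30001),(nat_lit 0x41d1001),(nat_lit 0x20d8601a68002),(nat_lit 0x20dd701a6b002),(nat_lit 0x1a60001),(nat_lit 0x4794001)],[(nat_lit 0x41d2001),(nat_lit 0x29f4001),(nat_lit 0x29f5001),(nat_lit 0x20dcf0840e002),(nat_lit 0x2a46001),(nat_lit 0x29f6001),(nat_lit 0x20df508482002)],[(nat_lit 0x20d8601a66002),(nat_lit 0x1938001),(nat_lit 0x20d6904216002),(nat_lit 0x1937001),(nat_lit 0x20d8f01a50002),(nat_lit 0x1939001),(nat_lit 0x44a1001)],[(nat_lit 0x20dd701a69002),(nat_lit 0x193b001),(nat_lit 0x2a44001),(nat_lit 0x20df301a73002),(nat_lit 0x193a001),(nat_lit 0x1a74001),(nat_lit 0x44a9001)],[(nat_lit 0x20e471145f002),(nat_lit 0x9ae4711460002),(nat_lit 0x20df911461002),(nat_lit 0x9ae4511462002),(nat_lit 0x9ae4d11463002),(nat_lit 0x20e5111464002),(nat_lit 0x41d0001)],[(nat_lit 0x1894001),(nat_lit 0x1a75001),(nat_lit 0x1895001),(nat_lit 0x20df601a78002),(nat_lit 0x1893001),(nat_lit 0x1896001),(nat_lit 0x4c8b404260002)],[(nat_lit 0x4a287047d5002),(nat_lit 0x47d6001),(nat_lit 0x4cd08047d7002),(nat_lit 0x4a23f047d8002),(nat_lit 0x4a2ac047d9002),(nat_lit 0x4c9430482c002),(nat_lit 0x1a72001)],[(nat_lit 0x190c001),(nat_lit 0x190d001),(nat_lit 0x190e001),(nat_lit 0x31e6001),(nat_lit 0x190f001),(nat_lit 0x31ea001),(nat_lit 0x43c8001)],[(nat_lit 0x31e7001),(nat_lit 0x13a6001),(nat_lit 0x32b8001),(nat_lit 0x13a5001),(nat_lit 0x13a7001),(nat_lit 0x31ef001),(nat_lit 0x3ba8001)],[(nat_lit 0x31eb001),(nat_lit 0x13d5001),(nat_lit 0x13d6001),(nat_lit 0x31f1001),(nat_lit 0x13d7001),(nat_lit 0x13d4001),(nat_lit 0x3cae001)],[(nat_lit 0x33cde0ab44002),(nat_lit 0xab45001),(nat_lit 0xab46001),(nat_lit 0xab47001),(nat_lit 0xab48001),(nat_lit 0x33cd00ab49002),(nat_lit 0x31e5001)],[(nat_lit 0x322c001),(nat_lit 0xade2001),(nat_lit 0x322b001),(nat_lit 0x323e001),(nat_lit 0x322d001),(nat_lit 0x3243001),(nat_lit 0xb02d0aef5002)],[(nat_lit 0x13d9001),(nat_lit 0x31f0001),(nat_lit 0x3241001),(nat_lit 0x13da001),(nat_lit 0x326b001),(nat_lit 0x13d8001),(nat_lit 0xbfdd03caf002)],[(nat_lit 0xee160aef6002),(nat_lit 0xaef7001),(nat_lit 0xb39d0aef8002),(nat_lit 0xeecf0aef9002),(nat_lit 0xb3a60aefa002),(nat_lit 0xee0f0aefb002),(nat_lit 0x322e001)],[(nat_lit 0xbff0001),(nat_lit 0x3a18001),(nat_lit 0x3a6e001),(nat_lit 0x3b0a001),(nat_lit 0x3b0d001),(nat_lit 0x3a17001),(nat_lit 0x10c470d9ad002)],[(nat_lit 0x3272001),(nat_lit 0xbfcf0adfb002),(nat_lit 0xedfe0ae13002),(nat_lit 0xbfd203271002),(nat_lit 0xee3a0ae17002),(nat_lit 0xbfc60abbb002),(nat_lit 0xaf6c001)],[(nat_lit 0x3274001),(nat_lit 0xbff10adff002),(nat_lit 0xef380abb8002),(nat_lit 0xae21001),(nat_lit 0xbfd203273002),(nat_lit 0xbff30ae23002),(nat_lit 0xaf72001)],[(nat_lit 0x75d001),(nat_lit 0x334001),(nat_lit 0x864001),(nat_lit 0x6ca00347002),(nat_lit 0x333001),(nat_lit 0x335001),(nat_lit 0xf7b001)],[(nat_lit 0x1a90001),(nat_lit 0x186d001),(nat_lit 0x41c1001),(nat_lit 0x186c001),(nat_lit 0x1969001),(nat_lit 0x1939001),(nat_lit 0x41c2001)],[(nat_lit 0x1968001),(nat_lit 0x196a001),(nat_lit 0x196c001),(nat_lit 0x1965001),(nat_lit 0x193f001),(nat_lit 0x20d7a044b3002),(nat_lit 0x44b4001)],[(nat_lit 0x1c52001),(nat_lit 0x1c59001),(nat_lit 0x1c69001),(nat_lit 0x1c6b001),(nat_lit 0x1c6e001),(nat_lit 0x1c70001),(nat_lit 0x1a1ca04f68002)],[(nat_lit 0x1c6a001),(nat_lit 0x1c5a001),(nat_lit 0x1c53001),(nat_lit 0x4f69001),(nat_lit 0x1c72001),(nat_lit 0x1c74001),(nat_lit 0x4f6a001)],[(nat_lit 0x1c6f001),(nat_lit 0x853001),(nat_lit 0x1c73001),(nat_lit 0x1c7a001),(nat_lit 0x852001),(nat_lit 0x1c7c001),(nat_lit 0x1cd5001)],[(nat_lit 0x17dc004f6b002),(nat_lit 0x4f6c001),(nat_lit 0x4f6d001),(nat_lit 0x17db904f6e002),(nat_lit 0x4f6f001),(nat_lit 0x1a28504f70002),(nat_lit 0x1c54001)],[(nat_lit 0x1c77001),(nat_lit 0x1c7b001),(nat_lit 0x4f71001),(nat_lit 0x1c55001),(nat_lit 0x1c5d001),(nat_lit 0x1c80001),(nat_lit 0x4f73001)],[(nat_lit 0x1c79001),(nat_lit 0x1c7d001),(nat_lit 0x1c7f001),(nat_lit 0x1c81001),(nat_lit 0x1c5e001),(nat_lit 0x1c56001),(nat_lit 0x52f1104f74002)],[(nat_lit 0x52fda04f75002),(nat_lit 0x4f76001),(nat_lit 0x9bdad04f77002),(nat_lit 0x4f78001),(nat_lit 0x4f79001),(nat_lit 0x4cd3b04f7a002),(nat_lit 0x1c57001)],[(nat_lit 0x1993001),(nat_lit 0x380e001),(nat_lit 0x1996001),(nat_lit 0x13a9001),(nat_lit 0x3817001),(nat_lit 0x13aa001),(nat_lit 0x13a8001)],[(nat_lit 0x19c0001),(nat_lit 0x19a2001),(nat_lit 0x195f001),(nat_lit 0x44e0001),(nat_lit 0x195e001),(nat_lit 0x19df001),(nat_lit 0x44e1001)],[(nat_lit 0x19db001),(nat_lit 0x19a7001),(nat_lit 0x459b001),(nat_lit 0x19a6001),(nat_lit 0x19c9001),(nat_lit 0x19e2001),(nat_lit 0x459c001)],[(nat_lit 0x19dd001),(nat_lit 0x19a9001),(nat_lit 0x19e0001),(nat_lit 0x19e4001),(nat_lit 0x19aa001),(nat_lit 0x19a8001),(nat_lit 0x459d001)],[(nat_lit 0x1357304629002),(nat_lit 0x462a001),(nat_lit 0x462b001),(nat_lit 0x462c001),(nat_lit 0x462d001),(nat_lit 0x1328c0462e002),(nat_lit 0x19be001)],[(nat_lit 0x458a001),(nat_lit 0x1265c001),(nat_lit 0x4586001),(nat_lit 0x45c6001),(nat_lit 0x458b001),(nat_lit 0x45a0001),(nat_lit 0xc4aa0bcc7002)],[(nat_lit 0x19d4001),(nat_lit 0x19e3001),(nat_lit 0x459f001),(nat_lit 0x19af001),(nat_lit 0x45a1001),(nat_lit 0x19ae001),(nat_lit 0x45a3001)],[(nat_lit 0xf0a1001),(nat_lit 0x1265d001),(nat_lit 0xf0a3001),(nat_lit 0xfb94001),(nat_lit 0x20b451265e002),(nat_lit 0xf0a2001),(nat_lit 0x4587001)],[(nat_lit 0x2686001),(nat_lit 0xb3bd07363002),(nat_lit 0xef3e02685002),(nat_lit 0xb3c007364002),(nat_lit 0xef3f072f6002),(nat_lit 0xb3ba072f9002),(nat_lit 0xef4107366002)],[(nat_lit 0xa05231266a002),(nat_lit 0x458f001),(nat_lit 0x100ec001),(nat_lit 0x45f9001),(nat_lit 0x45fb001),(nat_lit 0x45fd001),(nat_lit 0xa05211266c002)],[(nat_lit 0xefb807085002),(nat_lit 0xef5f07086002),(nat_lit 0xb3b007087002),(nat_lit 0xeeba07088002),(nat_lit 0xb3b107089002),(nat_lit 0xefbd0708a002),(nat_lit 0x25bc001)],[(nat_lit 0x45f6001),(nat_lit 0x45fa001),(nat_lit 0xb3be001),(nat_lit 0x4591001),(nat_lit 0xb3bf001),(nat_lit 0x4601001),(nat_lit 0x12334001)],[(nat_lit 0x45f8001),(nat_lit 0x45fc001),(nat_lit 0x4600001),(nat_lit 0x9ed6f12711002),(nat_lit 0x4592001),(nat_lit 0xb3c1001),(nat_lit 0x12944001)],[(nat_lit 0x2be0001),(nat_lit 0x2bf3001),(nat_lit 0x2be1001),(nat_lit 0x2c33001),(nat_lit 0x2be8001),(nat_lit 0x2c35001),(nat_lit 0x8d86001)],[(nat_lit 0x2c34001),(nat_lit 0xf1d001),(nat_lit 0x2e70001),(nat_lit 0xf1c001),(nat_lit 0x2be3001),(nat_lit 0xf46001),(nat_lit 0x2e71001)],[(nat_lit 0x2c36001),(nat_lit 0xe79001),(nat_lit 0xe7a001),(nat_lit 0xf44001),(nat_lit 0xf47001),(nat_lit 0xe7b001),(nat_lit 0x2caf001)],[(nat_lit 0x191a408d87002),(nat_lit 0x8d88001),(nat_lit 0x8d89001),(nat_lit 0x8d8a001),(nat_lit 0x8d8b001),(nat_lit 0x190fe08d8c002),(nat_lit 0x2be2001)],[(nat_lit 0xf18001),(nat_lit 0x20bd001),(nat_lit 0xf19001),(nat_lit 0xf17001),(nat_lit 0x2e15001),(nat_lit 0xf43001),(nat_lit 0x17f6001)],[(nat_lit 0x250f001),(nat_lit 0x2be4001),(nat_lit 0x2e16001),(nat_lit 0x1c64001),(nat_lit 0x1c63001),(nat_lit 0x4f89001),(nat_lit 0x4f8b001)],[(nat_lit 0xf33001),(nat_lit 0xf45001),(nat_lit 0xf42001),(nat_lit 0xf1f001),(nat_lit 0x2e8c001),(nat_lit 0xf1e001),(nat_lit 0x168e001)],[(nat_lit 0xf0f001),(nat_lit 0xf48001),(nat_lit 0x757001),(nat_lit 0x1aad001),(nat_lit 0x756001),(nat_lit 0x865001),(nat_lit 0x1aae001)],[(nat_lit 0x2ac6001),(nat_lit 0x2177001),(nat_lit 0x218b001),(nat_lit 0x2206001),(nat_lit 0x2b6d001),(nat_lit 0x2176001),(nat_lit 0x2207001)],[(nat_lit 0x15df001),(nat_lit 0x2203001),(nat_lit 0x15e0001),(nat_lit 0x15de001),(nat_lit 0x15e1001),(nat_lit 0x15e2001),(nat_lit 0x15e3001)],[(nat_lit 0x15dc001),(nat_lit 0x2b6e001),(nat_lit 0x15d7014ff002),(nat_lit 0x15dd001),(nat_lit 0x15b7014fe002),(nat_lit 0x2143001),(nat_lit 0x3f26001)],[(nat_lit 0x262f001),(nat_lit 0x2f1c001),(nat_lit 0x25e3001),(nat_lit 0x2f1d001),(nat_lit 0x2f1f001),(nat_lit 0x25e4001),(nat_lit 0xf5c001)],[(nat_lit 0x1c95001),(nat_lit 0x1c94001),(nat_lit 0x2e53001),(nat_lit 0x1c96001),(nat_lit 0x2e56001),(nat_lit 0x1cd4001),(nat_lit 0x99fae0506c002)],[(nat_lit 0x2e54001),(nat_lit 0x2e18001),(nat_lit 0x2e17001),(nat_lit 0x9791001),(nat_lit 0x2e59001),(nat_lit 0x2e5b001),(nat_lit 0x9793001)],[(nat_lit 0x2e57001),(nat_lit 0xf26001),(nat_lit 0x2e5a001),(nat_lit 0x2e5f001),(nat_lit 0xf25001),(nat_lit 0x2e61001),(nat_lit 0x2e9d001)],[(nat_lit 0x9ab3b09955002),(nat_lit 0x9956001),(nat_lit 0x9ab3c09957002),(nat_lit 0x20e7c09958002),(nat_lit 0x9ab3e09959002),(nat_lit 0x20b590995a002),(nat_lit 0x2e52001)],[(nat_lit 0x1c98001),(nat_lit 0x2e5e001),(nat_lit 0x467a001),(nat_lit 0x1c99001),(nat_lit 0x1c97001),(nat_lit 0x2e63001),(nat_lit 0x506d001)],[(nat_lit 0x265f001),(nat_lit 0x2e62001),(nat_lit 0x24d2001),(nat_lit 0x2e64001),(nat_lit 0x250b001),(nat_lit 0x24d1001),(nat_lit 0xeeda06baf002)],[(nat_lit 0xeed80996d002),(nat_lit 0x996e001),(nat_lit 0xb3de0996f002),(nat_lit 0x9970001),(nat_lit 0x9971001),(nat_lit 0xb3d509972002),(nat_lit 0x2e60001)],[(nat_lit 0x1a3b001),(nat_lit 0x40d8001),(nat_lit 0x1a3a001),(nat_lit 0x3f6a001),(nat_lit 0x1a7c001),(nat_lit 0x1a89001),(nat_lit 0x4799001)],[(nat_lit 0x1a3d001),(nat_lit 0x20d8601a67002),(nat_lit 0x1a3e001),(nat_lit 0x1a3c001),(nat_lit 0x20dcb01a6c002),(nat_lit 0x1a6e001),(nat_lit 0x479e001)],[(nat_lit 0x1a40001),(nat_lit 0x20dd701a6a002),(nat_lit 0x1a7a001),(nat_lit 0x20e6b01a7d002),(nat_lit 0x1a3f001),(nat_lit 0x1a7f001),(nat_lit 0x479f001)],[(nat_lit 0x1b0e112e45002),(nat_lit 0x1789812e46002),(nat_lit 0x1aae612e47002),(nat_lit 0x1787d12e48002),(nat_lit 0x1aae712e49002),(nat_lit 0x1b0e212e4a002),(nat_lit 0x470f001)],[(nat_lit 0x3fc4001),(nat_lit 0x3fc5001),(nat_lit 0x3fc6001),(nat_lit 0x3fc7001),(nat_lit 0x10b69001),(nat_lit 0x3fc3001),(nat_lit 0x10ba5001)],[(nat_lit 0x1a7b001),(nat_lit 0x1a22001),(nat_lit 0x1a23001),(nat_lit 0x42c0001),(nat_lit 0x1a21001),(nat_lit 0x1a81001),(nat_lit 0x471b001)],[(nat_lit 0x1aa8910e9f002),(nat_lit 0x1ab0410ea0002),(nat_lit 0x1aa8d10ea1002),(nat_lit 0x1ab0610ea2002),(nat_lit 0x10ea3001),(nat_lit 0x1aa8510ea4002),(nat_lit 0x406e001)],[(nat_lit 0x1a1ea047b6002),(nat_lit 0x47b7001),(nat_lit 0x47b8001),(nat_lit 0x47b9001),(nat_lit 0x47ba001),(nat_lit 0x1a190047bb002),(nat_lit 0x1a56001)],[(nat_lit 0x1a80001),(nat_lit 0x1a25001),(nat_lit 0x1a82001),(nat_lit 0x20e8301a85002),(nat_lit 0x1a26001),(nat_lit 0x1a24001),(nat_lit 0x4725001)],[(nat_lit 0x7ed9204839002),(nat_lit 0x483a001),(nat_lit 0x483b001),(nat_lit 0x483c001),(nat_lit 0x483d001),(nat_lit 0x7ed890483e002),(nat_lit 0x1a79001)],[(nat_lit 0x12e58001),(nat_lit 0x4716001),(nat_lit 0x12e59001),(nat_lit 0x4762001),(nat_lit 0x4764001),(nat_lit 0x4766001),(nat_lit 0x12e5a001)],[(nat_lit 0x475b001),(nat_lit 0x12e5e001),(nat_lit 0x4717001),(nat_lit 0x12e5f001),(nat_lit 0x4768001),(nat_lit 0x476a001),(nat_lit 0x12e60001)],[(nat_lit 0x1aa6e0475d002),(nat_lit 0x4763001),(nat_lit 0x1aa7310ef8002),(nat_lit 0x4718001),(nat_lit 0x1aae512e61002),(nat_lit 0x476c001),(nat_lit 0x179a812e62002)],[(nat_lit 0x475f001),(nat_lit 0x4765001),(nat_lit 0x4769001),(nat_lit 0x12e69001),(nat_lit 0x4719001),(nat_lit 0x12e6a001),(nat_lit 0x12e6b001)],[(nat_lit 0x1a53001),(nat_lit 0x1a46001),(nat_lit 0x1a47001),(nat_lit 0x1aa4001),(nat_lit 0x1a45001),(nat_lit 0x20d87045cb002),(nat_lit 0x47ab001)],[(nat_lit 0x1a90001),(nat_lit 0x1a8f001),(nat_lit 0x4210001),(nat_lit 0x1a91001),(nat_lit 0x41c3001),(nat_lit 0x20d8601a92002),(nat_lit 0x4861001)],[(nat_lit 0x20d911272d002),(nat_lit 0x20c6d13121002),(nat_lit 0x12725001),(nat_lit 0x20b4512726002),(nat_lit 0x20dfd13123002),(nat_lit 0x20dd41281b002),(nat_lit 0x4728001)],[(nat_lit 0x75d001),(nat_lit 0x760001),(nat_lit 0xf37001),(nat_lit 0x75e001),(nat_lit 0x75c001),(nat_lit 0x75f001),(nat_lit 0x1ab5001)],[(nat_lit 0x44ab001),(nat_lit 0x47a0001),(nat_lit 0x20dd7044aa002),(nat_lit 0x87e0001),(nat_lit 0x44ac001),(nat_lit 0x20e86047d1002),(nat_lit 0x517df12307002)],[(nat_lit 0x20df601a77002),(nat_lit 0x20e8301a84002),(nat_lit 0x4778001),(nat_lit 0x1a4f001),(nat_lit 0x20e760433d002),(nat_lit 0x1a4e001),(nat_lit 0x47ae001)],[(nat_lit 0x52fa913130002),(nat_lit 0x530b313131002),(nat_lit 0x4c8b813132002),(nat_lit 0x530b613133002),(nat_lit 0x530b713134002),(nat_lit 0x5309e13135002),(nat_lit 0x4732001)],[(nat_lit 0x2ab6001),(nat_lit 0x4c8d6089a4002),(nat_lit 0x4ccc102ab5002),(nat_lit 0x4c8d908947002),(nat_lit 0x4ccc3088e0002),(nat_lit 0x4c8c3088e3002),(nat_lit 0x4c8db089a5002)],[(nat_lit 0x1313d001),(nat_lit 0x4734001),(nat_lit 0x4cd101313e002),(nat_lit 0x4781001),(nat_lit 0x4783001),(nat_lit 0x4785001),(nat_lit 0x1313f001)],[(nat_lit 0x4cd1e08459002),(nat_lit 0x4cd180845a002),(nat_lit 0x4c8960845b002),(nat_lit 0x4cd1a0845c002),(nat_lit 0x4c8980845d002),(nat_lit 0x4cd150845e002),(nat_lit 0x29ea001)],[(nat_lit 0x477c001),(nat_lit 0x4782001),(nat_lit 0x13146001),(nat_lit 0x4736001),(nat_lit 0x9dd0d13147002),(nat_lit 0x478b001),(nat_lit 0x13148001)],[(nat_lit 0x9dd0e10329002),(nat_lit 0x9dd0c1032a002),(nat_lit 0x9cd4b1032b002),(nat_lit 0x1031e04422002),(nat_lit 0x9b6e412245002),(nat_lit 0x4421001),(nat_lit 0x20e9312247002)],[(nat_lit 0x129e001),(nat_lit 0x129f001),(nat_lit 0x129c001),(nat_lit 0x13b1001),(nat_lit 0x3512001),(nat_lit 0x129d001),(nat_lit 0x129b001)],[(nat_lit 0x1924001),(nat_lit 0x1925001),(nat_lit 0x1923001),(nat_lit 0x32af001),(nat_lit 0x1926001),(nat_lit 0x3230001),(nat_lit 0x4466001)],[(nat_lit 0x1928001),(nat_lit 0x31e8001),(nat_lit 0x32b5001),(nat_lit 0x1927001),(nat_lit 0x31e9001),(nat_lit 0x3238001),(nat_lit 0x446b001)],[(nat_lit 0x192a001),(nat_lit 0x31ec001),(nat_lit 0x3233001),(nat_lit 0x323a001),(nat_lit 0x192b001),(nat_lit 0x1929001),(nat_lit 0xf1540446f002)],[(nat_lit 0xf26f0aeb3002),(nat_lit 0xafbd001),(nat_lit 0xf00f03294002),(nat_lit 0xf2700afbf002),(nat_lit 0xf27f0afc1002),(nat_lit 0x3293001),(nat_lit 0xf4170afc2002)],[(nat_lit 0x3513001),(nat_lit 0x3518001),(nat_lit 0x3515001),(nat_lit 0x34f2001),(nat_lit 0x34aa001),(nat_lit 0x488f001),(nat_lit 0x4690001)],[(nat_lit 0x32b0001),(nat_lit 0x31fc001),(nat_lit 0xab7c001),(nat_lit 0x31fb001),(nat_lit 0x34f3001),(nat_lit 0x32b2001),(nat_lit 0xf0d60ab7e002)],[(nat_lit 0x3231001),(nat_lit 0x192d001),(nat_lit 0x192e001),(nat_lit 0x32b4001),(nat_lit 0x192f001),(nat_lit 0x192c001),(nat_lit 0xf51b04470002)],[(nat_lit 0xf8080aefc002),(nat_lit 0xaefd001),(nat_lit 0xf0ac0aefe002),(nat_lit 0xaeff001),(nat_lit 0xaf00001),(nat_lit 0xf0ae0af01002),(nat_lit 0x322f001)],[(nat_lit 0x249c001),(nat_lit 0x249d001),(nat_lit 0x24bf001),(nat_lit 0x249e001),(nat_lit 0x263f001),(nat_lit 0x249f001),(nat_lit 0x251a001)],[(nat_lit 0x19d8001),(nat_lit 0x1a06001),(nat_lit 0x19d7001),(nat_lit 0x19fe001),(nat_lit 0x2535001),(nat_lit 0x19d9001),(nat_lit 0x19d6001)],[(nat_lit 0x2478001),(nat_lit 0x263d001),(nat_lit 0x2477001),(nat_lit 0x32e9001),(nat_lit 0x2479001),(nat_lit 0x32eb001),(nat_lit 0x6b53001)],[(nat_lit 0x32b6001),(nat_lit 0xabfd001),(nat_lit 0x3236001),(nat_lit 0xaf05001),(nat_lit 0x32b7001),(nat_lit 0x32b9001),(nat_lit 0xaf06001)],[(nat_lit 0x3239001),(nat_lit 0x1931001),(nat_lit 0x32ba001),(nat_lit 0x1932001),(nat_lit 0x32c0001),(nat_lit 0x1930001),(nat_lit 0x4471001)],[(nat_lit 0xf56e0af07002),(nat_lit 0xaf08001),(nat_lit 0xaf09001),(nat_lit 0xaf0a001),(nat_lit 0xaf0b001),(nat_lit 0xf22a0af0c002),(nat_lit 0x3237001)],[(nat_lit 0xf8120af11002),(nat_lit 0xf8130af12002),(nat_lit 0xf80f0af13002),(nat_lit 0xf8140af14002),(nat_lit 0xf8150af15002),(nat_lit 0xf8160af16002),(nat_lit 0x323b001)],[(nat_lit 0x12288001),(nat_lit 0x4461001),(nat_lit 0xf272001),(nat_lit 0x4489001),(nat_lit 0x448b001),(nat_lit 0x448d001),(nat_lit 0x1228a001)],[(nat_lit 0xf0330aec6002),(nat_lit 0xf0620aec7002),(nat_lit 0xf2770aec8002),(nat_lit 0xf0600aec9002),(nat_lit 0xf26c0aeca002),(nat_lit 0xf0360aecb002),(nat_lit 0x321b001)],[(nat_lit 0x4486001),(nat_lit 0x448a001),(nat_lit 0xfc1d001),(nat_lit 0x4463001),(nat_lit 0x1262412291002),(nat_lit 0x4491001),(nat_lit 0x12295001)],[(nat_lit 0x4488001),(nat_lit 0x448c001),(nat_lit 0x4490001),(nat_lit 0x12296001),(nat_lit 0x4464001),(nat_lit 0xf278001),(nat_lit 0x12297001)],[(nat_lit 0x1a01001),(nat_lit 0x1a02001),(nat_lit 0x1a03001),(nat_lit 0x1a00001),(nat_lit 0x2499001),(nat_lit 0x1a04001),(nat_lit 0x1a05001)],[(nat_lit 0x245f001),(nat_lit 0x2460001),(nat_lit 0x2477001),(nat_lit 0x247a001),(nat_lit 0x245e001),(nat_lit 0x247c001),(nat_lit 0x6b3d001)],[(nat_lit 0x24be001),(nat_lit 0x24bd001),(nat_lit 0x24bf001),(nat_lit 0x2500001),(nat_lit 0x252a001),(nat_lit 0x24c0001),(nat_lit 0x306b001)],[(nat_lit 0x1349001),(nat_lit 0x2529001),(nat_lit 0x2463001),(nat_lit 0x2572001),(nat_lit 0x1348001),(nat_lit 0x2549001),(nat_lit 0x3b47001)],[(nat_lit 0x24d4001),(nat_lit 0x24d5001),(nat_lit 0x24d6001),(nat_lit 0x251e001),(nat_lit 0x24d3001),(nat_lit 0x2b93001),(nat_lit 0x4be2001)],[(nat_lit 0x24ca001),(nat_lit 0x24c9001),(nat_lit 0x2652001),(nat_lit 0x24cb001),(nat_lit 0x2521001),(nat_lit 0x264f001),(nat_lit 0x6ba8001)],[(nat_lit 0x24e5001),(nat_lit 0x24e6001),(nat_lit 0x254b001),(nat_lit 0x264d001),(nat_lit 0x24e7001),(nat_lit 0x24e4001),(nat_lit 0x6cd1001)],[(nat_lit 0x201c42007b002),(nat_lit 0x2007c001),(nat_lit 0x201c52007d002),(nat_lit 0x201c22007e002),(nat_lit 0x201c62007f002),(nat_lit 0x201c720080002),(nat_lit 0x6b3e001)],[(nat_lit 0x3332c001),(nat_lit 0xabae001),(nat_lit 0xabfe001),(nat_lit 0xaddf001),(nat_lit 0xade1001),(nat_lit 0xade4001),(nat_lit 0x3332d001)],[(nat_lit 0x3242001),(nat_lit 0xade0001),(nat_lit 0x3241001),(nat_lit 0x3244001),(nat_lit 0x3cb0001),(nat_lit 0x3243001),(nat_lit 0xc42e0a630002)],[(nat_lit 0x326c001),(nat_lit 0x32c1001),(nat_lit 0x32c4001),(nat_lit 0x3240001),(nat_lit 0x323f001),(nat_lit 0x326e001),(nat_lit 0xaf1a001)],[(nat_lit 0xee0f0afec002),(nat_lit 0xee130b21e002),(nat_lit 0xb37c0b21f002),(nat_lit 0xee600b222002),(nat_lit 0xb225001),(nat_lit 0xee160afed002),(nat_lit 0x32bb001)],[(nat_lit 0xfd28001),(nat_lit 0xabb0001),(nat_lit 0xede50d2da002),(nat_lit 0x9fb1f0aded002),(nat_lit 0xc0700adef002),(nat_lit 0xadf1001),(nat_lit 0x106f6001)],[(nat_lit 0x3ae1001),(nat_lit 0x9fb1f0bfe7002),(nat_lit 0xee6703ae2002),(nat_lit 0xbfc303b52002),(nat_lit 0xa40340c70f002),(nat_lit 0x3ae0001),(nat_lit 0xbfe9001)],[(nat_lit 0x9a41001),(nat_lit 0xee6c001),(nat_lit 0xee190bd2c002),(nat_lit 0xeed809a40002),(nat_lit 0xee160b3ab002),(nat_lit 0xee6e001),(nat_lit 0x20cb51354d002)],[(nat_lit 0xae07001),(nat_lit 0xbfc80327c002),(nat_lit 0x9ebd40ae0b002),(nat_lit 0xee950abc3002),(nat_lit 0xbfea0aea1002),(nat_lit 0x327b001),(nat_lit 0xaf8c001)],[(nat_lit 0xbfc60abbc002),(nat_lit 0xee950abc2002),(nat_lit 0xee0d0ae1f002),(nat_lit 0xbfc803282002),(nat_lit 0x20b2d0af92002),(nat_lit 0x3281001),(nat_lit 0xaf93001)],[(nat_lit 0x9ebda07d8d002),(nat_lit 0x9c0990684e002),(nat_lit 0x9c0a202af9002),(nat_lit 0x9ebdb08a10002),(nat_lit 0x9ebdc07d93002),(nat_lit 0x2af8001),(nat_lit 0x8a12001)],[(nat_lit 0x9ebe10690e002),(nat_lit 0xa1f9f1f4dc002),(nat_lit 0x690d001),(nat_lit 0xa1fa11f734002),(nat_lit 0x690f001),(nat_lit 0x9ebd31f3d1002),(nat_lit 0xa1fa21f83d002)],[(nat_lit 0x682f001),(nat_lit 0x23bd001),(nat_lit 0x9ebe106831002),(nat_lit 0x6833001),(nat_lit 0x23bc001),(nat_lit 0x67d0001),(nat_lit 0x9ebe406835002)],[(nat_lit 0xa1f7d0ae05002),(nat_lit 0x327a001),(nat_lit 0x9ebb70ae09002),(nat_lit 0xa06580ae24002),(nat_lit 0x3279001),(nat_lit 0x9ebb50ae25002),(nat_lit 0xaf81001)],[(nat_lit 0x10f4f001),(nat_lit 0x3332e001),(nat_lit 0x10084001),(nat_lit 0x10c94001),(nat_lit 0x10085001),(nat_lit 0x106e5001),(nat_lit 0xabc0001)],[(nat_lit 0x2b3c001),(nat_lit 0x9ebea06075002),(nat_lit 0x23c1001),(nat_lit 0x9e19405ebd002),(nat_lit 0x23c0001),(nat_lit 0x2a7f001),(nat_lit 0x6836001)],[(nat_lit 0xf08309f2c002),(nat_lit 0xeea309f31002),(nat_lit 0xee340a0cb002),(nat_lit 0xee9603023002),(nat_lit 0xeea70a231002),(nat_lit 0xee3203022002),(nat_lit 0xa232001)],[(nat_lit 0xef380abb7002),(nat_lit 0xa1f090ae0d002),(nat_lit 0x327e001),(nat_lit 0xa196c0af90002),(nat_lit 0xbfed0327d002),(nat_lit 0xa196b0ae9b002),(nat_lit 0xaf91001)],[(nat_lit 0xee3a0ae18002),(nat_lit 0xee940ae1a002),(nat_lit 0xbfcc0ae1c002),(nat_lit 0xee990ac03002),(nat_lit 0xabc7001),(nat_lit 0xee9a0e5b3002),(nat_lit 0x4f83001)],[(nat_lit 0xf8e3001),(nat_lit 0xa4c2f3332f002),(nat_lit 0xbd81001),(nat_lit 0xb821001),(nat_lit 0xa1eee1c8bc002),(nat_lit 0xf8dd001),(nat_lit 0xabd1001)],[(nat_lit 0xeeb90b589002),(nat_lit 0xbaa440e496002),(nat_lit 0x7575001),(nat_lit 0xee970b58c002),(nat_lit 0x7574001),(nat_lit 0xdd1ef0e499002),(nat_lit 0x2432d001)],[(nat_lit 0xa13d507bcc002),(nat_lit 0x2b33001),(nat_lit 0x2af7001),(nat_lit 0x8a0e001),(nat_lit 0x2af6001),(nat_lit 0xa06590684b002),(nat_lit 0x8a0f001)],[(nat_lit 0x912c833335002),(nat_lit 0xa38cb33336002),(nat_lit 0x8d41433337002),(nat_lit 0xa1b8e33338002),(nat_lit 0xa206433339002),(nat_lit 0xa38cc3333a002),(nat_lit 0xabd4001)],[(nat_lit 0x2bcf001),(nat_lit 0x2bd0001),(nat_lit 0x2be7001),(nat_lit 0x2c2d001),(nat_lit 0x2bd1001),(nat_lit 0x2c30001),(nat_lit 0x9a08b08d79002)],[(nat_lit 0x9b0ce08d7a002),(nat_lit 0x8d7b001),(nat_lit 0x137a408d7c002),(nat_lit 0x8d7d001),(nat_lit 0x8d7e001),(nat_lit 0x1a1cc08d7f002),(nat_lit 0x2bd2001)],[(nat_lit 0x16bf00ed4002),(nat_lit 0x16c700ed8002),(nat_lit 0x18a6001),(nat_lit 0xed5001),(nat_lit 0x2319001),(nat_lit 0xed3001),(nat_lit 0x94aa02dae002)],[(nat_lit 0x231a001),(nat_lit 0xe6e001),(nat_lit 0x231e001),(nat_lit 0x1807001),(nat_lit 0xe6d001),(nat_lit 0x23a7001),(nat_lit 0x2c8e001)],[(nat_lit 0x18dde066e9002),(nat_lit 0x18dd6066ea002),(nat_lit 0x18ddc066eb002),(nat_lit 0x18dd8066ec002),(nat_lit 0x66ed001),(nat_lit 0x18dd5066ee002),(nat_lit 0x2318001)],[(nat_lit 0x16ba00f07002),(nat_lit 0x1dd8001),(nat_lit 0xe70001),(nat_lit 0xea8001),(nat_lit 0xe6f001),(nat_lit 0xa860602bd4002),(nat_lit 0xa860502c9d002)],[(nat_lit 0x16ce00f1b002),(nat_lit 0x1808001),(nat_lit 0x1eb2001),(nat_lit 0xebe001),(nat_lit 0xed6001),(nat_lit 0x1ea9001),(nat_lit 0xebd001)],[(nat_lit 0x2373001),(nat_lit 0x23a6001),(nat_lit 0xa860602bd6002),(nat_lit 0x2372001),(nat_lit 0x238c001),(nat_lit 0x2374001),(nat_lit 0xa861705937002)],[(nat_lit 0x1bfc001),(nat_lit 0x1bfd001),(nat_lit 0x1c2c001),(nat_lit 0x1c0a001),(nat_lit 0x1c2f001),(nat_lit 0x1bfb001),(nat_lit 0x183c204e04002)],[(nat_lit 0x1c2d001),(nat_lit 0x1beb001),(nat_lit 0x1bec001),(nat_lit 0x4dc2001),(nat_lit 0x1c03001),(nat_lit 0x1bed001),(nat_lit 0x4df4001)],[(nat_lit 0x1c30001),(nat_lit 0x1aea001),(nat_lit 0x1c02001),(nat_lit 0x1c32001),(nat_lit 0x1ae9001),(nat_lit 0x1c00001),(nat_lit 0x49d1001)],[(nat_lit 0x18d7304e9b002),(nat_lit 0x18d7704e9c002),(nat_lit 0x18d5304e9d002),(nat_lit 0x172dd04e9e002),(nat_lit 0x4e9f001),(nat_lit 0x18d7a04ea0002),(nat_lit 0x1c15001)],[(nat_lit 0x1bef001),(nat_lit 0x1bff001),(nat_lit 0x1bf1001),(nat_lit 0x1c36001),(nat_lit 0x1bee001),(nat_lit 0x1bf0001),(nat_lit 0xa99a304df5002)],[(nat_lit 0x1bfa001),(nat_lit 0x4e01001),(nat_lit 0x1bf9001),(nat_lit 0x4dc0001),(nat_lit 0x1c0e001),(nat_lit 0x1c2e001),(nat_lit 0x4e03001)],[(nat_lit 0x1be2001),(nat_lit 0x1be3001),(nat_lit 0x1c0c001),(nat_lit 0x1be4001),(nat_lit 0x1be5001),(nat_lit 0x1c0f001),(nat_lit 0x4ded001)],[(nat_lit 0x183a9093e3002),(nat_lit 0x18dad093e9002),(nat_lit 0x183a809456002),(nat_lit 0x18daf02da6002),(nat_lit 0x183c109458002),(nat_lit 0x2da5001),(nat_lit 0x18db209459002)],[(nat_lit 0x4dc1001),(nat_lit 0x4dc3001),(nat_lit 0x4d69001),(nat_lit 0x4d64001),(nat_lit 0x14f42001),(nat_lit 0x4dc4001),(nat_lit 0x178e814f43002)],[(nat_lit 0x1c0d001),(nat_lit 0x1c01001),(nat_lit 0x1be6001),(nat_lit 0x4df1001),(nat_lit 0x1be7001),(nat_lit 0x1c13001),(nat_lit 0x4df2001)],[(nat_lit 0x18e6314f44002),(nat_lit 0x14f45001),(nat_lit 0x14f46001),(nat_lit 0x1842013ffa002),(nat_lit 0x14f47001),(nat_lit 0x18e5f14f48002),(nat_lit 0x4d65001)],[(nat_lit 0x1c10001),(nat_lit 0x1be9001),(nat_lit 0x1c14001),(nat_lit 0x1bea001),(nat_lit 0x1bfe001),(nat_lit 0x1be8001),(nat_lit 0x4df3001)],[(nat_lit 0x5d53904e14002),(nat_lit 0x4e15001),(nat_lit 0x4e16001),(nat_lit 0x4e17001),(nat_lit 0x4e18001),(nat_lit 0x5d52a04e19002),(nat_lit 0x1c0b001)],[(nat_lit 0x183c814f52002),(nat_lit 0x4d67001),(nat_lit 0x14f53001),(nat_lit 0x4e35001),(nat_lit 0x4e37001),(nat_lit 0x4e39001),(nat_lit 0x14f54001)],[(nat_lit 0x4e2e001),(nat_lit 0x15184001),(nat_lit 0x4dc5001),(nat_lit 0x1839f15185002),(nat_lit 0x4e3b001),(nat_lit 0x4e3d001),(nat_lit 0x15186001)],[(nat_lit 0x18daf02d9a002),(nat_lit 0x183c909431002),(nat_lit 0x18dbd093e1002),(nat_lit 0x183a9093e4002),(nat_lit 0x18dbe09433002),(nat_lit 0x18d7802d99002),(nat_lit 0x94ab09434002)],[(nat_lit 0x4e32001),(nat_lit 0x4e38001),(nat_lit 0x4e3c001),(nat_lit 0x15189001),(nat_lit 0x4dc7001),(nat_lit 0xa500f1518a002),(nat_lit 0xa568e1518b002)],[(nat_lit 0x305a001),(nat_lit 0xa860602c9f002),(nat_lit 0x2ca0001),(nat_lit 0x2ca1001),(nat_lit 0x2ca2001),(nat_lit 0x2c9e001),(nat_lit 0x698c001)],[(nat_lit 0x2bd8001),(nat_lit 0x2c57001),(nat_lit 0x2bd9001),(nat_lit 0xa860602bda002),(nat_lit 0xa860602bdb002),(nat_lit 0x2bd7001),(nat_lit 0x2bdc001)],[(nat_lit 0xd18001),(nat_lit 0x279f001),(nat_lit 0xd35001),(nat_lit 0xd17001),(nat_lit 0x1c3d001),(nat_lit 0xd19001),(nat_lit 0xd1a001)],[(nat_lit 0xd1c001),(nat_lit 0x1c44001),(nat_lit 0xd32001),(nat_lit 0xd1b001),(nat_lit 0x27d0001),(nat_lit 0xd1d001),(nat_lit 0xd1e001)],[(nat_lit 0x4eae001),(nat_lit 0x1c1b001),(nat_lit 0x2edf001),(nat_lit 0x1c3f001),(nat_lit 0x1c41001),(nat_lit 0x1c43001),(nat_lit 0x4eaf001)],[(nat_lit 0xcff001),(nat_lit 0x1c40001),(nat_lit 0xc04001),(nat_lit 0xc05001),(nat_lit 0x1cae001),(nat_lit 0xcfb001),(nat_lit 0x1746001)],[(nat_lit 0x1c3e001),(nat_lit 0x1c42001),(nat_lit 0x1c46001),(nat_lit 0x4745001),(nat_lit 0x1c1c001),(nat_lit 0x4eb3001),(nat_lit 0x4eb4001)],[(nat_lit 0x1d91001),(nat_lit 0x1d92001),(nat_lit 0x1e10001),(nat_lit 0x1d93001),(nat_lit 0x1ddd001),(nat_lit 0x1d90001),(nat_lit 0x182500538b002)],[(nat_lit 0x1e11001),(nat_lit 0x1e02001),(nat_lit 0x1dc8001),(nat_lit 0x53ce001),(nat_lit 0x1e13001),(nat_lit 0x1dc7001),(nat_lit 0x5483001)],[(nat_lit 0x1dde001),(nat_lit 0x1c39001),(nat_lit 0x1e14001),(nat_lit 0x1d99001),(nat_lit 0x1c38001),(nat_lit 0x4bdd001),(nat_lit 0x4eca001)],[(nat_lit 0x1921805487002),(nat_lit 0x191b105488002),(nat_lit 0x1921905489002),(nat_lit 0x18b7d0548a002),(nat_lit 0x548b001),(nat_lit 0x1927e0548c002),(nat_lit 0x1ddc001)],[(nat_lit 0x1c22001),(nat_lit 0x1d9a001),(nat_lit 0x23ea001),(nat_lit 0x1c21001),(nat_lit 0x1c23001),(nat_lit 0xa8faa04eab002),(nat_lit 0xa8fa904eba002)],[(nat_lit 0x4b13001),(nat_lit 0x4bdc001),(nat_lit 0x4b14001),(nat_lit 0xa8faa04ead002),(nat_lit 0x4b12001),(nat_lit 0x4b15001),(nat_lit 0xa99fe14337002)],[(nat_lit 0x1faa001),(nat_lit 0x5d59001),(nat_lit 0x1fab001),(nat_lit 0x5e1b001),(nat_lit 0x1fa9001),(nat_lit 0x2362001),(nat_lit 0xa9a4005e1e002)],[(nat_lit 0x2c28001),(nat_lit 0x2c29001),(nat_lit 0x2c6d001),(nat_lit 0x2c27001),(nat_lit 0x2c6f001),(nat_lit 0x2c72001),(nat_lit 0x1a20b08f31002)],[(nat_lit 0x2c2b001),(nat_lit 0x2c2c001),(nat_lit 0x2c37001),(nat_lit 0x2c75001),(nat_lit 0x2c76001),(nat_lit 0x2c2a001),(nat_lit 0x1738a08f32002)],[(nat_lit 0x1aaeb16a42002),(nat_lit 0x18b6a001),(nat_lit 0x1ab6016a43002),(nat_lit 0x18b6b001),(nat_lit 0x1ab61001),(nat_lit 0x1aadc16a44002),(nat_lit 0x8d65001)],[(nat_lit 0x2c6e001),(nat_lit 0x1d81001),(nat_lit 0x1d82001),(nat_lit 0x531e001),(nat_lit 0x2c52001),(nat_lit 0x1d83001),(nat_lit 0x5379001)],[(nat_lit 0x2c70001),(nat_lit 0x1d32001),(nat_lit 0x2c54001),(nat_lit 0x1d33001),(nat_lit 0x1d31001),(nat_lit 0x4f86001),(nat_lit 0x524b001)],[(nat_lit 0x181d208f56002),(nat_lit 0x8f57001),(nat_lit 0x8f58001),(nat_lit 0x181cd08f59002),(nat_lit 0x8f5a001),(nat_lit 0x1a2b408f5b002),(nat_lit 0x2c51001)],[(nat_lit 0x2c77001),(nat_lit 0xe83001),(nat_lit 0xf49001),(nat_lit 0xf5e001),(nat_lit 0xe82001),(nat_lit 0xe89001),(nat_lit 0x2cc5001)],[(nat_lit 0x1aadc08f65002),(nat_lit 0x1aae908f66002),(nat_lit 0x165b208f67002),(nat_lit 0x9adde08f68002),(nat_lit 0x8f69001),(nat_lit 0x1aaeb08f6a002),(nat_lit 0x2c55001)],[(nat_lit 0x1ab6b001),(nat_lit 0x8d67001),(nat_lit 0x17982001),(nat_lit 0x17a0e08ea1002),(nat_lit 0x8ea3001),(nat_lit 0x8ea5001),(nat_lit 0x233cf001)],[(nat_lit 0x8e9a001),(nat_lit 0x1798c17388002),(nat_lit 0x8d68001),(nat_lit 0x1aacb17389002),(nat_lit 0x8ea7001),(nat_lit 0x1aa6f08ea9002),(nat_lit 0x9a3a319726002)],[(nat_lit 0x99a080509d002),(nat_lit 0x99914077ac002),(nat_lit 0x509c001),(nat_lit 0x9990f09e0e002),(nat_lit 0x509e001),(nat_lit 0x77d5001),(nat_lit 0x99b4b15ed0002)],[(nat_lit 0x8e9e001),(nat_lit 0x8ea4001),(nat_lit 0x8ea8001),(nat_lit 0x99a051dadb002),(nat_lit 0x8d6a001),(nat_lit 0x2bb12001),(nat_lit 0x2bb14001)],[(nat_lit 0x4bd4001),(nat_lit 0x4f87001),(nat_lit 0x4bd5001),(nat_lit 0x4bd7001),(nat_lit 0x4bd3001),(nat_lit 0x4bd6001),(nat_lit 0xa8fc7148a6002)],[(nat_lit 0x1e0c001),(nat_lit 0x1e1a001),(nat_lit 0x1e0d001),(nat_lit 0x1e0e001),(nat_lit 0x1f62001),(nat_lit 0x1e0f001),(nat_lit 0xf5d001)],[(nat_lit 0x9b1c001),(nat_lit 0x2ed0001),(nat_lit 0x2ee9001),(nat_lit 0x2f0e001),(nat_lit 0x2f10001),(nat_lit 0x2f12001),(nat_lit 0x9b1e001)],[(nat_lit 0x1c08001),(nat_lit 0x1c09001),(nat_lit 0x2766001),(nat_lit 0x1c0a001),(nat_lit 0x2bcb001),(nat_lit 0x1c07001),(nat_lit 0x1895f04e13002)],[(nat_lit 0x2bcc001),(nat_lit 0xf71001),(nat_lit 0x18f3001),(nat_lit 0x1c65001),(nat_lit 0xf70001),(nat_lit 0xf72001),(nat_lit 0xa53f602f71002)],[(nat_lit 0x173e608d72002),(nat_lit 0x1893d08d73002),(nat_lit 0x1894408d74002),(nat_lit 0x173e208d75002),(nat_lit 0x8d76001),(nat_lit 0x1893c08d77002),(nat_lit 0x2bca001)],[(nat_lit 0x1c25001),(nat_lit 0x1c66001),(nat_lit 0x4ebb001),(nat_lit 0x1c26001),(nat_lit 0x1c24001),(nat_lit 0x1c27001),(nat_lit 0xa647604ec0002)],[(nat_lit 0x18989151d0002),(nat_lit 0x4de8001),(nat_lit 0x151d1001),(nat_lit 0x4e56001),(nat_lit 0x4e58001),(nat_lit 0x4e5a001),(nat_lit 0x99ee6151d2002)],[(nat_lit 0x4e4f001),(nat_lit 0x151d6001),(nat_lit 0x4de9001),(nat_lit 0x18b04151d7002),(nat_lit 0x4e5c001),(nat_lit 0x4e5e001),(nat_lit 0xa5434151d8002)],[(nat_lit 0x4e53001),(nat_lit 0x4e59001),(nat_lit 0x4e5d001),(nat_lit 0x18945151da002),(nat_lit 0x4deb001),(nat_lit 0xa7ed7151db002),(nat_lit 0xa7ed8151dc002)],[(nat_lit 0x16d300ef6002),(nat_lit 0x2d2c001),(nat_lit 0xef5001),(nat_lit 0x2ce2001),(nat_lit 0x2322001),(nat_lit 0xef7001),(nat_lit 0x2dff001)],[(nat_lit 0x16d500ef9002),(nat_lit 0x16d900efb002),(nat_lit 0x2320001),(nat_lit 0x2323001),(nat_lit 0xef8001),(nat_lit 0x2326001),(nat_lit 0x2e04001)],[(nat_lit 0x18903090eb002),(nat_lit 0x173e4090ec002),(nat_lit 0x18904090ed002),(nat_lit 0x173f8090ee002),(nat_lit 0x18905090ef002),(nat_lit 0x18906090f0002),(nat_lit 0x2d0f001)],[(nat_lit 0x2ce3001),(nat_lit 0x2cac001),(nat_lit 0x2cce001),(nat_lit 0x2cab001),(nat_lit 0x9043001),(nat_lit 0x2cad001),(nat_lit 0x9045001)],[(nat_lit 0x2321001),(nat_lit 0xeaf001),(nat_lit 0xeb0001),(nat_lit 0x2d4e001),(nat_lit 0xeb1001),(nat_lit 0x232b001),(nat_lit 0x2d62001)],[(nat_lit 0x18a2f09046002),(nat_lit 0x9047001),(nat_lit 0x9048001),(nat_lit 0x5d7d001),(nat_lit 0x9049001),(nat_lit 0x18a180904a002),(nat_lit 0x2cae001)],[(nat_lit 0x2324001),(nat_lit 0xf01001),(nat_lit 0x2e0b001),(nat_lit 0xf00001),(nat_lit 0x1809001),(nat_lit 0x232f001),(nat_lit 0x2e0c001)],[(nat_lit 0x2327001),(nat_lit 0xedf001),(nat_lit 0x232d001),(nat_lit 0x2331001),(nat_lit 0xede001),(nat_lit 0x16d500ee0002),(nat_lit 0x2db4001)],[(nat_lit 0x5d6e3066f1002),(nat_lit 0x66f2001),(nat_lit 0x66f3001),(nat_lit 0x66f4001),(nat_lit 0x66f5001),(nat_lit 0x5d61b066f6002),(nat_lit 0x231f001)],[(nat_lit 0x99fb109227002),(nat_lit 0x188a802d3c002),(nat_lit 0x99fb20922b002),(nat_lit 0x1890d090c4002),(nat_lit 0x1890f0924e002),(nat_lit 0x2d3b001),(nat_lit 0x99a5d092d0002)],[(nat_lit 0x188a4090ba002),(nat_lit 0x9234001),(nat_lit 0x188a802d40002),(nat_lit 0x9237001),(nat_lit 0x188ab0924f002),(nat_lit 0x2d3f001),(nat_lit 0x92d3001)],[(nat_lit 0x173e5090bd002),(nat_lit 0x1890d090c3002),(nat_lit 0x173ed09241002),(nat_lit 0x188a802d42002),(nat_lit 0x173ee092d4002),(nat_lit 0x2d41001),(nat_lit 0x18915092d5002)],[(nat_lit 0x2e2f001),(nat_lit 0x2e35001),(nat_lit 0x2e39001),(nat_lit 0x9753001),(nat_lit 0x2dfd001),(nat_lit 0x1891609754002),(nat_lit 0x9755001)],[(nat_lit 0x16e3001),(nat_lit 0x2330001),(nat_lit 0x2db2001),(nat_lit 0x16d700f05002),(nat_lit 0x23af001),(nat_lit 0xf04001),(nat_lit 0x2e0d001)],[(nat_lit 0x1b63e095c2002),(nat_lit 0xaa587095c3002),(nat_lit 0xad4ae095c4002),(nat_lit 0xa8f97095c5002),(nat_lit 0xaa5f6095c6002),(nat_lit 0x1b629095c7002),(nat_lit 0x2daf001)],[(nat_lit 0x2d0c001),(nat_lit 0xef2001),(nat_lit 0x2d87001),(nat_lit 0xef3001),(nat_lit 0x2d6c001),(nat_lit 0xef1001),(nat_lit 0x2df3001)],[(nat_lit 0x2d1b001),(nat_lit 0x2d6d001),(nat_lit 0x2d92001),(nat_lit 0x2d1c001),(nat_lit 0x2d1d001),(nat_lit 0x2d1a001),(nat_lit 0xaa526092b3002)],[(nat_lit 0x2d2b001),(nat_lit 0x2cff001),(nat_lit 0x2d00001),(nat_lit 0x2d43001),(nat_lit 0x2d45001),(nat_lit 0x2d2e001),(nat_lit 0x90cf001)],[(nat_lit 0x2ce1001),(nat_lit 0x2d44001),(nat_lit 0x2d27001),(nat_lit 0x2ce0001),(nat_lit 0x909b001),(nat_lit 0x2ce4001),(nat_lit 0x909d001)],[(nat_lit 0xee9001),(nat_lit 0x2d46001),(nat_lit 0xee8001),(nat_lit 0x2d4c001),(nat_lit 0xeea001),(nat_lit 0x2d08001),(nat_lit 0x2dc7001)],[(nat_lit 0x18b11090d0002),(nat_lit 0x1897f090d1002),(nat_lit 0x90d2001),(nat_lit 0x90d3001),(nat_lit 0x90d4001),(nat_lit 0x18b26090d5002),(nat_lit 0x2d01001)],[(nat_lit 0x17ac00ee2002),(nat_lit 0x16e7001),(nat_lit 0xee1001),(nat_lit 0x16e2001),(nat_lit 0x29aa001),(nat_lit 0x18a8001),(nat_lit 0x2db9001)],[(nat_lit 0xed2001),(nat_lit 0x29ae001),(nat_lit 0x29ad001),(nat_lit 0x2ca4001),(nat_lit 0xed1001),(nat_lit 0x2d03001),(nat_lit 0x2d74001)],[(nat_lit 0x18ddd090d6002),(nat_lit 0x172df090d7002),(nat_lit 0x18d93090d8002),(nat_lit 0x172e1090d9002),(nat_lit 0x18d94090da002),(nat_lit 0x18dec090db002),(nat_lit 0x2d02001)],[(nat_lit 0xeec001),(nat_lit 0x2ca8001),(nat_lit 0x2d82001),(nat_lit 0xeeb001),(nat_lit 0x2ca7001),(nat_lit 0x2d0b001),(nat_lit 0x2ded001)],[(nat_lit 0xeee001),(nat_lit 0x232a001),(nat_lit 0x2d0a001),(nat_lit 0x2d0e001),(nat_lit 0x2329001),(nat_lit 0xeed001),(nat_lit 0x2d90002df1002)],[(nat_lit 0x5b4ec090dd002),(nat_lit 0x90de001),(nat_lit 0x5b4f4090df002),(nat_lit 0x5b424090e0002),(nat_lit 0x5b4f5090e1002),(nat_lit 0x5b4f6090e2002),(nat_lit 0x2d07001)],[(nat_lit 0x9af15153aa002),(nat_lit 0x1780104e57002),(nat_lit 0x15ba5154c1002),(nat_lit 0x4e56001),(nat_lit 0x1785a153bf002),(nat_lit 0x18992151d3002),(nat_lit 0x17a79154c2002)],[(nat_lit 0x2d30001),(nat_lit 0x188a1092ca002),(nat_lit 0x188a202d2f002),(nat_lit 0x922c001),(nat_lit 0x90b6001),(nat_lit 0x188a4090b9002),(nat_lit 0x92cb001)],[(nat_lit 0x2d34001),(nat_lit 0x188fc0921f002),(nat_lit 0x90b8001),(nat_lit 0x9242001),(nat_lit 0x188a202d33002),(nat_lit 0x9244001),(nat_lit 0x92cc001)],[(nat_lit 0x2d28001),(nat_lit 0x8704001),(nat_lit 0x2ccb001),(nat_lit 0x2cca001),(nat_lit 0x9089001),(nat_lit 0x2ccd001),(nat_lit 0x908b001)],[(nat_lit 0x909c001),(nat_lit 0x9044001),(nat_lit 0x908a001),(nat_lit 0x90f3001),(nat_lit 0x903c001),(nat_lit 0x2c88e001),(nat_lit 0xc09972c890002)],[(nat_lit 0x9dd41160f6002),(nat_lit 0x52e9f050f6002),(nat_lit 0x9b7031617e002),(nat_lit 0x9a370050f5002),(nat_lit 0x9b70416109002),(nat_lit 0x9b70515ee5002),(nat_lit 0x9b7061617f002)],[(nat_lit 0x2d4d001),(nat_lit 0x2d4f001),(nat_lit 0x90f1001),(nat_lit 0x2d10001),(nat_lit 0x90f2001),(nat_lit 0x2d50001),(nat_lit 0x90f4001)],[(nat_lit 0x2d09001),(nat_lit 0x232c001),(nat_lit 0xef0001),(nat_lit 0x2d51001),(nat_lit 0x232e001),(nat_lit 0xeef001),(nat_lit 0x2df2001)],[(nat_lit 0x622ff090f5002),(nat_lit 0xad415090f6002),(nat_lit 0x90f7001),(nat_lit 0x90f8001),(nat_lit 0x90f9001),(nat_lit 0x6230c090fa002),(nat_lit 0x2d11001)],[(nat_lit 0x18984099bb002),(nat_lit 0x903f001),(nat_lit 0x18f8b001),(nat_lit 0x9188001),(nat_lit 0x918b001),(nat_lit 0x18a320918d002),(nat_lit 0x1a15918b06002)],[(nat_lit 0x18a2909183002),(nat_lit 0x25b77001),(nat_lit 0x9040001),(nat_lit 0x18a2509108002),(nat_lit 0x918e001),(nat_lit 0x18aae09190002),(nat_lit 0x1b130001)],[(nat_lit 0x18a1709185002),(nat_lit 0x9189001),(nat_lit 0x5738001),(nat_lit 0x5737001),(nat_lit 0x19e5f001),(nat_lit 0x18a1909191002),(nat_lit 0x1745b001)],[(nat_lit 0x18a2e09187002),(nat_lit 0x918c001),(nat_lit 0x918f001),(nat_lit 0x1a3dd001),(nat_lit 0x9041001),(nat_lit 0x2c89a001),(nat_lit 0x2c89b001)],[(nat_lit 0x29ab001),(nat_lit 0x173b001),(nat_lit 0xee4001),(nat_lit 0x29a3001),(nat_lit 0x17ac00ee3002),(nat_lit 0x2cdc001),(nat_lit 0x2dbd001)],[(nat_lit 0x18edb0833b002),(nat_lit 0x833c001),(nat_lit 0x83f5001),(nat_lit 0x18421083f6002),(nat_lit 0x83f7001),(nat_lit 0x18ede083f8002),(nat_lit 0x29a9001)],[(nat_lit 0x2ca5001),(nat_lit 0xedc001),(nat_lit 0x2d85001),(nat_lit 0xedb001),(nat_lit 0xedd001),(nat_lit 0x2d13001),(nat_lit 0x2db3001)],[(nat_lit 0x2d04001),(nat_lit 0x23cb001),(nat_lit 0x2cde001),(nat_lit 0x2d15001),(nat_lit 0x23cc001),(nat_lit 0x23ca001),(nat_lit 0x691c001)],[(nat_lit 0x2043c090fb002),(nat_lit 0x90fc001),(nat_lit 0x90fd001),(nat_lit 0x90fe001),(nat_lit 0x90ff001),(nat_lit 0x20a3109100002),(nat_lit 0x2d12001)],[(nat_lit 0x93e5001),(nat_lit 0x2d6f001),(nat_lit 0x2134b093e6002),(nat_lit 0x2d9b001),(nat_lit 0x2d9d001),(nat_lit 0x2d9f001),(nat_lit 0x93e7001)],[(nat_lit 0x2d94001),(nat_lit 0x93eb001),(nat_lit 0x2d70001),(nat_lit 0x93ec001),(nat_lit 0x2da1001),(nat_lit 0x2da3001),(nat_lit 0x93ed001)],[(nat_lit 0x18d5f02d96002),(nat_lit 0x2d9c001),(nat_lit 0x18d5e093ee002),(nat_lit 0x2d71001),(nat_lit 0x18d88093ef002),(nat_lit 0x2da5001),(nat_lit 0x183db093f0002)],[(nat_lit 0x2d98001),(nat_lit 0x2d9e001),(nat_lit 0x2da2001),(nat_lit 0x93f1001),(nat_lit 0x2d72001),(nat_lit 0x93f2001),(nat_lit 0x93f3001)],[(nat_lit 0x2d83001),(nat_lit 0x2fa6001),(nat_lit 0x2d68001),(nat_lit 0x93c7001),(nat_lit 0x2d84001),(nat_lit 0x2d86001),(nat_lit 0x93c8001)],[(nat_lit 0x5d3d8093c9002),(nat_lit 0x93ca001),(nat_lit 0x93cb001),(nat_lit 0x93cc001),(nat_lit 0x93cd001),(nat_lit 0x5d3ed093ce002),(nat_lit 0x2d69001)],[(nat_lit 0x5b5b4093cf002),(nat_lit 0x5b50d093d0002),(nat_lit 0x5b42a093d1002),(nat_lit 0x5b4ed093d2002),(nat_lit 0x93d3001),(nat_lit 0x5b58a093d4002),(nat_lit 0x2d6a001)],[(nat_lit 0x9600001),(nat_lit 0x2dc2001),(nat_lit 0x9601001),(nat_lit 0x2ddb001),(nat_lit 0x2ddd001),(nat_lit 0x2ddf001),(nat_lit 0x9602001)],[(nat_lit 0x2dd4001),(nat_lit 0x9606001),(nat_lit 0x2dc3001),(nat_lit 0xab3ac09607002),(nat_lit 0x2de1001),(nat_lit 0x2de3001),(nat_lit 0x9608001)],[(nat_lit 0x2dd6001),(nat_lit 0x2ddc001),(nat_lit 0x9609001),(nat_lit 0x2dc4001),(nat_lit 0x960a001),(nat_lit 0x2de5001),(nat_lit 0xab5840960b002)],[(nat_lit 0x2dd8001),(nat_lit 0x2dde001),(nat_lit 0x2de2001),(nat_lit 0x960c001),(nat_lit 0x2dc5001),(nat_lit 0x960d001),(nat_lit 0x960e001)],[(nat_lit 0x99fe015b59002),(nat_lit 0x7ef1d15b5a002),(nat_lit 0x7eef015b5b002),(nat_lit 0x7ee2b15b5c002),(nat_lit 0x99fe415b5d002),(nat_lit 0x7ef9e15b5e002),(nat_lit 0x4fb7001)],[(nat_lit 0x99fe209221002),(nat_lit 0x9119001),(nat_lit 0x90c0001),(nat_lit 0x99fed2c971002),(nat_lit 0x9228001),(nat_lit 0x99fb20922a002),(nat_lit 0x27db5001)],[(nat_lit 0x99fe309223002),(nat_lit 0x2d38001),(nat_lit 0x92cd001),(nat_lit 0x2d37001),(nat_lit 0x923c001),(nat_lit 0x1890d090c2002),(nat_lit 0x92ce001)],[(nat_lit 0x9225001),(nat_lit 0x2d3a001),(nat_lit 0x9229001),(nat_lit 0x9246001),(nat_lit 0x2d39001),(nat_lit 0x9248001),(nat_lit 0x92cf001)],[(nat_lit 0x1cdc001),(nat_lit 0x45b4001),(nat_lit 0x9991904f9d002),(nat_lit 0x4fa0001),(nat_lit 0x4dd8001),(nat_lit 0x1cdb001),(nat_lit 0x99a6e05129002)],[(nat_lit 0x946f001),(nat_lit 0x90c5001),(nat_lit 0x911a001),(nat_lit 0x922e001),(nat_lit 0x9231001),(nat_lit 0x9233001),(nat_lit 0x214a617224002)],[(nat_lit 0x922d001),(nat_lit 0x922f001),(nat_lit 0x188a90913d002),(nat_lit 0x90c6001),(nat_lit 0x203c419a71002),(nat_lit 0x9235001),(nat_lit 0x1baf4001)],[(nat_lit 0x90b7001),(nat_lit 0x9232001),(nat_lit 0x2d3e001),(nat_lit 0x203fe092d1002),(nat_lit 0x2d3d001),(nat_lit 0x924a001),(nat_lit 0x92d2001)],[(nat_lit 0x1a3b2001),(nat_lit 0x19743001),(nat_lit 0x19741001),(nat_lit 0x19c45001),(nat_lit 0x652172c978002),(nat_lit 0x1a3a3001),(nat_lit 0x90c7001)],[(nat_lit 0x4e4f001),(nat_lit 0x154be001),(nat_lit 0x188fe04e4e002),(nat_lit 0x18910153b3002),(nat_lit 0x18954151c8002),(nat_lit 0x18958151cb002),(nat_lit 0xa63a2154bf002)],[(nat_lit 0x4e53001),(nat_lit 0x1894e153a4002),(nat_lit 0x18954151ca002),(nat_lit 0x18913153c2002),(nat_lit 0x188fe04e52002),(nat_lit 0x153c4001),(nat_lit 0xa88a9154c0002)],[(nat_lit 0x9243001),(nat_lit 0x9247001),(nat_lit 0x2c97b001),(nat_lit 0x90cb001),(nat_lit 0x911c001),(nat_lit 0x924c001),(nat_lit 0xa73e22c97c002)],[(nat_lit 0x9245001),(nat_lit 0x9249001),(nat_lit 0x924b001),(nat_lit 0x924d001),(nat_lit 0x911d001),(nat_lit 0x90cc001),(nat_lit 0x2c981001)],[(nat_lit 0xa67e02c989002),(nat_lit 0xa73e42c98a002),(nat_lit 0xa73e52c98b002),(nat_lit 0x2c98c001),(nat_lit 0xa73e72c98d002),(nat_lit 0xa74c32c98e002),(nat_lit 0x90cd001)],[(nat_lit 0x17f2001),(nat_lit 0x17f3001),(nat_lit 0x17f4001),(nat_lit 0x17f1001),(nat_lit 0x17f7001),(nat_lit 0x17f5001),(nat_lit 0x17f6001)],[(nat_lit 0x1864001),(nat_lit 0x1865001),(nat_lit 0x1866001),(nat_lit 0x1dda001),(nat_lit 0x1863001),(nat_lit 0x2c58001),(nat_lit 0x25df001)],[(nat_lit 0x1eb0001),(nat_lit 0x58e4001),(nat_lit 0x1eae001),(nat_lit 0x1eaf001),(nat_lit 0x2f77001),(nat_lit 0x1eb1001),(nat_lit 0x1ead001)],[(nat_lit 0x2bde001),(nat_lit 0x2d14001),(nat_lit 0x2bee001),(nat_lit 0x2bdf001),(nat_lit 0x2c02001),(nat_lit 0x2bdd001),(nat_lit 0xa7cb70593c002)],[(nat_lit 0xb0a001),(nat_lit 0x1b13001),(nat_lit 0x1e94001),(nat_lit 0xb0b001),(nat_lit 0x1c23001),(nat_lit 0xb09001),(nat_lit 0x238f001)],[(nat_lit 0x1da7001),(nat_lit 0xb08001),(nat_lit 0x23e2001),(nat_lit 0xb07001),(nat_lit 0x1d80001),(nat_lit 0x1b14001),(nat_lit 0x23e3001)],[(nat_lit 0x1ea4001),(nat_lit 0x587e001),(nat_lit 0x1ea6001),(nat_lit 0x1ea3001),(nat_lit 0x236d001),(nat_lit 0x1ea7001),(nat_lit 0x1ea5001)],[(nat_lit 0x1d38001),(nat_lit 0x1d7f001),(nat_lit 0x236f001),(nat_lit 0x1d37001),(nat_lit 0x1d39001),(nat_lit 0x4ef3001),(nat_lit 0x52cc001)],[(nat_lit 0xabfd009332002),(nat_lit 0xab26d02d7a002),(nat_lit 0xad62309334002),(nat_lit 0xac0b2092c1002),(nat_lit 0xabf4d093fc002),(nat_lit 0xaa57902d79002),(nat_lit 0xaca2e093fd002)],[(nat_lit 0x1b61f092bc002),(nat_lit 0xac0b2092c0002),(nat_lit 0xab1b009340002),(nat_lit 0xab26d02d7c002),(nat_lit 0xa9a41093fe002),(nat_lit 0x2d7b001),(nat_lit 0xaa5b0093ff002)],[(nat_lit 0x1ee4001),(nat_lit 0x57a8001),(nat_lit 0x1ee5001),(nat_lit 0xab21d059b0002),(nat_lit 0x1ee3001),(nat_lit 0x2382001),(nat_lit 0xaa5f0059b3002)],[(nat_lit 0x68b9001),(nat_lit 0x68ba001),(nat_lit 0x68d3001),(nat_lit 0x69a7001),(nat_lit 0x68b8001),(nat_lit 0x69ab001),(nat_lit 0xac5eb1f7e9002)],[(nat_lit 0x68d2001),(nat_lit 0x2416001),(nat_lit 0x2417001),(nat_lit 0x5898001),(nat_lit 0x2418001),(nat_lit 0x5745001),(nat_lit 0x6a46001)],[(nat_lit 0xabff909330002),(nat_lit 0x2d5d001),(nat_lit 0x93b1001),(nat_lit 0xaa57902d5c002),(nat_lit 0xaa5c00933b002),(nat_lit 0xac0b2092bf002),(nat_lit 0x93b2001)],[(nat_lit 0x67da001),(nat_lit 0x237e001),(nat_lit 0x2391001),(nat_lit 0x237f001),(nat_lit 0x23d2001),(nat_lit 0x2380001),(nat_lit 0x67de001)],[(nat_lit 0xacfef1f858002),(nat_lit 0xacff01f859002),(nat_lit 0xacff11f85a002),(nat_lit 0xacff21f85b002),(nat_lit 0xacff31f85c002),(nat_lit 0xacff41f85d002),(nat_lit 0x691f001)],[(nat_lit 0x1b63f0977e002),(nat_lit 0xab2220977f002),(nat_lit 0xab22309780002),(nat_lit 0xaa5c809781002),(nat_lit 0xab29609782002),(nat_lit 0x1b68609783002),(nat_lit 0x2e0d001)],[(nat_lit 0x574a001),(nat_lit 0x67a2001),(nat_lit 0xab29f19ae3002),(nat_lit 0x574b001),(nat_lit 0xaa57a05749002),(nat_lit 0x5e1d001),(nat_lit 0x143c5001)],[(nat_lit 0x67ea067df002),(nat_lit 0x6a9f067f3002),(nat_lit 0xa7cb705933002),(nat_lit 0xa7cb505935002),(nat_lit 0x5939001),(nat_lit 0xa7cb5067eb002),(nat_lit 0x2381001)],[(nat_lit 0x3039001),(nat_lit 0x3066001),(nat_lit 0x3071001),(nat_lit 0x3038001),(nat_lit 0x31a0001),(nat_lit 0x303a001),(nat_lit 0x33db001)],[(nat_lit 0x319d001),(nat_lit 0x10de001),(nat_lit 0x1a1e001),(nat_lit 0x248c001),(nat_lit 0x10dd001),(nat_lit 0x248f001),(nat_lit 0x32f9001)],[(nat_lit 0x10ef001),(nat_lit 0x248d001),(nat_lit 0x32f2001),(nat_lit 0x10d5001),(nat_lit 0x10d6001),(nat_lit 0x2492001),(nat_lit 0x32f4001)],[(nat_lit 0x2451001),(nat_lit 0x2490001),(nat_lit 0x2452001),(nat_lit 0x2494001),(nat_lit 0x2453001),(nat_lit 0x2450001),(nat_lit 0x20b9706a8f002)],[(nat_lit 0xf8fe06b62002),(nat_lit 0x20b8f06b63002),(nat_lit 0xc40006b64002),(nat_lit 0x20b9006b65002),(nat_lit 0xb132106b66002),(nat_lit 0x20b8d06b67002),(nat_lit 0x248b001)],[(nat_lit 0x3008001),(nat_lit 0x3009001),(nat_lit 0x305f001),(nat_lit 0x3068001),(nat_lit 0x306e001),(nat_lit 0x300a001),(nat_lit 0x337f001)],[(nat_lit 0x315d001),(nat_lit 0x319e001),(nat_lit 0x315e001),(nat_lit 0x3347001),(nat_lit 0x315c001),(nat_lit 0x336f001),(nat_lit 0xa75f001)],[(nat_lit 0x3060001),(nat_lit 0x10c9001),(nat_lit 0x10ca001),(nat_lit 0x13db001),(nat_lit 0x10ed001),(nat_lit 0x10cb001),(nat_lit 0x2ffc001)],[(nat_lit 0x306c001),(nat_lit 0x10e0001),(nat_lit 0x10ec001),(nat_lit 0x1949001),(nat_lit 0x10df001),(nat_lit 0x194b001),(nat_lit 0x3304001)],[(nat_lit 0x3345001),(nat_lit 0x2456001),(nat_lit 0x4559001),(nat_lit 0x2455001),(nat_lit 0x2457001),(nat_lit 0x336b001),(nat_lit 0x6a96001)],[(nat_lit 0x3370001),(nat_lit 0x2459001),(nat_lit 0x245a001),(nat_lit 0x336d001),(nat_lit 0x245b001),(nat_lit 0x2458001),(nat_lit 0x6b34001)],[(nat_lit 0x31fe00b4be002),(nat_lit 0xb4bf001),(nat_lit 0x31fda0b4c0002),(nat_lit 0xb4c1001),(nat_lit 0xb4c2001),(nat_lit 0x31fe80b4c3002),(nat_lit 0x336e001)],[(nat_lit 0x2528001),(nat_lit 0x24db001),(nat_lit 0x2526001),(nat_lit 0x25cb001),(nat_lit 0x24da001),(nat_lit 0x25cd001),(nat_lit 0x6bb6001)],[(nat_lit 0x10e2001),(nat_lit 0x194a001),(nat_lit 0x3305001),(nat_lit 0x10e1001),(nat_lit 0x10f0001),(nat_lit 0x194e001),(nat_lit 0x3307001)],[(nat_lit 0x10bd001),(nat_lit 0x194c001),(nat_lit 0x10be001),(nat_lit 0x1950001),(nat_lit 0x10bf001),(nat_lit 0x10bc001),(nat_lit 0xf64f032d2002)],[(nat_lit 0xf5ec044cb002),(nat_lit 0x44cc001),(nat_lit 0xd9ce044cd002),(nat_lit 0xf5ee044ce002),(nat_lit 0xf5ef044cf002),(nat_lit 0xd9d0044d0002),(nat_lit 0x1948001)],[(nat_lit 0x334a001),(nat_lit 0xb486001),(nat_lit 0x3349001),(nat_lit 0x467e001),(nat_lit 0x334b001),(nat_lit 0x33a9001),(nat_lit 0xc1df0b488002)],[(nat_lit 0x2493001),(nat_lit 0x336c001),(nat_lit 0x33ab001),(nat_lit 0x245d001),(nat_lit 0x33a1001),(nat_lit 0x245c001),(nat_lit 0x6b35001)],[(nat_lit 0xf5fe0b4b4002),(nat_lit 0xf82e0b4b5002),(nat_lit 0xda1e0b4b6002),(nat_lit 0x9ae050b4b7002),(nat_lit 0xf6410b4b8002),(nat_lit 0xf6420b4b9002),(nat_lit 0x336a001)],[(nat_lit 0x5080001),(nat_lit 0x20b8109963002),(nat_lit 0x134eb001),(nat_lit 0x5081001),(nat_lit 0x524e001),(nat_lit 0x507f001),(nat_lit 0x15e96001)],[(nat_lit 0x2ea5001),(nat_lit 0x47c3001),(nat_lit 0x9960001),(nat_lit 0x20b8109964002),(nat_lit 0x4950001),(nat_lit 0x2ea4001),(nat_lit 0x9ac4001)],[(nat_lit 0xbb7f406b25002),(nat_lit 0x20cc606b29002),(nat_lit 0x6b2d001),(nat_lit 0x9ae38103f1002),(nat_lit 0x6a94001),(nat_lit 0x99ff11fb81002),(nat_lit 0x1ffea001)],[(nat_lit 0x1d5f001),(nat_lit 0x1d60001),(nat_lit 0x1dc3001),(nat_lit 0x1d5e001),(nat_lit 0x1d8c001),(nat_lit 0x1d90001),(nat_lit 0x18b7a052f1002)],[(nat_lit 0x1d62001),(nat_lit 0x1d63001),(nat_lit 0x1d6e001),(nat_lit 0x1d93001),(nat_lit 0x1d95001),(nat_lit 0x1d61001),(nat_lit 0x1718b052f2002)],[(nat_lit 0x18178168d9002),(nat_lit 0x18170168da002),(nat_lit 0x18175168db002),(nat_lit 0x18141168dc002),(nat_lit 0x18179168dd002),(nat_lit 0x1816e168de002),(nat_lit 0x5229001)],[(nat_lit 0x1dc4001),(nat_lit 0x1dbd001),(nat_lit 0x1d8a001),(nat_lit 0x537f001),(nat_lit 0x1dc5001),(nat_lit 0x1dc7001),(nat_lit 0x5380001)],[(nat_lit 0x1d8d001),(nat_lit 0x1b43001),(nat_lit 0x1dc6001),(nat_lit 0x1d13001),(nat_lit 0x1b42001),(nat_lit 0x4b33001),(nat_lit 0x4b73001)],[(nat_lit 0x1925605381002),(nat_lit 0x5382001),(nat_lit 0x5383001),(nat_lit 0x1823f05384002),(nat_lit 0x5385001),(nat_lit 0x1925005386002),(nat_lit 0x1d8b001)],[(nat_lit 0x1d96001),(nat_lit 0x8e2001),(nat_lit 0xad6001),(nat_lit 0x1b12001),(nat_lit 0x8e1001),(nat_lit 0x8e3001),(nat_lit 0x1de0001)],[(nat_lit 0x181400538c002),(nat_lit 0x9b6790538d002),(nat_lit 0x181420538e002),(nat_lit 0x181140538f002),(nat_lit 0x5390001),(nat_lit 0x1814405391002),(nat_lit 0x1d94001)],[(nat_lit 0x517a20513d002),(nat_lit 0x9b63e0513e002),(nat_lit 0x4b3b10513f002),(nat_lit 0x5140001),(nat_lit 0x5141001),(nat_lit 0x517a305142002),(nat_lit 0x1ceb001)],[(nat_lit 0x119ef1166f002),(nat_lit 0x422e001),(nat_lit 0x119f011709002),(nat_lit 0x422d001),(nat_lit 0x119f11170a002),(nat_lit 0x119f211678002),(nat_lit 0x1170c001)],[(nat_lit 0x9d17416472002),(nat_lit 0x51e5001),(nat_lit 0x9d17516554002),(nat_lit 0x9b63e051e4002),(nat_lit 0x9d17616487002),(nat_lit 0x9c84416230002),(nat_lit 0x9d17716555002)],[(nat_lit 0x9dba616474002),(nat_lit 0x51e7001),(nat_lit 0x9dba816478002),(nat_lit 0x1648f001),(nat_lit 0x9b63e051e6002),(nat_lit 0x16491001),(nat_lit 0x16556001)],[(nat_lit 0x4ac8001),(nat_lit 0x4b34001),(nat_lit 0x4ac9001),(nat_lit 0x4aea001),(nat_lit 0x4b12001),(nat_lit 0x4ac7001),(nat_lit 0xaa544142ce002)],[(nat_lit 0x1f63001),(nat_lit 0x1f6f001),(nat_lit 0x2364001),(nat_lit 0x1f64001),(nat_lit 0x1f62001),(nat_lit 0x1f65001),(nat_lit 0xa99ae05c7c002)],[(nat_lit 0x678f001),(nat_lit 0x2361001),(nat_lit 0x4018001),(nat_lit 0x237f001),(nat_lit 0x2395001),(nat_lit 0x2360001),(nat_lit 0x67a0001)],[(nat_lit 0x2363001),(nat_lit 0x2396001),(nat_lit 0x2364001),(nat_lit 0x574b001),(nat_lit 0x2365001),(nat_lit 0x2362001),(nat_lit 0xa99c2067a5002)],[(nat_lit 0x1d2c001),(nat_lit 0x1d2d001),(nat_lit 0x1d2e001),(nat_lit 0x1de6001),(nat_lit 0x1d2b001),(nat_lit 0x1e15001),(nat_lit 0x523e001)],[(nat_lit 0x1de7001),(nat_lit 0x16f3001),(nat_lit 0x1fa6001),(nat_lit 0x16f2001),(nat_lit 0x16f4001),(nat_lit 0x1e19001),(nat_lit 0x3feb001)],[(nat_lit 0x1e16001),(nat_lit 0x1dca001),(nat_lit 0x1dcb001),(nat_lit 0x1e1b001),(nat_lit 0x1e01001),(nat_lit 0x1dc9001),(nat_lit 0x5484001)],[(nat_lit 0x2056905495002),(nat_lit 0x5496001),(nat_lit 0x5497001),(nat_lit 0x5498001),(nat_lit 0x5499001),(nat_lit 0x2055b0549a002),(nat_lit 0x1de5001)],[(nat_lit 0x2139405a62002),(nat_lit 0x18e5b01f22002),(nat_lit 0x2139105a66002),(nat_lit 0x18e3c059da002),(nat_lit 0x2145d05a84002),(nat_lit 0x1f21001),(nat_lit 0x5bad001)],[(nat_lit 0x18e56059d0002),(nat_lit 0x5a6e001),(nat_lit 0x18e5b01f26002),(nat_lit 0x5a70001),(nat_lit 0x2148505a85002),(nat_lit 0x1f25001),(nat_lit 0x5bb6001)],[(nat_lit 0x2b1e001),(nat_lit 0x2b1c001),(nat_lit 0x3bf3001),(nat_lit 0x2b1b001),(nat_lit 0x213e003ca8002),(nat_lit 0x2b1d001),(nat_lit 0x8a4c001)],[(nat_lit 0x1b0a001),(nat_lit 0x4a17001),(nat_lit 0x1b09001),(nat_lit 0x4969001),(nat_lit 0x4912001),(nat_lit 0x1b0b001),(nat_lit 0x4a1b001)],[(nat_lit 0x1b0d001),(nat_lit 0x1b0e001),(nat_lit 0x4910001),(nat_lit 0x4913001),(nat_lit 0x1b0c001),(nat_lit 0x4917001),(nat_lit 0x4a1c001)],[(nat_lit 0x496a001),(nat_lit 0x4936001),(nat_lit 0x496f001),(nat_lit 0x4935001),(nat_lit 0x13c73001),(nat_lit 0x4937001),(nat_lit 0x1783f13c75002)],[(nat_lit 0x4911001),(nat_lit 0x1af6001),(nat_lit 0x1af7001),(nat_lit 0x49e6001),(nat_lit 0x1af8001),(nat_lit 0x491b001),(nat_lit 0x49e8001)],[(nat_lit 0x18e4a13c76002),(nat_lit 0x13c77001),(nat_lit 0x18e5713c78002),(nat_lit 0x183ab13c79002),(nat_lit 0x13c7a001),(nat_lit 0x18dfe13c7b002),(nat_lit 0x4938001)],[(nat_lit 0x4914001),(nat_lit 0x1b3b001),(nat_lit 0x4b68001),(nat_lit 0x1b3a001),(nat_lit 0x1b60001),(nat_lit 0x491f001),(nat_lit 0x4b69001)],[(nat_lit 0x4918001),(nat_lit 0x1b32001),(nat_lit 0x491d001),(nat_lit 0x4921001),(nat_lit 0x1b31001),(nat_lit 0x1b33001),(nat_lit 0x4b60001)],[(nat_lit 0x625a613c31002),(nat_lit 0x13c32001),(nat_lit 0x13c33001),(nat_lit 0xa8fe813c34002),(nat_lit 0x13c35001),(nat_lit 0x6254713c36002),(nat_lit 0x490f001)],[(nat_lit 0x172bb13cd9002),(nat_lit 0x18e820499a002),(nat_lit 0x13cdb001),(nat_lit 0x2149913c5e002),(nat_lit 0x18ed713cdd002),(nat_lit 0x4999001),(nat_lit 0x13cde001)],[(nat_lit 0x18e2013c58002),(nat_lit 0x13ce5001),(nat_lit 0x18e820499e002),(nat_lit 0x13ce7001),(nat_lit 0x18e7213ce9002),(nat_lit 0x499d001),(nat_lit 0x13cea001)],[(nat_lit 0x4a9d001),(nat_lit 0x4aa3001),(nat_lit 0x4aa7001),(nat_lit 0x18e8913f75002),(nat_lit 0x4a15001),(nat_lit 0x2154413f76002),(nat_lit 0x13f77001)],[(nat_lit 0x4ab2001),(nat_lit 0xa7cdf1428e002),(nat_lit 0x4ab1001),(nat_lit 0xa861304b0e002),(nat_lit 0x4aee001),(nat_lit 0xa861304b0d002),(nat_lit 0xa860b1428f002)],[(nat_lit 0x1b3d001),(nat_lit 0x4920001),(nat_lit 0xa861304b0c002),(nat_lit 0x1b3e001),(nat_lit 0x1b3f001),(nat_lit 0x1b3c001),(nat_lit 0xa860204b6a002)],[(nat_lit 0x4a18001),(nat_lit 0x49bb001),(nat_lit 0x49bc001),(nat_lit 0x4a4a001),(nat_lit 0x4a0d001),(nat_lit 0x4a1a001),(nat_lit 0x13d1c001)],[(nat_lit 0x496d001),(nat_lit 0x4a4b001),(nat_lit 0x496f001),(nat_lit 0x496c001),(nat_lit 0x13ca7001),(nat_lit 0x496e001),(nat_lit 0x177c313caa002)],[(nat_lit 0x1b06001),(nat_lit 0x4a0b001),(nat_lit 0x1b05001),(nat_lit 0x4a0e001),(nat_lit 0x1b07001),(nat_lit 0x49c0001),(nat_lit 0x4a10001)],[(nat_lit 0x18e4813d1d002),(nat_lit 0x18e4613d1e002),(nat_lit 0x18e4913d1f002),(nat_lit 0x1840c13d20002),(nat_lit 0x2140a13d21002),(nat_lit 0x1967313d22002),(nat_lit 0x49bd001)],[(nat_lit 0x1b35001),(nat_lit 0x1b36001),(nat_lit 0x49c2001),(nat_lit 0x1b37001),(nat_lit 0x491a001),(nat_lit 0x1b34001),(nat_lit 0x4a03c04b61002)],[(nat_lit 0x5db1d13d27002),(nat_lit 0x13d28001),(nat_lit 0x5dc1013d29002),(nat_lit 0x5daa013d2a002),(nat_lit 0x5dc6813d2b002),(nat_lit 0x5dc0e13d2c002),(nat_lit 0x49bf001)],[(nat_lit 0x18e9f16b52002),(nat_lit 0x18e6c052bd002),(nat_lit 0x18e12169d1002),(nat_lit 0x18e6d052bc002),(nat_lit 0x18ea416b5d002),(nat_lit 0x18e6f16915002),(nat_lit 0x2141416c3d002)],[(nat_lit 0x498e001),(nat_lit 0x18dcb13cbf002),(nat_lit 0x172a10498d002),(nat_lit 0x13cc0001),(nat_lit 0x203f713c54002),(nat_lit 0x18e2013c57002),(nat_lit 0x13cc2001)],[(nat_lit 0x4992001),(nat_lit 0x172c713cc5002),(nat_lit 0x203f713c56002),(nat_lit 0x2148b13cc7002),(nat_lit 0x172a104991002),(nat_lit 0x2148c13cc8002),(nat_lit 0x13cc9001)],[(nat_lit 0x496a001),(nat_lit 0x4aae001),(nat_lit 0x496b001),(nat_lit 0x4969001),(nat_lit 0x13ca3001),(nat_lit 0x496e001),(nat_lit 0x173fc13ca6002)],[(nat_lit 0x13ca8001),(nat_lit 0x13c74001),(nat_lit 0x13ca5001),(nat_lit 0x13d34001),(nat_lit 0x13c4b001),(nat_lit 0x49f0a001),(nat_lit 0xb24a149f0b002)],[(nat_lit 0x55bb001),(nat_lit 0x1896e18857002),(nat_lit 0x55e9001),(nat_lit 0x1896d055ba002),(nat_lit 0x194eb001),(nat_lit 0x55bc001),(nat_lit 0x1896f001)],[(nat_lit 0x4a0f001),(nat_lit 0x49e7001),(nat_lit 0x13d32001),(nat_lit 0x49c4001),(nat_lit 0x13d33001),(nat_lit 0x4a50001),(nat_lit 0x13d35001)],[(nat_lit 0x49c1001),(nat_lit 0x491c001),(nat_lit 0x1b39001),(nat_lit 0x4a51001),(nat_lit 0x491e001),(nat_lit 0x1b38001),(nat_lit 0x4b62001)],[(nat_lit 0x5d41e13d36002),(nat_lit 0x13d37001),(nat_lit 0x13d38001),(nat_lit 0x13d39001),(nat_lit 0x13d3a001),(nat_lit 0x5d40313d3b002),(nat_lit 0x49c5001)],[(nat_lit 0x18e52146d3002),(nat_lit 0x13c4e001),(nat_lit 0x1727d001),(nat_lit 0x13dcc001),(nat_lit 0x13dce001),(nat_lit 0x18e5313dd0002),(nat_lit 0x18afa001)],[(nat_lit 0x5b8d001),(nat_lit 0x2140718e54002),(nat_lit 0x1728a05bdb002),(nat_lit 0x18e5605b8e002),(nat_lit 0x214091729a002),(nat_lit 0x5b8c001),(nat_lit 0x19755001)],[(nat_lit 0x18dfc17287002),(nat_lit 0x17288001),(nat_lit 0x5a0c001),(nat_lit 0x1728a05bdc002),(nat_lit 0x19535001),(nat_lit 0x18dff1728b002),(nat_lit 0x5630001)],[(nat_lit 0x1287f001),(nat_lit 0x21486001),(nat_lit 0x1287e001),(nat_lit 0x21487001),(nat_lit 0x21488001),(nat_lit 0x21918001),(nat_lit 0xabf12469cf002)],[(nat_lit 0x5dde113f12002),(nat_lit 0x5dc8c13f13002),(nat_lit 0x5daac13f14002),(nat_lit 0x5db1c13f15002),(nat_lit 0x13f16001),(nat_lit 0x5dc8e13f17002),(nat_lit 0x49ed001)],[(nat_lit 0x13f54001),(nat_lit 0x4a06001),(nat_lit 0x13f55001),(nat_lit 0x4a84001),(nat_lit 0x4a86001),(nat_lit 0x4a88001),(nat_lit 0x13f56001)],[(nat_lit 0x4a7d001),(nat_lit 0x13f5a001),(nat_lit 0x4a07001),(nat_lit 0x13f5b001),(nat_lit 0x4a8a001),(nat_lit 0x4a8c001),(nat_lit 0x13f5c001)],[(nat_lit 0x4a7f001),(nat_lit 0x4a85001),(nat_lit 0x13f5d001),(nat_lit 0x4a08001),(nat_lit 0x13f5e001),(nat_lit 0x4a8e001),(nat_lit 0x13f5f001)],[(nat_lit 0x4a81001),(nat_lit 0x4a87001),(nat_lit 0x4a8b001),(nat_lit 0x13f60001),(nat_lit 0x4a09001),(nat_lit 0x13f61001),(nat_lit 0x13f62001)],[(nat_lit 0x172be05bfa002),(nat_lit 0x5bfb001),(nat_lit 0x172d9001),(nat_lit 0x213bd05bfc002),(nat_lit 0x21424172da002),(nat_lit 0x5bfd001),(nat_lit 0x2bd951be4a002)],[(nat_lit 0x13ddb001),(nat_lit 0x13d63001),(nat_lit 0x13c5b001),(nat_lit 0x1a0ad001),(nat_lit 0x13cd4001),(nat_lit 0x13cdc001),(nat_lit 0x2b659001)],[(nat_lit 0x2277001),(nat_lit 0x21416064be002),(nat_lit 0x2276001),(nat_lit 0x214200652c002),(nat_lit 0x2278001),(nat_lit 0x3e67001),(nat_lit 0x658b001)],[(nat_lit 0x2142413cd1002),(nat_lit 0x4998001),(nat_lit 0x13cd3001),(nat_lit 0x214b313cd5002),(nat_lit 0x4997001),(nat_lit 0x214b413cd6002),(nat_lit 0x13cd8001)],[(nat_lit 0x2bd952212d002),(nat_lit 0x2283b001),(nat_lit 0x22127001),(nat_lit 0x2212b001),(nat_lit 0xa192c45bdb002),(nat_lit 0x22129001),(nat_lit 0x13c5c001)],[(nat_lit 0x15c22001),(nat_lit 0x13c5f001),(nat_lit 0x13d64001),(nat_lit 0x13dde001),(nat_lit 0x203f613ce0002),(nat_lit 0x13ce6001),(nat_lit 0x18fc5001)],[(nat_lit 0x172c0001),(nat_lit 0x172c1001),(nat_lit 0x5bde001),(nat_lit 0x1729e05bdd002),(nat_lit 0x2037d194e8002),(nat_lit 0x172c3001),(nat_lit 0x18ffd001)],[(nat_lit 0x203f713c55002),(nat_lit 0x203f613cdf002),(nat_lit 0x499c001),(nat_lit 0x203b613ce1002),(nat_lit 0x499b001),(nat_lit 0x203ef13ce2002),(nat_lit 0x13ce4001)],[(nat_lit 0x192de001),(nat_lit 0x18fbf001),(nat_lit 0x18fb9001),(nat_lit 0x18c91001),(nat_lit 0xa64d540212002),(nat_lit 0x192da001),(nat_lit 0x13c61001)],[(nat_lit 0x18e7e052b8002),(nat_lit 0x214cd16c3b002),(nat_lit 0x18ef9052b7002),(nat_lit 0x18e5516b55002),(nat_lit 0x2148e1690f002),(nat_lit 0x18f3e16910002),(nat_lit 0x16c3c001)],[(nat_lit 0x2b1e001),(nat_lit 0x29fd001),(nat_lit 0x29fe001),(nat_lit 0x3bcf001),(nat_lit 0x21416064bc002),(nat_lit 0x29ff001),(nat_lit 0x848a001)],[(nat_lit 0x3c6f001),(nat_lit 0x4508001),(nat_lit 0x8c30001),(nat_lit 0x2148a0848b002),(nat_lit 0x3c6e001),(nat_lit 0x8c33001),(nat_lit 0xe626001)],[(nat_lit 0xe460001),(nat_lit 0x1254d001),(nat_lit 0x21517001),(nat_lit 0xe45f001),(nat_lit 0xecc7001),(nat_lit 0x2148a0e461002),(nat_lit 0xaa7a43bffc002)],[(nat_lit 0x5b27249f10002),(nat_lit 0xab6d349f11002),(nat_lit 0x49f12001),(nat_lit 0xaa7a349f13002),(nat_lit 0x49f14001),(nat_lit 0xab6d549f15002),(nat_lit 0x13c69001)],[(nat_lit 0x2c2e001),(nat_lit 0x2c2f001),(nat_lit 0x2c79001),(nat_lit 0x2c2d001),(nat_lit 0x2c7b001),(nat_lit 0x2c7f001),(nat_lit 0x99def08f33002)],[(nat_lit 0x2c7a001),(nat_lit 0x1e02001),(nat_lit 0x1e03001),(nat_lit 0x546d001),(nat_lit 0x2c83001),(nat_lit 0x1e04001),(nat_lit 0x5518001)],[(nat_lit 0x2c7c001),(nat_lit 0x1d30001),(nat_lit 0x2c85001),(nat_lit 0x1d33001),(nat_lit 0x1d2f001),(nat_lit 0x4be7001),(nat_lit 0x523f001)],[(nat_lit 0x99b8c08f6b002),(nat_lit 0x9994008f6c002),(nat_lit 0x99b8d08f6d002),(nat_lit 0x18b6808f6e002),(nat_lit 0x99b8b08f6f002),(nat_lit 0x1ab2508f70002),(nat_lit 0x2c56001)],[(nat_lit 0x4b10001),(nat_lit 0x4be8001),(nat_lit 0x4b14001),(nat_lit 0x4bd7001),(nat_lit 0x4b0f001),(nat_lit 0x4b11001),(nat_lit 0xaa60214336002)],[(nat_lit 0x2376001),(nat_lit 0x23a9001),(nat_lit 0x23ac001),(nat_lit 0x2c04001),(nat_lit 0x2375001),(nat_lit 0x23ad001),(nat_lit 0xa8fc2067ca002)],[(nat_lit 0x2cef001),(nat_lit 0x53f3001),(nat_lit 0x2cee001),(nat_lit 0x5469001),(nat_lit 0x4b6e001),(nat_lit 0x2cf0001),(nat_lit 0x90a8001)],[(nat_lit 0x2c31001),(nat_lit 0x2c32001),(nat_lit 0x2c3c001),(nat_lit 0x2c82001),(nat_lit 0x2c87001),(nat_lit 0x2c30001),(nat_lit 0x13a7308f34002)],[(nat_lit 0x2cf2001),(nat_lit 0x2cf3001),(nat_lit 0x4b6c001),(nat_lit 0x4b6f001),(nat_lit 0x2cf1001),(nat_lit 0x4bff001),(nat_lit 0xb5b46090ad002)],[(nat_lit 0x9993b077d6002),(nat_lit 0x9989412993002),(nat_lit 0x77d7001),(nat_lit 0x9989115b4e002),(nat_lit 0x77d8001),(nat_lit 0x77d5001),(nat_lit 0x999dd25256002)],[(nat_lit 0x546a001),(nat_lit 0x53c4001),(nat_lit 0x53e6001),(nat_lit 0x53c3001),(nat_lit 0xa0bc517564002),(nat_lit 0x546b001),(nat_lit 0x16d5c001)],[(nat_lit 0x4b6d001),(nat_lit 0x2cc8001),(nat_lit 0x2cc9001),(nat_lit 0x547f001),(nat_lit 0x2cc7001),(nat_lit 0x4c02001),(nat_lit 0x907f001)],[(nat_lit 0x1924017658002),(nat_lit 0xa0ccc17659002),(nat_lit 0x1765a001),(nat_lit 0x182e01765b002),(nat_lit 0xa0cd01765c002),(nat_lit 0x1925b1765d002),(nat_lit 0x53c5001)],[(nat_lit 0x2c3b001),(nat_lit 0xe7c001),(nat_lit 0xe7d001),(nat_lit 0x1945001),(nat_lit 0xf5a001),(nat_lit 0xe7e001),(nat_lit 0x2cb6001)],[(nat_lit 0x2c88001),(nat_lit 0xe88001),(nat_lit 0xf59001),(nat_lit 0x1bda001),(nat_lit 0xe87001),(nat_lit 0xe89001),(nat_lit 0x2cf4001)],[(nat_lit 0x1a1fa09014002),(nat_lit 0x1a20a09015002),(nat_lit 0x1a19109016002),(nat_lit 0x1a36209017002),(nat_lit 0x9018001),(nat_lit 0x1a20c09019002),(nat_lit 0x2c86001)],[(nat_lit 0x4b70001),(nat_lit 0x2c8c001),(nat_lit 0x4de5001),(nat_lit 0x2c8b001),(nat_lit 0x2c8d001),(nat_lit 0x4bf7001),(nat_lit 0x901b001)],[(nat_lit 0x4c00001),(nat_lit 0x4b2f001),(nat_lit 0x4c03001),(nat_lit 0x4bf9001),(nat_lit 0x4be9001),(nat_lit 0x4b2e001),(nat_lit 0xb5b7d145f3002)],[(nat_lit 0xb5b7b14641002),(nat_lit 0xb5b7914642002),(nat_lit 0x14643001),(nat_lit 0xb5b7c14644002),(nat_lit 0x14645001),(nat_lit 0xb5bba14646002),(nat_lit 0x4b6b001)],[(nat_lit 0x5088001),(nat_lit 0x9993b04fb1002),(nat_lit 0x45b6001),(nat_lit 0x9985f09d8b002),(nat_lit 0x5071001),(nat_lit 0x45b5001),(nat_lit 0x12991001)],[(nat_lit 0x4fb9001),(nat_lit 0x3cd4001),(nat_lit 0x9993b04fb2002),(nat_lit 0x50a5001),(nat_lit 0x3cd3001),(nat_lit 0x3cd5001),(nat_lit 0xe6d4001)],[(nat_lit 0x1aaa708ea0002),(nat_lit 0x182d8001),(nat_lit 0x1aaa017a26002),(nat_lit 0x182d9001),(nat_lit 0x1ab26001),(nat_lit 0x1ab2708e9f002),(nat_lit 0x1738b001)],[(nat_lit 0x7659001),(nat_lit 0x5070001),(nat_lit 0x3d7f001),(nat_lit 0xe975001),(nat_lit 0x9993b04fb4002),(nat_lit 0x3d7e001),(nat_lit 0xeaa7001)],[(nat_lit 0x2f78001),(nat_lit 0x596e001),(nat_lit 0x2f79001),(nat_lit 0x4cab001),(nat_lit 0x2f77001),(nat_lit 0x4bf1001),(nat_lit 0xa8fa809e6a002)],[(nat_lit 0x4b31001),(nat_lit 0x4bf8001),(nat_lit 0x4bef001),(nat_lit 0x4b32001),(nat_lit 0x4be1001),(nat_lit 0x4b30001),(nat_lit 0xa8f98145f4002)],[(nat_lit 0x1a94414621002),(nat_lit 0xa9a1b14622002),(nat_lit 0xa9a1c14623002),(nat_lit 0xa8f9914624002),(nat_lit 0xa8fc814625002),(nat_lit 0xa99fd14626002),(nat_lit 0x4b5f001)],[(nat_lit 0x23ab001),(nat_lit 0x2f52001),(nat_lit 0x23ac001),(nat_lit 0xa99e80681f002),(nat_lit 0x23aa001),(nat_lit 0x2e11001),(nat_lit 0xaa59506821002)],[(nat_lit 0x9e25001),(nat_lit 0x6823001),(nat_lit 0x6901001),(nat_lit 0x9785001),(nat_lit 0xa99f1093c6002),(nat_lit 0x6822001),(nat_lit 0x1f463001)],[(nat_lit 0x23ae001),(nat_lit 0x2d8d001),(nat_lit 0x2e10001),(nat_lit 0x2d1c001),(nat_lit 0x23af001),(nat_lit 0x23ad001),(nat_lit 0xa9a3c06824002)],[(nat_lit 0x68fe001),(nat_lit 0x9786001),(nat_lit 0xab1a91a976002),(nat_lit 0x68ff001),(nat_lit 0xab1aa1b703002),(nat_lit 0xa99e8068fd002),(nat_lit 0xbfaf11b6d9002)],[(nat_lit 0x2db1001),(nat_lit 0xa99f1093c5002),(nat_lit 0x2db2001),(nat_lit 0xa99f706981002),(nat_lit 0x2e0e001),(nat_lit 0x2db0001),(nat_lit 0xab8d4095c8002)],[(nat_lit 0x1d52001),(nat_lit 0x52e3001),(nat_lit 0x1d51001),(nat_lit 0x5274001),(nat_lit 0x5211001),(nat_lit 0x1d9f001),(nat_lit 0x52e5001)],[(nat_lit 0x1d54001),(nat_lit 0x1d55001),(nat_lit 0x520f001),(nat_lit 0x1d8f001),(nat_lit 0x1d53001),(nat_lit 0x5212001),(nat_lit 0x52e6001)],[(nat_lit 0x1d57001),(nat_lit 0x1d58001),(nat_lit 0x1d9d001),(nat_lit 0x1d59001),(nat_lit 0x1da0001),(nat_lit 0x1d56001),(nat_lit 0x9e889052ea002)],[(nat_lit 0x17bad168b3002),(nat_lit 0x9c6ec168b4002),(nat_lit 0x17bb3168b5002),(nat_lit 0x181e0168b6002),(nat_lit 0x17bb5168b7002),(nat_lit 0x9ddc2168b8002),(nat_lit 0x5220001)],[(nat_lit 0x1d65001),(nat_lit 0x1d66001),(nat_lit 0x1d89001),(nat_lit 0x1da6001),(nat_lit 0x1d64001),(nat_lit 0x1d98001),(nat_lit 0x52f3001)],[(nat_lit 0x191c6168ed002),(nat_lit 0x18bd5168ee002),(nat_lit 0x191c8168ef002),(nat_lit 0x18bd4168f0002),(nat_lit 0x192cd168f1002),(nat_lit 0x192c3168f2002),(nat_lit 0x5230001)],[(nat_lit 0x9e57e1757f002),(nat_lit 0x1823f053fe002),(nat_lit 0x176a4001),(nat_lit 0x53fd001),(nat_lit 0x1924c17594002),(nat_lit 0x1920c1711e002),(nat_lit 0x176a5001)],[(nat_lit 0x5203001),(nat_lit 0x1779016573002),(nat_lit 0x191cb05202002),(nat_lit 0x1778616574002),(nat_lit 0x191dc164fd002),(nat_lit 0x191dd16500002),(nat_lit 0x191de16576002)],[(nat_lit 0x5207001),(nat_lit 0x1657b001),(nat_lit 0x191dc164ff002),(nat_lit 0xa0f2f1657d002),(nat_lit 0x191cb05206002),(nat_lit 0x1657f001),(nat_lit 0x16581001)],[(nat_lit 0x2ce6001),(nat_lit 0x1d48001),(nat_lit 0x1d49001),(nat_lit 0x5276001),(nat_lit 0x2cc2001),(nat_lit 0x1d83001),(nat_lit 0x52d1001)],[(nat_lit 0x5275001),(nat_lit 0x5277001),(nat_lit 0x524d001),(nat_lit 0x5221001),(nat_lit 0x168b9001),(nat_lit 0x5278001),(nat_lit 0x168ba001)],[(nat_lit 0x5210001),(nat_lit 0x2cc3001),(nat_lit 0x1d5b001),(nat_lit 0x52ee001),(nat_lit 0x1d5a001),(nat_lit 0x5216001),(nat_lit 0x52ef001)],[(nat_lit 0x1d9e001),(nat_lit 0x1d81001),(nat_lit 0x1d5d001),(nat_lit 0x5279001),(nat_lit 0x1da3001),(nat_lit 0x1d5c001),(nat_lit 0x52f0001)],[(nat_lit 0x1a0c6168bb002),(nat_lit 0x168bc001),(nat_lit 0x168bd001),(nat_lit 0x168be001),(nat_lit 0x168bf001),(nat_lit 0x1a0c9168c0002),(nat_lit 0x5222001)],[(nat_lit 0x5213001),(nat_lit 0x4b5a001),(nat_lit 0x5217001),(nat_lit 0x4b5b001),(nat_lit 0x4bd8001),(nat_lit 0x4b59001),(nat_lit 0x1461f001)],[(nat_lit 0xb157e16597002),(nat_lit 0x16598001),(nat_lit 0xb147016599002),(nat_lit 0x1659a001),(nat_lit 0x1659b001),(nat_lit 0xb162d1659c002),(nat_lit 0x520e001)],[(nat_lit 0x1da1001),(nat_lit 0x1d68001),(nat_lit 0x1da4001),(nat_lit 0x1d7e001),(nat_lit 0x1d67001),(nat_lit 0x4bda001),(nat_lit 0x52f4001)],[(nat_lit 0x9e8830539f002),(nat_lit 0x17b81053a0002),(nat_lit 0x17b84053a1002),(nat_lit 0x18180053a2002),(nat_lit 0x53a3001),(nat_lit 0x17b86053a4002),(nat_lit 0x1d9c001)],[(nat_lit 0x9ab0e168ca002),(nat_lit 0x5224001),(nat_lit 0x9e9e9168cb002),(nat_lit 0x5285001),(nat_lit 0x5287001),(nat_lit 0x5289001),(nat_lit 0x168cc001)],[(nat_lit 0x527e001),(nat_lit 0x168cf001),(nat_lit 0x5225001),(nat_lit 0x168d0001),(nat_lit 0x528b001),(nat_lit 0x528d001),(nat_lit 0x168d1001)],[(nat_lit 0x1815b05280002),(nat_lit 0x5286001),(nat_lit 0x18186168d2002),(nat_lit 0x5226001),(nat_lit 0x1815d168d3002),(nat_lit 0x181f60528f002),(nat_lit 0x17183168d4002)],[(nat_lit 0x5282001),(nat_lit 0x5288001),(nat_lit 0x528c001),(nat_lit 0x168d5001),(nat_lit 0x5227001),(nat_lit 0x168d6001),(nat_lit 0x168d7001)],[(nat_lit 0x2014e053a9002),(nat_lit 0x53aa001),(nat_lit 0x53ab001),(nat_lit 0x53ac001),(nat_lit 0x53ad001),(nat_lit 0x200d2053ae002),(nat_lit 0x1da5001)],[(nat_lit 0x19126168fa002),(nat_lit 0x5232001),(nat_lit 0x1791f168fb002),(nat_lit 0x52ab001),(nat_lit 0x52ad001),(nat_lit 0x1912a052af002),(nat_lit 0x168fc001)],[(nat_lit 0x52a4001),(nat_lit 0x1792f16900002),(nat_lit 0x5233001),(nat_lit 0x179f916901002),(nat_lit 0x52b1001),(nat_lit 0x19138052b3002),(nat_lit 0x179cb16902002)],[(nat_lit 0x191c9052a6002),(nat_lit 0x52ac001),(nat_lit 0x191cc16903002),(nat_lit 0x5234001),(nat_lit 0x191cd16904002),(nat_lit 0x191ce052b5002),(nat_lit 0x1826116905002)],[(nat_lit 0x52a8001),(nat_lit 0x52ae001),(nat_lit 0x52b2001),(nat_lit 0x16906001),(nat_lit 0x5235001),(nat_lit 0x191cf16907002),(nat_lit 0x16908001)],[(nat_lit 0x177b6001),(nat_lit 0x9bc69177b7002),(nat_lit 0x190d40fa55002),(nat_lit 0x9db5317464002),(nat_lit 0x1916e177b9002),(nat_lit 0xfa54001),(nat_lit 0x19cd0001)],[(nat_lit 0x190d40eaff002),(nat_lit 0x190c310942002),(nat_lit 0x177a4001),(nat_lit 0x9b2be17465002),(nat_lit 0x1912c177a5002),(nat_lit 0x190bb0eb00002),(nat_lit 0x5e1f001)],[(nat_lit 0x51609164e1002),(nat_lit 0x9b644164e2002),(nat_lit 0x9dbc7164e3002),(nat_lit 0x9dbbe164e4002),(nat_lit 0x9dbc0164e5002),(nat_lit 0x9b648164e6002),(nat_lit 0x516e001)],[(nat_lit 0x1916e16588002),(nat_lit 0x520b001),(nat_lit 0x1912c1658a002),(nat_lit 0x1658c001),(nat_lit 0x520a001),(nat_lit 0x1658e001),(nat_lit 0x16590001)],[(nat_lit 0x1a37d001),(nat_lit 0x1a064001),(nat_lit 0x1a0bd001),(nat_lit 0x9cc961ad8f002),(nat_lit 0x1e302001),(nat_lit 0x1a0be001),(nat_lit 0x16508001)],[(nat_lit 0x190cf03f9a002),(nat_lit 0x1778810aa0002),(nat_lit 0x190c31085b002),(nat_lit 0x1746d1085e002),(nat_lit 0x1913e10ad6002),(nat_lit 0x190c103f99002),(nat_lit 0x10941001)],[(nat_lit 0x191d9179fe002),(nat_lit 0x191e007839002),(nat_lit 0x191e1001),(nat_lit 0x19138179ff002),(nat_lit 0x191e217a00002),(nat_lit 0x7838001),(nat_lit 0x191e3001)],[(nat_lit 0x191dc164fe002),(nat_lit 0x191e816591002),(nat_lit 0x520d001),(nat_lit 0x191e916593002),(nat_lit 0x520c001),(nat_lit 0x191e716594002),(nat_lit 0x16596001)],[(nat_lit 0x188b4001),(nat_lit 0x938f001),(nat_lit 0x188b5001),(nat_lit 0x938e001),(nat_lit 0x20353198d5002),(nat_lit 0x9390001),(nat_lit 0x188b6001)],[(nat_lit 0x53f6001),(nat_lit 0x19261176a1002),(nat_lit 0x19256053f5002),(nat_lit 0x1925e17588002),(nat_lit 0xa0f2a17116002),(nat_lit 0x1924e17119002),(nat_lit 0x176a2001)],[(nat_lit 0x53fa001),(nat_lit 0x1922f1757b002),(nat_lit 0xa0f2a17118002),(nat_lit 0xa0f3917595002),(nat_lit 0x19256053f9002),(nat_lit 0x17596001),(nat_lit 0x176a3001)],[(nat_lit 0xa0f2f1657e002),(nat_lit 0x1658d001),(nat_lit 0xa0f3753a1c002),(nat_lit 0x16512001),(nat_lit 0x9dbc1165e1002),(nat_lit 0x16749001),(nat_lit 0x53a1d001)],[(nat_lit 0x16580001),(nat_lit 0x1658f001),(nat_lit 0x191e716595002),(nat_lit 0x1674a001),(nat_lit 0x165e2001),(nat_lit 0x16513001),(nat_lit 0x53a1e001)],[(nat_lit 0xbf5a453a1f002),(nat_lit 0x53a20001),(nat_lit 0x53a21001),(nat_lit 0x53a22001),(nat_lit 0x53a23001),(nat_lit 0xbdd2453a24002),(nat_lit 0x16514001)],[(nat_lit 0x2c73001),(nat_lit 0x2c74001),(nat_lit 0x2ce5001),(nat_lit 0x2c75001),(nat_lit 0x2ce8001),(nat_lit 0x2c72001),(nat_lit 0x181de08f7f002)],[(nat_lit 0x2ce9001),(nat_lit 0x1d4b001),(nat_lit 0x2cc4001),(nat_lit 0x1ee8001),(nat_lit 0x1d4a001),(nat_lit 0x4fd9001),(nat_lit 0x52d5001)],[(nat_lit 0x1a24b09067002),(nat_lit 0x1a29a09068002),(nat_lit 0x1a29b09069002),(nat_lit 0xae6da0906a002),(nat_lit 0x906b001),(nat_lit 0x1a23b0906c002),(nat_lit 0x2cc1001)],[(nat_lit 0x4b5d001),(nat_lit 0x4fd7001),(nat_lit 0x4b5e001),(nat_lit 0x4be0001),(nat_lit 0x4bd3001),(nat_lit 0x4b5c001),(nat_lit 0xa8fc614620002)],[(nat_lit 0x4b17001),(nat_lit 0x4bd9001),(nat_lit 0x4bd5001),(nat_lit 0x4ef5001),(nat_lit 0x4b16001),(nat_lit 0x4b18001),(nat_lit 0xa8fba14338002)],[(nat_lit 0x17e4001),(nat_lit 0x16f0001),(nat_lit 0x1798001),(nat_lit 0x1747001),(nat_lit 0x16ef001),(nat_lit 0x1748001),(nat_lit 0x16f1001)],[(nat_lit 0xf41001),(nat_lit 0x18c9001),(nat_lit 0xf42001),(nat_lit 0xf40001),(nat_lit 0x2ec7001),(nat_lit 0xf43001),(nat_lit 0x17e7001)],[(nat_lit 0x407e001),(nat_lit 0x2370001),(nat_lit 0x4082001),(nat_lit 0x23a5001),(nat_lit 0x23a8001),(nat_lit 0x2371001),(nat_lit 0x67c3001)],[(nat_lit 0x1c4d001),(nat_lit 0x1c4e001),(nat_lit 0x1c4f001),(nat_lit 0x1c50001),(nat_lit 0x1c4c001),(nat_lit 0x1c51001),(nat_lit 0x4f67001)],[(nat_lit 0x6c09001),(nat_lit 0x11ef4001),(nat_lit 0x6c02001),(nat_lit 0x6c03001),(nat_lit 0x11ef6001),(nat_lit 0x6c0a001),(nat_lit 0x4396001)],[(nat_lit 0x670c001),(nat_lit 0x670d001),(nat_lit 0x6786001),(nat_lit 0x6788001),(nat_lit 0x678b001),(nat_lit 0x678e001),(nat_lit 0x1efb6001)],[(nat_lit 0x6787001),(nat_lit 0x2357001),(nat_lit 0x2358001),(nat_lit 0x5e7d001),(nat_lit 0x2394001),(nat_lit 0x401a001),(nat_lit 0x6793001)],[(nat_lit 0x6789001),(nat_lit 0x235d001),(nat_lit 0x56fb001),(nat_lit 0x235c001),(nat_lit 0x5716001),(nat_lit 0x2380001),(nat_lit 0x679e001)],[(nat_lit 0x678c001),(nat_lit 0x235f001),(nat_lit 0x2393001),(nat_lit 0x5c72001),(nat_lit 0x235e001),(nat_lit 0x5c74001),(nat_lit 0xabfed0679f002)],[(nat_lit 0xaefb91efb7002),(nat_lit 0x1efb8001),(nat_lit 0x1efb9001),(nat_lit 0x8ae111efba002),(nat_lit 0x1efbb001),(nat_lit 0xaebfc1efbc002),(nat_lit 0x670e001)],[(nat_lit 0x2383001),(nat_lit 0x5717001),(nat_lit 0x2384001),(nat_lit 0x5827001),(nat_lit 0x2385001),(nat_lit 0x2382001),(nat_lit 0xa9a34067f9002)],[(nat_lit 0x1f73001),(nat_lit 0x5c75001),(nat_lit 0x1f72001),(nat_lit 0xa99c305733002),(nat_lit 0x1fa9001),(nat_lit 0x1f74001),(nat_lit 0xad8a505c9e002)],[(nat_lit 0x1d72001),(nat_lit 0x1d73001),(nat_lit 0x1d74001),(nat_lit 0x23dd001),(nat_lit 0x1d71001),(nat_lit 0x1d75001),(nat_lit 0x530c001)],[(nat_lit 0x23de001),(nat_lit 0x1b5f001),(nat_lit 0x4ba6001),(nat_lit 0x1b5e001),(nat_lit 0x1b60001),(nat_lit 0x1b61001),(nat_lit 0x4ba9001)],[(nat_lit 0x2057106926002),(nat_lit 0xa52e106927002),(nat_lit 0x6928001),(nat_lit 0x6929001),(nat_lit 0x692a001),(nat_lit 0x205990692b002),(nat_lit 0x23dc001)],[(nat_lit 0x18ada13fe7002),(nat_lit 0x18a8204a77002),(nat_lit 0x13fe9001),(nat_lit 0x18a8413f3e002),(nat_lit 0x18adb13feb002),(nat_lit 0x4a76001),(nat_lit 0x9b29213fec002)],[(nat_lit 0x18a1213f36002),(nat_lit 0x21e9813ff2002),(nat_lit 0x18a8204a7b002),(nat_lit 0x1740713ff4002),(nat_lit 0x18aa613ff6002),(nat_lit 0x4a7a001),(nat_lit 0x13ff7001)],[(nat_lit 0x5361001),(nat_lit 0x5366001),(nat_lit 0x5369001),(nat_lit 0x18a9e16d10002),(nat_lit 0x530a001),(nat_lit 0x21ed816d11002),(nat_lit 0x3d45b16d12002)],[(nat_lit 0x4aed001),(nat_lit 0xa721114327002),(nat_lit 0x4aec001),(nat_lit 0x4af0001),(nat_lit 0x4aee001),(nat_lit 0x4aef001),(nat_lit 0xa71f305a09002)],[(nat_lit 0x18a9705669002),(nat_lit 0x566a001),(nat_lit 0x18a981783b002),(nat_lit 0x566b001),(nat_lit 0x18a991783c002),(nat_lit 0x5757001),(nat_lit 0x226bb19a37002)],[(nat_lit 0x1415a001),(nat_lit 0x1400d001),(nat_lit 0x13f3b001),(nat_lit 0x21e62001),(nat_lit 0x13fe2001),(nat_lit 0x13fea001),(nat_lit 0x21f12001)],[(nat_lit 0x13fdf001),(nat_lit 0x4a75001),(nat_lit 0x13fe1001),(nat_lit 0x249bd13fe3002),(nat_lit 0x4a74001),(nat_lit 0x21ea113fe5002),(nat_lit 0x13fe6001)],[(nat_lit 0x9d27824c00002),(nat_lit 0x7e93e07712002),(nat_lit 0x9d27924c04002),(nat_lit 0x9ea1e2486b002),(nat_lit 0x7ea1e24c25002),(nat_lit 0x7711001),(nat_lit 0x9d27b24d82002)],[(nat_lit 0x261f1001),(nat_lit 0x13f3f001),(nat_lit 0x1400e001),(nat_lit 0x1742a1415f002),(nat_lit 0x13fee001),(nat_lit 0x21e9813ff3002),(nat_lit 0x227a7001)],[(nat_lit 0x55b9001),(nat_lit 0x18a1117840002),(nat_lit 0x1896d055b8002),(nat_lit 0x18a9b055ed002),(nat_lit 0x18a151885e002),(nat_lit 0x1896b0573c002),(nat_lit 0x18a16001)],[(nat_lit 0x18a7113f33002),(nat_lit 0x13fed001),(nat_lit 0x4a79001),(nat_lit 0x13fef001),(nat_lit 0x4a78001),(nat_lit 0x21ed213ff0002),(nat_lit 0x13ff1001)],[(nat_lit 0x192d9001),(nat_lit 0x1906a001),(nat_lit 0x18fbb001),(nat_lit 0x19750001),(nat_lit 0x2cb50001),(nat_lit 0x192db001),(nat_lit 0x13f41001)],[(nat_lit 0x565b001),(nat_lit 0x249c01868d002),(nat_lit 0x1957f001),(nat_lit 0x18a050565a002),(nat_lit 0x565c001),(nat_lit 0x18a9c001),(nat_lit 0x19a20001)],[(nat_lit 0x21edb001),(nat_lit 0xe92e001),(nat_lit 0x122a1001),(nat_lit 0x21edc001),(nat_lit 0xe92d001),(nat_lit 0x21edd001),(nat_lit 0x3c14a001)],[(nat_lit 0x3d4543248a002),(nat_lit 0xbb75001),(nat_lit 0x3248b001),(nat_lit 0xbb74001),(nat_lit 0x3248c001),(nat_lit 0x3540b3248d002),(nat_lit 0x3cabc358fc002)],[(nat_lit 0x1e3e001),(nat_lit 0x1e3f001),(nat_lit 0x1e40001),(nat_lit 0x1f58001),(nat_lit 0x1e7f001),(nat_lit 0x1e41001),(nat_lit 0x5631001)],[(nat_lit 0x1dec001),(nat_lit 0x1e7d001),(nat_lit 0x1deb001),(nat_lit 0x1ecf001),(nat_lit 0x1ded001),(nat_lit 0x1e5e001),(nat_lit 0x5507001)],[(nat_lit 0x188e705551002),(nat_lit 0x1896a05c68002),(nat_lit 0x1896b0573a002),(nat_lit 0x558c001),(nat_lit 0x1896c05c69002),(nat_lit 0x1896d05552002),(nat_lit 0x1f57001)],[(nat_lit 0x1def001),(nat_lit 0x1df0001),(nat_lit 0x1fa3001),(nat_lit 0x1dee001),(nat_lit 0x1df1001),(nat_lit 0x1ef6001),(nat_lit 0x550e001)],[(nat_lit 0x1df3001),(nat_lit 0x1df4001),(nat_lit 0x1e5d001),(nat_lit 0x1ef3001),(nat_lit 0x1df5001),(nat_lit 0x1df2001),(nat_lit 0x5512001)],[(nat_lit 0x5d9cc05c6b002),(nat_lit 0x5c6c001),(nat_lit 0x5d92605c6d002),(nat_lit 0x5d9ce05c6e002),(nat_lit 0x5d92905c6f002),(nat_lit 0x5db4005c70002),(nat_lit 0x1f5d001)],[(nat_lit 0x177db17018002),(nat_lit 0x177cc05364002),(nat_lit 0x189ef16d7a002),(nat_lit 0x18a3405363002),(nat_lit 0x177dd17029002),(nat_lit 0x18a3616d0b002),(nat_lit 0x222ca170de002)],[(nat_lit 0x189ba01f56002),(nat_lit 0x1891b05c65002),(nat_lit 0x189be01f55002),(nat_lit 0x1891905c4d002),(nat_lit 0x189bf05c43002),(nat_lit 0x1891805582002),(nat_lit 0x5c67001)],[(nat_lit 0x1f81001),(nat_lit 0x18a3505c42002),(nat_lit 0x189bf05c45002),(nat_lit 0x5ce5001),(nat_lit 0x189be01f80002),(nat_lit 0x18a5405ce7002),(nat_lit 0xa991605d75002)],[(nat_lit 0x55b6001),(nat_lit 0x555a001),(nat_lit 0x5565001),(nat_lit 0x557d001),(nat_lit 0x5559001),(nat_lit 0x18c53001),(nat_lit 0x18c56001)],[(nat_lit 0x18dc418419002),(nat_lit 0x1841a17b01002),(nat_lit 0x18e1d17259002),(nat_lit 0x1841316a26002),(nat_lit 0x18c12001),(nat_lit 0x18e1f1841b002),(nat_lit 0x555b001)],[(nat_lit 0x1ed0001),(nat_lit 0x1e83001),(nat_lit 0x571a001),(nat_lit 0x1e82001),(nat_lit 0x557f001),(nat_lit 0x1ed1001),(nat_lit 0x571b001)],[(nat_lit 0x1e5c001),(nat_lit 0x1df8001),(nat_lit 0x1df9001),(nat_lit 0x1ed3001),(nat_lit 0x1dfa001),(nat_lit 0x1df7001),(nat_lit 0x5513001)],[(nat_lit 0x5d48e057e9002),(nat_lit 0x57ea001),(nat_lit 0x57eb001),(nat_lit 0x57ec001),(nat_lit 0x57ed001),(nat_lit 0x5d55c057ee002),(nat_lit 0x1e96001)],[(nat_lit 0x834c001),(nat_lit 0x555d001),(nat_lit 0x17b9217b6b002),(nat_lit 0x560c001),(nat_lit 0x560e001),(nat_lit 0x188eb05610002),(nat_lit 0x188ec001)],[(nat_lit 0x5607001),(nat_lit 0x18971001),(nat_lit 0x555e001),(nat_lit 0x1897305568002),(nat_lit 0x5612001),(nat_lit 0x1897405614002),(nat_lit 0x18c5c001)],[(nat_lit 0x188e605609002),(nat_lit 0x560d001),(nat_lit 0x5581001),(nat_lit 0x555f001),(nat_lit 0x2037a18c65002),(nat_lit 0x188e805616002),(nat_lit 0x173ff001)],[(nat_lit 0x560b001),(nat_lit 0x560f001),(nat_lit 0x5613001),(nat_lit 0x203ac18c66002),(nat_lit 0x5560001),(nat_lit 0x18c67001),(nat_lit 0x18c69001)],[(nat_lit 0x1fa4001),(nat_lit 0x2392001),(nat_lit 0x1f6c001),(nat_lit 0x5c92001),(nat_lit 0x1fa5001),(nat_lit 0x1fa7001),(nat_lit 0x5c93001)],[(nat_lit 0x1ef4001),(nat_lit 0x1dfc001),(nat_lit 0x1fa8001),(nat_lit 0x1dfd001),(nat_lit 0x1ef2001),(nat_lit 0x1dfb001),(nat_lit 0x5514001)],[(nat_lit 0x622b105c97002),(nat_lit 0x5c98001),(nat_lit 0x5c99001),(nat_lit 0x5c9a001),(nat_lit 0x5c9b001),(nat_lit 0x6231f05c9c002),(nat_lit 0x1f6d001)],[(nat_lit 0x5d9cf059bf002),(nat_lit 0x5da08059c0002),(nat_lit 0x5d93b059c1002),(nat_lit 0x5da0b059c2002),(nat_lit 0x59c3001),(nat_lit 0x5d93a059c4002),(nat_lit 0x1eec001)],[(nat_lit 0x187c6001),(nat_lit 0x5502001),(nat_lit 0xb4350187c7002),(nat_lit 0x5599001),(nat_lit 0x559b001),(nat_lit 0x559d001),(nat_lit 0x187c8001)],[(nat_lit 0x5592001),(nat_lit 0x187cc001),(nat_lit 0x5503001),(nat_lit 0x187cd001),(nat_lit 0x559f001),(nat_lit 0x55a1001),(nat_lit 0x187ce001)],[(nat_lit 0x5594001),(nat_lit 0x559a001),(nat_lit 0x187cf001),(nat_lit 0x5504001),(nat_lit 0x187d0001),(nat_lit 0x55a3001),(nat_lit 0xac075187d1002)],[(nat_lit 0x5596001),(nat_lit 0x559c001),(nat_lit 0x55a0001),(nat_lit 0x187d2001),(nat_lit 0x5505001),(nat_lit 0x187d3001),(nat_lit 0x187d4001)],[(nat_lit 0x55d9001),(nat_lit 0x5673001),(nat_lit 0x56d8001),(nat_lit 0x56c7001),(nat_lit 0x56db001),(nat_lit 0x55d8001),(nat_lit 0x2871319617002)],[(nat_lit 0x56d9001),(nat_lit 0x5675001),(nat_lit 0x55dd001),(nat_lit 0x194fe001),(nat_lit 0x56dd001),(nat_lit 0x55dc001),(nat_lit 0x1961e001)],[(nat_lit 0x18a6905cd1002),(nat_lit 0x189d401f85002),(nat_lit 0x18a6705d76002),(nat_lit 0x18a3f01f84002),(nat_lit 0x18a6a05ce2002),(nat_lit 0x18a3d05c48002),(nat_lit 0x5d77001)],[(nat_lit 0x18ac305cd3002),(nat_lit 0x1f87001),(nat_lit 0x18aca05cd7002),(nat_lit 0x5ce8001),(nat_lit 0x18a3f01f86002),(nat_lit 0x18acd05cea002),(nat_lit 0x5d78001)],[(nat_lit 0x2331c199b4002),(nat_lit 0x9bb89199b5002),(nat_lit 0x9bb86199b6002),(nat_lit 0x2331e199b7002),(nat_lit 0x9bb8b199b8002),(nat_lit 0x2331f199b9002),(nat_lit 0x5638001)],[(nat_lit 0x18a39001),(nat_lit 0x55e6001),(nat_lit 0x5676001),(nat_lit 0x56e7001),(nat_lit 0x56ea001),(nat_lit 0x55e5001),(nat_lit 0x18a3b001)],[(nat_lit 0x55e8001),(nat_lit 0x56e8001),(nat_lit 0x55e9001),(nat_lit 0x55ea001),(nat_lit 0x1958b001),(nat_lit 0x55e7001),(nat_lit 0x19629001)],[(nat_lit 0x189bf05c44002),(nat_lit 0x18a3a05cdd002),(nat_lit 0x1f8b001),(nat_lit 0x5d79001),(nat_lit 0x189ba01f8a002),(nat_lit 0x18a4305ceb002),(nat_lit 0x5d7a001)],[(nat_lit 0x18b21001),(nat_lit 0x1951a001),(nat_lit 0x18a44001),(nat_lit 0x18f49001),(nat_lit 0x62287199c3002),(nat_lit 0x18a45001),(nat_lit 0x563b001)],[(nat_lit 0x189c90535d002),(nat_lit 0x189d3170db002),(nat_lit 0x177da0535c002),(nat_lit 0x189721701e002),(nat_lit 0x1781116d05002),(nat_lit 0x18a4e16d08002),(nat_lit 0x170dc001)],[(nat_lit 0x5361001),(nat_lit 0x1780f17015002),(nat_lit 0x1781116d07002),(nat_lit 0x18a6b1702a002),(nat_lit 0x177da05360002),(nat_lit 0x18a6c1702c002),(nat_lit 0x170dd001)],[(nat_lit 0x5ce6001),(nat_lit 0x5ce9001),(nat_lit 0x1c1b1001),(nat_lit 0x5c60001),(nat_lit 0x5cb0001),(nat_lit 0x5cec001),(nat_lit 0xab4991c1b2002)],[(nat_lit 0x565e001),(nat_lit 0x5664001),(nat_lit 0x5667001),(nat_lit 0x18acf001),(nat_lit 0x5577001),(nat_lit 0x18a4205578002),(nat_lit 0xa992118c7f002)],[(nat_lit 0x55aa001),(nat_lit 0x55ac001),(nat_lit 0x18820001),(nat_lit 0x5523001),(nat_lit 0x17b59001),(nat_lit 0x55ad001),(nat_lit 0xa992218821002)],[(nat_lit 0x1eb9001),(nat_lit 0x1ef1001),(nat_lit 0x1fab001),(nat_lit 0x1eb8001),(nat_lit 0x1eba001),(nat_lit 0x1f65001),(nat_lit 0xa9a39058ec002)],[(nat_lit 0xaa5991b7e8002),(nat_lit 0x5c77001),(nat_lit 0xab17f1c1e7002),(nat_lit 0xa8f9005d0e002),(nat_lit 0x5d0f001),(nat_lit 0x1aceb05d11002),(nat_lit 0xab6b11c1e8002)],[(nat_lit 0x1acd419b2f002),(nat_lit 0xab6b21a56d002),(nat_lit 0x598d001),(nat_lit 0xa8f571a570002),(nat_lit 0xaa5280598c002),(nat_lit 0xa8fc51a486002),(nat_lit 0xa8fc41ace2002)],[(nat_lit 0x1e66001),(nat_lit 0x1e67001),(nat_lit 0x1f11001),(nat_lit 0x1e68001),(nat_lit 0x1f42001),(nat_lit 0x1e65001),(nat_lit 0x5646001)],[(nat_lit 0x1f10001),(nat_lit 0x5743001),(nat_lit 0x1ed7001),(nat_lit 0x589b001),(nat_lit 0x1f45001),(nat_lit 0x1ed6001),(nat_lit 0x59a2001)],[(nat_lit 0x1f43001),(nat_lit 0x1ee2001),(nat_lit 0x1f46001),(nat_lit 0x1ef0001),(nat_lit 0x1ee1001),(nat_lit 0x1eef001),(nat_lit 0x59af001)],[(nat_lit 0x5dbd505ae5002),(nat_lit 0x5dbd205ae6002),(nat_lit 0x5da2605ae7002),(nat_lit 0x5dbd405ae8002),(nat_lit 0x5ae9001),(nat_lit 0x5dbd005aea002),(nat_lit 0x1f14001)],[(nat_lit 0x1eb6001),(nat_lit 0x1eee001),(nat_lit 0x2384001),(nat_lit 0x1f64001),(nat_lit 0x1eb5001),(nat_lit 0x1eb7001),(nat_lit 0xc512d058e7002)],[(nat_lit 0x1f59001),(nat_lit 0x1e57001),(nat_lit 0x1f5c001),(nat_lit 0x1e56001),(nat_lit 0x5617001),(nat_lit 0x1f5b001),(nat_lit 0x563e001)],[(nat_lit 0x1e7c001),(nat_lit 0x1e59001),(nat_lit 0x1e5a001),(nat_lit 0x1f06001),(nat_lit 0x1e58001),(nat_lit 0x1f08001),(nat_lit 0x563f001)],[(nat_lit 0x2d98218c6a002),(nat_lit 0x18c6b001),(nat_lit 0x18c6c001),(nat_lit 0x2bcb418c6d002),(nat_lit 0x18c6e001),(nat_lit 0x2d98818c6f002),(nat_lit 0x5562001)],[(nat_lit 0x5564001),(nat_lit 0x5618001),(nat_lit 0x5565001),(nat_lit 0x5588001),(nat_lit 0x5563001),(nat_lit 0x18c70001),(nat_lit 0xb3deb18c73002)],[(nat_lit 0x18e1f183b7002),(nat_lit 0x183b8001),(nat_lit 0x18e27169d0002),(nat_lit 0x183b91726b002),(nat_lit 0x2036918c74002),(nat_lit 0x18dc4183ba002),(nat_lit 0x5566001)],[(nat_lit 0x1e81001),(nat_lit 0x1f07001),(nat_lit 0x56f0001),(nat_lit 0x1e80001),(nat_lit 0x558a001),(nat_lit 0x1f0b001),(nat_lit 0x5719001)],[(nat_lit 0x1e38001),(nat_lit 0x1f09001),(nat_lit 0x1e39001),(nat_lit 0x1f0d001),(nat_lit 0x1e5b001),(nat_lit 0x1e37001),(nat_lit 0x562c001)],[(nat_lit 0x5b36205ac3002),(nat_lit 0x5ac4001),(nat_lit 0x5b34e05ac5002),(nat_lit 0x5b36905ac6002),(nat_lit 0x5b3b705ac7002),(nat_lit 0x5b34c05ac8002),(nat_lit 0x1f05001)],[(nat_lit 0x83f1001),(nat_lit 0x5619001),(nat_lit 0x5739001),(nat_lit 0x567b001),(nat_lit 0x567d001),(nat_lit 0x567f001),(nat_lit 0x1964d001)],[(nat_lit 0x55be001),(nat_lit 0x18a0f1885c002),(nat_lit 0x18a1518860002),(nat_lit 0x194ef001),(nat_lit 0x1896d055bd002),(nat_lit 0x194f1001),(nat_lit 0xaab3a19604002)],[(nat_lit 0x1e1e001),(nat_lit 0x1e20001),(nat_lit 0x1ed8001),(nat_lit 0x1e1d001),(nat_lit 0x1e1f001),(nat_lit 0x1edb001),(nat_lit 0x204f105530002)],[(nat_lit 0x1e60001),(nat_lit 0x1e61001),(nat_lit 0x1e63001),(nat_lit 0x1ede001),(nat_lit 0x1e62001),(nat_lit 0x1e5f001),(nat_lit 0x5645001)],[(nat_lit 0x1b323059e4002),(nat_lit 0x59e5001),(nat_lit 0x1b31e059e6002),(nat_lit 0x203ad059e7002),(nat_lit 0x1b326059e8002),(nat_lit 0x1b327059e9002),(nat_lit 0x1efd001)],[(nat_lit 0x3e65001),(nat_lit 0x214590658d002),(nat_lit 0x3e66001),(nat_lit 0x2146906638002),(nat_lit 0x3e64001),(nat_lit 0x3e67001),(nat_lit 0x102a0001)],[(nat_lit 0x1f16001),(nat_lit 0x2140e05aeb002),(nat_lit 0x18e4c01f15002),(nat_lit 0x5a67001),(nat_lit 0x18ebc059cc002),(nat_lit 0x18e56059cf002),(nat_lit 0x5aec001)],[(nat_lit 0x1f1a001),(nat_lit 0x214d505a5a002),(nat_lit 0x18ebc059ce002),(nat_lit 0x5a7b001),(nat_lit 0x18e4c01f19002),(nat_lit 0x214d305a7d002),(nat_lit 0x5b94001)],[(nat_lit 0x1ed5001),(nat_lit 0x5998001),(nat_lit 0x1ed4001),(nat_lit 0x5896001),(nat_lit 0x1eda001),(nat_lit 0x1f0f001),(nat_lit 0x599a001)],[(nat_lit 0x5da2505ad2002),(nat_lit 0x98b0405ad3002),(nat_lit 0x5d95105ad4002),(nat_lit 0x5da3d05ad5002),(nat_lit 0x5d95505ad6002),(nat_lit 0x5da3e05ad7002),(nat_lit 0x1f0e001)],[(nat_lit 0x6335805ad9002),(nat_lit 0x6244005ada002),(nat_lit 0x6238e05adb002),(nat_lit 0x6229605adc002),(nat_lit 0x6229c05add002),(nat_lit 0x6229d05ade002),(nat_lit 0x1f12001)],[(nat_lit 0x6229119657002),(nat_lit 0x5627001),(nat_lit 0x19658001),(nat_lit 0x5696001),(nat_lit 0x5698001),(nat_lit 0x569a001),(nat_lit 0x19659001)],[(nat_lit 0x1f2a001),(nat_lit 0x5bbd001),(nat_lit 0x621e301f29002),(nat_lit 0x5aab001),(nat_lit 0x62299059f1002),(nat_lit 0x62240059f4002),(nat_lit 0x5bbe001)],[(nat_lit 0x1f2c001),(nat_lit 0x621e205a9a002),(nat_lit 0x5ab5001),(nat_lit 0x621e301f2b002),(nat_lit 0x5ab7001),(nat_lit 0x621e4059f7002),(nat_lit 0xaa6aa05bc2002)],[(nat_lit 0x1f2e001),(nat_lit 0x6229405a9c002),(nat_lit 0x62299059f3002),(nat_lit 0x5b11001),(nat_lit 0x621e301f2d002),(nat_lit 0x5b13001),(nat_lit 0x5bce001)],[(nat_lit 0x189bb05571002),(nat_lit 0x5572001),(nat_lit 0x18a46001),(nat_lit 0x566b001),(nat_lit 0x566e001),(nat_lit 0x5674001),(nat_lit 0x2280618c78002)],[(nat_lit 0x17423001),(nat_lit 0x962e001),(nat_lit 0x174050962d002),(nat_lit 0x189c2001),(nat_lit 0x17424001),(nat_lit 0x962f001),(nat_lit 0x222fc001)],[(nat_lit 0x18a4917426002),(nat_lit 0x189bd055b2002),(nat_lit 0x17427001),(nat_lit 0x18a4c17428002),(nat_lit 0x17405055b1002),(nat_lit 0x18a4d17c24002),(nat_lit 0x195fa001)],[(nat_lit 0x126ff001),(nat_lit 0x7b81001),(nat_lit 0x222d7001),(nat_lit 0x7b80001),(nat_lit 0x26004001),(nat_lit 0x7d54001),(nat_lit 0x222db001)],[(nat_lit 0x97e5001),(nat_lit 0x5632001),(nat_lit 0x1891a099d4002),(nat_lit 0x56a6001),(nat_lit 0x56a8001),(nat_lit 0x5651001),(nat_lit 0x1891c001)],[(nat_lit 0x1891705c51002),(nat_lit 0x188a909140002),(nat_lit 0x5581001),(nat_lit 0x1891805580002),(nat_lit 0x2038b18c8d002),(nat_lit 0x1891905c4f002),(nat_lit 0x18c8e001)],[(nat_lit 0x553e001),(nat_lit 0x56a9001),(nat_lit 0x553f001),(nat_lit 0x56df001),(nat_lit 0x553d001),(nat_lit 0x56b6001),(nat_lit 0x18c17001)],[(nat_lit 0x189c0001),(nat_lit 0x19076001),(nat_lit 0x189c1001),(nat_lit 0x18fe4001),(nat_lit 0x19512001),(nat_lit 0x18b22001),(nat_lit 0x5633001)],[(nat_lit 0x55f8001),(nat_lit 0x56b3001),(nat_lit 0x1951f001),(nat_lit 0x55f7001),(nat_lit 0x565c001),(nat_lit 0x56b9001),(nat_lit 0x1963b001)],[(nat_lit 0x55fa001),(nat_lit 0x56b5001),(nat_lit 0x56b8001),(nat_lit 0x56bb001),(nat_lit 0x565d001),(nat_lit 0x55f9001),(nat_lit 0x3cb0f1963c002)],[(nat_lit 0x5960319999002),(nat_lit 0x1999a001),(nat_lit 0x5960c1999b002),(nat_lit 0x595e71999c002),(nat_lit 0x596091999d002),(nat_lit 0x595ea1999e002),(nat_lit 0x5634001)],[(nat_lit 0x1f59001),(nat_lit 0x1f5a001),(nat_lit 0x1f5c001),(nat_lit 0x1f58001),(nat_lit 0x56a2001),(nat_lit 0x1f5b001),(nat_lit 0x5c6a001)],[(nat_lit 0x55b6001),(nat_lit 0x56a4001),(nat_lit 0x55b7001),(nat_lit 0x5657001),(nat_lit 0x55b5001),(nat_lit 0x18ff3001),(nat_lit 0x19600001)],[(nat_lit 0x5589001),(nat_lit 0x557e001),(nat_lit 0x56f3001),(nat_lit 0x556f001),(nat_lit 0x5570001),(nat_lit 0x18c75001),(nat_lit 0xad3a418c77002)],[(nat_lit 0x18c71001),(nat_lit 0x18c54001),(nat_lit 0x18ff2001),(nat_lit 0x18c76001),(nat_lit 0x18c55001),(nat_lit 0x18844001),(nat_lit 0xaf22e47ac2002)],[(nat_lit 0xb3deb46e15002),(nat_lit 0xaeb56565a4002),(nat_lit 0xaf23446f36002),(nat_lit 0xb3e92462fd002),(nat_lit 0xaf235565a6002),(nat_lit 0xaf22e47ac4002),(nat_lit 0x18845001)],[(nat_lit 0x18f2e001),(nat_lit 0x172c2141e8002),(nat_lit 0x172f414366002),(nat_lit 0x18e7c141e7002),(nat_lit 0x20382194e6002),(nat_lit 0x18e1c18847002),(nat_lit 0x1a089001)],[(nat_lit 0x18e2613c64002),(nat_lit 0x18e7c13f79002),(nat_lit 0x172a613f7a002),(nat_lit 0x172c213d7d002),(nat_lit 0x18e8013f7c002),(nat_lit 0x18e1e13c65002),(nat_lit 0x4a1b001)],[(nat_lit 0x188b0055ca002),(nat_lit 0x5cf3001),(nat_lit 0x558b001),(nat_lit 0x558c001),(nat_lit 0x2038318c98002),(nat_lit 0x55bc001),(nat_lit 0x17850001)],[(nat_lit 0x56f1001),(nat_lit 0x464d1199ff002),(nat_lit 0x564a001),(nat_lit 0x5a0e001),(nat_lit 0x56f2001),(nat_lit 0x56f4001),(nat_lit 0x19a00001)],[(nat_lit 0x1f0c001),(nat_lit 0x1ed2001),(nat_lit 0x56f5001),(nat_lit 0x1e85001),(nat_lit 0x571c001),(nat_lit 0x1e84001),(nat_lit 0x571d001)],[(nat_lit 0x5d28319a04002),(nat_lit 0x19a05001),(nat_lit 0x19a06001),(nat_lit 0x19a07001),(nat_lit 0xa9be819a08002),(nat_lit 0x5d26519a09002),(nat_lit 0x564b001)],[(nat_lit 0x5b3b505adf002),(nat_lit 0x5b35f05ae0002),(nat_lit 0x5b32c05ae1002),(nat_lit 0x5b36005ae2002),(nat_lit 0x5ae3001),(nat_lit 0x5b3e205ae4002),(nat_lit 0x1f13001)],[(nat_lit 0x19a12001),(nat_lit 0x564d001),(nat_lit 0x19a13001),(nat_lit 0x5760001),(nat_lit 0x5762001),(nat_lit 0x5764001),(nat_lit 0x19a14001)],[(nat_lit 0x5759001),(nat_lit 0x19ad0001),(nat_lit 0x56f6001),(nat_lit 0x19ad1001),(nat_lit 0x5766001),(nat_lit 0x5768001),(nat_lit 0x19ad2001)],[(nat_lit 0x575b001),(nat_lit 0x5761001),(nat_lit 0x19ad3001),(nat_lit 0x56f7001),(nat_lit 0x204ad19ad4002),(nat_lit 0x576a001),(nat_lit 0x19ad5001)],[(nat_lit 0x575d001),(nat_lit 0x5763001),(nat_lit 0x5767001),(nat_lit 0x19ad6001),(nat_lit 0x56f8001),(nat_lit 0x19ad7001),(nat_lit 0xbc95819ad8002)],[(nat_lit 0x188eb084aa002),(nat_lit 0x84ab001),(nat_lit 0x18af318977002),(nat_lit 0x18978001),(nat_lit 0x18979001),(nat_lit 0x84ac001),(nat_lit 0x1897a001)],[(nat_lit 0x18af318863002),(nat_lit 0x18fe7001),(nat_lit 0x16a34001),(nat_lit 0x17b22001),(nat_lit 0xada7118867002),(nat_lit 0x188ea18869002),(nat_lit 0x168d1001)],[(nat_lit 0x179e2001),(nat_lit 0x55c0001),(nat_lit 0x18897098b2002),(nat_lit 0x55bf001),(nat_lit 0x194ed001),(nat_lit 0x188961886e002),(nat_lit 0x1a9dc18ae8002)],[(nat_lit 0x18865001),(nat_lit 0x55c2001),(nat_lit 0xada7118868002),(nat_lit 0x194f3001),(nat_lit 0x55c1001),(nat_lit 0x194f5001),(nat_lit 0x19605001)],[(nat_lit 0x1806d001),(nat_lit 0x1a0e20828c002),(nat_lit 0x1a0c61806e002),(nat_lit 0x1806f001),(nat_lit 0x1a0e4001),(nat_lit 0x828b001),(nat_lit 0x1a0e5001)],[(nat_lit 0x277fc001),(nat_lit 0x18a211423e002),(nat_lit 0x18fe8001),(nat_lit 0x1423d001),(nat_lit 0x194e9001),(nat_lit 0x18a23001),(nat_lit 0x21885001)],[(nat_lit 0x18a151885f002),(nat_lit 0x194ea001),(nat_lit 0x55c6001),(nat_lit 0x19300001),(nat_lit 0x55c5001),(nat_lit 0x194f7001),(nat_lit 0x19609001)],[(nat_lit 0x18879001),(nat_lit 0x1887a001),(nat_lit 0x189651887b002),(nat_lit 0x18878001),(nat_lit 0x19995001),(nat_lit 0x18c60001),(nat_lit 0x18877001)],[(nat_lit 0x55e8001),(nat_lit 0x188e0097e6002),(nat_lit 0x557a001),(nat_lit 0x1896405579002),(nat_lit 0x18c80001),(nat_lit 0x188de055e0002),(nat_lit 0x18c82001)],[(nat_lit 0x194ec001),(nat_lit 0x194ee001),(nat_lit 0x18c81001),(nat_lit 0x199e218fe9002),(nat_lit 0x18c11001),(nat_lit 0x2035c1c836002),(nat_lit 0x2035d001)],[(nat_lit 0x194f0001),(nat_lit 0x194f4001),(nat_lit 0x1c833001),(nat_lit 0x18c14001),(nat_lit 0x199e218fea002),(nat_lit 0x194f9001),(nat_lit 0x565bb001)],[(nat_lit 0x194f2001),(nat_lit 0x194f6001),(nat_lit 0x194f8001),(nat_lit 0x194fa001),(nat_lit 0x18c68001),(nat_lit 0x18c15001),(nat_lit 0xab0c0565bf002)],[(nat_lit 0xac62f565c0002),(nat_lit 0x565c1001),(nat_lit 0xab0bd565c2002),(nat_lit 0xaa7a7565c3002),(nat_lit 0xab0be565c4002),(nat_lit 0xab0b9565c5002),(nat_lit 0x18c16001)],[(nat_lit 0x1ed9001),(nat_lit 0x2390001),(nat_lit 0x1e9b001),(nat_lit 0x5803001),(nat_lit 0x1e9c001),(nat_lit 0x1edf001),(nat_lit 0x5804001)],[(nat_lit 0x1edc001),(nat_lit 0x1e90001),(nat_lit 0x1ee0001),(nat_lit 0x1e91001),(nat_lit 0x1eed001),(nat_lit 0x1e8f001),(nat_lit 0x57de001)],[(nat_lit 0x2055d05805002),(nat_lit 0x5806001),(nat_lit 0x5807001),(nat_lit 0x2048405808002),(nat_lit 0x58d2001),(nat_lit 0x20533058d3002),(nat_lit 0x1e9d001)],[(nat_lit 0x19c5d18809002),(nat_lit 0x1a7381880a002),(nat_lit 0x1a7391880b002),(nat_lit 0x203b81880c002),(nat_lit 0x1880d001),(nat_lit 0x1a73a1880e002),(nat_lit 0x5517001)],[(nat_lit 0x1a590001),(nat_lit 0x57e3001),(nat_lit 0x1a591001),(nat_lit 0x5871001),(nat_lit 0x5873001),(nat_lit 0x5875001),(nat_lit 0x1a592001)],[(nat_lit 0x586b001),(nat_lit 0x1a596001),(nat_lit 0x57e4001),(nat_lit 0x1a597001),(nat_lit 0x5877001),(nat_lit 0x5879001),(nat_lit 0x1a598001)],[(nat_lit 0x2037b0586d002),(nat_lit 0x5872001),(nat_lit 0x203641a599002),(nat_lit 0x57e5001),(nat_lit 0x203851a59a002),(nat_lit 0x203860587b002),(nat_lit 0x203871a59b002)],[(nat_lit 0x586f001),(nat_lit 0x5874001),(nat_lit 0x5878001),(nat_lit 0x1a59c001),(nat_lit 0x57e6001),(nat_lit 0x1a59d001),(nat_lit 0x1a59e001)],[(nat_lit 0x213e20656e002),(nat_lit 0x3e32001),(nat_lit 0x3e33001),(nat_lit 0x213ea06611002),(nat_lit 0x3e31001),(nat_lit 0x3e34001),(nat_lit 0x2181010221002)],[(nat_lit 0x2139505a5c002),(nat_lit 0x5a13001),(nat_lit 0x59d6001),(nat_lit 0x2145f1b512002),(nat_lit 0x5a63001),(nat_lit 0x2139105a65002),(nat_lit 0x1b513001)],[(nat_lit 0x5a5e001),(nat_lit 0x1f1e001),(nat_lit 0x5b9c001),(nat_lit 0x1f1d001),(nat_lit 0x5a75001),(nat_lit 0x18e3c059d8002),(nat_lit 0x5b9d001)],[(nat_lit 0x213ed05a60002),(nat_lit 0x1f20001),(nat_lit 0x5a64001),(nat_lit 0x5a7e001),(nat_lit 0x1f1f001),(nat_lit 0x2145c05a80002),(nat_lit 0x5ba3001)],[(nat_lit 0x220351b514002),(nat_lit 0x220361b515002),(nat_lit 0x220301b516002),(nat_lit 0x220371b517002),(nat_lit 0x220381b518002),(nat_lit 0x2275e1b519002),(nat_lit 0x59d7001)],[(nat_lit 0x213ae1b51a002),(nat_lit 0x59db001),(nat_lit 0x5a14001),(nat_lit 0x5a69001),(nat_lit 0x5a6b001),(nat_lit 0x5a6d001),(nat_lit 0x1b51b001)],[(nat_lit 0x5a68001),(nat_lit 0x5a6a001),(nat_lit 0x172b705a25002),(nat_lit 0x59dc001),(nat_lit 0x172b8001),(nat_lit 0x5a6f001),(nat_lit 0x18c90001)],[(nat_lit 0x18ebc059cd002),(nat_lit 0x5a6c001),(nat_lit 0x1f24001),(nat_lit 0x5bb3001),(nat_lit 0x1f23001),(nat_lit 0x2148105a81002),(nat_lit 0x5bb4001)],[(nat_lit 0x18ebd18852002),(nat_lit 0x18850001),(nat_lit 0x18ebd1884f002),(nat_lit 0x18878001),(nat_lit 0x2c5461b51e002),(nat_lit 0x18eb218851002),(nat_lit 0x59dd001)],[(nat_lit 0x18dfd04a99002),(nat_lit 0x18d9a14284002),(nat_lit 0x18e0004a98002),(nat_lit 0x18d99141cc002),(nat_lit 0x18e0113f6c002),(nat_lit 0x18e0213d6d002),(nat_lit 0x14286001)],[(nat_lit 0x4a9d001),(nat_lit 0x18e58141c1002),(nat_lit 0x18e0113f6e002),(nat_lit 0xc3c01141dd002),(nat_lit 0x18e0004a9c002),(nat_lit 0x21510141de002),(nat_lit 0x14287001)],[(nat_lit 0x5a7c001),(nat_lit 0x5a7f001),(nat_lit 0x214d71b520002),(nat_lit 0x59e1001),(nat_lit 0xa991c05a16002),(nat_lit 0x214d605a82002),(nat_lit 0x1b521001)],[(nat_lit 0x3bc2001),(nat_lit 0x3bc3001),(nat_lit 0x3c5e001),(nat_lit 0x3c16001),(nat_lit 0x3bc1001),(nat_lit 0x2145b0671e002),(nat_lit 0xe408001)],[(nat_lit 0x2b6031b524002),(nat_lit 0x25a9f1b525002),(nat_lit 0x25aa11b526002),(nat_lit 0x1b527001),(nat_lit 0x25aa21b528002),(nat_lit 0x2b61b1b529002),(nat_lit 0x59e3001)],[(nat_lit 0x5897001),(nat_lit 0x5899001),(nat_lit 0x5822001),(nat_lit 0x57ef001),(nat_lit 0x1a5b9001),(nat_lit 0x589a001),(nat_lit 0xa7d671a5ba002)],[(nat_lit 0x5d2dd1a5be002),(nat_lit 0x1a5bf001),(nat_lit 0x1a5c0001),(nat_lit 0x1a5c1001),(nat_lit 0x1a5c2001),(nat_lit 0x5d28d1a5c3002),(nat_lit 0x57f0001)],[(nat_lit 0x98b501a5cc002),(nat_lit 0x57f2001),(nat_lit 0x98b471a5cd002),(nat_lit 0x58a3001),(nat_lit 0x58a5001),(nat_lit 0x58a7001),(nat_lit 0x1a5ce001)],[(nat_lit 0x589d001),(nat_lit 0x1a5d2001),(nat_lit 0x57f3001),(nat_lit 0x1a5d3001),(nat_lit 0x58a9001),(nat_lit 0x58ab001),(nat_lit 0x1a5d4001)],[(nat_lit 0x589f001),(nat_lit 0x58a4001),(nat_lit 0x1a5d5001),(nat_lit 0x57f4001),(nat_lit 0x1a5d6001),(nat_lit 0x58ad001),(nat_lit 0x1a5d7001)],[(nat_lit 0x58a1001),(nat_lit 0x58a6001),(nat_lit 0x58aa001),(nat_lit 0x98afb1a5d8002),(nat_lit 0x57f5001),(nat_lit 0x98afc1a5d9002),(nat_lit 0x1a5da001)],[(nat_lit 0x5aa6001),(nat_lit 0x6225501f36002),(nat_lit 0x5aaa001),(nat_lit 0x62252059ff002),(nat_lit 0x623ae05b27002),(nat_lit 0x1f35001),(nat_lit 0x5bda001)],[(nat_lit 0x62240059f5002),(nat_lit 0x5ab2001),(nat_lit 0x6225501f3a002),(nat_lit 0x5ab4001),(nat_lit 0xaff1e05b28002),(nat_lit 0x1f39001),(nat_lit 0x5c2f001)],[(nat_lit 0x621e4059f8002),(nat_lit 0x62252059fe002),(nat_lit 0x5abe001),(nat_lit 0x6225501f3c002),(nat_lit 0x5c34001),(nat_lit 0x1f3b001),(nat_lit 0x5c35001)],[(nat_lit 0x58b4001),(nat_lit 0x58b8001),(nat_lit 0xafa1e058bb002),(nat_lit 0xafa1f1a5e8002),(nat_lit 0x57fb001),(nat_lit 0x6256c1a5e9002),(nat_lit 0xafa211a5ea002)],[(nat_lit 0x59fa001),(nat_lit 0x5a19001),(nat_lit 0x5a9f001),(nat_lit 0x5aa1001),(nat_lit 0x5aa3001),(nat_lit 0x5aa5001),(nat_lit 0x1b546001)],[(nat_lit 0x5aa0001),(nat_lit 0x5a1a001),(nat_lit 0x59fb001),(nat_lit 0x1b54d001),(nat_lit 0x5aa7001),(nat_lit 0x5aa9001),(nat_lit 0x1b54e001)],[(nat_lit 0x5aa2001),(nat_lit 0x1f32001),(nat_lit 0x5bcf001),(nat_lit 0x1f31001),(nat_lit 0x5ab9001),(nat_lit 0x62252059fd002),(nat_lit 0x5bd0001)],[(nat_lit 0x5aa4001),(nat_lit 0x1f34001),(nat_lit 0x5aa8001),(nat_lit 0x5b18001),(nat_lit 0x1f33001),(nat_lit 0x5b1a001),(nat_lit 0x5bd6001)],[(nat_lit 0xca3931b552002),(nat_lit 0x1b553001),(nat_lit 0x1b554001),(nat_lit 0xc8b051b555002),(nat_lit 0x1b556001),(nat_lit 0xca5331b557002),(nat_lit 0x59fc001)],[(nat_lit 0xab3561b55f002),(nat_lit 0x5a00001),(nat_lit 0x5a1b001),(nat_lit 0xa9a6f05aad002),(nat_lit 0x5aaf001),(nat_lit 0x5ab1001),(nat_lit 0x1b560001)],[(nat_lit 0xa870811671002),(nat_lit 0x4230001),(nat_lit 0x11675001),(nat_lit 0xa9a711170d002),(nat_lit 0x422f001),(nat_lit 0xa9a721170e002),(nat_lit 0x1170f001)],[(nat_lit 0x62299059f2002),(nat_lit 0x5ab0001),(nat_lit 0x1f38001),(nat_lit 0xa918805c2b002),(nat_lit 0x1f37001),(nat_lit 0x5b1c001),(nat_lit 0x5c2c001)],[(nat_lit 0x623b01b566002),(nat_lit 0x1b567001),(nat_lit 0x607bd1b568002),(nat_lit 0x1b569001),(nat_lit 0x6090f1b56a002),(nat_lit 0x623b11b56b002),(nat_lit 0x5a02001)],[(nat_lit 0x5ab6001),(nat_lit 0x1b56c001),(nat_lit 0x5a03001),(nat_lit 0x1a716001),(nat_lit 0x5abb001),(nat_lit 0x5abd001),(nat_lit 0x1b56d001)],[(nat_lit 0x5ab8001),(nat_lit 0x5aba001),(nat_lit 0x5abc001),(nat_lit 0x5aef001),(nat_lit 0x5a04001),(nat_lit 0x1b572001),(nat_lit 0x1b573001)],[(nat_lit 0xab6201b577002),(nat_lit 0x5adc81b578002),(nat_lit 0xaa74a1b579002),(nat_lit 0xac0bc1b57a002),(nat_lit 0xaa8351b57b002),(nat_lit 0x622e91b57c002),(nat_lit 0x5a05001)],[(nat_lit 0x5b12001),(nat_lit 0x5b19001),(nat_lit 0x1ba2d001),(nat_lit 0x5abf001),(nat_lit 0x5af0001),(nat_lit 0x5b1e001),(nat_lit 0x1ba2e001)],[(nat_lit 0x5b14001),(nat_lit 0x5b1b001),(nat_lit 0x5b1d001),(nat_lit 0x5b1f001),(nat_lit 0x5af1001),(nat_lit 0x5ac0001),(nat_lit 0x1ba2f001)],[(nat_lit 0xbc88e1ba30002),(nat_lit 0x1ba31001),(nat_lit 0x1ba32001),(nat_lit 0x1ba33001),(nat_lit 0x1ba34001),(nat_lit 0xbd2cc1ba35002),(nat_lit 0x5ac1001)],[(nat_lit 0x55d3001),(nat_lit 0x1960a001),(nat_lit 0x55d2001),(nat_lit 0x194fb001),(nat_lit 0x56ce001),(nat_lit 0x56da001),(nat_lit 0x1960b001)],[(nat_lit 0x55d5001),(nat_lit 0x566a001),(nat_lit 0x56c1001),(nat_lit 0x55d4001),(nat_lit 0x56c3001),(nat_lit 0x56c5001),(nat_lit 0x1960c001)],[(nat_lit 0x55d7001),(nat_lit 0x566d001),(nat_lit 0x56cc001),(nat_lit 0x56cf001),(nat_lit 0x55d6001),(nat_lit 0x56d1001),(nat_lit 0xc5d8819610002)],[(nat_lit 0x28d06001),(nat_lit 0x28d07001),(nat_lit 0x28d08001),(nat_lit 0x28d09001),(nat_lit 0x28d0a001),(nat_lit 0x28d0b001),(nat_lit 0x18c1f001)],[(nat_lit 0x18c2d001),(nat_lit 0x5573001),(nat_lit 0x5574001),(nat_lit 0x99e7418c79002),(nat_lit 0x5671001),(nat_lit 0x5677001),(nat_lit 0x1a27718c7b002)],[(nat_lit 0x194fc001),(nat_lit 0x99e7418c7a002),(nat_lit 0x2c53f001),(nat_lit 0x18c24001),(nat_lit 0x9ab1e565d2002),(nat_lit 0x194fd001),(nat_lit 0x2a40e001)],[(nat_lit 0x56cd001),(nat_lit 0x566f001),(nat_lit 0x55db001),(nat_lit 0x1961c001),(nat_lit 0x55da001),(nat_lit 0x56d3001),(nat_lit 0x1961d001)],[(nat_lit 0x2330a001),(nat_lit 0x23856001),(nat_lit 0x232ef001),(nat_lit 0x232ee001),(nat_lit 0x565d3001),(nat_lit 0x2332c001),(nat_lit 0x18c25001)],[(nat_lit 0x56c2001),(nat_lit 0x18a681838e002),(nat_lit 0x5635001),(nat_lit 0x19083001),(nat_lit 0x56c8001),(nat_lit 0x56ca001),(nat_lit 0x29e951999f002)],[(nat_lit 0x56c4001),(nat_lit 0x18a40055f1002),(nat_lit 0x56c9001),(nat_lit 0x5660001),(nat_lit 0x55f0001),(nat_lit 0x18acc1838f002),(nat_lit 0x1962e001)],[(nat_lit 0x2bda0199a8002),(nat_lit 0x199a9001),(nat_lit 0x199aa001),(nat_lit 0x199ab001),(nat_lit 0x199ac001),(nat_lit 0x2c404199ad002),(nat_lit 0x5636001)],[(nat_lit 0x56d0001),(nat_lit 0x55fc001),(nat_lit 0x1963d001),(nat_lit 0x55fb001),(nat_lit 0x5662001),(nat_lit 0x56d5001),(nat_lit 0x1963e001)],[(nat_lit 0x56d2001),(nat_lit 0x55fe001),(nat_lit 0x56d4001),(nat_lit 0x56d7001),(nat_lit 0x5663001),(nat_lit 0x55fd001),(nat_lit 0xb38a31963f002)],[(nat_lit 0xc56eb199ae002),(nat_lit 0x199af001),(nat_lit 0xc56e6199b0002),(nat_lit 0x199b1001),(nat_lit 0x199b2001),(nat_lit 0xc56f0199b3002),(nat_lit 0x5637001)],[(nat_lit 0x9a95031782002),(nat_lit 0x9bb4f3170d002),(nat_lit 0x9a95d0a7fb002),(nat_lit 0x9c46531e5e002),(nat_lit 0x9c46830bc0002),(nat_lit 0xa7fa001),(nat_lit 0x9c46931e60002)],[(nat_lit 0x9bb4d31571002),(nat_lit 0x9bb4e0a80b002),(nat_lit 0x9bb4f3170e002),(nat_lit 0x9bb50317ad002),(nat_lit 0xa9d7001),(nat_lit 0xa80a001),(nat_lit 0x9bb5231e70002)],[(nat_lit 0x28cfa1e899002),(nat_lit 0x233061e89a002),(nat_lit 0x216761e89b002),(nat_lit 0x232f91e89c002),(nat_lit 0x1e89d001),(nat_lit 0x2166b1e89e002),(nat_lit 0x65c8001)],[(nat_lit 0x9c45d317bc002),(nat_lit 0x9c46830bbe002),(nat_lit 0xc1420b6af002),(nat_lit 0x33364001),(nat_lit 0x9bb4f3170f002),(nat_lit 0xc13f0b6ae002),(nat_lit 0x94ac234940002)],[(nat_lit 0x99b6001),(nat_lit 0x99b5001),(nat_lit 0x18c2c001),(nat_lit 0x9a74b18c2f002),(nat_lit 0x18c37001),(nat_lit 0x18b20001),(nat_lit 0x19713001)],[(nat_lit 0x9a74b18c30002),(nat_lit 0x55e2001),(nat_lit 0x919c001),(nat_lit 0x55e1001),(nat_lit 0x203b519511002),(nat_lit 0x56e9001),(nat_lit 0x1914718057002)],[(nat_lit 0x18c38001),(nat_lit 0x55e4001),(nat_lit 0x5670001),(nat_lit 0x56e1001),(nat_lit 0x55e3001),(nat_lit 0x56e3001),(nat_lit 0x1961f001)],[(nat_lit 0x1715816f31002),(nat_lit 0x19049001),(nat_lit 0x16c6a001),(nat_lit 0x180ae16d86002),(nat_lit 0x16f3c001),(nat_lit 0x16f3e001),(nat_lit 0x18368001)],[(nat_lit 0x192e0001),(nat_lit 0x2d8db001),(nat_lit 0x1962c001),(nat_lit 0x192e1001),(nat_lit 0x4c0b0001),(nat_lit 0x1962d001),(nat_lit 0x18c3a001)],[(nat_lit 0x56b7001),(nat_lit 0x56e4001),(nat_lit 0x5600001),(nat_lit 0x56e6001),(nat_lit 0x5666001),(nat_lit 0x55ff001),(nat_lit 0x19640001)],[(nat_lit 0x635bc199bd002),(nat_lit 0x199be001),(nat_lit 0x199bf001),(nat_lit 0x199c0001),(nat_lit 0x199c1001),(nat_lit 0x635b3199c2002),(nat_lit 0x563a001)],[(nat_lit 0x214f8001),(nat_lit 0x18c3b001),(nat_lit 0x2146518c3c002),(nat_lit 0x19514001),(nat_lit 0x19516001),(nat_lit 0x19519001),(nat_lit 0x25bd5001)],[(nat_lit 0x18879001),(nat_lit 0x18394001),(nat_lit 0x18396001),(nat_lit 0x18ebd1884d002),(nat_lit 0x1951c001),(nat_lit 0x18395001),(nat_lit 0x189cb1887c002)],[(nat_lit 0x18fe5001),(nat_lit 0x19515001),(nat_lit 0x18f48001),(nat_lit 0x18c3d001),(nat_lit 0x565e1001),(nat_lit 0x18f4a001),(nat_lit 0x18c3e001)],[(nat_lit 0x19513001),(nat_lit 0x19517001),(nat_lit 0x1951e001),(nat_lit 0xaf8d5565e2002),(nat_lit 0x18c3f001),(nat_lit 0x609254340b002),(nat_lit 0x60780565e3002)],[(nat_lit 0x267d5001),(nat_lit 0x13fcb001),(nat_lit 0x17b64001),(nat_lit 0x1423d001),(nat_lit 0x1423f001),(nat_lit 0x14241001),(nat_lit 0x2ccd5001)],[(nat_lit 0x18a50056af002),(nat_lit 0x18a70001),(nat_lit 0x18a40055f3002),(nat_lit 0x18a72001),(nat_lit 0x189d6055f2002),(nat_lit 0x18a6e17c5a002),(nat_lit 0x19633001)],[(nat_lit 0x192d9001),(nat_lit 0x18fc0001),(nat_lit 0x18fbb001),(nat_lit 0x18fba001),(nat_lit 0x2d259001),(nat_lit 0x192dc001),(nat_lit 0x13fce001)],[(nat_lit 0x565b001),(nat_lit 0x5661001),(nat_lit 0x18c7c001),(nat_lit 0x18a4005575002),(nat_lit 0x5576001),(nat_lit 0x18ace001),(nat_lit 0x18c7e001)],[(nat_lit 0x21eba13fd8002),(nat_lit 0x14249001),(nat_lit 0x1424c001),(nat_lit 0x1424f001),(nat_lit 0x14156001),(nat_lit 0x13fd7001),(nat_lit 0x3d584001)],[(nat_lit 0x3d455001),(nat_lit 0x3d456001),(nat_lit 0x3d457001),(nat_lit 0x3d458001),(nat_lit 0x3d459001),(nat_lit 0x3d45a001),(nat_lit 0x13fd9001)],[(nat_lit 0x2155c001),(nat_lit 0x2807f001),(nat_lit 0x2155d001),(nat_lit 0xe875001),(nat_lit 0x2155e001),(nat_lit 0xe874001),(nat_lit 0xafb5a3ca6e002)],[(nat_lit 0x56ba001),(nat_lit 0x56d6001),(nat_lit 0x2151919522002),(nat_lit 0x5602001),(nat_lit 0x19641001),(nat_lit 0x5601001),(nat_lit 0x19642001)],[(nat_lit 0x5b2c0565e6002),(nat_lit 0x56f08001),(nat_lit 0xac48b56f09002),(nat_lit 0x56f0a001),(nat_lit 0xacd9d56f0b002),(nat_lit 0x5b2aa56f0c002),(nat_lit 0x18c41001)],[(nat_lit 0xad6661b947002),(nat_lit 0x6ae6001),(nat_lit 0xad66720015002),(nat_lit 0x6ae5001),(nat_lit 0x1fbe4001),(nat_lit 0xaccac170f6002),(nat_lit 0xad66920016002)],[(nat_lit 0x170f0001),(nat_lit 0xaccac170f5002),(nat_lit 0x17b3a001),(nat_lit 0x6ae8001),(nat_lit 0xaccaf20017002),(nat_lit 0x6ae7001),(nat_lit 0xaa98620018002)],[(nat_lit 0x19524001),(nat_lit 0xadfed56f2d002),(nat_lit 0x18c4f001),(nat_lit 0x3cb05001),(nat_lit 0x19530001),(nat_lit 0x595f519532002),(nat_lit 0x5735d56f2e002)],[(nat_lit 0xaccab1b949002),(nat_lit 0x6a57001),(nat_lit 0x6a58001),(nat_lit 0xaccac170f4002),(nat_lit 0xac08c142c6002),(nat_lit 0x6a56001),(nat_lit 0xaccad1ff8d002)],[(nat_lit 0x19528001),(nat_lit 0x1952e001),(nat_lit 0x19531001),(nat_lit 0xc2bb83d516002),(nat_lit 0x18c51001),(nat_lit 0xc2b7256f33002),(nat_lit 0xc345756f34002)],[(nat_lit 0xac6221a59f002),(nat_lit 0x57e8001),(nat_lit 0x582b001),(nat_lit 0x587d001),(nat_lit 0x5880001),(nat_lit 0x587f001),(nat_lit 0xac6241a5a0002)],[(nat_lit 0x23e9001),(nat_lit 0x5881001),(nat_lit 0x23ea001),(nat_lit 0x4fe3001),(nat_lit 0x23e8001),(nat_lit 0x4f2e001),(nat_lit 0xa99c60693c002)],[(nat_lit 0x1c35001),(nat_lit 0x49e2001),(nat_lit 0xa7caa04ec6002),(nat_lit 0x1c36001),(nat_lit 0x1c37001),(nat_lit 0x1c34001),(nat_lit 0xa7cb004ec9002)],[(nat_lit 0x49d6001),(nat_lit 0x1c33001),(nat_lit 0x4ec4001),(nat_lit 0x1c32001),(nat_lit 0x1c67001),(nat_lit 0x49e1001),(nat_lit 0x4ec5001)],[(nat_lit 0x4ea2001),(nat_lit 0xa7ca815723002),(nat_lit 0x4ea1001),(nat_lit 0xa7caa04ec8002),(nat_lit 0x4ebd001),(nat_lit 0xa7caa04ec7002),(nat_lit 0xa99f515724002)],[(nat_lit 0x2cf6001),(nat_lit 0x1bdb001),(nat_lit 0x2f64001),(nat_lit 0x1bda001),(nat_lit 0x2c8d001),(nat_lit 0x1bdc001),(nat_lit 0x4de0001)],[(nat_lit 0x2cec001),(nat_lit 0x2ced001),(nat_lit 0x2f5f001),(nat_lit 0x2ceb001),(nat_lit 0x2f23001),(nat_lit 0x2cf8001),(nat_lit 0x90a7001)],[(nat_lit 0x2f60001),(nat_lit 0x5926001),(nat_lit 0x2f21001),(nat_lit 0x9cd3001),(nat_lit 0x2f61001),(nat_lit 0x2f63001),(nat_lit 0x9cd4001)],[(nat_lit 0x2f24001),(nat_lit 0x1ee7001),(nat_lit 0x2f62001),(nat_lit 0x1ee8001),(nat_lit 0x1ee6001),(nat_lit 0x4ca2001),(nat_lit 0x59b4001)],[(nat_lit 0x2c47809cd5002),(nat_lit 0x9cd6001),(nat_lit 0x9cd7001),(nat_lit 0x9cd8001),(nat_lit 0x9cd9001),(nat_lit 0x2c46b09cda002),(nat_lit 0x2f22001)],[(nat_lit 0xae1d11b01d002),(nat_lit 0x58e3001),(nat_lit 0x5927001),(nat_lit 0x58e5001),(nat_lit 0x5969001),(nat_lit 0x58e6001),(nat_lit 0xae1df1b01e002)],[(nat_lit 0x1eea001),(nat_lit 0x596a001),(nat_lit 0x1eeb001),(nat_lit 0x4bf2001),(nat_lit 0x1ee9001),(nat_lit 0x4cad001),(nat_lit 0x59be001)],[(nat_lit 0x4bdf001),(nat_lit 0x4ca3001),(nat_lit 0x4ca9001),(nat_lit 0x4be0001),(nat_lit 0x4be1001),(nat_lit 0x4bde001),(nat_lit 0xa9a42148a9002)],[(nat_lit 0x1b14716c62002),(nat_lit 0xab18516c63002),(nat_lit 0x1a7da16c64002),(nat_lit 0xa9a4516c65002),(nat_lit 0x16c66001),(nat_lit 0xaa60616c67002),(nat_lit 0x52cf001)],[(nat_lit 0x57b1001),(nat_lit 0x1ad080583d002),(nat_lit 0x5919001),(nat_lit 0x590a001),(nat_lit 0x5979001),(nat_lit 0x57b0001),(nat_lit 0xacc461a059002)],[(nat_lit 0x591a001),(nat_lit 0xabfce05840002),(nat_lit 0x57b5001),(nat_lit 0xabfd319fbd002),(nat_lit 0x597b001),(nat_lit 0xaa56f057b4002),(nat_lit 0x1a05e001)],[(nat_lit 0x5909001),(nat_lit 0x5726001),(nat_lit 0x5978001),(nat_lit 0x5727001),(nat_lit 0x598a001),(nat_lit 0x5725001),(nat_lit 0xb01ca19b72002)],[(nat_lit 0x1acf019b25002),(nat_lit 0xab25b05786002),(nat_lit 0x1ad2e19f60002),(nat_lit 0xab25c19f63002),(nat_lit 0x1acef05785002),(nat_lit 0x1ad2f19b27002),(nat_lit 0xad0971a02b002)],[(nat_lit 0x5594001),(nat_lit 0x5da6a18c9d002),(nat_lit 0x18c9f001),(nat_lit 0x5d96105593002),(nat_lit 0x18ca1001),(nat_lit 0xacc41187c3002),(nat_lit 0xab39e18ca3002)],[(nat_lit 0x1accf05989002),(nat_lit 0x598b001),(nat_lit 0x598d001),(nat_lit 0xaa5e51a099002),(nat_lit 0x591f001),(nat_lit 0xa9a4419ca7002),(nat_lit 0xaa5411acd7002)],[(nat_lit 0x2f2c001),(nat_lit 0xa99ef08da6002),(nat_lit 0x2f2d001),(nat_lit 0xa8f5809487002),(nat_lit 0x2f2e001),(nat_lit 0x2f2b001),(nat_lit 0xaa53f09ce8002)],[(nat_lit 0xaa56f057ab002),(nat_lit 0xabfd51a04c002),(nat_lit 0x57aa001),(nat_lit 0xabfd619fba002),(nat_lit 0x590e001),(nat_lit 0x591b001),(nat_lit 0x1a04d001)],[(nat_lit 0x57ad001),(nat_lit 0x1ad0905836002),(nat_lit 0x5973001),(nat_lit 0x57ac001),(nat_lit 0x5906001),(nat_lit 0x5908001),(nat_lit 0xacc591a04e002)],[(nat_lit 0x57af001),(nat_lit 0x1ad4605838002),(nat_lit 0x590c001),(nat_lit 0x590f001),(nat_lit 0x57ae001),(nat_lit 0x5911001),(nat_lit 0x1a052001)],[(nat_lit 0xacc41187c4002),(nat_lit 0x5dabf187ca002),(nat_lit 0x18cd1001),(nat_lit 0x5d984055a4002),(nat_lit 0x18cd3001),(nat_lit 0x55a3001),(nat_lit 0xab39f18cd4002)],[(nat_lit 0xa035001),(nat_lit 0x94ee001),(nat_lit 0x2d7c2001),(nat_lit 0x94ed001),(nat_lit 0x2d641001),(nat_lit 0x9570001),(nat_lit 0xab5512d7c3002)],[(nat_lit 0xab23109d09002),(nat_lit 0x2f46001),(nat_lit 0xa99e602f47002),(nat_lit 0x956a001),(nat_lit 0x2fa8001),(nat_lit 0xa99ee08d85002),(nat_lit 0x9d0b001)],[(nat_lit 0xacc5b303f9002),(nat_lit 0x303fa001),(nat_lit 0xab556303fb002),(nat_lit 0xab557303fc002),(nat_lit 0x303fd001),(nat_lit 0xacc5c303fe002),(nat_lit 0x9ed2001)],[(nat_lit 0x5974001),(nat_lit 0x19ca4001),(nat_lit 0x5904001),(nat_lit 0x1b02e001),(nat_lit 0x5975001),(nat_lit 0x5977001),(nat_lit 0xabfde1b02f002)],[(nat_lit 0x5907001),(nat_lit 0x57c4001),(nat_lit 0x5976001),(nat_lit 0xa99e705832002),(nat_lit 0x57c3001),(nat_lit 0xab2d719fd6002),(nat_lit 0xabee61a55f002)],[(nat_lit 0xabfe01b033002),(nat_lit 0xabfe11b034002),(nat_lit 0xb01c91b035002),(nat_lit 0xabfe31b036002),(nat_lit 0xafe9f1b037002),(nat_lit 0xb01c71b038002),(nat_lit 0x5905001)],[(nat_lit 0xa99e409c60002),(nat_lit 0x2f13001),(nat_lit 0x40c8001),(nat_lit 0xa99e602f28002),(nat_lit 0x2f51001),(nat_lit 0x2f12001),(nat_lit 0x9cc1001)],[(nat_lit 0xa99eb09c5a002),(nat_lit 0x2f0f001),(nat_lit 0xa99ee08d84002),(nat_lit 0x2f0e001),(nat_lit 0xa99ef08da5002),(nat_lit 0xa99e602f29002),(nat_lit 0x9cbf001)],[(nat_lit 0xac0291b041002),(nat_lit 0x1b042001),(nat_lit 0x1b043001),(nat_lit 0x1b044001),(nat_lit 0x1b045001),(nat_lit 0xab2431b046002),(nat_lit 0x590b001)],[(nat_lit 0x1c265001),(nat_lit 0xacc4019460002),(nat_lit 0x5dc2257147002),(nat_lit 0x5da6b1945f002),(nat_lit 0xae0c556471002),(nat_lit 0x5da6a1c266002),(nat_lit 0x57149001)],[(nat_lit 0x195b2001),(nat_lit 0x5dab657261002),(nat_lit 0xacc41195b3002),(nat_lit 0x1c9eb001),(nat_lit 0xae0c64b4d6002),(nat_lit 0x195b1001),(nat_lit 0x57265001)],[(nat_lit 0x5da70187f5002),(nat_lit 0x5da6b187f6002),(nat_lit 0x5da71187f7002),(nat_lit 0xacc40187f8002),(nat_lit 0x5da72187f9002),(nat_lit 0x5da73187fa002),(nat_lit 0x5512001)],[(nat_lit 0x195ec001),(nat_lit 0xae0c556472002),(nat_lit 0xae0c64b4d8002),(nat_lit 0x5dc2c5688c002),(nat_lit 0xacc41195eb002),(nat_lit 0x572b8001),(nat_lit 0xbf137572bc002)],[(nat_lit 0xac0811c1ea002),(nat_lit 0x5ca0001),(nat_lit 0xac07e1c232002),(nat_lit 0x5d5f001),(nat_lit 0x5d61001),(nat_lit 0x1ad0405d63002),(nat_lit 0xab8d61c234002)],[(nat_lit 0x1ad1a058f6002),(nat_lit 0xac06f19fd1002),(nat_lit 0x57c6001),(nat_lit 0xa9a261a564002),(nat_lit 0xaa5ad057c5002),(nat_lit 0xa9a4619fd8002),(nat_lit 0xab1a91a565002)],[(nat_lit 0xab16909c5d002),(nat_lit 0x2f11001),(nat_lit 0x2f49001),(nat_lit 0xa99f0094eb002),(nat_lit 0x2f10001),(nat_lit 0xa99f1093c4002),(nat_lit 0xab18209cc0002)],[(nat_lit 0x6bf4001),(nat_lit 0x5938001),(nat_lit 0x699d001),(nat_lit 0x67f6001),(nat_lit 0x5946001),(nat_lit 0x67f7001),(nat_lit 0x4930001)],[(nat_lit 0x736001),(nat_lit 0x13dc001),(nat_lit 0x737001),(nat_lit 0x735001),(nat_lit 0x1a28001),(nat_lit 0x738001),(nat_lit 0x11c7001)],[(nat_lit 0xfcc001),(nat_lit 0x10eb001),(nat_lit 0xfcd001),(nat_lit 0x13ed001),(nat_lit 0xfcb001),(nat_lit 0x134e001),(nat_lit 0x2fed001)],[(nat_lit 0x54a001),(nat_lit 0x54b001),(nat_lit 0x1334001),(nat_lit 0x549001),(nat_lit 0x54c001),(nat_lit 0x1337001),(nat_lit 0x1933001)],[(nat_lit 0x1064001),(nat_lit 0x1065001),(nat_lit 0x1350001),(nat_lit 0x133a001),(nat_lit 0x1066001),(nat_lit 0x1063001),(nat_lit 0x321b001)],[(nat_lit 0xf00303b4e002),(nat_lit 0x3b4f001),(nat_lit 0xf81a03b50002),(nat_lit 0xf01603b5b002),(nat_lit 0xf01703b5c002),(nat_lit 0xf01803b5d002),(nat_lit 0x134d001)],[(nat_lit 0xe00001),(nat_lit 0x18b7001),(nat_lit 0xdff001),(nat_lit 0x2336001),(nat_lit 0x1336001),(nat_lit 0x139a001),(nat_lit 0x2207001)],[(nat_lit 0x2208001),(nat_lit 0x26a2001),(nat_lit 0x2522001),(nat_lit 0x2523001),(nat_lit 0x2654001),(nat_lit 0x2209001),(nat_lit 0x1399001)],[(nat_lit 0x3bd6001),(nat_lit 0x1957001),(nat_lit 0x44db001),(nat_lit 0x228401973002),(nat_lit 0x1975001),(nat_lit 0x1977001),(nat_lit 0x44dc001)],[(nat_lit 0x13be001),(nat_lit 0x3bb8001),(nat_lit 0x2341013bd002),(nat_lit 0x3b88001),(nat_lit 0x2342001),(nat_lit 0x2343001),(nat_lit 0x3bb9001)],[(nat_lit 0x13c0001),(nat_lit 0x234d001),(nat_lit 0x234f001),(nat_lit 0x2341013bf002),(nat_lit 0x28a4001),(nat_lit 0x2350001),(nat_lit 0x2351001)],[(nat_lit 0x13c2001),(nat_lit 0x2352001),(nat_lit 0x2353001),(nat_lit 0x3bba001),(nat_lit 0x2341013c1002),(nat_lit 0x3bbc001),(nat_lit 0x3bbe001)],[(nat_lit 0x191c001),(nat_lit 0x3767001),(nat_lit 0x191d001),(nat_lit 0x36b2001),(nat_lit 0x191b001),(nat_lit 0x3b69001),(nat_lit 0x4455001)],[(nat_lit 0x13b7001),(nat_lit 0x193d001),(nat_lit 0x346b001),(nat_lit 0x13b6001),(nat_lit 0x13b8001),(nat_lit 0x3b6d001),(nat_lit 0x3bb5001)],[(nat_lit 0x3b1a001),(nat_lit 0x3b67001),(nat_lit 0x3b6b001),(nat_lit 0x3b6f001),(nat_lit 0x3b1b001),(nat_lit 0x3b19001),(nat_lit 0x3645e0e127002)],[(nat_lit 0x364630e18b002),(nat_lit 0xe18c001),(nat_lit 0x3645c0e18d002),(nat_lit 0x364510e18e002),(nat_lit 0x364590e18f002),(nat_lit 0x3643d0e190002),(nat_lit 0x3b61001)],[(nat_lit 0x3056001),(nat_lit 0x3061001),(nat_lit 0x3055001),(nat_lit 0x3058001),(nat_lit 0x30f1001),(nat_lit 0x3057001),(nat_lit 0x3384001)],[(nat_lit 0x1a15001),(nat_lit 0x133f001),(nat_lit 0x191e001),(nat_lit 0x133e001),(nat_lit 0x1a38001),(nat_lit 0x1340001),(nat_lit 0x33a0001)],[(nat_lit 0x30f2001),(nat_lit 0x1016001),(nat_lit 0x1017001),(nat_lit 0x13ef001),(nat_lit 0x1018001),(nat_lit 0x13e0001),(nat_lit 0x3166001)],[(nat_lit 0x1a29001),(nat_lit 0x1a39001),(nat_lit 0x1a2a001),(nat_lit 0x1a33001),(nat_lit 0x1a13001),(nat_lit 0x46fb001),(nat_lit 0x46fd001)],[(nat_lit 0x13ee001),(nat_lit 0x13f0001),(nat_lit 0x3cb5001),(nat_lit 0x13de001),(nat_lit 0x1a34001),(nat_lit 0x13f1001),(nat_lit 0x3cb6001)],[(nat_lit 0x134f001),(nat_lit 0x13e1001),(nat_lit 0x1068001),(nat_lit 0x13f2001),(nat_lit 0x1069001),(nat_lit 0x1067001),(nat_lit 0x321c001)],[(nat_lit 0xe76c03cb7002),(nat_lit 0x3cb8001),(nat_lit 0x3cb9001),(nat_lit 0x3cba001),(nat_lit 0x3cbb001),(nat_lit 0xec4b03cbc002),(nat_lit 0x13df001)],[(nat_lit 0x1335001),(nat_lit 0x184a001),(nat_lit 0xe02001),(nat_lit 0x2b12001),(nat_lit 0xe01001),(nat_lit 0x133b001),(nat_lit 0x2b13001)],[(nat_lit 0x1338001),(nat_lit 0x102a001),(nat_lit 0x133c001),(nat_lit 0x102b001),(nat_lit 0x1044001),(nat_lit 0x1029001),(nat_lit 0x318a001)],[(nat_lit 0xf16803aa7002),(nat_lit 0x3aa8001),(nat_lit 0x3aa9001),(nat_lit 0x3aaa001),(nat_lit 0x3aab001),(nat_lit 0xf12c03aac002),(nat_lit 0x1333001)],[(nat_lit 0xf04f0a6fc002),(nat_lit 0xf01f0a6fd002),(nat_lit 0xf0050a6fe002),(nat_lit 0xf0200a6ff002),(nat_lit 0xa700001),(nat_lit 0xf01d0a701002),(nat_lit 0x3118001)],[(nat_lit 0xaeb6001),(nat_lit 0x3216001),(nat_lit 0xaeb7001),(nat_lit 0x328b001),(nat_lit 0x328d001),(nat_lit 0x328f001),(nat_lit 0xaeb8001)],[(nat_lit 0xf81103284002),(nat_lit 0xaebc001),(nat_lit 0x3217001),(nat_lit 0xaebd001),(nat_lit 0x3291001),(nat_lit 0x3293001),(nat_lit 0xf1550aebe002)],[(nat_lit 0x3286001),(nat_lit 0x328c001),(nat_lit 0xaebf001),(nat_lit 0x3218001),(nat_lit 0xaec0001),(nat_lit 0x3295001),(nat_lit 0xaec1001)],[(nat_lit 0x3288001),(nat_lit 0x328e001),(nat_lit 0x3292001),(nat_lit 0xaec2001),(nat_lit 0x3219001),(nat_lit 0xaec3001),(nat_lit 0xaec4001)],[(nat_lit 0x2532001),(nat_lit 0x2534001),(nat_lit 0x2536001),(nat_lit 0x2554001),(nat_lit 0x24f0001),(nat_lit 0x6cdf001),(nat_lit 0x6ce1001)],[(nat_lit 0x2573001),(nat_lit 0x252e001),(nat_lit 0x6e08001),(nat_lit 0x252d001),(nat_lit 0x2555001),(nat_lit 0x2574001),(nat_lit 0x6e09001)],[(nat_lit 0x254a001),(nat_lit 0x24df001),(nat_lit 0x24e0001),(nat_lit 0x2576001),(nat_lit 0x24e1001),(nat_lit 0x24de001),(nat_lit 0xfbeb06cca002)],[(nat_lit 0xfc9806e27002),(nat_lit 0x6e28001),(nat_lit 0xfc9f06e29002),(nat_lit 0x6e2a001),(nat_lit 0x6e2b001),(nat_lit 0xfca006e2c002),(nat_lit 0x2548001)],[(nat_lit 0x3f5b001),(nat_lit 0x164b001),(nat_lit 0x164c001),(nat_lit 0x2ac8001),(nat_lit 0x184c001),(nat_lit 0x1849001),(nat_lit 0x3fc8001)],[(nat_lit 0x2334001),(nat_lit 0x2ac9001),(nat_lit 0x22e7001),(nat_lit 0x229c001),(nat_lit 0x65ac001),(nat_lit 0x22eb001),(nat_lit 0x229b001)],[(nat_lit 0x139b001),(nat_lit 0x1847001),(nat_lit 0xe04001),(nat_lit 0x22e9001),(nat_lit 0x13a2001),(nat_lit 0xe03001),(nat_lit 0x24b3001)],[(nat_lit 0x2ac6001),(nat_lit 0x2ad8001),(nat_lit 0x2ad4001),(nat_lit 0x2b2d001),(nat_lit 0x4026001),(nat_lit 0x2ac7001),(nat_lit 0x2ac5001)],[(nat_lit 0x139f001),(nat_lit 0xe07001),(nat_lit 0x13a3001),(nat_lit 0xe08001),(nat_lit 0xe06001),(nat_lit 0x1047001),(nat_lit 0x2b1f001)],[(nat_lit 0x213f001),(nat_lit 0x1738001),(nat_lit 0x1651001),(nat_lit 0x21d8001),(nat_lit 0x2b74001),(nat_lit 0x183f001),(nat_lit 0x139d001)],[(nat_lit 0x2524001),(nat_lit 0x26e5001),(nat_lit 0x2669001),(nat_lit 0x183e001),(nat_lit 0x269f001),(nat_lit 0x21da001),(nat_lit 0xc94001)],[(nat_lit 0x2653001),(nat_lit 0x2138001),(nat_lit 0x2139001),(nat_lit 0x60c3001),(nat_lit 0x213a001),(nat_lit 0x2655001),(nat_lit 0x6108001)],[(nat_lit 0x3bce001),(nat_lit 0x2345013c8002),(nat_lit 0x3bd1001),(nat_lit 0x2b1b001),(nat_lit 0x2b47001),(nat_lit 0x13c7001),(nat_lit 0x3bd3001)],[(nat_lit 0x2346001),(nat_lit 0x2952001),(nat_lit 0x2345013cc002),(nat_lit 0x2347001),(nat_lit 0x2b49001),(nat_lit 0x13cb001),(nat_lit 0x468f03c74002)],[(nat_lit 0x2354001),(nat_lit 0x2b1c001),(nat_lit 0x3c26001),(nat_lit 0x2345013ce002),(nat_lit 0x213b903c79002),(nat_lit 0x13cd001),(nat_lit 0x2355001)],[(nat_lit 0x2b46001),(nat_lit 0x2b48001),(nat_lit 0x2b4a001),(nat_lit 0x214130671a002),(nat_lit 0x2b1a001),(nat_lit 0x3bde001),(nat_lit 0x8a47001)],[(nat_lit 0x3b83001),(nat_lit 0x3bd7001),(nat_lit 0x3c14001),(nat_lit 0x3b84001),(nat_lit 0x3bc6001),(nat_lit 0x3bd0001),(nat_lit 0xe1b7001)],[(nat_lit 0x3c15001),(nat_lit 0x3bd9001),(nat_lit 0x3b85001),(nat_lit 0xe1b8001),(nat_lit 0x3bc8001),(nat_lit 0x3bd2001),(nat_lit 0xe1ba001)],[(nat_lit 0x29b4001),(nat_lit 0x13c4001),(nat_lit 0x3bbf001),(nat_lit 0x13c3001),(nat_lit 0x3bc1001),(nat_lit 0x2b1d001),(nat_lit 0x3bc4001)],[(nat_lit 0x3bc5001),(nat_lit 0x13c6001),(nat_lit 0x3bc7001),(nat_lit 0x3bc9001),(nat_lit 0x13c5001),(nat_lit 0x3bcb001),(nat_lit 0x3bcd001)],[(nat_lit 0x276e30e1bb002),(nat_lit 0xe1bc001),(nat_lit 0xe1bd001),(nat_lit 0x262020e1be002),(nat_lit 0xe1bf001),(nat_lit 0x277080e1c0002),(nat_lit 0x3b86001)],[(nat_lit 0x29d1001),(nat_lit 0x2980001),(nat_lit 0x3bda001),(nat_lit 0x2981001),(nat_lit 0x3b8a001),(nat_lit 0x297f001),(nat_lit 0x81b4001)],[(nat_lit 0x3b89001),(nat_lit 0x2252001),(nat_lit 0x2253001),(nat_lit 0x233c0228f002),(nat_lit 0x235b001),(nat_lit 0x2254001),(nat_lit 0x45e5001)],[(nat_lit 0x2356001),(nat_lit 0x3b8b001),(nat_lit 0x13ca001),(nat_lit 0x3c72001),(nat_lit 0x13c9001),(nat_lit 0x3c2d001),(nat_lit 0x3c73001)],[(nat_lit 0x4891001),(nat_lit 0x4af2001),(nat_lit 0x488b001),(nat_lit 0x4965001),(nat_lit 0x4892001),(nat_lit 0x488f001),(nat_lit 0x3b87001)],[(nat_lit 0x3b8d001),(nat_lit 0x3be6001),(nat_lit 0x3b8c001),(nat_lit 0x3d13001),(nat_lit 0x3c20001),(nat_lit 0x3c23001),(nat_lit 0x45c9001)],[(nat_lit 0x3b8f001),(nat_lit 0x3bc3001),(nat_lit 0x3c22001),(nat_lit 0x3bdb001),(nat_lit 0x3b8e001),(nat_lit 0x2141a065fd002),(nat_lit 0xe1ca001)],[(nat_lit 0xcd7001),(nat_lit 0xcd8001),(nat_lit 0x1c88001),(nat_lit 0xcd9001),(nat_lit 0x1c89001),(nat_lit 0xcd6001),(nat_lit 0x234402290002)],[(nat_lit 0x3bbb001),(nat_lit 0x3bca001),(nat_lit 0xe1ce001),(nat_lit 0x3b90001),(nat_lit 0x3bdc001),(nat_lit 0x3c2f001),(nat_lit 0xe1cf001)],[(nat_lit 0x3bbd001),(nat_lit 0x3bcc001),(nat_lit 0x3c2e001),(nat_lit 0x3c30001),(nat_lit 0x3bdd001),(nat_lit 0x3b91001),(nat_lit 0xe1d0001)],[(nat_lit 0xc5bc30e1d1002),(nat_lit 0xe1d2001),(nat_lit 0xe1d3001),(nat_lit 0xe1d4001),(nat_lit 0xe1d5001),(nat_lit 0xc5bb00e1d6002),(nat_lit 0x3b92001)],[(nat_lit 0x33d7001),(nat_lit 0x33dc001),(nat_lit 0x33d6001),(nat_lit 0x33d9001),(nat_lit 0x3431001),(nat_lit 0x33d8001),(nat_lit 0x33dd001)],[(nat_lit 0x33c2001),(nat_lit 0x33c3001),(nat_lit 0x3432001),(nat_lit 0x3428001),(nat_lit 0x33c1001),(nat_lit 0x3b71001),(nat_lit 0xb7a7001)],[(nat_lit 0x3809001),(nat_lit 0x380a001),(nat_lit 0x380b001),(nat_lit 0xb4e1001),(nat_lit 0x3808001),(nat_lit 0x3b74001),(nat_lit 0xd076001)],[(nat_lit 0x340d001),(nat_lit 0x340c001),(nat_lit 0x340e001),(nat_lit 0x347f001),(nat_lit 0x6bb3001),(nat_lit 0x340f001),(nat_lit 0x3410001)],[(nat_lit 0x11c8001),(nat_lit 0x11c9001),(nat_lit 0x12ff001),(nat_lit 0x33d0001),(nat_lit 0x11ca001),(nat_lit 0x12f0001),(nat_lit 0x33f6001)],[(nat_lit 0x342c001),(nat_lit 0x342d001),(nat_lit 0xb7d0001),(nat_lit 0x342b001),(nat_lit 0x342e001),(nat_lit 0x3b77001),(nat_lit 0xb97e001)],[(nat_lit 0x3b72001),(nat_lit 0x3b1d001),(nat_lit 0x3b75001),(nat_lit 0x3b79001),(nat_lit 0x3b1e001),(nat_lit 0x3b1c001),(nat_lit 0xe128001)],[(nat_lit 0x10f020e199002),(nat_lit 0xe19a001),(nat_lit 0xa597a0e19b002),(nat_lit 0x10efd0e19c002),(nat_lit 0xa2fe90e19d002),(nat_lit 0x10f050e19e002),(nat_lit 0x3b70001)],[(nat_lit 0x36b3001),(nat_lit 0x2633001),(nat_lit 0x3ac8001),(nat_lit 0x19bc001),(nat_lit 0x19bd001),(nat_lit 0x3b7e001),(nat_lit 0x4620001)],[(nat_lit 0x3b6a001),(nat_lit 0x3b7c001),(nat_lit 0x3b20001),(nat_lit 0x3b7f001),(nat_lit 0x3b21001),(nat_lit 0x3b1f001),(nat_lit 0xe129001)],[(nat_lit 0x228c30e1a2002),(nat_lit 0xe1a3001),(nat_lit 0x228bf0e1a4002),(nat_lit 0xe1a5001),(nat_lit 0xe1a6001),(nat_lit 0x228c50e1a7002),(nat_lit 0x3b7a001)],[(nat_lit 0x11fc001),(nat_lit 0x33d2001),(nat_lit 0x3467001),(nat_lit 0x11fb001),(nat_lit 0x1391001),(nat_lit 0x33d3001),(nat_lit 0x359a001)],[(nat_lit 0x11fe001),(nat_lit 0x12ee001),(nat_lit 0x11ff001),(nat_lit 0x33d5001),(nat_lit 0x1200001),(nat_lit 0x11fd001),(nat_lit 0x359e001)],[(nat_lit 0xc6ac0b7c7002),(nat_lit 0xb7c8001),(nat_lit 0xed280b7c9002),(nat_lit 0xc6a90b7ca002),(nat_lit 0xc6c00b7cb002),(nat_lit 0xc6c10b7cc002),(nat_lit 0x33cf001)],[(nat_lit 0xb3c001),(nat_lit 0xb3d001),(nat_lit 0x19b2001),(nat_lit 0xc2d001),(nat_lit 0xb3b001),(nat_lit 0x243e001),(nat_lit 0x2486001)],[(nat_lit 0x359c001),(nat_lit 0xbc88001),(nat_lit 0x359d001),(nat_lit 0xbdaa001),(nat_lit 0x359b001),(nat_lit 0x3b81001),(nat_lit 0x1fa8a0c364002)],[(nat_lit 0x3b6e001),(nat_lit 0x3b78001),(nat_lit 0x3b82001),(nat_lit 0x3b23001),(nat_lit 0x3b55001),(nat_lit 0x3b22001),(nat_lit 0xb30110e12a002)],[(nat_lit 0x353b60e1aa002),(nat_lit 0xb30790e1ab002),(nat_lit 0xe1ac001),(nat_lit 0xb307c0e1ad002),(nat_lit 0xb30100e1ae002),(nat_lit 0xb307a0e1af002),(nat_lit 0x3b80001)],[(nat_lit 0x36446001),(nat_lit 0x36461001),(nat_lit 0x36447001),(nat_lit 0x36462001),(nat_lit 0x36448001),(nat_lit 0x3645736449002),(nat_lit 0xdf12001)],[(nat_lit 0xc46de3b179002),(nat_lit 0xdf14001),(nat_lit 0x3b17a001),(nat_lit 0xc46f90e041002),(nat_lit 0xe043001),(nat_lit 0xe045001),(nat_lit 0xc3af43b17c002)],[(nat_lit 0xd23db398be002),(nat_lit 0xd23c10d63f002),(nat_lit 0xd23e0398c2002),(nat_lit 0xd23e4398d1002),(nat_lit 0xd63e001),(nat_lit 0xd23e5398d2002),(nat_lit 0xd23e639a0c002)],[(nat_lit 0xe03f001),(nat_lit 0xe044001),(nat_lit 0xe048001),(nat_lit 0xc46d53b17e002),(nat_lit 0xdf17001),(nat_lit 0x3b17f001),(nat_lit 0xe08bc3b180002)],[(nat_lit 0x3005001),(nat_lit 0x3006001),(nat_lit 0x30f3001),(nat_lit 0x30b7001),(nat_lit 0x3007001),(nat_lit 0x307d001),(nat_lit 0xa133001)],[(nat_lit 0x30b5001),(nat_lit 0x106c001),(nat_lit 0x3228001),(nat_lit 0x106b001),(nat_lit 0x2400001),(nat_lit 0x3115001),(nat_lit 0x3229001)],[(nat_lit 0x307a001),(nat_lit 0x106e001),(nat_lit 0x13e2001),(nat_lit 0x3117001),(nat_lit 0x106f001),(nat_lit 0x106d001),(nat_lit 0x322a001)],[(nat_lit 0xfd360a6ef002),(nat_lit 0xa6f0001),(nat_lit 0xa6f1001),(nat_lit 0xa6f2001),(nat_lit 0xa6f3001),(nat_lit 0xf5320a6f4002),(nat_lit 0x3114001)],[(nat_lit 0x30da001),(nat_lit 0xa4db001),(nat_lit 0x30d9001),(nat_lit 0x312d001),(nat_lit 0x30f7001),(nat_lit 0x3146001),(nat_lit 0xa4dc001)],[(nat_lit 0x1082001),(nat_lit 0x3116001),(nat_lit 0x3148001),(nat_lit 0x1083001),(nat_lit 0x3153001),(nat_lit 0x1081001),(nat_lit 0x32c5001)],[(nat_lit 0xeb180a704002),(nat_lit 0xa705001),(nat_lit 0xeb170a706002),(nat_lit 0xeb310a707002),(nat_lit 0xbd6a0a708002),(nat_lit 0xeb330a709002),(nat_lit 0x311c001)]]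

theorem rows0_2_ok : okRows data table 980686 2000 rows0_2 = true := by decide +kernel

theorem rows0_2_len : rows0_2.length = 1000 := by decide +kernel

/-- Completion of the rows from 3000. -/
noncomputable def rows0_3 : List (List ℕ) := [[(nat_lit 0xc15f0aed9002),(nat_lit 0x3223001),(nat_lit 0xc1590aeda002),(nat_lit 0x329d001),(nat_lit 0x329f001),(nat_lit 0x32a1001),(nat_lit 0xaedb001)],[(nat_lit 0x30e0001),(nat_lit 0xc1620a4e4002),(nat_lit 0xa4e6001),(nat_lit 0xc10b030df002),(nat_lit 0xc16b0a4e8002),(nat_lit 0xc14a0a497002),(nat_lit 0xa4ea001)],[(nat_lit 0x30e2001),(nat_lit 0xc1650a4eb002),(nat_lit 0x9b6e70a494002),(nat_lit 0x9a8b40a4ed002),(nat_lit 0xc10b030e1002),(nat_lit 0x9a8b20a4ef002),(nat_lit 0xa4f1001)],[(nat_lit 0x15c2001),(nat_lit 0x15c3001),(nat_lit 0x15ca001),(nat_lit 0x15c1001),(nat_lit 0x15c6001),(nat_lit 0x15c4001),(nat_lit 0x15c5001)],[(nat_lit 0xcf4001),(nat_lit 0x272f001),(nat_lit 0xcdf001),(nat_lit 0xcde001),(nat_lit 0x21fe001),(nat_lit 0xce0001),(nat_lit 0x1540001)],[(nat_lit 0x3f61001),(nat_lit 0x1820001),(nat_lit 0x184b001),(nat_lit 0x18aa001),(nat_lit 0x181f001),(nat_lit 0x18ac001),(nat_lit 0x4093001)],[(nat_lit 0x1856001),(nat_lit 0x18ab001),(nat_lit 0x312f001),(nat_lit 0x1855001),(nat_lit 0x218e001),(nat_lit 0x18ae001),(nat_lit 0x4131001)],[(nat_lit 0x102d001),(nat_lit 0x18ad001),(nat_lit 0x102e001),(nat_lit 0x18b0001),(nat_lit 0x1823001),(nat_lit 0x102c001),(nat_lit 0x318b001)],[(nat_lit 0xeba204280002),(nat_lit 0xf4ac04281002),(nat_lit 0xb50704282002),(nat_lit 0xeb4404283002),(nat_lit 0xeb8304284002),(nat_lit 0xeb9f04285002),(nat_lit 0x18a9001)],[(nat_lit 0x1009001),(nat_lit 0x1045001),(nat_lit 0x1825001),(nat_lit 0x100a001),(nat_lit 0x1008001),(nat_lit 0x100b001),(nat_lit 0x3126001)],[(nat_lit 0xf37003085002),(nat_lit 0xf3740a216002),(nat_lit 0xd9e70a12f002),(nat_lit 0xf3750a132002),(nat_lit 0xd9f50a297002),(nat_lit 0xf37703084002),(nat_lit 0xa5070a299002)],[(nat_lit 0xf3b30a955002),(nat_lit 0x3185001),(nat_lit 0xf1b30a956002),(nat_lit 0x31bd001),(nat_lit 0x31bf001),(nat_lit 0x31c1001),(nat_lit 0xa957001)],[(nat_lit 0x307f001),(nat_lit 0xf37c0a289002),(nat_lit 0xf3770307e002),(nat_lit 0xd9e60a28a002),(nat_lit 0xf37d0a12b002),(nat_lit 0xd9e70a12e002),(nat_lit 0xf37e0a28c002)],[(nat_lit 0x3081001),(nat_lit 0xf3b60a212002),(nat_lit 0xa28d001),(nat_lit 0xf37703080002),(nat_lit 0xa28f001),(nat_lit 0xf3750a130002),(nat_lit 0xa291001)],[(nat_lit 0x3083001),(nat_lit 0xf3bb0a214002),(nat_lit 0xf37d0a12d002),(nat_lit 0xa292001),(nat_lit 0xf37703082002),(nat_lit 0xa294001),(nat_lit 0xa296001)],[(nat_lit 0xa2dd001),(nat_lit 0xf5b70309f002),(nat_lit 0x20d030a2df002),(nat_lit 0xa00df0a265002),(nat_lit 0x9d0320a2e1002),(nat_lit 0x309e001),(nat_lit 0xa2e3001)],[(nat_lit 0xf5b50a25e002),(nat_lit 0xa00df0a264002),(nat_lit 0xa49470a3c1002),(nat_lit 0xf5b7030a5002),(nat_lit 0x9cd320a47a002),(nat_lit 0xf5b9030a4002),(nat_lit 0xa47b001)],[(nat_lit 0xf5c20d9db002),(nat_lit 0x9afb20d9dc002),(nat_lit 0xf5ef04553002),(nat_lit 0x9a1d20f5f1002),(nat_lit 0xd9ce04552002),(nat_lit 0x9ae170d9dd002),(nat_lit 0x1260a001)],[(nat_lit 0xf5ea0a139002),(nat_lit 0xa13a001),(nat_lit 0xf62b001),(nat_lit 0xf5e80a312002),(nat_lit 0xf62c0a315002),(nat_lit 0xf5e70a31b002),(nat_lit 0x30ad7001)],[(nat_lit 0xa3b2001),(nat_lit 0x20c0a0a2f1002),(nat_lit 0xa261001),(nat_lit 0x20d05001),(nat_lit 0xa2d7001),(nat_lit 0x20d030a2e0002),(nat_lit 0xb28b030c8d002)],[(nat_lit 0xa2ce001),(nat_lit 0xf5b90309b002),(nat_lit 0xa2d0001),(nat_lit 0x309a001),(nat_lit 0xa2d1001),(nat_lit 0xa00df0a263002),(nat_lit 0xa2d3001)],[(nat_lit 0xa2d4001),(nat_lit 0xf5f50309d002),(nat_lit 0xa2d6001),(nat_lit 0xa2d8001),(nat_lit 0x309c001),(nat_lit 0xa2da001),(nat_lit 0xa2dc001)],[(nat_lit 0x94e4030c8e002),(nat_lit 0x30c8f001),(nat_lit 0x30c90001),(nat_lit 0x94c8830c91002),(nat_lit 0x30c92001),(nat_lit 0x94e2a30c93002),(nat_lit 0xa262001)],[(nat_lit 0xf638001),(nat_lit 0xd9d004551002),(nat_lit 0x20c0a0f63a002),(nat_lit 0xd9d9001),(nat_lit 0xf63b0d9da002),(nat_lit 0x4550001),(nat_lit 0x12609001)],[(nat_lit 0xf5ff0d9d1002),(nat_lit 0xd9d2001),(nat_lit 0xf643001),(nat_lit 0xd9d004555002),(nat_lit 0xf644001),(nat_lit 0xf5ee04554002),(nat_lit 0x1037f001)],[(nat_lit 0xf6010a259002),(nat_lit 0xa2e4001),(nat_lit 0xf5f5030a1002),(nat_lit 0xf64e0a478002),(nat_lit 0xf5f0030a0002),(nat_lit 0xf64d0a3c8002),(nat_lit 0xa479001)],[(nat_lit 0x7fd1001),(nat_lit 0xa36ff27423002),(nat_lit 0xa3703270ac002),(nat_lit 0xa370927444002),(nat_lit 0xa056a07fd0002),(nat_lit 0xa370a27445002),(nat_lit 0xa370b27656002)],[(nat_lit 0x7fcd001),(nat_lit 0xa370127653002),(nat_lit 0xa056a07fcc002),(nat_lit 0xa370227432002),(nat_lit 0xa3703270ab002),(nat_lit 0xa1b1c270ad002),(nat_lit 0xa370427654002)],[(nat_lit 0xc40c0a636002),(nat_lit 0xee2c0d06a002),(nat_lit 0x6f91001),(nat_lit 0xc40e0c396002),(nat_lit 0xc40f06f90002),(nat_lit 0xf5ba0c410002),(nat_lit 0xf5b90c411002)],[(nat_lit 0xa1a3001),(nat_lit 0xf62d0a355002),(nat_lit 0x9e90e30b48002),(nat_lit 0xa1a2001),(nat_lit 0xf5f60a304002),(nat_lit 0xa35b001),(nat_lit 0x9e50d256dc002)],[(nat_lit 0xa1a5001),(nat_lit 0xf62e0a357002),(nat_lit 0xa35a001),(nat_lit 0xa35d001),(nat_lit 0x9ae170a305002),(nat_lit 0xa1a4001),(nat_lit 0xa122f30b4b002)],[(nat_lit 0x930d630c2e002),(nat_lit 0x30c2f001),(nat_lit 0x9c33c30c30002),(nat_lit 0x30c31001),(nat_lit 0x30c32001),(nat_lit 0xa2bcb30c33002),(nat_lit 0xa236001)],[(nat_lit 0x4bc8001),(nat_lit 0xabd6001),(nat_lit 0x4f64001),(nat_lit 0x4bc4001),(nat_lit 0xabd7001),(nat_lit 0x4f66001),(nat_lit 0x3214001)],[(nat_lit 0x222a001),(nat_lit 0xf86001),(nat_lit 0x22ce001),(nat_lit 0xf85001),(nat_lit 0x22cf001),(nat_lit 0xf87001),(nat_lit 0x2f87001)],[(nat_lit 0x225d001),(nat_lit 0x22d0001),(nat_lit 0x22d3001),(nat_lit 0x22a7001),(nat_lit 0x225c001),(nat_lit 0x6171001),(nat_lit 0x64e1001)],[(nat_lit 0x3ec4001),(nat_lit 0x3ec5001),(nat_lit 0x3f5c001),(nat_lit 0x3f6e001),(nat_lit 0x3f63001),(nat_lit 0x3f66001),(nat_lit 0x10768001)],[(nat_lit 0x3f6d001),(nat_lit 0x178f001),(nat_lit 0x2199001),(nat_lit 0x178e001),(nat_lit 0x21a1001),(nat_lit 0x18b3001),(nat_lit 0x4065001)],[(nat_lit 0x3f64001),(nat_lit 0x1822001),(nat_lit 0x1848001),(nat_lit 0x18b1001),(nat_lit 0x18b4001),(nat_lit 0x1821001),(nat_lit 0x4097001)],[(nat_lit 0x1969a108a3002),(nat_lit 0x17965108a4002),(nat_lit 0x108a5001),(nat_lit 0x108a6001),(nat_lit 0x108a7001),(nat_lit 0x18a2b108a8002),(nat_lit 0x3f4e001)],[(nat_lit 0x219f001),(nat_lit 0x21a2001),(nat_lit 0x216e001),(nat_lit 0x218d001),(nat_lit 0x216d001),(nat_lit 0x613e001),(nat_lit 0x6141001)],[(nat_lit 0x208a001),(nat_lit 0x1812001),(nat_lit 0x1813001),(nat_lit 0x1814001),(nat_lit 0x1811001),(nat_lit 0x2088001),(nat_lit 0x1815001)],[(nat_lit 0xe0a001),(nat_lit 0x18b5001),(nat_lit 0xe0b001),(nat_lit 0x1910001),(nat_lit 0xe09001),(nat_lit 0x1826001),(nat_lit 0x2b20001)],[(nat_lit 0x3ebe001),(nat_lit 0x3ebf001),(nat_lit 0x2118001),(nat_lit 0x2119001),(nat_lit 0x2117001),(nat_lit 0x211a001),(nat_lit 0x604f001)],[(nat_lit 0x11202043a2002),(nat_lit 0x43a3001),(nat_lit 0x111fe043a4002),(nat_lit 0x43a5001),(nat_lit 0x43a6001),(nat_lit 0x11206043a7002),(nat_lit 0x18fe001)],[(nat_lit 0x2742001),(nat_lit 0x1828001),(nat_lit 0x1829001),(nat_lit 0x182a001),(nat_lit 0x26e1001),(nat_lit 0x1827001),(nat_lit 0x409f001)],[(nat_lit 0x18ef001),(nat_lit 0x26e2001),(nat_lit 0x1c4f001),(nat_lit 0x1d04001),(nat_lit 0x18ee001),(nat_lit 0x18f0001),(nat_lit 0x4394001)],[(nat_lit 0x1c28001),(nat_lit 0x1c29001),(nat_lit 0x1c2a001),(nat_lit 0x26be001),(nat_lit 0x1c2b001),(nat_lit 0x2741001),(nat_lit 0x1746904ec1002)],[(nat_lit 0x1913907787002),(nat_lit 0x7788001),(nat_lit 0x7789001),(nat_lit 0x179f10778a002),(nat_lit 0x778b001),(nat_lit 0x191e00778c002),(nat_lit 0x2740001)],[(nat_lit 0x1804001),(nat_lit 0x1805001),(nat_lit 0x2a35001),(nat_lit 0x18a7001),(nat_lit 0x1a96001),(nat_lit 0x1806001),(nat_lit 0x4074001)],[(nat_lit 0x2a36001),(nat_lit 0x29f4001),(nat_lit 0x29e2001),(nat_lit 0x2d29001),(nat_lit 0x2a38001),(nat_lit 0x29e1001),(nat_lit 0x8444001)],[(nat_lit 0x1a94001),(nat_lit 0x1775014f8002),(nat_lit 0x2a39001),(nat_lit 0x2b76001),(nat_lit 0x17ae014f7002),(nat_lit 0x29a8001),(nat_lit 0x3f04001)],[(nat_lit 0x18a0e08628002),(nat_lit 0x18a240862b002),(nat_lit 0x189760862c002),(nat_lit 0x178eb0862e002),(nat_lit 0x862f001),(nat_lit 0x1897508630002),(nat_lit 0x2a34001)],[(nat_lit 0x1a98001),(nat_lit 0x2b77001),(nat_lit 0x2f58001),(nat_lit 0x1a97001),(nat_lit 0x1abf001),(nat_lit 0x2b78001),(nat_lit 0x4871001)],[(nat_lit 0x180b001),(nat_lit 0x29a7001),(nat_lit 0x1895001),(nat_lit 0x2b7a001),(nat_lit 0x180c001),(nat_lit 0x180a001),(nat_lit 0x4dc2a04083002)],[(nat_lit 0x4b1f1083fe002),(nat_lit 0x9ad3408553002),(nat_lit 0x4daa002a11002),(nat_lit 0x4b1f308555002),(nat_lit 0x4b1f408566002),(nat_lit 0x4db3a02a10002),(nat_lit 0x4db3b085f0002)],[(nat_lit 0x29de001),(nat_lit 0x4033001),(nat_lit 0x29dd001),(nat_lit 0x2ccc001),(nat_lit 0x2a28001),(nat_lit 0x2a37001),(nat_lit 0x5652001)],[(nat_lit 0x17ad0177c002),(nat_lit 0x177d001),(nat_lit 0x2a26001),(nat_lit 0x2a29001),(nat_lit 0x177e001),(nat_lit 0x2a2c001),(nat_lit 0x3ffd001)],[(nat_lit 0x1897508631002),(nat_lit 0x178dd108b3002),(nat_lit 0x1896a05d7f002),(nat_lit 0x178de108b4002),(nat_lit 0x18a0d108b6002),(nat_lit 0x18a0e08629002),(nat_lit 0x3f52001)],[(nat_lit 0x4151001),(nat_lit 0x29b1001),(nat_lit 0x29b2001),(nat_lit 0x20d9d08324002),(nat_lit 0x29f9001),(nat_lit 0x29f6001),(nat_lit 0x20e1508409002)],[(nat_lit 0x2d25001),(nat_lit 0x20d9d08325002),(nat_lit 0x2d24001),(nat_lit 0x2d26001),(nat_lit 0x91fe001),(nat_lit 0x2d2a001),(nat_lit 0x92c8001)],[(nat_lit 0x2a27001),(nat_lit 0x29f7001),(nat_lit 0x29e0001),(nat_lit 0x8442001),(nat_lit 0x29df001),(nat_lit 0x2a2f001),(nat_lit 0x8443001)],[(nat_lit 0x1891b0913f002),(nat_lit 0x92e2001),(nat_lit 0x9106001),(nat_lit 0x9465001),(nat_lit 0x197a1001),(nat_lit 0x18b05001),(nat_lit 0x8323001)],[(nat_lit 0x2a2a001),(nat_lit 0x1873001),(nat_lit 0x41d6001),(nat_lit 0x1872001),(nat_lit 0x29a5001),(nat_lit 0x2a31001),(nat_lit 0x41d7001)],[(nat_lit 0x2a2d001),(nat_lit 0x1875001),(nat_lit 0x2a30001),(nat_lit 0x2a33001),(nat_lit 0x29a6001),(nat_lit 0x1874001),(nat_lit 0x41d8001)],[(nat_lit 0xa265608610002),(nat_lit 0x8611001),(nat_lit 0x8612001),(nat_lit 0x8613001),(nat_lit 0x8614001),(nat_lit 0xa264e08615002),(nat_lit 0x2a25001)],[(nat_lit 0x2550d001),(nat_lit 0x8329001),(nat_lit 0x1903b001),(nat_lit 0x83e8001),(nat_lit 0x83ea001),(nat_lit 0x83ec001),(nat_lit 0x28dab2856e002)],[(nat_lit 0x832b001),(nat_lit 0x834b001),(nat_lit 0x832a001),(nat_lit 0x97c9001),(nat_lit 0x83ee001),(nat_lit 0x83f0001),(nat_lit 0x1b253001)],[(nat_lit 0x18aa31547b002),(nat_lit 0x173cf1547c002),(nat_lit 0x18a761547d002),(nat_lit 0x173ce1547e002),(nat_lit 0x18a261547f002),(nat_lit 0x18ab915480002),(nat_lit 0x4e12001)],[(nat_lit 0x83e7001),(nat_lit 0x83eb001),(nat_lit 0x83ef001),(nat_lit 0x28577001),(nat_lit 0x832d001),(nat_lit 0x28578001),(nat_lit 0xad14e2857b002)],[(nat_lit 0x1a5e001),(nat_lit 0x1a5f001),(nat_lit 0x4150001),(nat_lit 0x1a91001),(nat_lit 0x1a8e001),(nat_lit 0x1a60001),(nat_lit 0x47cd001)],[(nat_lit 0x1a8c001),(nat_lit 0x186f001),(nat_lit 0x29f8001),(nat_lit 0x2a3b001),(nat_lit 0x186e001),(nat_lit 0x2a3d001),(nat_lit 0x41c6001)],[(nat_lit 0x20e8e1138d002),(nat_lit 0x1138e001),(nat_lit 0x20e391138f002),(nat_lit 0x20e3a11390002),(nat_lit 0x20e3b11391002),(nat_lit 0x20e3c11392002),(nat_lit 0x414f001)],[(nat_lit 0x18ba001),(nat_lit 0x2a3c001),(nat_lit 0x42c4001),(nat_lit 0x18b9001),(nat_lit 0x1966001),(nat_lit 0x2a40001),(nat_lit 0x430e001)],[(nat_lit 0x1877001),(nat_lit 0x2a3e001),(nat_lit 0x1878001),(nat_lit 0x2a42001),(nat_lit 0x1893001),(nat_lit 0x1876001),(nat_lit 0x41d9001)],[(nat_lit 0x530cd08709002),(nat_lit 0x870a001),(nat_lit 0x4ca3f0870b002),(nat_lit 0x52f660870c002),(nat_lit 0x530cb0870d002),(nat_lit 0x530af0870e002),(nat_lit 0x2a3a001)],[(nat_lit 0x1817001),(nat_lit 0x29a4001),(nat_lit 0x186b001),(nat_lit 0x1816001),(nat_lit 0x1818001),(nat_lit 0x2f3b001),(nat_lit 0x4088001)],[(nat_lit 0x2c48001),(nat_lit 0x2cdd001),(nat_lit 0x2c59001),(nat_lit 0x2f3a001),(nat_lit 0x2c49001),(nat_lit 0x2c4a001),(nat_lit 0x2c47001)],[(nat_lit 0x3fa8001),(nat_lit 0x41c0001),(nat_lit 0x3fa7001),(nat_lit 0x8f82001),(nat_lit 0x3fa9001),(nat_lit 0x4052001),(nat_lit 0x9d33a10b8b002)],[(nat_lit 0x187a001),(nat_lit 0x2a32001),(nat_lit 0x4054001),(nat_lit 0x187b001),(nat_lit 0x4009001),(nat_lit 0x1879001),(nat_lit 0x41da001)],[(nat_lit 0x4dc4310e24002),(nat_lit 0x10e25001),(nat_lit 0x4dc0210e26002),(nat_lit 0x4dcf410e27002),(nat_lit 0x4dcf010e28002),(nat_lit 0x4dcee10e29002),(nat_lit 0x4005001)],[(nat_lit 0x517c103fb3002),(nat_lit 0xa130b10aff002),(nat_lit 0x4b2621088f002),(nat_lit 0xa06d010892002),(nat_lit 0x4b31910b2c002),(nat_lit 0x517ca03fb2002),(nat_lit 0x2d23510b9b002)],[(nat_lit 0xa3151113a4002),(nat_lit 0x4156001),(nat_lit 0xa1831113a5002),(nat_lit 0x9f905041ad002),(nat_lit 0x41af001),(nat_lit 0xa107d041b1002),(nat_lit 0x113a6001)],[(nat_lit 0x5188908148002),(nat_lit 0x517c808149002),(nat_lit 0x4b02a0814a002),(nat_lit 0x516ff0814b002),(nat_lit 0x4b02c0814c002),(nat_lit 0x518c20814d002),(nat_lit 0x2938001)],[(nat_lit 0x3faf001),(nat_lit 0xa1b0610afb002),(nat_lit 0x10b16001),(nat_lit 0x517ca03fae002),(nat_lit 0x10b18001),(nat_lit 0xa06d010890002),(nat_lit 0x10b99001)],[(nat_lit 0x3fb1001),(nat_lit 0x518c610afd002),(nat_lit 0x518881088d002),(nat_lit 0x10b20001),(nat_lit 0x517ca03fb0002),(nat_lit 0x10b22001),(nat_lit 0x10b9a001)],[(nat_lit 0xc5300aa10002),(nat_lit 0xaa11001),(nat_lit 0xc5f9001),(nat_lit 0xac3f001),(nat_lit 0xac44001),(nat_lit 0xac11001),(nat_lit 0xb989132711002)],[(nat_lit 0xc5fb001),(nat_lit 0x3793001),(nat_lit 0xc53003794002),(nat_lit 0xcf10001),(nat_lit 0xab13001),(nat_lit 0x3795001),(nat_lit 0xcfe7001)],[(nat_lit 0xc52f0ad8c002),(nat_lit 0xc47d0324e002),(nat_lit 0xaf27001),(nat_lit 0x324d001),(nat_lit 0xc5310ada1002),(nat_lit 0xb0470ab8a002),(nat_lit 0xaf28001)],[(nat_lit 0xc5fa0ad8e002),(nat_lit 0xc53303250002),(nat_lit 0xc5fc0ad92002),(nat_lit 0xc5fd0ada8002),(nat_lit 0x324f001),(nat_lit 0xc5fe0adaa002),(nat_lit 0xbc4d10af2d002)],[(nat_lit 0xb986d33323002),(nat_lit 0xbb98233324002),(nat_lit 0x33325001),(nat_lit 0xb982c33326002),(nat_lit 0xb982133327002),(nat_lit 0x96ae433328002),(nat_lit 0xab89001)],[(nat_lit 0x35d6001),(nat_lit 0x37fb001),(nat_lit 0xc673035d5002),(nat_lit 0x35d7001),(nat_lit 0xc47e0b035002),(nat_lit 0x35d8001),(nat_lit 0xb557001)],[(nat_lit 0xaa8a001),(nat_lit 0xac72001),(nat_lit 0xac75001),(nat_lit 0xc5340ac14002),(nat_lit 0xaa89001),(nat_lit 0x22181001),(nat_lit 0x33bc132793002)],[(nat_lit 0xf8db001),(nat_lit 0x1c9d0001),(nat_lit 0xd9bd001),(nat_lit 0xd9be0c536002),(nat_lit 0xdd9d001),(nat_lit 0xf8bb001),(nat_lit 0xab0f001)],[(nat_lit 0xaa90001),(nat_lit 0xac77001),(nat_lit 0xa24803279b002),(nat_lit 0xaa8f001),(nat_lit 0xc5340ac16002),(nat_lit 0xac78001),(nat_lit 0xa1eed2f36c002)],[(nat_lit 0x360e001),(nat_lit 0xc5fe0b05e002),(nat_lit 0x360f001),(nat_lit 0xc5ff0b05f002),(nat_lit 0x360d001),(nat_lit 0xc60003610002),(nat_lit 0xc87d001)],[(nat_lit 0x9125d32826002),(nat_lit 0x32827001),(nat_lit 0xa43a132828002),(nat_lit 0xa492d32829002),(nat_lit 0xa2d043282a002),(nat_lit 0x912833282b002),(nat_lit 0xab10001)],[(nat_lit 0x843001),(nat_lit 0x844001),(nat_lit 0x141b001),(nat_lit 0x842001),(nat_lit 0xc30001),(nat_lit 0xcd6001),(nat_lit 0x234a01c82002)],[(nat_lit 0xc98001),(nat_lit 0x2662001),(nat_lit 0xc9a001),(nat_lit 0xc83001),(nat_lit 0x266d001),(nat_lit 0xc84001),(nat_lit 0xc82001)],[(nat_lit 0x19b1001),(nat_lit 0x23ec001),(nat_lit 0xc86001),(nat_lit 0x266e001),(nat_lit 0xc85001),(nat_lit 0x2442001),(nat_lit 0x26ae001)],[(nat_lit 0xc2e001),(nat_lit 0xc2b001),(nat_lit 0x141e001),(nat_lit 0xc2a001),(nat_lit 0xc2c001),(nat_lit 0x242e001),(nat_lit 0x258c001)],[(nat_lit 0x243f001),(nat_lit 0x23f0001),(nat_lit 0x2443001),(nat_lit 0x2430001),(nat_lit 0x23f1001),(nat_lit 0x23ef001),(nat_lit 0x1328f0694f002)],[(nat_lit 0x1322e06a6f002),(nat_lit 0x6a70001),(nat_lit 0x131f406a71002),(nat_lit 0x6a72001),(nat_lit 0x6a73001),(nat_lit 0x132b106a74002),(nat_lit 0x243d001)],[(nat_lit 0x141c001),(nat_lit 0x2760001),(nat_lit 0x13f8001),(nat_lit 0x2256001),(nat_lit 0x141d001),(nat_lit 0x141f001),(nat_lit 0x3be7001)],[(nat_lit 0x234a02298002),(nat_lit 0x204a01ccb002),(nat_lit 0x1cb2001),(nat_lit 0x2238001),(nat_lit 0x2269001),(nat_lit 0x234e02250002),(nat_lit 0x13f9001)],[(nat_lit 0x2673001),(nat_lit 0x26a6001),(nat_lit 0x2674001),(nat_lit 0x2675001),(nat_lit 0x3ce1001),(nat_lit 0x2676001),(nat_lit 0x13fa001)],[(nat_lit 0x4165001),(nat_lit 0x2664001),(nat_lit 0x733d001),(nat_lit 0x26a1001),(nat_lit 0x26a3001),(nat_lit 0x26a5001),(nat_lit 0x733e001)],[(nat_lit 0x266a001),(nat_lit 0x4c9a001),(nat_lit 0x2552001),(nat_lit 0x2553001),(nat_lit 0x26a7001),(nat_lit 0x2670001),(nat_lit 0x489b001)],[(nat_lit 0x26a0001),(nat_lit 0x26a4001),(nat_lit 0x26a8001),(nat_lit 0x629e001),(nat_lit 0x2665001),(nat_lit 0x7341001),(nat_lit 0x7342001)],[(nat_lit 0x3bb3001),(nat_lit 0x2587001),(nat_lit 0x3822001),(nat_lit 0x6ba1001),(nat_lit 0x2586001),(nat_lit 0x6ed8001),(nat_lit 0x6fcc001)],[(nat_lit 0x2589001),(nat_lit 0x258a001),(nat_lit 0x258b001),(nat_lit 0x2682001),(nat_lit 0x2588001),(nat_lit 0x38f4001),(nat_lit 0x6fcd001)],[(nat_lit 0x25b5001),(nat_lit 0x6ba3001),(nat_lit 0x6f58001),(nat_lit 0x25b6001),(nat_lit 0x25b4001),(nat_lit 0x6edb001),(nat_lit 0x6ff4001)],[(nat_lit 0x6dc3001),(nat_lit 0x6ed9001),(nat_lit 0x6dc4001),(nat_lit 0x6edd001),(nat_lit 0x6dc5001),(nat_lit 0x6dc2001),(nat_lit 0x37cd521d48002)],[(nat_lit 0x37cda21d85002),(nat_lit 0x21d86001),(nat_lit 0x37cd321d87002),(nat_lit 0x37cc821d88002),(nat_lit 0x37cd021d89002),(nat_lit 0x374b521d8a002),(nat_lit 0x6e0d001)],[(nat_lit 0xce2001),(nat_lit 0x2774001),(nat_lit 0xce3001),(nat_lit 0x2777001),(nat_lit 0xce1001),(nat_lit 0x2431001),(nat_lit 0x2785001)],[(nat_lit 0x23d5001),(nat_lit 0x242f001),(nat_lit 0x2433001),(nat_lit 0x23d6001),(nat_lit 0x240e001),(nat_lit 0x23d4001),(nat_lit 0xbfa706920002)],[(nat_lit 0xf67e06975002),(nat_lit 0x6976001),(nat_lit 0xf68206977002),(nat_lit 0xf67006978002),(nat_lit 0xf68306979002),(nat_lit 0xf66f06a30002),(nat_lit 0x2407001)],[(nat_lit 0xf8fc0c3fe002),(nat_lit 0xf908001),(nat_lit 0xc3ff001),(nat_lit 0xf909001),(nat_lit 0xc401001),(nat_lit 0xf90a0c402002),(nat_lit 0x6837001)],[(nat_lit 0x1f568001),(nat_lit 0x693e001),(nat_lit 0x20c2b1f8bb002),(nat_lit 0x69e0001),(nat_lit 0x69e2001),(nat_lit 0x69e4001),(nat_lit 0x1f8bc001)],[(nat_lit 0x2ea3001),(nat_lit 0x2e5e001),(nat_lit 0x20b2505104002),(nat_lit 0x2e5f001),(nat_lit 0x2e5d001),(nat_lit 0x20b2602ea8002),(nat_lit 0x20b2709968002)],[(nat_lit 0x68a8001),(nat_lit 0xf911001),(nat_lit 0xf912001),(nat_lit 0xf90a068a7002),(nat_lit 0x1f630001),(nat_lit 0xf913001),(nat_lit 0xfbc1001)],[(nat_lit 0x5102001),(nat_lit 0x20c2d13266002),(nat_lit 0x50ad001),(nat_lit 0x99ba715ef0002),(nat_lit 0x20b2505103002),(nat_lit 0x5105001),(nat_lit 0x15ef1001)],[(nat_lit 0x7513001),(nat_lit 0x2731001),(nat_lit 0x2761001),(nat_lit 0x2771001),(nat_lit 0x2773001),(nat_lit 0x2775001),(nat_lit 0x766e001)],[(nat_lit 0x2716001),(nat_lit 0x1419001),(nat_lit 0x2edb001),(nat_lit 0x141a001),(nat_lit 0x1cb3001),(nat_lit 0x1418001),(nat_lit 0x3cfd001)],[(nat_lit 0x19b9001),(nat_lit 0x1cb4001),(nat_lit 0x19ba001),(nat_lit 0x1d07001),(nat_lit 0x19b8001),(nat_lit 0x1cba001),(nat_lit 0x4615001)],[(nat_lit 0x26c1001),(nat_lit 0x26c2001),(nat_lit 0x3ccf001),(nat_lit 0x26c3001),(nat_lit 0x2726001),(nat_lit 0x2718001),(nat_lit 0x75e1001)],[(nat_lit 0x3cd0001),(nat_lit 0x2f3e001),(nat_lit 0x2f3d001),(nat_lit 0x4eed001),(nat_lit 0x3cd1001),(nat_lit 0x2f3f001),(nat_lit 0x183be09d04002)],[(nat_lit 0x2723001),(nat_lit 0x1416001),(nat_lit 0x3cd2001),(nat_lit 0x1417001),(nat_lit 0x1415001),(nat_lit 0x273d001),(nat_lit 0x3cf8001)],[(nat_lit 0x18ee00e6c9002),(nat_lit 0xe6ca001),(nat_lit 0xe6cb001),(nat_lit 0x184430e6cc002),(nat_lit 0xe6cd001),(nat_lit 0x18f000e6ce002),(nat_lit 0x3cce001)],[(nat_lit 0x1c9d001),(nat_lit 0x19b6001),(nat_lit 0x2ef4001),(nat_lit 0x19b7001),(nat_lit 0x1cc0001),(nat_lit 0x19b5001),(nat_lit 0x45ba001)],[(nat_lit 0x13f6001),(nat_lit 0x1cc1001),(nat_lit 0x13f7001),(nat_lit 0x277d001),(nat_lit 0x13f5001),(nat_lit 0x1c9c001),(nat_lit 0x3cd6001)],[(nat_lit 0x1ccd001),(nat_lit 0x273e001),(nat_lit 0x1cce001),(nat_lit 0x1ccf001),(nat_lit 0x1cd0001),(nat_lit 0x1ccc001),(nat_lit 0x5115001)],[(nat_lit 0x4dc7407780002),(nat_lit 0x7781001),(nat_lit 0x4b2d907782002),(nat_lit 0x4dbce07783002),(nat_lit 0x4dcb307784002),(nat_lit 0x4dc8507785002),(nat_lit 0x273c001)],[(nat_lit 0x2403001),(nat_lit 0x2404001),(nat_lit 0x2660001),(nat_lit 0x2405001),(nat_lit 0x241d001),(nat_lit 0x2402001),(nat_lit 0xbce60696e002)],[(nat_lit 0xc58407332002),(nat_lit 0xa70ce07333002),(nat_lit 0xa65607334002),(nat_lit 0xc58507335002),(nat_lit 0xc58607336002),(nat_lit 0xc5cd07337002),(nat_lit 0x265d001)],[(nat_lit 0x12b1b001),(nat_lit 0x6969001),(nat_lit 0xc4e9001),(nat_lit 0x6a13001),(nat_lit 0x6a15001),(nat_lit 0x6a17001),(nat_lit 0x1f8ff001)],[(nat_lit 0x46d2001),(nat_lit 0xc4ea0bcdc002),(nat_lit 0xc48b0bed6002),(nat_lit 0xc4ed046d1002),(nat_lit 0x12d4f001),(nat_lit 0xbcdd001),(nat_lit 0x20bb012dec002)],[(nat_lit 0x46d4001),(nat_lit 0xc4eb0bcde002),(nat_lit 0xc45f0bcdf002),(nat_lit 0x12d55001),(nat_lit 0xc4ed046d3002),(nat_lit 0xc4ee0bce0002),(nat_lit 0x12df3001)],[(nat_lit 0x1d3d001),(nat_lit 0x1d3e001),(nat_lit 0x1d3f001),(nat_lit 0x21e4001),(nat_lit 0x1d40001),(nat_lit 0x1d7d001),(nat_lit 0x52ce001)],[(nat_lit 0x21e5001),(nat_lit 0xacb001),(nat_lit 0x2291001),(nat_lit 0xaca001),(nat_lit 0x219d001),(nat_lit 0xf87001),(nat_lit 0x2292001)],[(nat_lit 0x1a31206375002),(nat_lit 0x6376001),(nat_lit 0x12a7406377002),(nat_lit 0x1776706378002),(nat_lit 0x6379001),(nat_lit 0x1a3160637a002),(nat_lit 0x21e3001)],[(nat_lit 0x2149001),(nat_lit 0x219c001),(nat_lit 0x2200001),(nat_lit 0x2148001),(nat_lit 0x214a001),(nat_lit 0x60c7001),(nat_lit 0x6118001)],[(nat_lit 0x1b58001),(nat_lit 0x1b59001),(nat_lit 0x9a09f02700002),(nat_lit 0x1bba001),(nat_lit 0x2703001),(nat_lit 0x1b5a001),(nat_lit 0x1852704b9a002)],[(nat_lit 0x26f8001),(nat_lit 0x1b95001),(nat_lit 0x9a09c026fb002),(nat_lit 0x26fe001),(nat_lit 0x217e001),(nat_lit 0x1b94001),(nat_lit 0x4c88001)],[(nat_lit 0x2704001),(nat_lit 0x1b7d001),(nat_lit 0x9b0fb02707002),(nat_lit 0x2bff001),(nat_lit 0x1b7c001),(nat_lit 0x2180001),(nat_lit 0x4c5f001)],[(nat_lit 0x1a2ea07631002),(nat_lit 0x1a2e707632002),(nat_lit 0x1a2d507633002),(nat_lit 0x1976007634002),(nat_lit 0x7635001),(nat_lit 0x1a31e07636002),(nat_lit 0x26ff001)],[(nat_lit 0x2bfa001),(nat_lit 0x2c00001),(nat_lit 0x8cfb001),(nat_lit 0x2b95001),(nat_lit 0x2b96001),(nat_lit 0x46f9001),(nat_lit 0x8cfd001)],[(nat_lit 0x1b86001),(nat_lit 0x217f001),(nat_lit 0x9c7b601bbe002),(nat_lit 0x46fa001),(nat_lit 0x1b85001),(nat_lit 0x1b87001),(nat_lit 0x4c7a001)],[(nat_lit 0x4dc8412e26002),(nat_lit 0x12e27001),(nat_lit 0x4b07912e28002),(nat_lit 0x12e29001),(nat_lit 0x9a6ab12e2a002),(nat_lit 0x4dd5e12e2b002),(nat_lit 0x46f8001)],[(nat_lit 0x1b63001),(nat_lit 0x1b64001),(nat_lit 0x99af1026f0002),(nat_lit 0x26f3001),(nat_lit 0x1b65001),(nat_lit 0x26f7001),(nat_lit 0x4bb0001)],[(nat_lit 0x1853a0fb2d002),(nat_lit 0x12a780fb32002),(nat_lit 0x1852d0ff5a002),(nat_lit 0x1a2a103e5a002),(nat_lit 0x1853b10299002),(nat_lit 0x3e59001),(nat_lit 0x1a2fe1029a002)],[(nat_lit 0x26f4001),(nat_lit 0x1b93001),(nat_lit 0x4c86001),(nat_lit 0x1b92001),(nat_lit 0x20fd001),(nat_lit 0x26fc001),(nat_lit 0x4c87001)],[(nat_lit 0x7e94107616002),(nat_lit 0x7617001),(nat_lit 0x7618001),(nat_lit 0x7619001),(nat_lit 0x761a001),(nat_lit 0x7e93e0761b002),(nat_lit 0x26ef001)],[(nat_lit 0x1853c001),(nat_lit 0x6166001),(nat_lit 0x1d563001),(nat_lit 0x62d7001),(nat_lit 0x62d9001),(nat_lit 0x62db001),(nat_lit 0x9a2e31d564002)],[(nat_lit 0x622a001),(nat_lit 0x1d568001),(nat_lit 0x6167001),(nat_lit 0x1852f001),(nat_lit 0x62dd001),(nat_lit 0x62df001),(nat_lit 0x1d569001)],[(nat_lit 0x1a2ed089bf002),(nat_lit 0x1853e089c0002),(nat_lit 0x1a29e089c1002),(nat_lit 0x1852e089c2002),(nat_lit 0x1a2ee089c3002),(nat_lit 0x1a2e6089c4002),(nat_lit 0x2ac4001)],[(nat_lit 0x62d6001),(nat_lit 0x62da001),(nat_lit 0x62de001),(nat_lit 0x1d978001),(nat_lit 0x6227001),(nat_lit 0x1d979001),(nat_lit 0x1d97a001)],[(nat_lit 0x9abc904160002),(nat_lit 0x1b76001),(nat_lit 0x1b78001),(nat_lit 0x9ab9501b75002),(nat_lit 0x9c88f03f00002),(nat_lit 0x1b77001),(nat_lit 0x4c4d001)],[(nat_lit 0x531380763e002),(nat_lit 0x763f001),(nat_lit 0x5303c07640002),(nat_lit 0x52fed07641002),(nat_lit 0x5303d07642002),(nat_lit 0x9bdab07643002),(nat_lit 0x2708001)],[(nat_lit 0x2112001),(nat_lit 0x9c88f03f01002),(nat_lit 0x3ec0001),(nat_lit 0x2151001),(nat_lit 0x2111001),(nat_lit 0x2113001),(nat_lit 0x604d001)],[(nat_lit 0x4b4d001),(nat_lit 0x9b10e06df9002),(nat_lit 0x4b4c001),(nat_lit 0x9c86207128002),(nat_lit 0x4b4e001),(nat_lit 0x9b19504c35002),(nat_lit 0x9ab8a14608002)],[(nat_lit 0x1b9a001),(nat_lit 0x26fd001),(nat_lit 0x9b19504c37002),(nat_lit 0x1b9b001),(nat_lit 0x4c8a001),(nat_lit 0x1b99001),(nat_lit 0x4c8c001)],[(nat_lit 0x5160e1487e002),(nat_lit 0x9b7991487f002),(nat_lit 0x5164a14880002),(nat_lit 0xb44f514881002),(nat_lit 0x2394414882002),(nat_lit 0x5160114883002),(nat_lit 0x4bb8001)],[(nat_lit 0x524a614884002),(nat_lit 0x516f114885002),(nat_lit 0x4b23314886002),(nat_lit 0x516f014887002),(nat_lit 0x4b1ae14888002),(nat_lit 0x5170b14889002),(nat_lit 0x4bb9001)],[(nat_lit 0x9b69f14951002),(nat_lit 0x4c5a001),(nat_lit 0x14952001),(nat_lit 0x4ccf001),(nat_lit 0x4cd1001),(nat_lit 0x4cd3001),(nat_lit 0x9b6a214953002)],[(nat_lit 0x4c22001),(nat_lit 0x4b230148d3002),(nat_lit 0x5167504c21002),(nat_lit 0x9b699148d4002),(nat_lit 0x5167914858002),(nat_lit 0x4b1ad1485b002),(nat_lit 0x51711148d5002)],[(nat_lit 0x4c24001),(nat_lit 0x5165f148d6002),(nat_lit 0x51671148d8002),(nat_lit 0x5167504c23002),(nat_lit 0x5165e148da002),(nat_lit 0x516741485e002),(nat_lit 0x9b6a4148dc002)],[(nat_lit 0x4c26001),(nat_lit 0x51662148dd002),(nat_lit 0x516791485a002),(nat_lit 0x9b281148df002),(nat_lit 0x5167504c25002),(nat_lit 0x148e1001),(nat_lit 0x148e3001)],[(nat_lit 0x144e001),(nat_lit 0x144f001),(nat_lit 0x257b001),(nat_lit 0x144d001),(nat_lit 0x1450001),(nat_lit 0x2544001),(nat_lit 0x3da6001)],[(nat_lit 0x1452001),(nat_lit 0x1453001),(nat_lit 0x2542001),(nat_lit 0x2547001),(nat_lit 0x1454001),(nat_lit 0x1451001),(nat_lit 0x3daa001)],[(nat_lit 0x165fb06e1b002),(nat_lit 0x6e1c001),(nat_lit 0x165f906e1d002),(nat_lit 0x1660c06e1e002),(nat_lit 0x1660d06e1f002),(nat_lit 0x1626c06e20002),(nat_lit 0x253f001)],[(nat_lit 0x257c001),(nat_lit 0x6bd0001),(nat_lit 0x254f001),(nat_lit 0x6e36001),(nat_lit 0x2550001),(nat_lit 0x257e001),(nat_lit 0x6e37001)],[(nat_lit 0x2545001),(nat_lit 0x145a001),(nat_lit 0x257f001),(nat_lit 0x145b001),(nat_lit 0x25e9001),(nat_lit 0x1459001),(nat_lit 0x3db1001)],[(nat_lit 0x15f1c06e38002),(nat_lit 0x6e39001),(nat_lit 0x6e3a001),(nat_lit 0x6e3b001),(nat_lit 0x6e3c001),(nat_lit 0x1069506e3d002),(nat_lit 0x2551001)],[(nat_lit 0x11d130707f002),(nat_lit 0x1661907080002),(nat_lit 0x1661307081002),(nat_lit 0x1661a07082002),(nat_lit 0x7083001),(nat_lit 0x1661807084002),(nat_lit 0x25bb001)],[(nat_lit 0xfa60001),(nat_lit 0x3d9d001),(nat_lit 0xfa61001),(nat_lit 0x3dc8001),(nat_lit 0x3dca001),(nat_lit 0x3dcc001),(nat_lit 0xfa62001)],[(nat_lit 0x3dc1001),(nat_lit 0xfa66001),(nat_lit 0x3d9e001),(nat_lit 0xfa67001),(nat_lit 0x3dce001),(nat_lit 0x3dd0001),(nat_lit 0x21e0e0fa68002)],[(nat_lit 0x3dc3001),(nat_lit 0x3dc9001),(nat_lit 0xfa69001),(nat_lit 0x3d9f001),(nat_lit 0xfa6a001),(nat_lit 0x3dd2001),(nat_lit 0xfa6b001)],[(nat_lit 0x3dc5001),(nat_lit 0x3dcb001),(nat_lit 0x3dcf001),(nat_lit 0xfa6c001),(nat_lit 0x3da0001),(nat_lit 0xfa6d001),(nat_lit 0xaaf280fa6e002)],[(nat_lit 0x3382001),(nat_lit 0x339a001),(nat_lit 0x3381001),(nat_lit 0x338c001),(nat_lit 0x399e001),(nat_lit 0x3383001),(nat_lit 0x3384001)],[(nat_lit 0x3766001),(nat_lit 0x2607001),(nat_lit 0x399f001),(nat_lit 0x33cb001),(nat_lit 0x2606001),(nat_lit 0x716b001),(nat_lit 0x7284001)],[(nat_lit 0x2632001),(nat_lit 0x33cc001),(nat_lit 0x3a85001),(nat_lit 0x25e5001),(nat_lit 0x25e6001),(nat_lit 0x70e9001),(nat_lit 0x70ec001)],[(nat_lit 0x7090001),(nat_lit 0x716d001),(nat_lit 0x7170001),(nat_lit 0x70eb001),(nat_lit 0x7091001),(nat_lit 0x708f001),(nat_lit 0x22e4522c5b002)],[(nat_lit 0x30ea40709c002),(nat_lit 0x718b001),(nat_lit 0x30e630261b002),(nat_lit 0x718d001),(nat_lit 0x30eb9071a7002),(nat_lit 0x261a001),(nat_lit 0x30eba072cf002)],[(nat_lit 0x249a001),(nat_lit 0x1842001),(nat_lit 0x1841001),(nat_lit 0x213c001),(nat_lit 0x1843001),(nat_lit 0x2205001),(nat_lit 0x1868001)],[(nat_lit 0x247b001),(nat_lit 0x145e001),(nat_lit 0x217a001),(nat_lit 0x145d001),(nat_lit 0x213d001),(nat_lit 0x2483001),(nat_lit 0x3dd9001)],[(nat_lit 0x247d001),(nat_lit 0x1460001),(nat_lit 0x2481001),(nat_lit 0x2485001),(nat_lit 0x1461001),(nat_lit 0x145f001),(nat_lit 0x3de4001)],[(nat_lit 0xfbe906b4d002),(nat_lit 0x6b4e001),(nat_lit 0x6b4f001),(nat_lit 0x6b50001),(nat_lit 0x6b51001),(nat_lit 0xfbe306b52002),(nat_lit 0x2476001)],[(nat_lit 0xd30001),(nat_lit 0x1cf7001),(nat_lit 0xd13001),(nat_lit 0xd14001),(nat_lit 0x27d4001),(nat_lit 0xd36001),(nat_lit 0x154c001)],[(nat_lit 0x1463001),(nat_lit 0x2484001),(nat_lit 0x2171001),(nat_lit 0x1464001),(nat_lit 0x2140001),(nat_lit 0x1462001),(nat_lit 0x3de5001)],[(nat_lit 0xeeff07317002),(nat_lit 0x7318001),(nat_lit 0xef2d07319002),(nat_lit 0xef7c0731a002),(nat_lit 0xef7d0731b002),(nat_lit 0xeed90731c002),(nat_lit 0x2650001)],[(nat_lit 0xefbb001),(nat_lit 0x3dd4001),(nat_lit 0xfadc001),(nat_lit 0x3e37001),(nat_lit 0x3e39001),(nat_lit 0x3e3b001),(nat_lit 0xfadd001)],[(nat_lit 0x2688001),(nat_lit 0xef6107367002),(nat_lit 0x7369001),(nat_lit 0xef3e02687002),(nat_lit 0x736b001),(nat_lit 0xef3b072fa002),(nat_lit 0x736d001)],[(nat_lit 0x268a001),(nat_lit 0xefbe0736e002),(nat_lit 0xef3f072f8002),(nat_lit 0x7370001),(nat_lit 0xef3e02689002),(nat_lit 0x7372001),(nat_lit 0x7374001)],[(nat_lit 0x20775001),(nat_lit 0x6b8d001),(nat_lit 0x6bd1001),(nat_lit 0x6ba6001),(nat_lit 0x6b8e001),(nat_lit 0x6bad001),(nat_lit 0x20778001)],[(nat_lit 0x24c2001),(nat_lit 0x6ba5001),(nat_lit 0x24c1001),(nat_lit 0x24c3001),(nat_lit 0x614d001),(nat_lit 0x2506001),(nat_lit 0x3bd5001)],[(nat_lit 0x24cf001),(nat_lit 0x6bac001),(nat_lit 0x24d0001),(nat_lit 0x2505001),(nat_lit 0x25ff001),(nat_lit 0x24ce001),(nat_lit 0x6bae001)],[(nat_lit 0xeff3001),(nat_lit 0xefeb001),(nat_lit 0xc07b001),(nat_lit 0xc016001),(nat_lit 0xc8cc001),(nat_lit 0xf095001),(nat_lit 0x6b8f001)],[(nat_lit 0x25ac001),(nat_lit 0x25ea001),(nat_lit 0x2601001),(nat_lit 0x25ad001),(nat_lit 0x25ab001),(nat_lit 0x25ae001),(nat_lit 0x6ff0001)],[(nat_lit 0xc51406d46002),(nat_lit 0xc54f0708b002),(nat_lit 0xc48906d43002),(nat_lit 0xc5500708c002),(nat_lit 0xc54e0708e002),(nat_lit 0xc51706d47002),(nat_lit 0x25bd001)],[(nat_lit 0x20779001),(nat_lit 0x6b91001),(nat_lit 0xa1ebb0fc7f002),(nat_lit 0x6c8c001),(nat_lit 0x6c8e001),(nat_lit 0x6c90001),(nat_lit 0x2077b001)],[(nat_lit 0xc46f06c85002),(nat_lit 0xeff4001),(nat_lit 0x6b92001),(nat_lit 0xbd3e001),(nat_lit 0x6c92001),(nat_lit 0x6c94001),(nat_lit 0xbcc6001)],[(nat_lit 0xc51a06c87002),(nat_lit 0x6c8d001),(nat_lit 0x6bd4001),(nat_lit 0x6b93001),(nat_lit 0x7f52001),(nat_lit 0x6c96001),(nat_lit 0x10630001)],[(nat_lit 0xc51b06c89002),(nat_lit 0x6c8f001),(nat_lit 0x6c93001),(nat_lit 0x7ddd001),(nat_lit 0x6b94001),(nat_lit 0x7e5c001),(nat_lit 0x12680001)],[(nat_lit 0xc48f07061002),(nat_lit 0xc433025f8002),(nat_lit 0x7065001),(nat_lit 0xc43206fed002),(nat_lit 0xc4910707c002),(nat_lit 0x25f7001),(nat_lit 0x70fc001)],[(nat_lit 0xc41706cf5002),(nat_lit 0xc43206fec002),(nat_lit 0xc41407104002),(nat_lit 0xc433025fe002),(nat_lit 0xc41207108002),(nat_lit 0xc434025fd002),(nat_lit 0x7246001)],[(nat_lit 0xc4450a643002),(nat_lit 0xa644001),(nat_lit 0xc49706a1a002),(nat_lit 0xcc43001),(nat_lit 0xa63a06a19002),(nat_lit 0xa645001),(nat_lit 0x9a6741fa2b002)],[(nat_lit 0xc49206d5e002),(nat_lit 0x6d5f001),(nat_lit 0xc552001),(nat_lit 0x6ece001),(nat_lit 0x6ee8001),(nat_lit 0x6ef0001),(nat_lit 0xad29421d01002)],[(nat_lit 0x705b001),(nat_lit 0x7117001),(nat_lit 0x6fe9001),(nat_lit 0x22b9a001),(nat_lit 0x7062001),(nat_lit 0x7064001),(nat_lit 0x22b9b001)],[(nat_lit 0xc4900705d002),(nat_lit 0xc434025f4002),(nat_lit 0xfc92070f5002),(nat_lit 0x25f3001),(nat_lit 0xc49307078002),(nat_lit 0xc43206feb002),(nat_lit 0x70f6001)],[(nat_lit 0xc5530705f002),(nat_lit 0xc49a025f6002),(nat_lit 0x7063001),(nat_lit 0xc554070f7002),(nat_lit 0x25f5001),(nat_lit 0xc555070f9002),(nat_lit 0x70fb001)],[(nat_lit 0xabab821dca002),(nat_lit 0xabac422b9e002),(nat_lit 0x21dcb001),(nat_lit 0x22b9f001),(nat_lit 0x22ba1001),(nat_lit 0x21dcc001),(nat_lit 0x6fea001)],[(nat_lit 0x12f0f001),(nat_lit 0xa64206a18002),(nat_lit 0xc556001),(nat_lit 0xa64c001),(nat_lit 0xa64d001),(nat_lit 0x6a17001),(nat_lit 0x1fa24001)],[(nat_lit 0xbcda07070002),(nat_lit 0xc4d607133002),(nat_lit 0x4ae4001),(nat_lit 0xc49804ae3002),(nat_lit 0xbe74001),(nat_lit 0xbcd607072002),(nat_lit 0x20b6e12eca002)],[(nat_lit 0xc4ba06fe7002),(nat_lit 0xc557070fd002),(nat_lit 0xc49a025fa002),(nat_lit 0xc55a070ff002),(nat_lit 0xc498025f9002),(nat_lit 0xc55807100002),(nat_lit 0x7101001)],[(nat_lit 0x6df4001),(nat_lit 0xfc87001),(nat_lit 0x6df3001),(nat_lit 0xc441001),(nat_lit 0x6eff001),(nat_lit 0x6df5001),(nat_lit 0x12709001)],[(nat_lit 0xc44707077002),(nat_lit 0xc49307079002),(nat_lit 0xc44207137002),(nat_lit 0xc49b07119002),(nat_lit 0xc43404b0a002),(nat_lit 0xc49c001),(nat_lit 0x4b0b001)],[(nat_lit 0xec12001),(nat_lit 0x30f0d21d9c002),(nat_lit 0x10100001),(nat_lit 0xc49d001),(nat_lit 0x9b0e421d9f002),(nat_lit 0x10631001),(nat_lit 0x6e18001)],[(nat_lit 0x6e4a001),(nat_lit 0x6f63001),(nat_lit 0x9bb83224bb002),(nat_lit 0x6e49001),(nat_lit 0x6ebf001),(nat_lit 0x9b32f06f69002),(nat_lit 0x9d718225a2002)],[(nat_lit 0x6e4c001),(nat_lit 0x6f65001),(nat_lit 0x6f68001),(nat_lit 0x9b32f06f6b002),(nat_lit 0x6ec0001),(nat_lit 0x6e4b001),(nat_lit 0x78a07225a3002)],[(nat_lit 0x9a822225a8002),(nat_lit 0x225a9001),(nat_lit 0x9adb3225aa002),(nat_lit 0x9baa5225ab002),(nat_lit 0x9a81e225ac002),(nat_lit 0x9c99a225ad002),(nat_lit 0x6e4d001)],[(nat_lit 0x20eb001),(nat_lit 0x20ec001),(nat_lit 0x220c001),(nat_lit 0x20ed001),(nat_lit 0x21e0001),(nat_lit 0x2134001),(nat_lit 0x600d001)],[(nat_lit 0x1d76001),(nat_lit 0x1d77001),(nat_lit 0x1d78001),(nat_lit 0x2133001),(nat_lit 0x1dbb001),(nat_lit 0x1d79001),(nat_lit 0x530d001)],[(nat_lit 0x1b11216c56002),(nat_lit 0x1b11816c57002),(nat_lit 0x9aa1f16c58002),(nat_lit 0x1b11a16c59002),(nat_lit 0x1b11b16c5a002),(nat_lit 0x1b11116c5b002),(nat_lit 0x52cd001)],[(nat_lit 0x220d001),(nat_lit 0x220a001),(nat_lit 0x21de001),(nat_lit 0x6363001),(nat_lit 0x220e001),(nat_lit 0x2210001),(nat_lit 0x6364001)],[(nat_lit 0x21e1001),(nat_lit 0x2160001),(nat_lit 0x220f001),(nat_lit 0x219b001),(nat_lit 0x215f001),(nat_lit 0x60e3001),(nat_lit 0x6132001)],[(nat_lit 0x2131001),(nat_lit 0xe13001),(nat_lit 0x2211001),(nat_lit 0xe12001),(nat_lit 0x21e8001),(nat_lit 0xe14001),(nat_lit 0x2b29001)],[(nat_lit 0x1a32b0636b002),(nat_lit 0x636c001),(nat_lit 0x636d001),(nat_lit 0x1777b0636e002),(nat_lit 0x636f001),(nat_lit 0x1a32206370002),(nat_lit 0x21df001)],[(nat_lit 0x1db8001),(nat_lit 0xe16001),(nat_lit 0xe17001),(nat_lit 0x14d3001),(nat_lit 0xe15001),(nat_lit 0xf8b001),(nat_lit 0x2b50001)],[(nat_lit 0x1b0f80637c002),(nat_lit 0x1b0f90637d002),(nat_lit 0x99e440637e002),(nat_lit 0x1b0fb0637f002),(nat_lit 0x6380001),(nat_lit 0x1b0fc06381002),(nat_lit 0x21e7001)],[(nat_lit 0x218091d48c002),(nat_lit 0x6112001),(nat_lit 0x18341001),(nat_lit 0x61c7001),(nat_lit 0x61c9001),(nat_lit 0x61cb001),(nat_lit 0x218981d48e002)],[(nat_lit 0x99df7061c0002),(nat_lit 0x18325001),(nat_lit 0x6113001),(nat_lit 0x99cbd18327002),(nat_lit 0x61cd001),(nat_lit 0x99dfb061cf002),(nat_lit 0x19c0c001)],[(nat_lit 0x1ac93061c2002),(nat_lit 0x61c8001),(nat_lit 0x1ac99197da002),(nat_lit 0x6114001),(nat_lit 0x1ac9a001),(nat_lit 0x61d1001),(nat_lit 0x197dc001)],[(nat_lit 0x61c4001),(nat_lit 0x61ca001),(nat_lit 0x61ce001),(nat_lit 0x1d494001),(nat_lit 0x6115001),(nat_lit 0x1d495001),(nat_lit 0x1d497001)],[(nat_lit 0x3f7f001),(nat_lit 0x185e001),(nat_lit 0x220b001),(nat_lit 0x185d001),(nat_lit 0x21a3001),(nat_lit 0x185f001),(nat_lit 0x4143001)],[(nat_lit 0x215b001),(nat_lit 0x21a4001),(nat_lit 0x215c001),(nat_lit 0x218f001),(nat_lit 0x215a001),(nat_lit 0x60e5001),(nat_lit 0x612e001)],[(nat_lit 0x2087001),(nat_lit 0x179c001),(nat_lit 0x1793001),(nat_lit 0x17cf001),(nat_lit 0x1810001),(nat_lit 0x2089001),(nat_lit 0x1792001)],[(nat_lit 0x605d001),(nat_lit 0x60e4001),(nat_lit 0x60e7001),(nat_lit 0x60c9001),(nat_lit 0x606c001),(nat_lit 0x605c001),(nat_lit 0x1d162001)],[(nat_lit 0x4a5cc1d163002),(nat_lit 0x9fa9c1d164002),(nat_lit 0x1d165001),(nat_lit 0x1d166001),(nat_lit 0x1d167001),(nat_lit 0x4a5de1d168002),(nat_lit 0x605e001)],[(nat_lit 0x216a001),(nat_lit 0x21e9001),(nat_lit 0x21a0001),(nat_lit 0x2187001),(nat_lit 0x2169001),(nat_lit 0x606e001),(nat_lit 0x613c001)],[(nat_lit 0x22d5001),(nat_lit 0x22d6001),(nat_lit 0x22d8001),(nat_lit 0x22d4001),(nat_lit 0x22d9001),(nat_lit 0x22d7001),(nat_lit 0x6061001)],[(nat_lit 0x25aa001),(nat_lit 0x3ea6001),(nat_lit 0x240c001),(nat_lit 0x2c18001),(nat_lit 0x2c1b001),(nat_lit 0x240d001),(nat_lit 0x14d2001)],[(nat_lit 0x1cc7001),(nat_lit 0x1a5b001),(nat_lit 0x1a5c001),(nat_lit 0x1a5d001),(nat_lit 0x1cee001),(nat_lit 0x1a5a001),(nat_lit 0x47c8001)],[(nat_lit 0x1ac7001),(nat_lit 0x1cef001),(nat_lit 0x1cf4001),(nat_lit 0x2767001),(nat_lit 0x1ac6001),(nat_lit 0x267d001),(nat_lit 0x4943001)],[(nat_lit 0x241a001),(nat_lit 0x241b001),(nat_lit 0x267c001),(nat_lit 0x241c001),(nat_lit 0x241d001),(nat_lit 0x2419001),(nat_lit 0x6a4c001)],[(nat_lit 0x140ae001),(nat_lit 0x1624a001),(nat_lit 0x13d81001),(nat_lit 0x140af001),(nat_lit 0xa0177140b0002),(nat_lit 0x140b1001),(nat_lit 0x514c001)],[(nat_lit 0x6842001),(nat_lit 0x2bb8001),(nat_lit 0x3f72001),(nat_lit 0x2c0f001),(nat_lit 0x2c11001),(nat_lit 0x2bbe001),(nat_lit 0x8d45001)],[(nat_lit 0x2106001),(nat_lit 0x210f001),(nat_lit 0x255a023b9002),(nat_lit 0x20dc001),(nat_lit 0x20dd001),(nat_lit 0x24b9023b2002),(nat_lit 0x1cfd001)],[(nat_lit 0x239a001),(nat_lit 0x2c10001),(nat_lit 0x4a35001),(nat_lit 0x259d02399002),(nat_lit 0x6088001),(nat_lit 0x25a9001),(nat_lit 0x680d001)],[(nat_lit 0x239c001),(nat_lit 0x2c12001),(nat_lit 0x25a8001),(nat_lit 0x6810001),(nat_lit 0x259d0239b002),(nat_lit 0x2ad0001),(nat_lit 0x6812001)],[(nat_lit 0x1b9f001),(nat_lit 0x1bb8001),(nat_lit 0x2b65001),(nat_lit 0x1ba0001),(nat_lit 0x2b68001),(nat_lit 0x1b9e001),(nat_lit 0x2104d04c96002)],[(nat_lit 0x2b66001),(nat_lit 0x218a001),(nat_lit 0x1ba4001),(nat_lit 0x4c99001),(nat_lit 0x2b6b001),(nat_lit 0x1ba3001),(nat_lit 0x4c9c001)],[(nat_lit 0x2b69001),(nat_lit 0x15d7014fd002),(nat_lit 0x2b6c001),(nat_lit 0x2c05001),(nat_lit 0x15b6014fc002),(nat_lit 0x21ce001),(nat_lit 0x3f15001)],[(nat_lit 0x20ffe02a98002),(nat_lit 0x17a500887a002),(nat_lit 0x17a510888c002),(nat_lit 0x20fbc02a97002),(nat_lit 0xa6f540888e002),(nat_lit 0x17a4908768002),(nat_lit 0x2100408906002)],[(nat_lit 0x2ba3001),(nat_lit 0x2c06001),(nat_lit 0x8d1b001),(nat_lit 0x2ba2001),(nat_lit 0x2bfb001),(nat_lit 0x2c07001),(nat_lit 0x8342001)],[(nat_lit 0x2184001),(nat_lit 0x21cd001),(nat_lit 0x2185001),(nat_lit 0x2c09001),(nat_lit 0x2183001),(nat_lit 0x2186001),(nat_lit 0x6235001)],[(nat_lit 0x1438908d23002),(nat_lit 0x8d24001),(nat_lit 0x1438a08d25002),(nat_lit 0x1438b08d26002),(nat_lit 0x9bd8708d27002),(nat_lit 0x1438c08d28002),(nat_lit 0x2ba8001)],[(nat_lit 0x1b9d001),(nat_lit 0x4b7c001),(nat_lit 0x1b9c001),(nat_lit 0x4c8d001),(nat_lit 0x2b57001),(nat_lit 0x2b67001),(nat_lit 0x4c8f001)],[(nat_lit 0x1b81001),(nat_lit 0x20fa001),(nat_lit 0x2b55001),(nat_lit 0x2b58001),(nat_lit 0x1b80001),(nat_lit 0x2b5c001),(nat_lit 0x4c6f001)],[(nat_lit 0x2714001),(nat_lit 0x214d001),(nat_lit 0x214e001),(nat_lit 0x2671001),(nat_lit 0x217b001),(nat_lit 0x218c001),(nat_lit 0x468d001)],[(nat_lit 0x4c8e001),(nat_lit 0x4c67001),(nat_lit 0x751f001),(nat_lit 0x4c66001),(nat_lit 0x7356001),(nat_lit 0x4c9b001),(nat_lit 0x1a13814b04002)],[(nat_lit 0x2b56001),(nat_lit 0x2179001),(nat_lit 0x1ba2001),(nat_lit 0x4c97001),(nat_lit 0x1ba1001),(nat_lit 0x2b5f001),(nat_lit 0x4c98001)],[(nat_lit 0x1a9ee14b07002),(nat_lit 0x9f2c914b08002),(nat_lit 0x194a314b09002),(nat_lit 0x17a2714b0a002),(nat_lit 0xa028b14b0b002),(nat_lit 0x1a9f114b0c002),(nat_lit 0x4c68001)],[(nat_lit 0x2b59001),(nat_lit 0x1b89001),(nat_lit 0x4c43001),(nat_lit 0x1b88001),(nat_lit 0x1b8a001),(nat_lit 0x2b61001),(nat_lit 0x4c7b001)],[(nat_lit 0x2b5d001),(nat_lit 0x21a6001),(nat_lit 0x2b60001),(nat_lit 0x2b63001),(nat_lit 0x21cc001),(nat_lit 0x21a5001),(nat_lit 0x6255001)],[(nat_lit 0x2b3ee08c99002),(nat_lit 0x8c9a001),(nat_lit 0x8c9b001),(nat_lit 0x8c9c001),(nat_lit 0x8c9d001),(nat_lit 0x2b72908c9e002),(nat_lit 0x2b54001)],[(nat_lit 0x2102814b13002),(nat_lit 0x4c6a001),(nat_lit 0x14b14001),(nat_lit 0x4ce0001),(nat_lit 0x4ce2001),(nat_lit 0x4ce4001),(nat_lit 0x2225c14b15002)],[(nat_lit 0x4cdc001),(nat_lit 0x215c814b18002),(nat_lit 0x4c6b001),(nat_lit 0x215c614b19002),(nat_lit 0x4ce6001),(nat_lit 0x4ce8001),(nat_lit 0x14b1a001)],[(nat_lit 0x4cde001),(nat_lit 0x4ce3001),(nat_lit 0x4ce7001),(nat_lit 0x2105214b1b002),(nat_lit 0x4c6d001),(nat_lit 0xa614514b1c002),(nat_lit 0x14b1d001)],[(nat_lit 0x24b1001),(nat_lit 0x2520001),(nat_lit 0x2715001),(nat_lit 0x24b0001),(nat_lit 0x24b2001),(nat_lit 0x2ac7001),(nat_lit 0x24b3001)],[(nat_lit 0x139b001),(nat_lit 0x18e5001),(nat_lit 0x139c001),(nat_lit 0x22e6001),(nat_lit 0x18fb001),(nat_lit 0x139a001),(nat_lit 0x213e001)],[(nat_lit 0x2508001),(nat_lit 0x6cac001),(nat_lit 0x2507001),(nat_lit 0x2509001),(nat_lit 0x4ad9001),(nat_lit 0x250a001),(nat_lit 0x6d13001)],[(nat_lit 0x21a8001),(nat_lit 0x2b62001),(nat_lit 0x24b4001),(nat_lit 0x21a9001),(nat_lit 0x4cae001),(nat_lit 0x21a7001),(nat_lit 0x625a001)],[(nat_lit 0xc48206bce002),(nat_lit 0xc518001),(nat_lit 0xa658001),(nat_lit 0xc46e0c38a002),(nat_lit 0xa659001),(nat_lit 0xc50006bcf002),(nat_lit 0x6142001)],[(nat_lit 0x1324f0c2b8002),(nat_lit 0x6151001),(nat_lit 0x1d53b001),(nat_lit 0x6bd706215002),(nat_lit 0x6217001),(nat_lit 0x6219001),(nat_lit 0x12f0e001)],[(nat_lit 0xc5380620e002),(nat_lit 0xc5cc001),(nat_lit 0x6152001),(nat_lit 0x6bd3001),(nat_lit 0x621b001),(nat_lit 0xc5190621d002),(nat_lit 0xbce7001)],[(nat_lit 0xc53706212002),(nat_lit 0x6218001),(nat_lit 0x621c001),(nat_lit 0x6d79001),(nat_lit 0x6154001),(nat_lit 0x1d549001),(nat_lit 0x8fc4a1d54b002)],[(nat_lit 0x14b2001),(nat_lit 0x288b001),(nat_lit 0x2030014b1002),(nat_lit 0x3d8b001),(nat_lit 0x2902001),(nat_lit 0x14b3001),(nat_lit 0x3e25001)],[(nat_lit 0x2032014b5002),(nat_lit 0x208c001),(nat_lit 0x2904001),(nat_lit 0x2908001),(nat_lit 0x2030014b4002),(nat_lit 0x27ee001),(nat_lit 0x3e29001)],[(nat_lit 0x1abf808088002),(nat_lit 0x1832608089002),(nat_lit 0x1abb60808a002),(nat_lit 0x178c00808b002),(nat_lit 0x1abb70808c002),(nat_lit 0x1ac6f0808d002),(nat_lit 0x2901001)],[(nat_lit 0x3d8a001),(nat_lit 0x3d65001),(nat_lit 0x45be001),(nat_lit 0x3d66001),(nat_lit 0x7e2c001),(nat_lit 0x3d64001),(nat_lit 0x9a80d0ea95002)],[(nat_lit 0x2903001),(nat_lit 0x2065001),(nat_lit 0x2032014b7002),(nat_lit 0x3e2a001),(nat_lit 0x14b6001),(nat_lit 0x293c001),(nat_lit 0x3e2b001)],[(nat_lit 0x20fce0ead0002),(nat_lit 0x220410ead1002),(nat_lit 0x20fa50ead2002),(nat_lit 0x20fcd0ead3002),(nat_lit 0xead4001),(nat_lit 0x20fcf0ead5002),(nat_lit 0x3d96001)],[(nat_lit 0x2906001),(nat_lit 0x20d1001),(nat_lit 0x5f45001),(nat_lit 0x20d0001),(nat_lit 0x210a001),(nat_lit 0x293f001),(nat_lit 0x5f46001)],[(nat_lit 0x27ec001),(nat_lit 0x20360149a002),(nat_lit 0x2939001),(nat_lit 0x293d001),(nat_lit 0x206d01499002),(nat_lit 0x20320149b002),(nat_lit 0x3e07001)],[(nat_lit 0xa09540846c002),(nat_lit 0x846d001),(nat_lit 0x846e001),(nat_lit 0x846f001),(nat_lit 0x8470001),(nat_lit 0xa094208471002),(nat_lit 0x29f1001)],[(nat_lit 0x99b5f0e9d7002),(nat_lit 0x1abab03d74002),(nat_lit 0xe9db001),(nat_lit 0x1abaa0e727002),(nat_lit 0x1abf50e9fb002),(nat_lit 0x3d73001),(nat_lit 0xeaa0001)],[(nat_lit 0x1abe70e71d002),(nat_lit 0x212330e9e3002),(nat_lit 0x1abab03d78002),(nat_lit 0xe9e5001),(nat_lit 0x1abee0e9fc002),(nat_lit 0x3d77001),(nat_lit 0xeaa3001)],[(nat_lit 0x178c90e720002),(nat_lit 0x1abaa0e726002),(nat_lit 0x999180e9ed002),(nat_lit 0x1abab03d7a002),(nat_lit 0x178ca0eaa4002),(nat_lit 0x3d79001),(nat_lit 0x1abae0eaa5002)],[(nat_lit 0x3e82001),(nat_lit 0x3e88001),(nat_lit 0x3e8c001),(nat_lit 0x101f9001),(nat_lit 0x3e23001),(nat_lit 0x1abf9101fa002),(nat_lit 0x101fb001)],[(nat_lit 0x5f3e001),(nat_lit 0x82c3001),(nat_lit 0x5f1f001),(nat_lit 0x8356001),(nat_lit 0x5f20001),(nat_lit 0x5f4c001),(nat_lit 0x4ce7c1cce7002)],[(nat_lit 0x2301001),(nat_lit 0x293e001),(nat_lit 0x5f4b001),(nat_lit 0x20d3001),(nat_lit 0x2971001),(nat_lit 0x20d2001),(nat_lit 0x5fe6001)],[(nat_lit 0x4dc0a1ccec002),(nat_lit 0x1cced001),(nat_lit 0x4b32d1ccee002),(nat_lit 0x9aff61ccef002),(nat_lit 0x1ccf0001),(nat_lit 0x4dc521ccf1002),(nat_lit 0x5f21001)],[(nat_lit 0x1ccfd001),(nat_lit 0x5f26001),(nat_lit 0x518bf1ccfe002),(nat_lit 0x5fd1001),(nat_lit 0x5fd3001),(nat_lit 0x5fd5001),(nat_lit 0x1ccff001)],[(nat_lit 0x5fce001),(nat_lit 0x5fd4001),(nat_lit 0x5fd8001),(nat_lit 0x9c92a1cd08002),(nat_lit 0x5f29001),(nat_lit 0x4b31a1cd09002),(nat_lit 0x9f8461cd0a002)],[(nat_lit 0x3cef001),(nat_lit 0x2836001),(nat_lit 0x2837001),(nat_lit 0x3d87001),(nat_lit 0x288a001),(nat_lit 0x288d001),(nat_lit 0x7c0c001)],[(nat_lit 0x3d10001),(nat_lit 0x3d88001),(nat_lit 0x4520001),(nat_lit 0x3d0f001),(nat_lit 0xe70a001),(nat_lit 0x3d89001),(nat_lit 0x9b1150e761002)],[(nat_lit 0x14a5001),(nat_lit 0x2888001),(nat_lit 0x2069014a4002),(nat_lit 0x3dba001),(nat_lit 0x14a6001),(nat_lit 0x28bc001),(nat_lit 0x3e12001)],[(nat_lit 0x20fa40eabd002),(nat_lit 0x20faf0e4d6002),(nat_lit 0x20f930eabe002),(nat_lit 0x9d29b0eabf002),(nat_lit 0x20fb10eac2002),(nat_lit 0x20fb20e4d7002),(nat_lit 0x3d86001)],[(nat_lit 0x149f001),(nat_lit 0x29b3001),(nat_lit 0x20670149e002),(nat_lit 0x3bd8001),(nat_lit 0x289b001),(nat_lit 0x2231001),(nat_lit 0x3e0c001)],[(nat_lit 0x206b01495002),(nat_lit 0x2092001),(nat_lit 0x289d001),(nat_lit 0x27e7001),(nat_lit 0x206701494002),(nat_lit 0x289e001),(nat_lit 0x3dff001)],[(nat_lit 0x1a2bb07dbc002),(nat_lit 0x1976207dbd002),(nat_lit 0x1a26e07dbe002),(nat_lit 0x1975d07dbf002),(nat_lit 0x1a2be07dc0002),(nat_lit 0x1a30807dc1002),(nat_lit 0x289a001)],[(nat_lit 0x206c014a8002),(nat_lit 0x2093001),(nat_lit 0x2a14001),(nat_lit 0x2069014a7002),(nat_lit 0x27ea001),(nat_lit 0x28bf001),(nat_lit 0x3e13001)],[(nat_lit 0x206d014aa002),(nat_lit 0x2094001),(nat_lit 0x28be001),(nat_lit 0x28c2001),(nat_lit 0x27eb001),(nat_lit 0x2069014a9002),(nat_lit 0x9f01d03e17002)],[(nat_lit 0x50e6001),(nat_lit 0x9992414f10002),(nat_lit 0x99b771600a002),(nat_lit 0x50e5001),(nat_lit 0x99b7915f54002),(nat_lit 0x99b5214f11002),(nat_lit 0x99b7a1617a002)],[(nat_lit 0x3d68001),(nat_lit 0x1abe50ea9a002),(nat_lit 0x1abb803d67002),(nat_lit 0xe9dc001),(nat_lit 0x1abe60e719002),(nat_lit 0x1abe70e71c002),(nat_lit 0xea9b001)],[(nat_lit 0x3d6c001),(nat_lit 0x1b10c0e9cd002),(nat_lit 0x1abe60e71b002),(nat_lit 0xe9ee001),(nat_lit 0x1abb803d6b002),(nat_lit 0xe9f0001),(nat_lit 0xea9c001)],[(nat_lit 0x20b0001),(nat_lit 0x3cf0001),(nat_lit 0x20af001),(nat_lit 0x2885001),(nat_lit 0x2984001),(nat_lit 0x20b1001),(nat_lit 0x5f19001)],[(nat_lit 0x2914001),(nat_lit 0x3ced001),(nat_lit 0x2915001),(nat_lit 0x2913001),(nat_lit 0x7e2e001),(nat_lit 0x2916001),(nat_lit 0x9b27a0811b002)],[(nat_lit 0x2983001),(nat_lit 0x1468001),(nat_lit 0x202f01469002),(nat_lit 0x3dbc001),(nat_lit 0x146a001),(nat_lit 0x28f5001),(nat_lit 0x3de6001)],[(nat_lit 0x190bb0eada002),(nat_lit 0xeadb001),(nat_lit 0xeadc001),(nat_lit 0x9b2800eadd002),(nat_lit 0xeade001),(nat_lit 0x190d40eadf002),(nat_lit 0x3d9b001)],[(nat_lit 0x45bc001),(nat_lit 0x810d001),(nat_lit 0x45bb001),(nat_lit 0x45bd001),(nat_lit 0xe70c001),(nat_lit 0x45c1001),(nat_lit 0x129a1001)],[(nat_lit 0xe70b001),(nat_lit 0x811d001),(nat_lit 0xe70d001),(nat_lit 0x81e3001),(nat_lit 0x811c001),(nat_lit 0x26d46001),(nat_lit 0x27b99001)],[(nat_lit 0xc16021d891002),(nat_lit 0x2115a18fa7002),(nat_lit 0x215b7001),(nat_lit 0x9a6ee18f9c002),(nat_lit 0x215c1001),(nat_lit 0x9b2c418fa8002),(nat_lit 0xe709001)],[(nat_lit 0x3dbb001),(nat_lit 0x3dbd001),(nat_lit 0xeac7001),(nat_lit 0x3d90001),(nat_lit 0x81e5001),(nat_lit 0x3dbe001),(nat_lit 0xeac8001)],[(nat_lit 0x28bd001),(nat_lit 0x28f3001),(nat_lit 0x206d014ac002),(nat_lit 0x3dbf001),(nat_lit 0x293b001),(nat_lit 0x14ab001),(nat_lit 0x3e18001)],[(nat_lit 0x5322e0eac9002),(nat_lit 0xa007c0eaca002),(nat_lit 0xeacb001),(nat_lit 0x9cfe80eacc002),(nat_lit 0x9cfe90eacd002),(nat_lit 0x532320eace002),(nat_lit 0x3d91001)],[(nat_lit 0x227551bde2002),(nat_lit 0x227561bde3002),(nat_lit 0x2274b1bde4002),(nat_lit 0x227501bde5002),(nat_lit 0x227581bde6002),(nat_lit 0x227591bde7002),(nat_lit 0x5bad001)],[(nat_lit 0xe9b7001),(nat_lit 0x227fa001),(nat_lit 0xe710001),(nat_lit 0x20f8f126d8002),(nat_lit 0xe9c4001),(nat_lit 0xe9c6001),(nat_lit 0x22dff001)],[(nat_lit 0x9c1a62487b002),(nat_lit 0x9b2872487c002),(nat_lit 0x9b2882487d002),(nat_lit 0x9a14f2487e002),(nat_lit 0x9cc572487f002),(nat_lit 0x9b28a24880002),(nat_lit 0x7622001)],[(nat_lit 0x126e60e9bb002),(nat_lit 0xe9c1001),(nat_lit 0xe9c5001),(nat_lit 0x267af001),(nat_lit 0xe712001),(nat_lit 0x267b1001),(nat_lit 0x3c9b4001)],[(nat_lit 0x289c001),(nat_lit 0x28a2001),(nat_lit 0x206b014a1002),(nat_lit 0x3df8001),(nat_lit 0x14a0001),(nat_lit 0x2949001),(nat_lit 0x3e0d001)],[(nat_lit 0x211010fb1b002),(nat_lit 0xfb1c001),(nat_lit 0xfb1d001),(nat_lit 0xfb1e001),(nat_lit 0xfb1f001),(nat_lit 0x210e70fb20002),(nat_lit 0x3df5001)],[(nat_lit 0x27e8001),(nat_lit 0x207101485002),(nat_lit 0x2a17001),(nat_lit 0x206b01484002),(nat_lit 0x206c01486002),(nat_lit 0x2932001),(nat_lit 0x3deb001)],[(nat_lit 0x289f001),(nat_lit 0x22ab001),(nat_lit 0x294a001),(nat_lit 0x2934001),(nat_lit 0x22ac001),(nat_lit 0x22aa001),(nat_lit 0x65b8001)],[(nat_lit 0x217ed08161002),(nat_lit 0x8162001),(nat_lit 0x8163001),(nat_lit 0x8164001),(nat_lit 0x8165001),(nat_lit 0x217f208166002),(nat_lit 0x2948001)],[(nat_lit 0xfb2e001),(nat_lit 0x3dfa001),(nat_lit 0x177710fb2f002),(nat_lit 0x3e4f001),(nat_lit 0x3e51001),(nat_lit 0x3e53001),(nat_lit 0x18b1c0fb30002)],[(nat_lit 0x3e48001),(nat_lit 0x1a26f0fb34002),(nat_lit 0x3dfb001),(nat_lit 0x1a26a0fb35002),(nat_lit 0x3e55001),(nat_lit 0x3e57001),(nat_lit 0xfb36001)],[(nat_lit 0x1a2bd03e4a002),(nat_lit 0x3e50001),(nat_lit 0x1a2cb0fb37002),(nat_lit 0x3dfc001),(nat_lit 0x1a2cc0fb38002),(nat_lit 0x3e59001),(nat_lit 0x185280fb39002)],[(nat_lit 0x3e4c001),(nat_lit 0x3e52001),(nat_lit 0x3e56001),(nat_lit 0xfb3a001),(nat_lit 0x3dfd001),(nat_lit 0xfb3b001),(nat_lit 0xfb3c001)],[(nat_lit 0x2a15001),(nat_lit 0x7f3d001),(nat_lit 0x29e7001),(nat_lit 0x844e001),(nat_lit 0x2a16001),(nat_lit 0x2a18001),(nat_lit 0x844f001)],[(nat_lit 0x28c0001),(nat_lit 0x2073014ae002),(nat_lit 0x2a19001),(nat_lit 0x206d014af002),(nat_lit 0x29ec001),(nat_lit 0x206c014ad002),(nat_lit 0x3e19001)],[(nat_lit 0x7e8c808450002),(nat_lit 0x9ed4a08451002),(nat_lit 0x8452001),(nat_lit 0x8453001),(nat_lit 0x8454001),(nat_lit 0x7e8be08455002),(nat_lit 0x29e8001)],[(nat_lit 0x99b580504c002),(nat_lit 0x504e001),(nat_lit 0x9a2ba15b28002),(nat_lit 0x4fa6001),(nat_lit 0x9a2c115b29002),(nat_lit 0x504f001),(nat_lit 0x9b43615b2b002)],[(nat_lit 0xe9d1001),(nat_lit 0xe800001),(nat_lit 0xe723001),(nat_lit 0x9a2bb2d227002),(nat_lit 0xe9d8001),(nat_lit 0xe9da001),(nat_lit 0xa934629e36002)],[(nat_lit 0x1cd7001),(nat_lit 0x9991a05044002),(nat_lit 0x1cd6001),(nat_lit 0x99b580504b002),(nat_lit 0x1cd8001),(nat_lit 0x9991904f9b002),(nat_lit 0x511d001)],[(nat_lit 0xe9d5001),(nat_lit 0x3d72001),(nat_lit 0xe9d9001),(nat_lit 0xe9f2001),(nat_lit 0x3d71001),(nat_lit 0xe9f4001),(nat_lit 0xea9f001)],[(nat_lit 0x216ba001),(nat_lit 0x216bb001),(nat_lit 0x7f63001),(nat_lit 0x216bc001),(nat_lit 0x2169d07f62002),(nat_lit 0x9a9a027392002),(nat_lit 0x9c408275ff002)],[(nat_lit 0x9b7d321268002),(nat_lit 0x21269001),(nat_lit 0x2126a001),(nat_lit 0x2126b001),(nat_lit 0x2126c001),(nat_lit 0x2126d001),(nat_lit 0x81b2001)],[(nat_lit 0xe9dd001),(nat_lit 0xe9df001),(nat_lit 0x128f8001),(nat_lit 0xe729001),(nat_lit 0x3c9c9001),(nat_lit 0xe9e4001),(nat_lit 0x26227001)],[(nat_lit 0x1abe60e71a002),(nat_lit 0xe9e1001),(nat_lit 0x3d76001),(nat_lit 0xeaa1001),(nat_lit 0x3d75001),(nat_lit 0xe9f6001),(nat_lit 0xeaa2001)],[(nat_lit 0x2163b001),(nat_lit 0x1df5b001),(nat_lit 0x1df5a001),(nat_lit 0x1df6b001),(nat_lit 0x28510001),(nat_lit 0x2163a001),(nat_lit 0xe72a001)],[(nat_lit 0x99914077ad002),(nat_lit 0x50ca001),(nat_lit 0x9991a050cb002),(nat_lit 0x9984312982002),(nat_lit 0x50cc001),(nat_lit 0x51b4001),(nat_lit 0x16169001)],[(nat_lit 0x5001001),(nat_lit 0x4f90001),(nat_lit 0x5000001),(nat_lit 0x5041001),(nat_lit 0x9991a05043002),(nat_lit 0x5045001),(nat_lit 0x15b05001)],[(nat_lit 0xe9ef001),(nat_lit 0xe9f3001),(nat_lit 0x9a2c63c9cf002),(nat_lit 0xe72e001),(nat_lit 0x99b6a0e803002),(nat_lit 0xe9f8001),(nat_lit 0x3c9d0001)],[(nat_lit 0xe9f1001),(nat_lit 0xe9f5001),(nat_lit 0xe9f7001),(nat_lit 0xe9f9001),(nat_lit 0xe804001),(nat_lit 0xe72f001),(nat_lit 0x3c9d1001)],[(nat_lit 0xbcfcb3c9d5002),(nat_lit 0x3c9d6001),(nat_lit 0x3c9d7001),(nat_lit 0x3c9d8001),(nat_lit 0xd09dd3c9d9002),(nat_lit 0xbcfdb3c9da002),(nat_lit 0xe730001)],[(nat_lit 0x1fe1001),(nat_lit 0x20b8001),(nat_lit 0x20b9001),(nat_lit 0x1fe2001),(nat_lit 0x2960001),(nat_lit 0x1fe0001),(nat_lit 0x5ed9001)],[(nat_lit 0x20b3001),(nat_lit 0x20cb001),(nat_lit 0x2982001),(nat_lit 0x2985001),(nat_lit 0x20b2001),(nat_lit 0x28fe001),(nat_lit 0x5f1e001)],[(nat_lit 0x188f605db9002),(nat_lit 0x17962178f5002),(nat_lit 0x1897f09129002),(nat_lit 0x178f6001),(nat_lit 0x18980001),(nat_lit 0x1898105db8002),(nat_lit 0x912b001)],[(nat_lit 0x2961001),(nat_lit 0x20d7001),(nat_lit 0x278e001),(nat_lit 0x210e001),(nat_lit 0x20d6001),(nat_lit 0x498c001),(nat_lit 0x5fea001)],[(nat_lit 0x18d8408192002),(nat_lit 0x2124c08193002),(nat_lit 0x18d8008194002),(nat_lit 0x9b70e08195002),(nat_lit 0x9c9ad08196002),(nat_lit 0x18dcf08197002),(nat_lit 0x295f001)],[(nat_lit 0x2986001),(nat_lit 0x2039014c2002),(nat_lit 0x3e9d001),(nat_lit 0x202f014c1002),(nat_lit 0x2110001),(nat_lit 0x2988001),(nat_lit 0x3e9e001)],[(nat_lit 0x28fb001),(nat_lit 0x2038014bb002),(nat_lit 0x28f4001),(nat_lit 0x298a001),(nat_lit 0x2066001),(nat_lit 0x202f014ba002),(nat_lit 0x3e9c001)],[(nat_lit 0x9ed9808199002),(nat_lit 0x819a001),(nat_lit 0x819b001),(nat_lit 0x819c001),(nat_lit 0x819d001),(nat_lit 0x9edb00819e002),(nat_lit 0x2964001)],[(nat_lit 0x19012001),(nat_lit 0x188f605dbf002),(nat_lit 0x1a3ba001),(nat_lit 0x18982001),(nat_lit 0x18983001),(nat_lit 0x5dbe001),(nat_lit 0x2d95d1c579002)],[(nat_lit 0x1897f0912e002),(nat_lit 0x9311001),(nat_lit 0x188f605dc3002),(nat_lit 0x99e9d18985002),(nat_lit 0x18986001),(nat_lit 0x5dc2001),(nat_lit 0x1a75f001)],[(nat_lit 0x9c6dd14ee0002),(nat_lit 0x9c70514ee1002),(nat_lit 0x9ab0714ee2002),(nat_lit 0x9abb014ee3002),(nat_lit 0x9c3e014ee4002),(nat_lit 0x52e7514ee5002),(nat_lit 0x4d37001)],[(nat_lit 0x5f96001),(nat_lit 0x5f9c001),(nat_lit 0x5f9e001),(nat_lit 0x1c99d001),(nat_lit 0x5eea001),(nat_lit 0x1c640001),(nat_lit 0x9ff8c1c99e002)],[(nat_lit 0x2512001),(nat_lit 0x2515001),(nat_lit 0x20d9001),(nat_lit 0x20da001),(nat_lit 0x20d8001),(nat_lit 0x4bcb001),(nat_lit 0x5feb001)],[(nat_lit 0x4988001),(nat_lit 0x498b001),(nat_lit 0x4bca001),(nat_lit 0x490d001),(nat_lit 0x4971001),(nat_lit 0x490e001),(nat_lit 0x6ff9001)],[(nat_lit 0x6bf9001),(nat_lit 0x1cc58001),(nat_lit 0x6bf6001),(nat_lit 0x6bf7001),(nat_lit 0x1c9ac001),(nat_lit 0x6ff8001),(nat_lit 0x5f2b001)],[(nat_lit 0xb32001),(nat_lit 0xc2f001),(nat_lit 0x19f5001),(nat_lit 0xb31001),(nat_lit 0xb33001),(nat_lit 0x2429001),(nat_lit 0x246e001)],[(nat_lit 0x208d001),(nat_lit 0x2989001),(nat_lit 0x2ad2001),(nat_lit 0x2038014c4002),(nat_lit 0x2aff001),(nat_lit 0x2039014c3002),(nat_lit 0x3ea3001)],[(nat_lit 0x531fe089cf002),(nat_lit 0x89d0001),(nat_lit 0x530f5089d1002),(nat_lit 0x53203089d2002),(nat_lit 0x53257089d3002),(nat_lit 0x530f4089d4002),(nat_lit 0x2acf001)],[(nat_lit 0x4cd14102f2002),(nat_lit 0x3e97001),(nat_lit 0x102f3001),(nat_lit 0x3ed4001),(nat_lit 0x3ed6001),(nat_lit 0x3ed8001),(nat_lit 0x102f4001)],[(nat_lit 0x2adf001),(nat_lit 0x4cd1608936002),(nat_lit 0x899b001),(nat_lit 0x4ccc102ade002),(nat_lit 0x89e5001),(nat_lit 0x4cdc7088e6002),(nat_lit 0x89e7001)],[(nat_lit 0x2ae1001),(nat_lit 0x4cd1708938002),(nat_lit 0x4ccc3088e2002),(nat_lit 0x89e8001),(nat_lit 0x4ccc102ae0002),(nat_lit 0x89ea001),(nat_lit 0x89ec001)],[(nat_lit 0x3d12001),(nat_lit 0x2280001),(nat_lit 0x2293001),(nat_lit 0x227f001),(nat_lit 0x2281001),(nat_lit 0x2282001),(nat_lit 0x4973001)],[(nat_lit 0x3c21001),(nat_lit 0x227d001),(nat_lit 0x28a3001),(nat_lit 0x227c001),(nat_lit 0x227e001),(nat_lit 0x294d001),(nat_lit 0x659c001)],[(nat_lit 0x4679001),(nat_lit 0x12dbf001),(nat_lit 0x4678001),(nat_lit 0x473d001),(nat_lit 0x12623001),(nat_lit 0x4aff001),(nat_lit 0x4677001)],[(nat_lit 0x22f7001),(nat_lit 0x294e001),(nat_lit 0x22b1001),(nat_lit 0x22b3001),(nat_lit 0x22b0001),(nat_lit 0x22b2001),(nat_lit 0x65c0001)],[(nat_lit 0x1292508168002),(nat_lit 0x8169001),(nat_lit 0x20e800816a002),(nat_lit 0x1292d0816b002),(nat_lit 0x1292f0816c002),(nat_lit 0x129240816d002),(nat_lit 0x294c001)],[(nat_lit 0x2bf5001),(nat_lit 0xf2d001),(nat_lit 0xf2e001),(nat_lit 0x1940001),(nat_lit 0xf2c001),(nat_lit 0x1942001),(nat_lit 0x2eb9001)],[(nat_lit 0xd34001),(nat_lit 0x1941001),(nat_lit 0xd35001),(nat_lit 0xd33001),(nat_lit 0x24f5001),(nat_lit 0xd36001),(nat_lit 0x15e3001)],[(nat_lit 0x2911001),(nat_lit 0x7fe6001),(nat_lit 0x2910001),(nat_lit 0x2918001),(nat_lit 0x2912001),(nat_lit 0x2935001),(nat_lit 0x8116001)],[(nat_lit 0x28a6001),(nat_lit 0x2933001),(nat_lit 0x2937001),(nat_lit 0x28a7001),(nat_lit 0x296c001),(nat_lit 0x28a5001),(nat_lit 0x7e61001)],[(nat_lit 0x140710813d002),(nat_lit 0x813e001),(nat_lit 0x140740813f002),(nat_lit 0x9bb2008140002),(nat_lit 0x1407808141002),(nat_lit 0x1406808142002),(nat_lit 0x2931001)],[(nat_lit 0xc5f407de6002),(nat_lit 0xc665001),(nat_lit 0xa66b001),(nat_lit 0xc666001),(nat_lit 0x1363d001),(nat_lit 0xc5ed07de9002),(nat_lit 0x64d2001)],[(nat_lit 0x21bf2001),(nat_lit 0x7dcf001),(nat_lit 0x2212f001),(nat_lit 0x7de0001),(nat_lit 0x7e54001),(nat_lit 0x7e56001),(nat_lit 0x22739001)],[(nat_lit 0xc5f207e51002),(nat_lit 0x1363c001),(nat_lit 0x7dd0001),(nat_lit 0x7dda001),(nat_lit 0x7e58001),(nat_lit 0xc66407e5a002),(nat_lit 0x20d7e0bcea002)],[(nat_lit 0xc5f307e53002),(nat_lit 0x7e55001),(nat_lit 0x7e59001),(nat_lit 0x7f53001),(nat_lit 0x7dd2001),(nat_lit 0x9d03926ca4002),(nat_lit 0x26ca6001)],[(nat_lit 0x270d8001),(nat_lit 0x7ec4001),(nat_lit 0x7f3e001),(nat_lit 0x7fe3001),(nat_lit 0x7fe5001),(nat_lit 0x7fe7001),(nat_lit 0x270db001)],[(nat_lit 0x697e001),(nat_lit 0x7fe4001),(nat_lit 0x697d001),(nat_lit 0x697f001),(nat_lit 0x7ec6001),(nat_lit 0x6980001),(nat_lit 0x1f915001)],[(nat_lit 0x2923001),(nat_lit 0x7fe8001),(nat_lit 0x2924001),(nat_lit 0x6838001),(nat_lit 0x29ee001),(nat_lit 0x2922001),(nat_lit 0x812a001)],[(nat_lit 0x5309d270dc002),(nat_lit 0x270dd001),(nat_lit 0x4cc19270de002),(nat_lit 0x9b7e9270df002),(nat_lit 0xa38e3270e0002),(nat_lit 0x5309f270e1002),(nat_lit 0x7ec5001)],[(nat_lit 0x292c001),(nat_lit 0x29ed001),(nat_lit 0x29f0001),(nat_lit 0x296f001),(nat_lit 0x292b001),(nat_lit 0x296e001),(nat_lit 0x8139001)],[(nat_lit 0x518180845f002),(nat_lit 0x5181508460002),(nat_lit 0x5173408461002),(nat_lit 0x5181908462002),(nat_lit 0xa049008463002),(nat_lit 0x5190c08464002),(nat_lit 0x29eb001)],[(nat_lit 0x1f78b001),(nat_lit 0x7f1d001),(nat_lit 0x1f78c001),(nat_lit 0x805c001),(nat_lit 0x1f78e0805e002),(nat_lit 0x805f001),(nat_lit 0xbc59827186002)],[(nat_lit 0x5175d08057002),(nat_lit 0x27194001),(nat_lit 0x7f1e001),(nat_lit 0x27195001),(nat_lit 0x8061001),(nat_lit 0x8063001),(nat_lit 0x4b12127196002)],[(nat_lit 0x5184808059002),(nat_lit 0x805d001),(nat_lit 0x9eb261f500002),(nat_lit 0x7f1f001),(nat_lit 0x9eb281f790002),(nat_lit 0x8065001),(nat_lit 0x2719b001)],[(nat_lit 0x4db1a084e9002),(nat_lit 0x4daa002a0d002),(nat_lit 0x84ed001),(nat_lit 0x4da9708408002),(nat_lit 0x4da9908564002),(nat_lit 0x2a0c001),(nat_lit 0x85ed001)],[(nat_lit 0x4da9f08401002),(nat_lit 0x4da9708407002),(nat_lit 0x4da9d0855b002),(nat_lit 0x4daa002a13002),(nat_lit 0x4da6a085f1002),(nat_lit 0x4daa102a12002),(nat_lit 0x85f2001)],[(nat_lit 0x4da7507ee3002),(nat_lit 0x800e001),(nat_lit 0x4daa408010002),(nat_lit 0x4da6b27117002),(nat_lit 0x7ee2001),(nat_lit 0x7fa3001),(nat_lit 0x9b32327119002)],[(nat_lit 0x4db2307f2d002),(nat_lit 0x7f2e001),(nat_lit 0x4dbee271a6002),(nat_lit 0x7fb3001),(nat_lit 0x7fb8001),(nat_lit 0x7fbf001),(nat_lit 0x271a7001)],[(nat_lit 0x84e3001),(nat_lit 0x84a2001),(nat_lit 0x8404001),(nat_lit 0x28686001),(nat_lit 0x84ea001),(nat_lit 0x84ec001),(nat_lit 0x28687001)],[(nat_lit 0x4db1b084e5002),(nat_lit 0x4daa102a09002),(nat_lit 0x85ea001),(nat_lit 0x2a08001),(nat_lit 0x4db2408556002),(nat_lit 0x4da9708406002),(nat_lit 0x85eb001)],[(nat_lit 0x4dbef084e7002),(nat_lit 0x4db3c02a0b002),(nat_lit 0x84eb001),(nat_lit 0x9fb720855c002),(nat_lit 0x2a0a001),(nat_lit 0x9fae20855e002),(nat_lit 0x85ec001)],[(nat_lit 0xd7bb82868b002),(nat_lit 0x2868c001),(nat_lit 0x2868d001),(nat_lit 0x2868e001),(nat_lit 0x2868f001),(nat_lit 0xcaa5728690002),(nat_lit 0x8405001)],[(nat_lit 0x9cd7f270f9002),(nat_lit 0x7ecf001),(nat_lit 0x4dbf7270fa002),(nat_lit 0x99fe807ff2002),(nat_lit 0x9ae3007ff4002),(nat_lit 0x9a53507ff5002),(nat_lit 0x270fc001)],[(nat_lit 0x4db68083fc002),(nat_lit 0x9cb5008551002),(nat_lit 0x4db3c02a0f002),(nat_lit 0x9ca27085ee002),(nat_lit 0x4db3a02a0e002),(nat_lit 0x9ca3308560002),(nat_lit 0x85ef001)],[(nat_lit 0x7ed5001),(nat_lit 0x27100001),(nat_lit 0x7ed4001),(nat_lit 0x4db332706e002),(nat_lit 0x7ffe001),(nat_lit 0x8001001),(nat_lit 0x27101001)],[(nat_lit 0x7ed7001),(nat_lit 0x7ffa001),(nat_lit 0x8000001),(nat_lit 0x7f9e001),(nat_lit 0x7ed6001),(nat_lit 0x274ed27102002),(nat_lit 0x4db3e27104002)],[(nat_lit 0x4de0427105002),(nat_lit 0x788b127106002),(nat_lit 0x27107001),(nat_lit 0x27108001),(nat_lit 0xb1c6227109002),(nat_lit 0x4de0b2710a002),(nat_lit 0x7ed8001)],[(nat_lit 0xfff40a723002),(nat_lit 0x1120b0a724002),(nat_lit 0xffeb0a725002),(nat_lit 0x9cd910a726002),(nat_lit 0x9fdd80a727002),(nat_lit 0x1120a0a728002),(nat_lit 0x3126001)],[(nat_lit 0x1120804405002),(nat_lit 0x4409001),(nat_lit 0x20bbb1122b002),(nat_lit 0x43a5001),(nat_lit 0x9cbcf11f10002),(nat_lit 0x9ae3904410002),(nat_lit 0x11f12001)],[(nat_lit 0x9e4002710f002),(nat_lit 0x9f62927110002),(nat_lit 0x9cda827111002),(nat_lit 0x9cda927112002),(nat_lit 0x9cdaa27113002),(nat_lit 0x9cdab27114002),(nat_lit 0x7edf001)],[(nat_lit 0x123d001),(nat_lit 0x3654001),(nat_lit 0x123c001),(nat_lit 0x3681001),(nat_lit 0x123e001),(nat_lit 0x2f9e001),(nat_lit 0x36b0001)],[(nat_lit 0x11f7001),(nat_lit 0x11f8001),(nat_lit 0x2fa0001),(nat_lit 0x11f9001),(nat_lit 0x130a001),(nat_lit 0x11f6001),(nat_lit 0x34d0001)],[(nat_lit 0xf4c809ec2002),(nat_lit 0x9ec3001),(nat_lit 0xf4b009ec4002),(nat_lit 0xf4d509ec5002),(nat_lit 0xf4d909ec6002),(nat_lit 0xf4ad09ec7002),(nat_lit 0x2f9d001)],[(nat_lit 0xfb5409ecc002),(nat_lit 0xf6ab09ecd002),(nat_lit 0xf6fd09ece002),(nat_lit 0xf6a909ecf002),(nat_lit 0xf6b009ed0002),(nat_lit 0xf88c09ed1002),(nat_lit 0x2fa1001)],[(nat_lit 0xf6e60be92002),(nat_lit 0x34ca001),(nat_lit 0xbe93001),(nat_lit 0x3581001),(nat_lit 0x3583001),(nat_lit 0x3585001),(nat_lit 0xbe94001)],[(nat_lit 0x2faf001),(nat_lit 0x9ed8001),(nat_lit 0xf6b102fae002),(nat_lit 0x9ed9001),(nat_lit 0xf6ff09e9a002),(nat_lit 0xf6af09e9d002),(nat_lit 0x1097509edb002)],[(nat_lit 0x2fb1001),(nat_lit 0xf6ae09edc002),(nat_lit 0x9ede001),(nat_lit 0xf6b102fb0002),(nat_lit 0x9ee0001),(nat_lit 0xf69709ea0002),(nat_lit 0x9ee2001)],[(nat_lit 0x2fb3001),(nat_lit 0xf6ef09ee3002),(nat_lit 0xf6ff09e9c002),(nat_lit 0x9ee5001),(nat_lit 0xf6b102fb2002),(nat_lit 0x9ee7001),(nat_lit 0x9ee9001)],[(nat_lit 0x2678001),(nat_lit 0x2683001),(nat_lit 0x70ed001),(nat_lit 0x25e7001),(nat_lit 0x25e8001),(nat_lit 0x38fb001),(nat_lit 0x70ef001)],[(nat_lit 0x385f001),(nat_lit 0x38f5001),(nat_lit 0x38f9001),(nat_lit 0x38fd001),(nat_lit 0x3860001),(nat_lit 0x385e001),(nat_lit 0x32ab40d210002)],[(nat_lit 0x32a6d0b75f002),(nat_lit 0x32a6a0b864002),(nat_lit 0x329fc03425002),(nat_lit 0x329ea0b866002),(nat_lit 0x32a6e0b88d002),(nat_lit 0x329fa03424002),(nat_lit 0x32a6f0b978002)],[(nat_lit 0xbe03001),(nat_lit 0x34e9001),(nat_lit 0x34ea001),(nat_lit 0x3683001),(nat_lit 0x34eb001),(nat_lit 0x34f1001),(nat_lit 0xbee1001)],[(nat_lit 0x3682001),(nat_lit 0x3684001),(nat_lit 0x3ab2001),(nat_lit 0x3649001),(nat_lit 0xc6ef001),(nat_lit 0x3685001),(nat_lit 0xc8ed001)],[(nat_lit 0x2f9f001),(nat_lit 0x34ef001),(nat_lit 0x1240001),(nat_lit 0x3686001),(nat_lit 0x2fc9001),(nat_lit 0x123f001),(nat_lit 0x36b1001)],[(nat_lit 0x30f850c8f1002),(nat_lit 0xc8f2001),(nat_lit 0xc8f3001),(nat_lit 0xc8f4001),(nat_lit 0xc8f5001),(nat_lit 0x30f900c8f6002),(nat_lit 0x364a001)],[(nat_lit 0x130b001),(nat_lit 0x125c001),(nat_lit 0x2fca001),(nat_lit 0x125d001),(nat_lit 0x125b001),(nat_lit 0x125e001),(nat_lit 0x3768001)],[(nat_lit 0xf4c309f19002),(nat_lit 0xf4c409f1a002),(nat_lit 0xf4c509f1b002),(nat_lit 0xf4c609f1c002),(nat_lit 0x9f1d001),(nat_lit 0xf4fb09f1e002),(nat_lit 0x2fc8001)],[(nat_lit 0xf4f40cba8002),(nat_lit 0x36ab001),(nat_lit 0xf4f00cba9002),(nat_lit 0x36ef001),(nat_lit 0x36f1001),(nat_lit 0x36f3001),(nat_lit 0xcbaa001)],[(nat_lit 0x36e8001),(nat_lit 0xf4c20cbae002),(nat_lit 0x36ac001),(nat_lit 0xf4c90cbaf002),(nat_lit 0x36f5001),(nat_lit 0x36f7001),(nat_lit 0xcbb0001)],[(nat_lit 0x36ea001),(nat_lit 0x36f0001),(nat_lit 0xcbb1001),(nat_lit 0x36ad001),(nat_lit 0xcbb2001),(nat_lit 0x36f9001),(nat_lit 0xcbb3001)],[(nat_lit 0x36ec001),(nat_lit 0x36f2001),(nat_lit 0x36f6001),(nat_lit 0xcbb4001),(nat_lit 0x36ae001),(nat_lit 0xcbb5001),(nat_lit 0xcbb6001)],[(nat_lit 0x9efc001),(nat_lit 0xf6a602fbb002),(nat_lit 0x9efe001),(nat_lit 0xf6a509ea8002),(nat_lit 0xf6da09f00002),(nat_lit 0x2fba001),(nat_lit 0x9f01001)],[(nat_lit 0xf6af09e9e002),(nat_lit 0x9f08001),(nat_lit 0xf6a602fbf002),(nat_lit 0x9f0a001),(nat_lit 0xf6df09f0c002),(nat_lit 0x2fbe001),(nat_lit 0x106f809f0d002)],[(nat_lit 0xf69709ea1002),(nat_lit 0xf6a509ea7002),(nat_lit 0x9f0e001),(nat_lit 0xf6a602fc1002),(nat_lit 0xaf5b609f10002),(nat_lit 0x2fc0001),(nat_lit 0x9f11001)],[(nat_lit 0x379b001),(nat_lit 0x379f001),(nat_lit 0x37a1001),(nat_lit 0xce32001),(nat_lit 0x3763001),(nat_lit 0xf7170ce33002),(nat_lit 0xce34001)],[(nat_lit 0x9ea3001),(nat_lit 0x9f48001),(nat_lit 0x9fd8001),(nat_lit 0xafa2509eee002),(nat_lit 0x9ef4001),(nat_lit 0x9efd001),(nat_lit 0xbc9573038e002)],[(nat_lit 0x9fd9001),(nat_lit 0x9f49001),(nat_lit 0x9ea4001),(nat_lit 0x30391001),(nat_lit 0x9ef6001),(nat_lit 0x9eff001),(nat_lit 0x4636230392002)],[(nat_lit 0xafa2509eed002),(nat_lit 0x2fb7001),(nat_lit 0xafa2009eef002),(nat_lit 0x2fb6001),(nat_lit 0xafb3709ef0002),(nat_lit 0xf6a509ea6002),(nat_lit 0x9ef2001)],[(nat_lit 0x9ef3001),(nat_lit 0x2fb9001),(nat_lit 0x9ef5001),(nat_lit 0x9ef7001),(nat_lit 0x2fb8001),(nat_lit 0x9ef9001),(nat_lit 0x9efb001)],[(nat_lit 0xbf0f830393002),(nat_lit 0xbf0ff30394002),(nat_lit 0x30395001),(nat_lit 0xbf10030396002),(nat_lit 0xbf10130397002),(nat_lit 0xbf10230398002),(nat_lit 0x9ea5001)],[(nat_lit 0x30399001),(nat_lit 0x9ea9001),(nat_lit 0x9f4a001),(nat_lit 0x9fe0001),(nat_lit 0x9f03001),(nat_lit 0x9f09001),(nat_lit 0x478783039a002)],[(nat_lit 0x9eda001),(nat_lit 0x9fe1001),(nat_lit 0xdb10001),(nat_lit 0x9eaa001),(nat_lit 0x3039b001),(nat_lit 0x9f0b001),(nat_lit 0x3039c001)],[(nat_lit 0xf6ff09e9b002),(nat_lit 0x9f02001),(nat_lit 0x2fbd001),(nat_lit 0x9f04001),(nat_lit 0x2fbc001),(nat_lit 0x9f05001),(nat_lit 0x9f07001)],[(nat_lit 0x6edf001),(nat_lit 0x6dc7001),(nat_lit 0x6ee2001),(nat_lit 0x6e47001),(nat_lit 0x6dc8001),(nat_lit 0x6dc6001),(nat_lit 0xe516001)],[(nat_lit 0x9edf001),(nat_lit 0xf849001),(nat_lit 0x9eac001),(nat_lit 0xdfa1001),(nat_lit 0x9fe8001),(nat_lit 0x9f0f001),(nat_lit 0x3039d001)],[(nat_lit 0xafa6f1bc4c002),(nat_lit 0x5c2e001),(nat_lit 0xafa5b1ba19002),(nat_lit 0xaff6e1ba22002),(nat_lit 0xaff1d1b561002),(nat_lit 0x5c2d001),(nat_lit 0x1c172001)],[(nat_lit 0xf8a7001),(nat_lit 0xf8a8001),(nat_lit 0x1015f001),(nat_lit 0x249720f8a9002),(nat_lit 0xf8aa001),(nat_lit 0x24aa20f8ab002),(nat_lit 0x9eae001)],[(nat_lit 0x9ee6001),(nat_lit 0x9ef8001),(nat_lit 0xafc13303a9002),(nat_lit 0x9eaf001),(nat_lit 0x9f4c001),(nat_lit 0xafb6d09ff0002),(nat_lit 0x303aa001)],[(nat_lit 0x9ee8001),(nat_lit 0x9efa001),(nat_lit 0x9f06001),(nat_lit 0xafb6d09ff1002),(nat_lit 0x9f4d001),(nat_lit 0x9eb0001),(nat_lit 0x303ab001)],[(nat_lit 0xbbdcb303af002),(nat_lit 0x303b0001),(nat_lit 0x303b1001),(nat_lit 0xb65cb303b2002),(nat_lit 0x303b3001),(nat_lit 0xb7bab303b4002),(nat_lit 0x9eb1001)],[(nat_lit 0x37e2001),(nat_lit 0x37e3001),(nat_lit 0x37e4001),(nat_lit 0x38d4001),(nat_lit 0x37e1001),(nat_lit 0x38fe001),(nat_lit 0xd036001)],[(nat_lit 0x37e6001),(nat_lit 0x3861001),(nat_lit 0x37e7001),(nat_lit 0xb983001),(nat_lit 0x37e5001),(nat_lit 0x3901001),(nat_lit 0x10c3f0d03b002)],[(nat_lit 0x2ff9001),(nat_lit 0x306f001),(nat_lit 0x2ff8001),(nat_lit 0x2ffb001),(nat_lit 0x30c2001),(nat_lit 0x2ffa001),(nat_lit 0x33fe001)],[(nat_lit 0x263c001),(nat_lit 0x2525001),(nat_lit 0x2526001),(nat_lit 0x385b001),(nat_lit 0x2527001),(nat_lit 0x2621001),(nat_lit 0x6d27001)],[(nat_lit 0x38d5001),(nat_lit 0x381f001),(nat_lit 0xd07c001),(nat_lit 0x381e001),(nat_lit 0x385d001),(nat_lit 0x3904001),(nat_lit 0xd07d001)],[(nat_lit 0x38ff001),(nat_lit 0x3866001),(nat_lit 0x3902001),(nat_lit 0x3906001),(nat_lit 0x3867001),(nat_lit 0x3865001),(nat_lit 0x336540d216002)],[(nat_lit 0x338880d4b3002),(nat_lit 0xd4b4001),(nat_lit 0x32f2a0d4b5002),(nat_lit 0xd4b6001),(nat_lit 0xd4b7001),(nat_lit 0x32f120d4b8002),(nat_lit 0x38d3001)],[(nat_lit 0x3766001),(nat_lit 0x3767001),(nat_lit 0x3b63001),(nat_lit 0x3804001),(nat_lit 0x3765001),(nat_lit 0x4456001),(nat_lit 0xce35001)],[(nat_lit 0x6be6001),(nat_lit 0x3803001),(nat_lit 0x3863001),(nat_lit 0x3961001),(nat_lit 0x3802001),(nat_lit 0x3909001),(nat_lit 0xd06e001)],[(nat_lit 0x1a15001),(nat_lit 0x1a14001),(nat_lit 0x1a16001),(nat_lit 0x3058001),(nat_lit 0x3b40001),(nat_lit 0x1a17001),(nat_lit 0x2516001)],[(nat_lit 0x3960001),(nat_lit 0x3962001),(nat_lit 0x30dae0d4d7002),(nat_lit 0x3907001),(nat_lit 0x395d001),(nat_lit 0x3963001),(nat_lit 0x109b00d4d8002)],[(nat_lit 0x38f8001),(nat_lit 0x390a001),(nat_lit 0x3869001),(nat_lit 0x3964001),(nat_lit 0x386a001),(nat_lit 0x3868001),(nat_lit 0x101330d217002)],[(nat_lit 0xf7c30d1bb002),(nat_lit 0xf7be0d365002),(nat_lit 0xf775038b5002),(nat_lit 0xf7c00d367002),(nat_lit 0xf7c40d371002),(nat_lit 0xf773038b4002),(nat_lit 0x109a50d491002)],[(nat_lit 0x2641001),(nat_lit 0x385c001),(nat_lit 0x71f1001),(nat_lit 0x2640001),(nat_lit 0x2677001),(nat_lit 0x3da3001),(nat_lit 0x72ec001)],[(nat_lit 0x2541001),(nat_lit 0x261e001),(nat_lit 0x2542001),(nat_lit 0x3da5001),(nat_lit 0x2543001),(nat_lit 0x2540001),(nat_lit 0x6e21001)],[(nat_lit 0x318160fa70002),(nat_lit 0xfa71001),(nat_lit 0x318120fa72002),(nat_lit 0x318180fa73002),(nat_lit 0x318190fa74002),(nat_lit 0x3181a0fa75002),(nat_lit 0x3da2001)],[(nat_lit 0x720f001),(nat_lit 0x236e3001),(nat_lit 0x720e001),(nat_lit 0x10c8f001),(nat_lit 0x7210001),(nat_lit 0x7359001),(nat_lit 0x109ac001)],[(nat_lit 0x38fc001),(nat_lit 0x3905001),(nat_lit 0x735b001),(nat_lit 0x386c001),(nat_lit 0x7537001),(nat_lit 0x386b001),(nat_lit 0x1038e0d218002)],[(nat_lit 0x30e0923d4d002),(nat_lit 0x23d50001),(nat_lit 0x10c3d001),(nat_lit 0x30e0410c3e002),(nat_lit 0x30e7423d51002),(nat_lit 0x30e2d23d52002),(nat_lit 0x7358001)],[(nat_lit 0xd249001),(nat_lit 0x3886001),(nat_lit 0x38f2001),(nat_lit 0x394f001),(nat_lit 0x3952001),(nat_lit 0x3885001),(nat_lit 0xd24b001)],[(nat_lit 0x390f001),(nat_lit 0x3950001),(nat_lit 0x329cf0d189002),(nat_lit 0x3888001),(nat_lit 0xd24c001),(nat_lit 0x3887001),(nat_lit 0xd24d001)],[(nat_lit 0x32a6e0c972002),(nat_lit 0x32a710cbda002),(nat_lit 0x36c9001),(nat_lit 0xcbdc001),(nat_lit 0x329ec036c8002),(nat_lit 0x32a770c973002),(nat_lit 0xcbdd001)],[(nat_lit 0x122b001),(nat_lit 0x122c001),(nat_lit 0x2f82001),(nat_lit 0x152a0132b002),(nat_lit 0x122d001),(nat_lit 0x122e001),(nat_lit 0xedb903699002)],[(nat_lit 0xedb60b921002),(nat_lit 0xb922001),(nat_lit 0xed130b923002),(nat_lit 0xed9e0b924002),(nat_lit 0xedb80b925002),(nat_lit 0xed240b926002),(nat_lit 0x33ee001)],[(nat_lit 0xed150a0cd002),(nat_lit 0xedbe0a0ce002),(nat_lit 0xed210a0cf002),(nat_lit 0xeda10a0d0002),(nat_lit 0xa0d1001),(nat_lit 0xeda00a0d2002),(nat_lit 0x2fd2001)],[(nat_lit 0xcdb6001),(nat_lit 0x3704001),(nat_lit 0xcdb7001),(nat_lit 0x372c001),(nat_lit 0x372e001),(nat_lit 0x3730001),(nat_lit 0xcdb8001)],[(nat_lit 0xc6bc0ba8e002),(nat_lit 0xc6ce0c265002),(nat_lit 0xedc00beb3002),(nat_lit 0xc6b10beb6002),(nat_lit 0xefd00c36c002),(nat_lit 0xc6b00ba8f002),(nat_lit 0x359e001)],[(nat_lit 0x3727001),(nat_lit 0x372d001),(nat_lit 0xed9f0cdc9002),(nat_lit 0x3706001),(nat_lit 0xcdca001),(nat_lit 0x3736001),(nat_lit 0xcdcb001)],[(nat_lit 0x3729001),(nat_lit 0x372f001),(nat_lit 0x3733001),(nat_lit 0xcdcc001),(nat_lit 0x3707001),(nat_lit 0xedc30cdcd002),(nat_lit 0xcdce001)],[(nat_lit 0x3070001),(nat_lit 0x306f001),(nat_lit 0x3071001),(nat_lit 0x3072001),(nat_lit 0x30d0001),(nat_lit 0x3073001),(nat_lit 0x3074001)],[(nat_lit 0x2680001),(nat_lit 0x1a19001),(nat_lit 0x26c9001),(nat_lit 0x1a18001),(nat_lit 0x26ed001),(nat_lit 0x1a1a001),(nat_lit 0x2681001)],[(nat_lit 0x30ce001),(nat_lit 0x1a1d001),(nat_lit 0x1a1e001),(nat_lit 0x45a5001),(nat_lit 0x1a1c001),(nat_lit 0x3300001),(nat_lit 0x4705001)],[(nat_lit 0x26aa001),(nat_lit 0x26ee001),(nat_lit 0x26ab001),(nat_lit 0x26c4001),(nat_lit 0x26a9001),(nat_lit 0x748a001),(nat_lit 0x74ec001)],[(nat_lit 0x26b0001),(nat_lit 0x45a6001),(nat_lit 0x7493001),(nat_lit 0x26af001),(nat_lit 0x26c6001),(nat_lit 0x45a7001),(nat_lit 0x74f4001)],[(nat_lit 0x2488001),(nat_lit 0x3301001),(nat_lit 0x2489001),(nat_lit 0x45a9001),(nat_lit 0x248a001),(nat_lit 0x2487001),(nat_lit 0x6b61001)],[(nat_lit 0x12b181296a002),(nat_lit 0x1296b001),(nat_lit 0x12b191296c002),(nat_lit 0x12b041296d002),(nat_lit 0x12b0a1296e002),(nat_lit 0x12b171296f002),(nat_lit 0x45a4001)],[(nat_lit 0x23f8001),(nat_lit 0x2440001),(nat_lit 0x2452001),(nat_lit 0x242b001),(nat_lit 0x23f9001),(nat_lit 0x23f7001),(nat_lit 0x6957001)],[(nat_lit 0xec0506a89002),(nat_lit 0x6a8a001),(nat_lit 0xb5a806a8b002),(nat_lit 0xec0a06a8c002),(nat_lit 0xec0b06a8d002),(nat_lit 0xebf906a8e002),(nat_lit 0x244f001)],[(nat_lit 0x2b00001),(nat_lit 0x9e1ab03ea5002),(nat_lit 0x2bbb001),(nat_lit 0x2b35001),(nat_lit 0x2aff001),(nat_lit 0x2b3e001),(nat_lit 0x8a1c001)],[(nat_lit 0x2bba001),(nat_lit 0x67d1001),(nat_lit 0x2a85001),(nat_lit 0x68a4001),(nat_lit 0x2a84001),(nat_lit 0x2a86001),(nat_lit 0x88f2001)],[(nat_lit 0x2b36001),(nat_lit 0x9e21b02b39002),(nat_lit 0x5fb6001),(nat_lit 0x2a87001),(nat_lit 0x2a88001),(nat_lit 0x9e19405ebe002),(nat_lit 0x88f7001)],[(nat_lit 0x8466429c6e002),(nat_lit 0x8468129c6f002),(nat_lit 0x4e04929c70002),(nat_lit 0xa1ffb29c71002),(nat_lit 0x9ebf329c72002),(nat_lit 0x8465b29c73002),(nat_lit 0x8794001)],[(nat_lit 0x3a4f001),(nat_lit 0xee300dc29002),(nat_lit 0x3a4e001),(nat_lit 0xee230bdc8002),(nat_lit 0x3add001),(nat_lit 0x3ae0001),(nat_lit 0xee350dc2c002)],[(nat_lit 0xa104305ed1002),(nat_lit 0x295d001),(nat_lit 0xa104b05fb0002),(nat_lit 0x295c001),(nat_lit 0x9e21b02b3a002),(nat_lit 0x295e001),(nat_lit 0x818c001)],[(nat_lit 0xeea90dc96002),(nat_lit 0xf3150dc97002),(nat_lit 0xeeaa0dc98002),(nat_lit 0xeef80dc99002),(nat_lit 0xeeac0dc9a002),(nat_lit 0xeefb0dc9b002),(nat_lit 0x3a90001)],[(nat_lit 0x8fb790dc9c002),(nat_lit 0xa1f170dc9d002),(nat_lit 0xa34d30dc9e002),(nat_lit 0xa1f1e0dc9f002),(nat_lit 0xdca0001),(nat_lit 0xa1f130dca1002),(nat_lit 0x3a91001)],[(nat_lit 0xbcfe001),(nat_lit 0xbcff001),(nat_lit 0xbe04001),(nat_lit 0xbd05001),(nat_lit 0xbd00001),(nat_lit 0xbd01001),(nat_lit 0xbfc6f35a6e002)],[(nat_lit 0xb551135a6f002),(nat_lit 0xb54f435a70002),(nat_lit 0xb551235a71002),(nat_lit 0x35a72001),(nat_lit 0xb551335a73002),(nat_lit 0xbf3ce35a74002),(nat_lit 0xbd02001)],[(nat_lit 0xc6b80bf9d002),(nat_lit 0xed3d0c74b002),(nat_lit 0xc6cf0bba1002),(nat_lit 0xed2e0c27e002),(nat_lit 0xed400c7cd002),(nat_lit 0xbba0001),(nat_lit 0xed41001)],[(nat_lit 0xee100b5bd002),(nat_lit 0xbe39001),(nat_lit 0xefd50a21e002),(nat_lit 0xa136001),(nat_lit 0xa137001),(nat_lit 0xedf70b5b8002),(nat_lit 0xc20e001)],[(nat_lit 0xee110ebd3002),(nat_lit 0xebd4001),(nat_lit 0xebd5001),(nat_lit 0xebd6001),(nat_lit 0xebd7001),(nat_lit 0x100e5001),(nat_lit 0xab36001)],[(nat_lit 0x8faae0cb88002),(nat_lit 0xcb89001),(nat_lit 0x3c18f0cb8a002),(nat_lit 0xcb8b001),(nat_lit 0xcb8c001),(nat_lit 0x9113e0cb8d002),(nat_lit 0x36a3001)],[(nat_lit 0xc47a001),(nat_lit 0xc42b035fa002),(nat_lit 0xed5f0c7da002),(nat_lit 0xc47b0c387002),(nat_lit 0xc4290c391002),(nat_lit 0x35f9001),(nat_lit 0xc862001)],[(nat_lit 0x36df001),(nat_lit 0xc4290c392002),(nat_lit 0xc40e0c395002),(nat_lit 0xc42a001),(nat_lit 0xc42b036de002),(nat_lit 0x6d7f001),(nat_lit 0xeb4a0c679002)],[(nat_lit 0xc47c0bd4f002),(nat_lit 0xbd50001),(nat_lit 0xc7d5001),(nat_lit 0xbdfd001),(nat_lit 0xc0a2001),(nat_lit 0xc050001),(nat_lit 0x3291f328fa002)],[(nat_lit 0xed7a001),(nat_lit 0xaef7001),(nat_lit 0xed7b001),(nat_lit 0xb119001),(nat_lit 0xb3a80b11b002),(nat_lit 0xb11d001),(nat_lit 0x111da001)],[(nat_lit 0xc52b001),(nat_lit 0xc47f035f6002),(nat_lit 0xc52c001),(nat_lit 0x35f5001),(nat_lit 0xc52d0c383002),(nat_lit 0xc47b0c386002),(nat_lit 0xa45b30c860002)],[(nat_lit 0xc52e001),(nat_lit 0xc480035f8002),(nat_lit 0xed7c0c7d8002),(nat_lit 0x6bcc001),(nat_lit 0x35f7001),(nat_lit 0xc4810c38b002),(nat_lit 0xc861001)],[(nat_lit 0xc0af001),(nat_lit 0x43c8c3292e002),(nat_lit 0x41ebb32930002),(nat_lit 0x3291c0c0ae002),(nat_lit 0x3422f001),(nat_lit 0x32931001),(nat_lit 0x32932001)],[(nat_lit 0xc46c0c37e002),(nat_lit 0xed630c488002),(nat_lit 0xc480035fc002),(nat_lit 0xc48906d44002),(nat_lit 0xc42e035fb002),(nat_lit 0xc46d0c38e002),(nat_lit 0xc863001)],[(nat_lit 0xc4ff0aca3002),(nat_lit 0xc52d0c384002),(nat_lit 0xac9f001),(nat_lit 0x6d7d001),(nat_lit 0xc47f06d7c002),(nat_lit 0x1d74f001),(nat_lit 0x21d16001)],[(nat_lit 0xc1bb0c0d3002),(nat_lit 0x30e100cfcb002),(nat_lit 0xee680b804002),(nat_lit 0xc5090bd38002),(nat_lit 0xc19f0ba96002),(nat_lit 0xc1f20c0c4002),(nat_lit 0xc47f0b803002)],[(nat_lit 0xc46e0c389002),(nat_lit 0xc4810c38c002),(nat_lit 0xc46d0c38f002),(nat_lit 0xc482061b9002),(nat_lit 0x6d7e001),(nat_lit 0xc539061b8002),(nat_lit 0x10674001)],[(nat_lit 0xec74001),(nat_lit 0x9f22635bd6002),(nat_lit 0x10342001),(nat_lit 0xec73001),(nat_lit 0x9a98035a7f002),(nat_lit 0x10677001),(nat_lit 0xbee4001)],[(nat_lit 0xc57103577002),(nat_lit 0x3578001),(nat_lit 0xc61b0bed0002),(nat_lit 0x365f001),(nat_lit 0xc61d0b2d6002),(nat_lit 0x3579001),(nat_lit 0xf8c80bf77002)],[(nat_lit 0x37c3001),(nat_lit 0x3793001),(nat_lit 0x3747001),(nat_lit 0xce20001),(nat_lit 0x37c7001),(nat_lit 0x3746001),(nat_lit 0x100880ce22002)],[(nat_lit 0x365d001),(nat_lit 0xc4a6035ac002),(nat_lit 0xc56e0bded002),(nat_lit 0xc571035ab002),(nat_lit 0xc5720bd3a002),(nat_lit 0xc4a4035ad002),(nat_lit 0xc397001)],[(nat_lit 0xc61d0b2d5002),(nat_lit 0xb051035af002),(nat_lit 0xc6210b067002),(nat_lit 0xb160001),(nat_lit 0xc571035ae002),(nat_lit 0xc6220b068002),(nat_lit 0xc39d001)],[(nat_lit 0xf8cd0ce48002),(nat_lit 0xf8ce0ce49002),(nat_lit 0xf8ca0ce4a002),(nat_lit 0xce4b001),(nat_lit 0xf8cf0ce4c002),(nat_lit 0xf9200ce4d002),(nat_lit 0x3772001)],[(nat_lit 0x3662001),(nat_lit 0xc5720bd3b002),(nat_lit 0xc4a80b26b002),(nat_lit 0xc5780b291002),(nat_lit 0xc4a603661002),(nat_lit 0x725b001),(nat_lit 0xc1b30bd69002)],[(nat_lit 0xc579001),(nat_lit 0x329ff0c808002),(nat_lit 0xc57a001),(nat_lit 0xc57b001),(nat_lit 0xca88001),(nat_lit 0xc57d001),(nat_lit 0x3777001)],[(nat_lit 0xac98001),(nat_lit 0xc6230beef002),(nat_lit 0x2f36b001),(nat_lit 0xc5770ac97002),(nat_lit 0xae3c001),(nat_lit 0xc6290bef0002),(nat_lit 0xa4cc4333d2002)],[(nat_lit 0x3563001),(nat_lit 0xc6220b069002),(nat_lit 0x360f001),(nat_lit 0xb163001),(nat_lit 0x3562001),(nat_lit 0xb05103564002),(nat_lit 0xa27540bf5b002)],[(nat_lit 0x8b5d001),(nat_lit 0x2a7bd001),(nat_lit 0x8a02001),(nat_lit 0xa0dd52a7be002),(nat_lit 0x8b6a001),(nat_lit 0x8b6c001),(nat_lit 0xa1f1b2a7bf002)],[(nat_lit 0x373d001),(nat_lit 0xc619001),(nat_lit 0xc56c0373c002),(nat_lit 0xce13001),(nat_lit 0x37b8001),(nat_lit 0x37c4001),(nat_lit 0x106e30ce15002)],[(nat_lit 0xc4a40356e002),(nat_lit 0x356f001),(nat_lit 0xc56b0bf70002),(nat_lit 0x3570001),(nat_lit 0xc4ae0be6b002),(nat_lit 0x3660001),(nat_lit 0xbf72001)],[(nat_lit 0xc57003571002),(nat_lit 0x3572001),(nat_lit 0xc61a0becd002),(nat_lit 0xc5890be78002),(nat_lit 0x3573001),(nat_lit 0xc61c0be7c002),(nat_lit 0xbf73001)],[(nat_lit 0xf91804557002),(nat_lit 0xb56c001),(nat_lit 0x44d1001),(nat_lit 0xf465001),(nat_lit 0x4558001),(nat_lit 0x455a001),(nat_lit 0xf593001)],[(nat_lit 0xc61e001),(nat_lit 0x3722001),(nat_lit 0xc57303723002),(nat_lit 0xcde0001),(nat_lit 0x3791001),(nat_lit 0x3795001),(nat_lit 0xcde2001)],[(nat_lit 0xce14001),(nat_lit 0xcde1001),(nat_lit 0xce5c001),(nat_lit 0xcdd5001),(nat_lit 0x37b86001),(nat_lit 0xce21001),(nat_lit 0x37b87001)],[(nat_lit 0x37b7001),(nat_lit 0x378f001),(nat_lit 0x3745001),(nat_lit 0xce1a001),(nat_lit 0x3744001),(nat_lit 0x37bd001),(nat_lit 0xce1b001)],[(nat_lit 0xb96a001),(nat_lit 0xb96b001),(nat_lit 0x2073a001),(nat_lit 0xb96c001),(nat_lit 0xba9d001),(nat_lit 0xb969001),(nat_lit 0x106d8001)],[(nat_lit 0xc6b20c26d002),(nat_lit 0x3595001),(nat_lit 0xc6b30c35c002),(nat_lit 0x3594001),(nat_lit 0xc6b50c282002),(nat_lit 0xc6b60beba002),(nat_lit 0xc35d001)],[(nat_lit 0xc4ae0be69002),(nat_lit 0x35be001),(nat_lit 0xc4af0c2cf002),(nat_lit 0xc4b00bd2f002),(nat_lit 0xc4a4035bd002),(nat_lit 0xbf3c001),(nat_lit 0xf9220c3b7002)],[(nat_lit 0x341f00ce3c002),(nat_lit 0xce3d001),(nat_lit 0xce3e001),(nat_lit 0xce3f001),(nat_lit 0xce40001),(nat_lit 0x334f40ce41002),(nat_lit 0x376c001)],[(nat_lit 0xc5890be76002),(nat_lit 0x35c4001),(nat_lit 0xc3c2001),(nat_lit 0xc570035c3002),(nat_lit 0xc4b00bd31002),(nat_lit 0xc58a0bf07002),(nat_lit 0xc3c3001)],[(nat_lit 0xc61c0be7a002),(nat_lit 0x35c6001),(nat_lit 0xc6200bf06002),(nat_lit 0xc58a0bf09002),(nat_lit 0xc6220b072002),(nat_lit 0xc570035c5002),(nat_lit 0xc3c4001)],[(nat_lit 0xcac960ce42002),(nat_lit 0xce43001),(nat_lit 0xce44001),(nat_lit 0xce45001),(nat_lit 0xce46001),(nat_lit 0xcae750ce47002),(nat_lit 0x3771001)],[(nat_lit 0x34851001),(nat_lit 0xf9180b5c2002),(nat_lit 0xb5c3001),(nat_lit 0xf91f001),(nat_lit 0xb82a001),(nat_lit 0xb824001),(nat_lit 0x34854001)],[(nat_lit 0x32d8001),(nat_lit 0x32d9001),(nat_lit 0xf91804556002),(nat_lit 0x32da001),(nat_lit 0x3348001),(nat_lit 0x335a001),(nat_lit 0xb257001)],[(nat_lit 0xf91e0cf08002),(nat_lit 0xcf0a001),(nat_lit 0xfc45001),(nat_lit 0xcddd001),(nat_lit 0x34ae7001),(nat_lit 0xf9210cf0b002),(nat_lit 0xfc50001)],[(nat_lit 0x6a98001),(nat_lit 0xb828001),(nat_lit 0x6a97001),(nat_lit 0xb59e001),(nat_lit 0xf91806a99002),(nat_lit 0xb483001),(nat_lit 0x1fff1001)],[(nat_lit 0xc5730ac10002),(nat_lit 0xac0f001),(nat_lit 0xc624001),(nat_lit 0xae4f001),(nat_lit 0xa56c50ae3f002),(nat_lit 0xac11001),(nat_lit 0xb98f533348002)],[(nat_lit 0xc5900b053002),(nat_lit 0xb03c03608002),(nat_lit 0xb15d001),(nat_lit 0xb04f03607002),(nat_lit 0xa86a60b168002),(nat_lit 0xb054001),(nat_lit 0xc86d001)],[(nat_lit 0xa86b30b064002),(nat_lit 0xc5740360a002),(nat_lit 0xc61f0b065002),(nat_lit 0xc6260bd32002),(nat_lit 0xb04f03609002),(nat_lit 0xc6270b066002),(nat_lit 0xa56c60c876002)],[(nat_lit 0xb98bb335e0002),(nat_lit 0xb9860335e1002),(nat_lit 0xb9877335e2002),(nat_lit 0xb9861335e3002),(nat_lit 0xc971d335e4002),(nat_lit 0x96ad3335e5002),(nat_lit 0xaf3a001)],[(nat_lit 0xac9e001),(nat_lit 0xa9b620c3da002),(nat_lit 0xac9f001),(nat_lit 0xae37001),(nat_lit 0xc4c10ac9d002),(nat_lit 0xa86a821d17002),(nat_lit 0xa3246333dd002)],[(nat_lit 0xf8d9001),(nat_lit 0x1c9ca001),(nat_lit 0xd9c1001),(nat_lit 0xd9bf001),(nat_lit 0xd9c0001),(nat_lit 0xf8bb001),(nat_lit 0xaf49001)],[(nat_lit 0x3658001),(nat_lit 0xc6260bd33002),(nat_lit 0xc902001),(nat_lit 0xc57403657002),(nat_lit 0xc5990b293002),(nat_lit 0xc6280bd34002),(nat_lit 0xc904001)],[(nat_lit 0x35c8001),(nat_lit 0xc6270b06a002),(nat_lit 0x35c9001),(nat_lit 0xc6280bd36002),(nat_lit 0x360d001),(nat_lit 0xc574035c7002),(nat_lit 0xc3c5001)],[(nat_lit 0x912dd0ce4e002),(nat_lit 0xce4f001),(nat_lit 0x912c30cfc6002),(nat_lit 0x912e20cfc7002),(nat_lit 0xa34b60cfc8002),(nat_lit 0x912c10cfc9002),(nat_lit 0x3775001)],[(nat_lit 0xed2e0c27d002),(nat_lit 0xc6b7001),(nat_lit 0xbec5001),(nat_lit 0xc6b80bf98002),(nat_lit 0xc284001),(nat_lit 0xc6ba0c268002),(nat_lit 0x1da94001)],[(nat_lit 0x35c0001),(nat_lit 0xc6b90c2ea002),(nat_lit 0x35c1001),(nat_lit 0xc41407107002),(nat_lit 0x35bf001),(nat_lit 0x7111001),(nat_lit 0xc4400c3bb002)],[(nat_lit 0xf8f3001),(nat_lit 0x3602c001),(nat_lit 0xd99f001),(nat_lit 0xc4a9001),(nat_lit 0xa2be835b4b002),(nat_lit 0xf8e4001),(nat_lit 0xbf3a001)],[(nat_lit 0x3560001),(nat_lit 0xc4b00bd30002),(nat_lit 0xbcda07071002),(nat_lit 0x355f001),(nat_lit 0x3561001),(nat_lit 0x7253001),(nat_lit 0xbf57001)],[(nat_lit 0xc4540be68002),(nat_lit 0xbf3d001),(nat_lit 0x710f001),(nat_lit 0x7252001),(nat_lit 0x725a001),(nat_lit 0x7112001),(nat_lit 0x614c001)],[(nat_lit 0x32a000d4e2002),(nat_lit 0x32a010d4e3002),(nat_lit 0x32a020d4e4002),(nat_lit 0x32a030d4e5002),(nat_lit 0x32a040d4e6002),(nat_lit 0x32a4a0d4e7002),(nat_lit 0x3911001)],[(nat_lit 0xc1f5001),(nat_lit 0x3397c001),(nat_lit 0xc4a70b555002),(nat_lit 0xb556001),(nat_lit 0xc809001),(nat_lit 0xc3f2001),(nat_lit 0xb554001)],[(nat_lit 0xc1f6001),(nat_lit 0xc804001),(nat_lit 0xeea80b4eb002),(nat_lit 0xc4a70b290002),(nat_lit 0xb28f001),(nat_lit 0xc1f7001),(nat_lit 0xb557001)],[(nat_lit 0xc0c6001),(nat_lit 0xc806001),(nat_lit 0xc80b001),(nat_lit 0xa29c50c0c7002),(nat_lit 0xc57c0c0c5002),(nat_lit 0x20a49001),(nat_lit 0xa40bd36232002)],[(nat_lit 0xbf48001),(nat_lit 0x12e05001),(nat_lit 0xbf47001),(nat_lit 0xc07e001),(nat_lit 0xbf49001),(nat_lit 0xc2f5001),(nat_lit 0x9f85b3618c002)],[(nat_lit 0x35cb001),(nat_lit 0xc58a0bf08002),(nat_lit 0xc2f7001),(nat_lit 0x35cc001),(nat_lit 0xc308001),(nat_lit 0x35ca001),(nat_lit 0xc3c9001)],[(nat_lit 0x8e72b36192002),(nat_lit 0x36193001),(nat_lit 0x8e72536194002),(nat_lit 0x8d4e036195002),(nat_lit 0x8d51936196002),(nat_lit 0x8e72e36197002),(nat_lit 0xbf4a001)],[(nat_lit 0x8fc4c36198002),(nat_lit 0x8fc6a36199002),(nat_lit 0x8c27c3619a002),(nat_lit 0x8fc693619b002),(nat_lit 0xa48fd3619c002),(nat_lit 0x8fc4e3619d002),(nat_lit 0xbf4b001)],[(nat_lit 0x8fc43363cd002),(nat_lit 0xc3bd001),(nat_lit 0xa4c87363ce002),(nat_lit 0xc819001),(nat_lit 0xc81b001),(nat_lit 0xc81d001),(nat_lit 0x363cf001)],[(nat_lit 0xa1f0a26093002),(nat_lit 0x9eaf826094002),(nat_lit 0xb6d5626095002),(nat_lit 0x27b4e26096002),(nat_lit 0x9eaac26097002),(nat_lit 0xbaa4526098002),(nat_lit 0x7bca001)],[(nat_lit 0xc218001),(nat_lit 0x8fc453604a002),(nat_lit 0xa403936061002),(nat_lit 0x8fc210c217002),(nat_lit 0xa16ab36063002),(nat_lit 0x8fc6f35b74002),(nat_lit 0x8fc4b3624d002)],[(nat_lit 0x517061f584002),(nat_lit 0xa4439275ca002),(nat_lit 0x5179908064002),(nat_lit 0x9eaab275ce002),(nat_lit 0xa403a27199002),(nat_lit 0x8063001),(nat_lit 0x5179b27a14002)],[(nat_lit 0xa44001),(nat_lit 0x18cb001),(nat_lit 0xa45001),(nat_lit 0x18e8001),(nat_lit 0xa43001),(nat_lit 0x1833001),(nat_lit 0x1fcb001)],[(nat_lit 0x1031001),(nat_lit 0x1339001),(nat_lit 0x1835001),(nat_lit 0x1032001),(nat_lit 0x1040001),(nat_lit 0x1030001),(nat_lit 0xa9e6031dd002)],[(nat_lit 0xeb8b040b6002),(nat_lit 0x40b7001),(nat_lit 0xb51a040b8002),(nat_lit 0xeb57040b9002),(nat_lit 0xeb92040ba002),(nat_lit 0xeb55040bb002),(nat_lit 0x1832001)],[(nat_lit 0xc1100b237002),(nat_lit 0x32cd001),(nat_lit 0xc1120b238002),(nat_lit 0x3326001),(nat_lit 0x3328001),(nat_lit 0x332a001),(nat_lit 0xb239001)],[(nat_lit 0x30aa001),(nat_lit 0xc0e60a3d1002),(nat_lit 0xa3ea001),(nat_lit 0xc0e7030a9002),(nat_lit 0x9f6380a3ec002),(nat_lit 0xc0e90a274002),(nat_lit 0xa47e001)],[(nat_lit 0x30ac001),(nat_lit 0xc1130a3d3002),(nat_lit 0xc11d0a272002),(nat_lit 0xa3f4001),(nat_lit 0xc0e7030ab002),(nat_lit 0x9ae280a3f6002),(nat_lit 0xa47f001)],[(nat_lit 0x3f5f001),(nat_lit 0x18b6001),(nat_lit 0x18b8001),(nat_lit 0x18c8001),(nat_lit 0x18ca001),(nat_lit 0x18cc001),(nat_lit 0x4306001)],[(nat_lit 0x9b713040c0002),(nat_lit 0x184e001),(nat_lit 0x184d001),(nat_lit 0x19f0001),(nat_lit 0x184f001),(nat_lit 0x1b77001),(nat_lit 0x411d001)],[(nat_lit 0x303c001),(nat_lit 0x306d001),(nat_lit 0x303d001),(nat_lit 0x30fe001),(nat_lit 0x303b001),(nat_lit 0x3100001),(nat_lit 0xa23f001)],[(nat_lit 0x30ff001),(nat_lit 0x10e4001),(nat_lit 0x3308001),(nat_lit 0x10e3001),(nat_lit 0x248e001),(nat_lit 0x3104001),(nat_lit 0x3309001)],[(nat_lit 0x3101001),(nat_lit 0x10c6001),(nat_lit 0x10c7001),(nat_lit 0x3106001),(nat_lit 0x10c8001),(nat_lit 0x10c5001),(nat_lit 0x32e1001)],[(nat_lit 0x32a230a6c2002),(nat_lit 0xa6c3001),(nat_lit 0x111e90a6c4002),(nat_lit 0xa6c5001),(nat_lit 0xa6c6001),(nat_lit 0x32af00a6c7002),(nat_lit 0x30fd001)],[(nat_lit 0x3306001),(nat_lit 0xb250001),(nat_lit 0x32d6001),(nat_lit 0x3310001),(nat_lit 0x32f3001),(nat_lit 0x330b001),(nat_lit 0xeb220abe6002)],[(nat_lit 0x194f001),(nat_lit 0x3105001),(nat_lit 0x330a001),(nat_lit 0x10e6001),(nat_lit 0x330c001),(nat_lit 0x10e5001),(nat_lit 0x330e001)],[(nat_lit 0xf3bc0b251002),(nat_lit 0xf0f70b252002),(nat_lit 0x20c070b253002),(nat_lit 0xf3d70b254002),(nat_lit 0x20bf90b255002),(nat_lit 0xf3ef0b256002),(nat_lit 0x32d7001)],[(nat_lit 0xb261001),(nat_lit 0x32dc001),(nat_lit 0xf5f90b262002),(nat_lit 0x333b001),(nat_lit 0x333d001),(nat_lit 0x333f001),(nat_lit 0xb263001)],[(nat_lit 0x3336001),(nat_lit 0x333c001),(nat_lit 0xba200b378002),(nat_lit 0x32de001),(nat_lit 0xb2a7001),(nat_lit 0x3343001),(nat_lit 0xb379001)],[(nat_lit 0x3338001),(nat_lit 0x333e001),(nat_lit 0x3342001),(nat_lit 0x9a1c50b3e4002),(nat_lit 0x32df001),(nat_lit 0x9c7950b3e5002),(nat_lit 0x9a1a80b3e6002)],[(nat_lit 0x3f2c001),(nat_lit 0x158c001),(nat_lit 0x158d001),(nat_lit 0x18ea001),(nat_lit 0x158e001),(nat_lit 0x18d4001),(nat_lit 0x3f2f001)],[(nat_lit 0x18e9001),(nat_lit 0x18eb001),(nat_lit 0x3392001),(nat_lit 0x18d2001),(nat_lit 0x2ed6001),(nat_lit 0x18ec001),(nat_lit 0x4332001)],[(nat_lit 0x1834001),(nat_lit 0x18d5001),(nat_lit 0x1034001),(nat_lit 0x18ed001),(nat_lit 0x182d001),(nat_lit 0x1033001),(nat_lit 0xd9df031e1002)],[(nat_lit 0xf36e04335002),(nat_lit 0x4336001),(nat_lit 0xe79c04337002),(nat_lit 0x4338001),(nat_lit 0x4339001),(nat_lit 0xf3a30433a002),(nat_lit 0x18d3001)],[(nat_lit 0x1041001),(nat_lit 0x100d001),(nat_lit 0x182e001),(nat_lit 0x100e001),(nat_lit 0x100c001),(nat_lit 0x100f001),(nat_lit 0x315b001)],[(nat_lit 0xeb890a6db002),(nat_lit 0xeb860a6dc002),(nat_lit 0xb5090a6dd002),(nat_lit 0xeb480a6de002),(nat_lit 0xb50b0a6df002),(nat_lit 0xeba80a6e0002),(nat_lit 0x310f001)],[(nat_lit 0xa983001),(nat_lit 0x3190001),(nat_lit 0xf5090a984002),(nat_lit 0x31d1001),(nat_lit 0x31d3001),(nat_lit 0x31d5001),(nat_lit 0xa985001)],[(nat_lit 0xeb8c0a511002),(nat_lit 0xf4de0a96a002),(nat_lit 0xa9e20a96b002),(nat_lit 0xeb4e0a96d002),(nat_lit 0xa9e70a970002),(nat_lit 0xeb8f0a512002),(nat_lit 0x318b001)],[(nat_lit 0x31cc001),(nat_lit 0x31d2001),(nat_lit 0xeb4a0a989002),(nat_lit 0x3192001),(nat_lit 0xa98a001),(nat_lit 0x31db001),(nat_lit 0xa98b001)],[(nat_lit 0x31ce001),(nat_lit 0x31d4001),(nat_lit 0x31d8001),(nat_lit 0xa98c001),(nat_lit 0x3193001),(nat_lit 0xa98d001),(nat_lit 0xa98e001)],[(nat_lit 0xa3dd001),(nat_lit 0xc0f1030d4002),(nat_lit 0xa3e1001),(nat_lit 0xc0ee0a27c002),(nat_lit 0x9b4530a4d6002),(nat_lit 0x30d3001),(nat_lit 0xa4d8001)],[(nat_lit 0xc0e90a275002),(nat_lit 0xc0ee0a27b002),(nat_lit 0xa3f3001),(nat_lit 0xc0f1030d8002),(nat_lit 0x9c3510a4d9002),(nat_lit 0x30d7001),(nat_lit 0xa4da001)],[(nat_lit 0xa277001),(nat_lit 0xa2f8001),(nat_lit 0xa3d6001),(nat_lit 0xa3d8001),(nat_lit 0xa3da001),(nat_lit 0xa3dc001),(nat_lit 0x30c94001)],[(nat_lit 0xa3d7001),(nat_lit 0xa2f9001),(nat_lit 0xa278001),(nat_lit 0x30c98001),(nat_lit 0xa3de001),(nat_lit 0xa3e0001),(nat_lit 0xb764730c99002)],[(nat_lit 0xa3d9001),(nat_lit 0x30ae001),(nat_lit 0xa480001),(nat_lit 0x30ad001),(nat_lit 0xa29d10a3ee002),(nat_lit 0xc0ee0a27a002),(nat_lit 0xa481001)],[(nat_lit 0xa3db001),(nat_lit 0x30b0001),(nat_lit 0xa3df001),(nat_lit 0xa3f7001),(nat_lit 0x30af001),(nat_lit 0x9b4620a3f9002),(nat_lit 0xa482001)],[(nat_lit 0xb378730c9a002),(nat_lit 0xb37d630c9b002),(nat_lit 0x30c9c001),(nat_lit 0x30c9d001),(nat_lit 0xb37e030c9e002),(nat_lit 0xb378430c9f002),(nat_lit 0xa279001)],[(nat_lit 0xc12b0afdf002),(nat_lit 0xc0ef032a2002),(nat_lit 0xc1270b0da002),(nat_lit 0xc12c0aede002),(nat_lit 0xc12d0b0ea002),(nat_lit 0x32a1001),(nat_lit 0xb1fd001)],[(nat_lit 0xc1910aed8002),(nat_lit 0xc12c0aedd002),(nat_lit 0xc12f0b0e4002),(nat_lit 0xc0ef032a8002),(nat_lit 0xc1300b200002),(nat_lit 0xc131032a7002),(nat_lit 0xb201001)],[(nat_lit 0xc11d0a271002),(nat_lit 0xa3e6001),(nat_lit 0x30b2001),(nat_lit 0xa483001),(nat_lit 0x30b1001),(nat_lit 0x9b39c0a3fb002),(nat_lit 0xa484001)],[(nat_lit 0xa29c82a2f0002),(nat_lit 0xa29db2a6d6002),(nat_lit 0x9f63f08ac5002),(nat_lit 0xa29dd2ad5b002),(nat_lit 0xa1f4708ac4002),(nat_lit 0xa29de2a6e3002),(nat_lit 0xa29df2ad5c002)],[(nat_lit 0xa1054089a6002),(nat_lit 0xa1f3f089a7002),(nat_lit 0xa1f47089a8002),(nat_lit 0xa1f58089a9002),(nat_lit 0x9f63f089aa002),(nat_lit 0x9f640089ab002),(nat_lit 0x2ab7001)],[(nat_lit 0xefe2001),(nat_lit 0xed9a001),(nat_lit 0xb5eb001),(nat_lit 0xebd20b37b002),(nat_lit 0xb3a3001),(nat_lit 0x1065b001),(nat_lit 0xa282001)],[(nat_lit 0xa3f5001),(nat_lit 0xa3f8001),(nat_lit 0x9e85c30cb1002),(nat_lit 0xa283001),(nat_lit 0xa24ba0a2fc002),(nat_lit 0xa3fd001),(nat_lit 0x9e93330cb2002)],[(nat_lit 0x9bca001),(nat_lit 0x9bce001),(nat_lit 0x9bd0001),(nat_lit 0x9c74e22175002),(nat_lit 0x9acf001),(nat_lit 0x9c74f2ee74002),(nat_lit 0xa3ead2ee75002)],[(nat_lit 0x9321130cb8002),(nat_lit 0x30cb9001),(nat_lit 0x949c430cba002),(nat_lit 0xa50ad30cbb002),(nat_lit 0x30cbc001),(nat_lit 0xa63e230cbd002),(nat_lit 0xa285001)],[(nat_lit 0x2b90001),(nat_lit 0x21d6001),(nat_lit 0x2202001),(nat_lit 0x21d5001),(nat_lit 0x21d9001),(nat_lit 0x21d7001),(nat_lit 0x4689001)],[(nat_lit 0x4be4001),(nat_lit 0xb420001),(nat_lit 0x468a001),(nat_lit 0x474b001),(nat_lit 0xb421001),(nat_lit 0x473f001),(nat_lit 0x32f8001)],[(nat_lit 0x2cb8001),(nat_lit 0x1946001),(nat_lit 0x2f02001),(nat_lit 0x1945001),(nat_lit 0x285f001),(nat_lit 0x1947001),(nat_lit 0x44c3001)],[(nat_lit 0x2800001),(nat_lit 0x2860001),(nat_lit 0x2801001),(nat_lit 0x2833001),(nat_lit 0x27ff001),(nat_lit 0x4fc8001),(nat_lit 0x7ab5001)],[(nat_lit 0x3ef2001),(nat_lit 0x3f60001),(nat_lit 0x3ef1001),(nat_lit 0x3f75001),(nat_lit 0x3f2e001),(nat_lit 0x3f77001),(nat_lit 0x107cd001)],[(nat_lit 0x3f76001),(nat_lit 0x182c001),(nat_lit 0x2f4f001),(nat_lit 0x182b001),(nat_lit 0x2f03001),(nat_lit 0x18d9001),(nat_lit 0x40a5001)],[(nat_lit 0x3f78001),(nat_lit 0x164d001),(nat_lit 0x164e001),(nat_lit 0x18d7001),(nat_lit 0x18da001),(nat_lit 0x164f001),(nat_lit 0x3fd1001)],[(nat_lit 0x20fa7107da002),(nat_lit 0x20fa9107db002),(nat_lit 0x215c4107dc002),(nat_lit 0x107dd001),(nat_lit 0x107de001),(nat_lit 0x215e9107df002),(nat_lit 0x3efc001)],[(nat_lit 0x2ec8001),(nat_lit 0x2f04001),(nat_lit 0x2ec6001),(nat_lit 0x2ed5001),(nat_lit 0x2ec5001),(nat_lit 0x6d74001),(nat_lit 0x9b00001)],[(nat_lit 0xf18001),(nat_lit 0x18d8001),(nat_lit 0xf16001),(nat_lit 0xf15001),(nat_lit 0x2e6b001),(nat_lit 0xf3f001),(nat_lit 0x15e5001)],[(nat_lit 0x1837001),(nat_lit 0x18db001),(nat_lit 0xa61001),(nat_lit 0x20e4001),(nat_lit 0xa60001),(nat_lit 0x182f001),(nat_lit 0x20e5001)],[(nat_lit 0x10353043b2002),(nat_lit 0x43b3001),(nat_lit 0x10317043b4002),(nat_lit 0x43b5001),(nat_lit 0x43b6001),(nat_lit 0x1031e043b7002),(nat_lit 0x1902001)],[(nat_lit 0x40b3001),(nat_lit 0x9b713040c1002),(nat_lit 0x9b713040c2002),(nat_lit 0x9b711040f0002),(nat_lit 0x40b4001),(nat_lit 0x9b7e3040f2002),(nat_lit 0x191c511134002)],[(nat_lit 0x1744511135002),(nat_lit 0x11136001),(nat_lit 0x9c6a511137002),(nat_lit 0x1744d11138002),(nat_lit 0x11139001),(nat_lit 0x1922c1113a002),(nat_lit 0x40b5001)],[(nat_lit 0x201a01fad002),(nat_lit 0x3d98001),(nat_lit 0x1fac001),(nat_lit 0x284e001),(nat_lit 0x20a5001),(nat_lit 0x20b1001),(nat_lit 0x5e1f001)],[(nat_lit 0x1faf001),(nat_lit 0x1fb9001),(nat_lit 0x201401fde002),(nat_lit 0x1fae001),(nat_lit 0x20a1001),(nat_lit 0x1fe0001),(nat_lit 0x9ab9305e27002)],[(nat_lit 0x1fb1001),(nat_lit 0x1ff6001),(nat_lit 0x20a3001),(nat_lit 0x20a6001),(nat_lit 0x1fb0001),(nat_lit 0x20a8001),(nat_lit 0x5e28001)],[(nat_lit 0x18934097d5002),(nat_lit 0x18b15173ae002),(nat_lit 0x189e3097d6002),(nat_lit 0x173af001),(nat_lit 0x189e4001),(nat_lit 0x1892f097d7002),(nat_lit 0x5ca5001)],[(nat_lit 0x2883001),(nat_lit 0x3d65001),(nat_lit 0x2882001),(nat_lit 0x2884001),(nat_lit 0x7d5c001),(nat_lit 0x2916001),(nat_lit 0x9b67e07da5002)],[(nat_lit 0x20a4001),(nat_lit 0x204101ff8002),(nat_lit 0x1fb5001),(nat_lit 0x3e93001),(nat_lit 0x201a01fb4002),(nat_lit 0x20aa001),(nat_lit 0x5e2d001)],[(nat_lit 0x190e60fb04002),(nat_lit 0x190b40fb05002),(nat_lit 0x191180fb06002),(nat_lit 0x9c5b10fb07002),(nat_lit 0xfb08001),(nat_lit 0x190b30fb09002),(nat_lit 0x3dea001)],[(nat_lit 0x20a2001),(nat_lit 0x1fc1001),(nat_lit 0x2097001),(nat_lit 0x1fef001),(nat_lit 0x1fc0001),(nat_lit 0x4a36001),(nat_lit 0x5e37001)],[(nat_lit 0x9c7b305ed3002),(nat_lit 0x9abc105ed4002),(nat_lit 0x5ed5001),(nat_lit 0x99e9f05ed6002),(nat_lit 0x5ed7001),(nat_lit 0x18da405ed8002),(nat_lit 0x1fdd001)],[(nat_lit 0x20a7001),(nat_lit 0x1fe4001),(nat_lit 0x5eda001),(nat_lit 0x1fe3001),(nat_lit 0x1ff1001),(nat_lit 0x20ac001),(nat_lit 0x5edb001)],[(nat_lit 0x20a9001),(nat_lit 0x1fca001),(nat_lit 0x20ab001),(nat_lit 0x20ae001),(nat_lit 0x204401ff2002),(nat_lit 0x1fc9001),(nat_lit 0x5e46001)],[(nat_lit 0xa031e05ee0002),(nat_lit 0x5ee1001),(nat_lit 0x5ee2001),(nat_lit 0x5ee3001),(nat_lit 0x5ee4001),(nat_lit 0xa033405ee5002),(nat_lit 0x1fe5001)],[(nat_lit 0x1900d001),(nat_lit 0x5d6b001),(nat_lit 0x1a0b9001),(nat_lit 0x5dba001),(nat_lit 0x5dbc001),(nat_lit 0x5dbe001),(nat_lit 0x2c4e71c50f002)],[(nat_lit 0x5db3001),(nat_lit 0x92ea001),(nat_lit 0x5d6c001),(nat_lit 0x99cf31830b002),(nat_lit 0x5dc0001),(nat_lit 0x5dc2001),(nat_lit 0x1a0bc001)],[(nat_lit 0x9e2cd15210002),(nat_lit 0x9e2ce15211002),(nat_lit 0x9db9a15212002),(nat_lit 0x9bc7315213002),(nat_lit 0x9c03415214002),(nat_lit 0x52ea715215002),(nat_lit 0x4dfd001)],[(nat_lit 0x5db7001),(nat_lit 0x5dbd001),(nat_lit 0x5dc1001),(nat_lit 0x1c527001),(nat_lit 0x5d6e001),(nat_lit 0x1c528001),(nat_lit 0x1c529001)],[(nat_lit 0x2099001),(nat_lit 0x209a001),(nat_lit 0x1fc3001),(nat_lit 0x20da001),(nat_lit 0x1fc2001),(nat_lit 0x4afb001),(nat_lit 0x23cd001)],[(nat_lit 0x1fed001),(nat_lit 0x1ff0001),(nat_lit 0x20c4001),(nat_lit 0x1fe7001),(nat_lit 0x1fe8001),(nat_lit 0x4a30001),(nat_lit 0x5eec001)],[(nat_lit 0x49b2001),(nat_lit 0x4a37001),(nat_lit 0x4afa001),(nat_lit 0x4a2f001),(nat_lit 0x4971001),(nat_lit 0x4970001),(nat_lit 0x4972001)],[(nat_lit 0x1ace001),(nat_lit 0x2e66001),(nat_lit 0x262c001),(nat_lit 0x1acd001),(nat_lit 0x2ede001),(nat_lit 0x1d00001),(nat_lit 0x1f7a001)],[(nat_lit 0x19f7001),(nat_lit 0x1c8b001),(nat_lit 0x1cb0001),(nat_lit 0x19f8001),(nat_lit 0x19f6001),(nat_lit 0x246d001),(nat_lit 0x4668001)],[(nat_lit 0x5e89001),(nat_lit 0x5f3b001),(nat_lit 0x5e3d001),(nat_lit 0x684c001),(nat_lit 0x5e3e001),(nat_lit 0x5e8b001),(nat_lit 0xb5b071c877002)],[(nat_lit 0x209f001),(nat_lit 0x20ad001),(nat_lit 0x5e8c001),(nat_lit 0x1ffc001),(nat_lit 0x2b37001),(nat_lit 0x1ffb001),(nat_lit 0x5ef9001)],[(nat_lit 0x4ce971c87a002),(nat_lit 0x1c87b001),(nat_lit 0x4ce931c87c002),(nat_lit 0x1c87d001),(nat_lit 0x1c87e001),(nat_lit 0x4ce921c87f002),(nat_lit 0x5e3f001)],[(nat_lit 0x52f790860a002),(nat_lit 0x52f770860b002),(nat_lit 0x4cb860860c002),(nat_lit 0x52eb10860d002),(nat_lit 0x4cb880860e002),(nat_lit 0x530c80860f002),(nat_lit 0x2a24001)],[(nat_lit 0x1c88a001),(nat_lit 0x5e41001),(nat_lit 0x530c61c88b002),(nat_lit 0x5e95001),(nat_lit 0x5e97001),(nat_lit 0x5e99001),(nat_lit 0xc03831c88c002)],[(nat_lit 0x530b510e7a002),(nat_lit 0x52fa610e7b002),(nat_lit 0x4caee10e7c002),(nat_lit 0x52ec510e7d002),(nat_lit 0x4caf010e7e002),(nat_lit 0x530c910e7f002),(nat_lit 0x405c001)],[(nat_lit 0x5e90001),(nat_lit 0x5e96001),(nat_lit 0x1c892001),(nat_lit 0x5e43001),(nat_lit 0x1c893001),(nat_lit 0x5e9f001),(nat_lit 0xa65bc1c894002)],[(nat_lit 0x5e92001),(nat_lit 0x5e98001),(nat_lit 0x5e9c001),(nat_lit 0x1c895001),(nat_lit 0x5e44001),(nat_lit 0x530ce1c896002),(nat_lit 0x1c897001)],[(nat_lit 0x303f001),(nat_lit 0x3077001),(nat_lit 0x30c4001),(nat_lit 0x3108001),(nat_lit 0x303e001),(nat_lit 0x310b001),(nat_lit 0xa240001)],[(nat_lit 0x3041001),(nat_lit 0x30b6001),(nat_lit 0x3149001),(nat_lit 0x3040001),(nat_lit 0x310a001),(nat_lit 0x311f001),(nat_lit 0xa241001)],[(nat_lit 0x3043001),(nat_lit 0x307b001),(nat_lit 0x3102001),(nat_lit 0x3121001),(nat_lit 0x3044001),(nat_lit 0x3042001),(nat_lit 0x320f30a246002)],[(nat_lit 0x3544030a81002),(nat_lit 0x30a82001),(nat_lit 0x3248430a83002),(nat_lit 0x3542830a84002),(nat_lit 0x3547230a85002),(nat_lit 0x3546330a86002),(nat_lit 0xa0f2001)],[(nat_lit 0x26c8001),(nat_lit 0x2662001),(nat_lit 0x267e001),(nat_lit 0x2661001),(nat_lit 0x26ac001),(nat_lit 0x2663001),(nat_lit 0x338b001)],[(nat_lit 0x30c3001),(nat_lit 0x23ec001),(nat_lit 0x23ed001),(nat_lit 0x26b1001),(nat_lit 0x23ee001),(nat_lit 0x26b3001),(nat_lit 0x6943001)],[(nat_lit 0x3109001),(nat_lit 0x2447001),(nat_lit 0x314c001),(nat_lit 0x2446001),(nat_lit 0x2448001),(nat_lit 0x30f8001),(nat_lit 0x6a7d001)],[(nat_lit 0x310c001),(nat_lit 0x244a001),(nat_lit 0x26b5001),(nat_lit 0x30fa001),(nat_lit 0x244b001),(nat_lit 0x2449001),(nat_lit 0x6a83001)],[(nat_lit 0x310d30a6d3002),(nat_lit 0xa6d4001),(nat_lit 0xa6d5001),(nat_lit 0xa6d6001),(nat_lit 0xa6d7001),(nat_lit 0x2098e0a6d8002),(nat_lit 0x3107001)],[(nat_lit 0x314a001),(nat_lit 0xa50b001),(nat_lit 0x311d001),(nat_lit 0xa70a001),(nat_lit 0x314b001),(nat_lit 0x314d001),(nat_lit 0xa70b001)],[(nat_lit 0x3120001),(nat_lit 0x2fe7001),(nat_lit 0x314e001),(nat_lit 0x2fe8001),(nat_lit 0x3156001),(nat_lit 0x2fe6001),(nat_lit 0xa0f9001)],[(nat_lit 0x32d9e0a70c002),(nat_lit 0xa70d001),(nat_lit 0xa70e001),(nat_lit 0xa70f001),(nat_lit 0xa710001),(nat_lit 0x32dc60a711002),(nat_lit 0x311e001)],[(nat_lit 0x354260a716002),(nat_lit 0x3542c0a717002),(nat_lit 0x3208b0a718002),(nat_lit 0x354090a719002),(nat_lit 0xa71a001),(nat_lit 0x3541b0a71b002),(nat_lit 0x3122001)],[(nat_lit 0x462dd30a91002),(nat_lit 0xa0f4001),(nat_lit 0x30a92001),(nat_lit 0xa1b9001),(nat_lit 0xa1bb001),(nat_lit 0xa1bd001),(nat_lit 0x462c030a93002)],[(nat_lit 0x354450d726002),(nat_lit 0x354190d727002),(nat_lit 0x320290d728002),(nat_lit 0x354040d729002),(nat_lit 0x3202f0d72a002),(nat_lit 0x3545a0d72b002),(nat_lit 0x3990001)],[(nat_lit 0xa1b4001),(nat_lit 0xa1ba001),(nat_lit 0x30a99001),(nat_lit 0xa0f6001),(nat_lit 0x9fde930a9a002),(nat_lit 0xa1c3001),(nat_lit 0x320b330a9b002)],[(nat_lit 0xa1b6001),(nat_lit 0xa1bc001),(nat_lit 0xa1c0001),(nat_lit 0x30a9c001),(nat_lit 0xa0f7001),(nat_lit 0xa59ee30a9d002),(nat_lit 0xa59ef30a9e002)],[(nat_lit 0x30f6001),(nat_lit 0xa4c3001),(nat_lit 0x30c8001),(nat_lit 0x30cd001),(nat_lit 0x30c9001),(nat_lit 0x30fb001),(nat_lit 0xa4c5001)],[(nat_lit 0x244d001),(nat_lit 0x30f9001),(nat_lit 0x30fc001),(nat_lit 0x244e001),(nat_lit 0x313b001),(nat_lit 0x244c001),(nat_lit 0x6a84001)],[(nat_lit 0xc16b0a527002),(nat_lit 0xa528001),(nat_lit 0xa5d7001),(nat_lit 0xa529001),(nat_lit 0xa52a001),(nat_lit 0xc1be0a6b5002),(nat_lit 0x30f4001)],[(nat_lit 0xebfa0b849002),(nat_lit 0xec08001),(nat_lit 0xb84b001),(nat_lit 0xec09001),(nat_lit 0xb84c001),(nat_lit 0xebf70b84d002),(nat_lit 0x6950001)],[(nat_lit 0x1fb5f001),(nat_lit 0x6a78001),(nat_lit 0x1fb76001),(nat_lit 0x6b06001),(nat_lit 0x6b08001),(nat_lit 0x6b0a001),(nat_lit 0xa051d1ffcc002)],[(nat_lit 0xebf90ba75002),(nat_lit 0xec03001),(nat_lit 0xba76001),(nat_lit 0xec04001),(nat_lit 0xba77001),(nat_lit 0xec050ba78002),(nat_lit 0x691b001)],[(nat_lit 0x69ff001),(nat_lit 0xebf5001),(nat_lit 0xebf6001),(nat_lit 0xebf7069fe002),(nat_lit 0xfb59001),(nat_lit 0xebf8001),(nat_lit 0xec18001)],[(nat_lit 0x4cdc7088e7002),(nat_lit 0x9c25e088ed002),(nat_lit 0x9a4df0899e002),(nat_lit 0x4ccc602aef002),(nat_lit 0x9a83e089fe002),(nat_lit 0x2aee001),(nat_lit 0x89ff001)],[(nat_lit 0x316ee001),(nat_lit 0xa485001),(nat_lit 0xa50c001),(nat_lit 0xa4c7001),(nat_lit 0xa4c4001),(nat_lit 0xa4de001),(nat_lit 0x316ef001)],[(nat_lit 0x312c001),(nat_lit 0xa4c6001),(nat_lit 0x30ca001),(nat_lit 0x30cb001),(nat_lit 0x4290001),(nat_lit 0x3130001),(nat_lit 0xa4c8001)],[(nat_lit 0x3147001),(nat_lit 0xa4dd001),(nat_lit 0x30dc001),(nat_lit 0x312e001),(nat_lit 0x3159001),(nat_lit 0x30db001),(nat_lit 0x20b0a0a4df002)],[(nat_lit 0xf3ad0da08002),(nat_lit 0xf3c5001),(nat_lit 0xd9fa0a4fe002),(nat_lit 0xa505001),(nat_lit 0x20a7b0da09002),(nat_lit 0x20c040da0a002),(nat_lit 0xa486001)],[(nat_lit 0x3154001),(nat_lit 0x3157001),(nat_lit 0x315a001),(nat_lit 0x3124001),(nat_lit 0x3123001),(nat_lit 0x313d001),(nat_lit 0xa71c001)],[(nat_lit 0xfb550a71d002),(nat_lit 0xeb3b0a71e002),(nat_lit 0xeb190a71f002),(nat_lit 0xeb3d0a720002),(nat_lit 0xa721001),(nat_lit 0xeb420a722002),(nat_lit 0x3125001)],[(nat_lit 0x21edf001),(nat_lit 0xa488001),(nat_lit 0xe7d0001),(nat_lit 0xa5b3001),(nat_lit 0xa5b5001),(nat_lit 0xa5b7001),(nat_lit 0x316f0001)],[(nat_lit 0xa5ac001),(nat_lit 0xf5670e7cd002),(nat_lit 0xa489001),(nat_lit 0xaa1b001),(nat_lit 0xa5b9001),(nat_lit 0xa5bb001),(nat_lit 0xa9d8001)],[(nat_lit 0xa5ae001),(nat_lit 0xa5b4001),(nat_lit 0xeb3c0a50e002),(nat_lit 0xa48a001),(nat_lit 0xa1de60e839002),(nat_lit 0xa5bd001),(nat_lit 0xc67c001)],[(nat_lit 0x79f6001),(nat_lit 0xeb3e001),(nat_lit 0xeb3f001),(nat_lit 0xeb40079f5002),(nat_lit 0xeb180bd6f002),(nat_lit 0xeb41001),(nat_lit 0x1ed04001)],[(nat_lit 0xa5c8001),(nat_lit 0xc147030ea002),(nat_lit 0xa5cc001),(nat_lit 0xc1480a49f002),(nat_lit 0xc1bc0a5e5002),(nat_lit 0x30e9001),(nat_lit 0xa6af001)],[(nat_lit 0xc14a0a498002),(nat_lit 0xc1480a49e002),(nat_lit 0xa5d9001),(nat_lit 0xc147030f0002),(nat_lit 0xa6b2001),(nat_lit 0x30ef001),(nat_lit 0xa6b3001)],[(nat_lit 0xc14e0b234002),(nat_lit 0xb5020b338002),(nat_lit 0xc0f90332d002),(nat_lit 0xc14f0b466002),(nat_lit 0xb4f70332c002),(nat_lit 0xc2030b343002),(nat_lit 0xb467001)],[(nat_lit 0xa49a001),(nat_lit 0xa514001),(nat_lit 0xa5c5001),(nat_lit 0xa4f7001),(nat_lit 0xa4fd001),(nat_lit 0xa5c7001),(nat_lit 0x26e43001)],[(nat_lit 0xa5c6001),(nat_lit 0xa515001),(nat_lit 0xa49b001),(nat_lit 0x25b37001),(nat_lit 0xa5c9001),(nat_lit 0xa5cb001),(nat_lit 0x316fa001)],[(nat_lit 0xa4f6001),(nat_lit 0x30e6001),(nat_lit 0xa4f8001),(nat_lit 0x30e5001),(nat_lit 0xa4f9001),(nat_lit 0xc1480a49d002),(nat_lit 0xa4fb001)],[(nat_lit 0xa4fc001),(nat_lit 0x30e8001),(nat_lit 0xa5ca001),(nat_lit 0x9a95b0a5dd002),(nat_lit 0x30e7001),(nat_lit 0x9a95d0a5df002),(nat_lit 0xa6ae001)],[(nat_lit 0x26e41001),(nat_lit 0x316fd001),(nat_lit 0x26194001),(nat_lit 0x316fe001),(nat_lit 0x2658d001),(nat_lit 0x31b6731701002),(nat_lit 0xa49c001)],[(nat_lit 0xc13b0b332002),(nat_lit 0xc1430332b002),(nat_lit 0xc1400b336002),(nat_lit 0xc1440b23c002),(nat_lit 0xc1fb0b345002),(nat_lit 0x332a001),(nat_lit 0xb465001)],[(nat_lit 0xc0fc0b236002),(nat_lit 0xc1440b23b002),(nat_lit 0xc0df0b33e002),(nat_lit 0xc1430332f002),(nat_lit 0x9e43f0b468002),(nat_lit 0xc0dc0332e002),(nat_lit 0xb469001)],[(nat_lit 0x9b6e70a493002),(nat_lit 0xa5ce001),(nat_lit 0x30ec001),(nat_lit 0x9a5440a6b0002),(nat_lit 0x30eb001),(nat_lit 0x9bb4e0a5e1002),(nat_lit 0x99c3c0a6b1002)],[(nat_lit 0xa4e7001),(nat_lit 0xec3c001),(nat_lit 0xa4a3001),(nat_lit 0xa501001),(nat_lit 0xa5d6001),(nat_lit 0xa5d8001),(nat_lit 0xff93001)],[(nat_lit 0xc677001),(nat_lit 0xcb83001),(nat_lit 0xaa3d001),(nat_lit 0xa525001),(nat_lit 0xac0b001),(nat_lit 0xc67a001),(nat_lit 0xa4a5001)],[(nat_lit 0x1db3312b4b002),(nat_lit 0x1db51001),(nat_lit 0x12b4c001),(nat_lit 0x9bb5413598002),(nat_lit 0x9bb9012b4e002),(nat_lit 0x1db2912b4f002),(nat_lit 0x65c2001)],[(nat_lit 0x663c001),(nat_lit 0x1db28001),(nat_lit 0x20c64136ab002),(nat_lit 0x1db290663b002),(nat_lit 0x9e3b71eaa5002),(nat_lit 0x9bb541359a002),(nat_lit 0x1db2b001)],[(nat_lit 0x9a06031711002),(nat_lit 0x9bb9131712002),(nat_lit 0x9ba8031713002),(nat_lit 0x9b3ce31714002),(nat_lit 0x9bb9231715002),(nat_lit 0x9b3d031716002),(nat_lit 0xa4a8001)],[(nat_lit 0x769f001),(nat_lit 0x2793001),(nat_lit 0x27b2001),(nat_lit 0x2794001),(nat_lit 0x27ce001),(nat_lit 0x2795001),(nat_lit 0x78cf001)],[(nat_lit 0x21ff001),(nat_lit 0x27cf001),(nat_lit 0x21ee001),(nat_lit 0x27f6001),(nat_lit 0x21ed001),(nat_lit 0x60cd001),(nat_lit 0x6389001)],[(nat_lit 0x3ef6001),(nat_lit 0x3f62001),(nat_lit 0x3f2d001),(nat_lit 0x3f81001),(nat_lit 0x3ef5001),(nat_lit 0x3f83001),(nat_lit 0x107cf001)],[(nat_lit 0x3f82001),(nat_lit 0x1858001),(nat_lit 0x4135001),(nat_lit 0x1857001),(nat_lit 0x3ebc001),(nat_lit 0x3113001),(nat_lit 0x4136001)],[(nat_lit 0x3f84001),(nat_lit 0x185a001),(nat_lit 0x18d6001),(nat_lit 0x3111001),(nat_lit 0x1907001),(nat_lit 0x1859001),(nat_lit 0x413d001)],[(nat_lit 0x41ec110827002),(nat_lit 0x10828001),(nat_lit 0x10829001),(nat_lit 0x1082a001),(nat_lit 0x1082b001),(nat_lit 0x41ecb1082c002),(nat_lit 0x3f2b001)],[(nat_lit 0x3196001),(nat_lit 0xa8de001),(nat_lit 0x3197001),(nat_lit 0x3195001),(nat_lit 0x410a001),(nat_lit 0x3198001),(nat_lit 0xa990001)],[(nat_lit 0x21c4001),(nat_lit 0x3ebb001),(nat_lit 0x410b001),(nat_lit 0x21c3001),(nat_lit 0x21c5001),(nat_lit 0x6291001),(nat_lit 0x6294001)],[(nat_lit 0x18af001),(nat_lit 0x3112001),(nat_lit 0x312b001),(nat_lit 0x185c001),(nat_lit 0x4141001),(nat_lit 0x185b001),(nat_lit 0x4142001)],[(nat_lit 0xc1ec001),(nat_lit 0xf466001),(nat_lit 0xa794001),(nat_lit 0xa524001),(nat_lit 0xc1560a798002),(nat_lit 0xc1f8001),(nat_lit 0x4109001)],[(nat_lit 0x1824001),(nat_lit 0x1906001),(nat_lit 0x14db001),(nat_lit 0x1915001),(nat_lit 0x14da001),(nat_lit 0x14dc001),(nat_lit 0x3ec3001)],[(nat_lit 0xf4250a6e1002),(nat_lit 0xf1230a6e2002),(nat_lit 0xb51c0a6e3002),(nat_lit 0xeb350a6e4002),(nat_lit 0xb51d0a6e5002),(nat_lit 0xebda0a6e6002),(nat_lit 0x3110001)],[(nat_lit 0xeb65031d0002),(nat_lit 0xeb770aae7002),(nat_lit 0xa9ea0a97f002),(nat_lit 0xeb630a982002),(nat_lit 0xa9ec001),(nat_lit 0xeb74031cf002),(nat_lit 0xa9ee001)],[(nat_lit 0x4185001),(nat_lit 0x418b001),(nat_lit 0xae29001),(nat_lit 0x412e001),(nat_lit 0xa50f001),(nat_lit 0x4194001),(nat_lit 0xa7d8001)],[(nat_lit 0x4187001),(nat_lit 0x418d001),(nat_lit 0x4191001),(nat_lit 0x9f9cf100d9002),(nat_lit 0x412f001),(nat_lit 0xae43001),(nat_lit 0x11342001)],[(nat_lit 0xa2a9001),(nat_lit 0xf3700308b002),(nat_lit 0xa2ab001),(nat_lit 0xf3a70a24c002),(nat_lit 0xf3a80a2ad002),(nat_lit 0x308a001),(nat_lit 0xa2ae001)],[(nat_lit 0xf3750a131002),(nat_lit 0xf3a70a24b002),(nat_lit 0xa2ba001),(nat_lit 0xf37003091002),(nat_lit 0xa2bc001),(nat_lit 0x3090001),(nat_lit 0xf3aa0a2bd002)],[(nat_lit 0xf3760e7af002),(nat_lit 0xe7b0001),(nat_lit 0x435d001),(nat_lit 0x9b3cd11e6f002),(nat_lit 0xe79c0435c002),(nat_lit 0xf3ab0e7b1002),(nat_lit 0x11e70001)],[(nat_lit 0xa247001),(nat_lit 0xa2e9001),(nat_lit 0xa38c001),(nat_lit 0xa29b001),(nat_lit 0xa2a1001),(nat_lit 0xa2aa001),(nat_lit 0x30c6b001)],[(nat_lit 0xa38d001),(nat_lit 0xa2ea001),(nat_lit 0xa248001),(nat_lit 0x30c6f001),(nat_lit 0xa2a3001),(nat_lit 0xa2ac001),(nat_lit 0x30c71001)],[(nat_lit 0xa29a001),(nat_lit 0x3087001),(nat_lit 0x20c080a29c002),(nat_lit 0x3086001),(nat_lit 0xa29d001),(nat_lit 0xf3a70a24a002),(nat_lit 0xa29f001)],[(nat_lit 0xa2a0001),(nat_lit 0x3089001),(nat_lit 0xa2a2001),(nat_lit 0xa2a4001),(nat_lit 0x3088001),(nat_lit 0xa2a6001),(nat_lit 0xa2a8001)],[(nat_lit 0x94dc230c72002),(nat_lit 0x30c73001),(nat_lit 0x30c74001),(nat_lit 0x94e2430c75002),(nat_lit 0x30c76001),(nat_lit 0x94dce30c77002),(nat_lit 0xa249001)],[(nat_lit 0xf521001),(nat_lit 0xf3a30435b002),(nat_lit 0xf3a4001),(nat_lit 0xf3a10e7ac002),(nat_lit 0xf3a50e7ad002),(nat_lit 0x435a001),(nat_lit 0x10988001)],[(nat_lit 0xf37a0e79f002),(nat_lit 0xf3a10e7a0002),(nat_lit 0xf3ae0ecab002),(nat_lit 0xf3a30435f002),(nat_lit 0x11e71001),(nat_lit 0x435e001),(nat_lit 0xf3af001)],[(nat_lit 0xf37d0a12c002),(nat_lit 0xa2af001),(nat_lit 0x308d001),(nat_lit 0xa2b1001),(nat_lit 0x308c001),(nat_lit 0xa2b2001),(nat_lit 0x9f9ab0a2b4002)],[(nat_lit 0xa28e001),(nat_lit 0x20b050d9f9002),(nat_lit 0xa250001),(nat_lit 0xd9fa0a4ff002),(nat_lit 0xa39c001),(nat_lit 0xa2bb001),(nat_lit 0xc696001)],[(nat_lit 0xa290001),(nat_lit 0xa29e001),(nat_lit 0xa39d001),(nat_lit 0xa2ec001),(nat_lit 0xa251001),(nat_lit 0x9cffc30c7c002),(nat_lit 0x30c7f001)],[(nat_lit 0xf3c20c43c002),(nat_lit 0xcc06001),(nat_lit 0xc43d001),(nat_lit 0xf5b40aa01002),(nat_lit 0xc43e0c3ea002),(nat_lit 0xaa02001),(nat_lit 0xa252001)],[(nat_lit 0xa293001),(nat_lit 0xa2a5001),(nat_lit 0x30c80001),(nat_lit 0xa253001),(nat_lit 0xa2ed001),(nat_lit 0xa3a4001),(nat_lit 0x30d1d30c81002)],[(nat_lit 0xa295001),(nat_lit 0xa2a7001),(nat_lit 0xa2b3001),(nat_lit 0xa3a5001),(nat_lit 0xa2ee001),(nat_lit 0xa254001),(nat_lit 0x30c82001)],[(nat_lit 0x917c930c87002),(nat_lit 0x30c88001),(nat_lit 0x9fd9830c89002),(nat_lit 0x30c8a001),(nat_lit 0xa29aa30c8b002),(nat_lit 0x9182d30c8c002),(nat_lit 0xa255001)],[(nat_lit 0xa189001),(nat_lit 0xf5e70a31a002),(nat_lit 0xa376001),(nat_lit 0xa365001),(nat_lit 0xa379001),(nat_lit 0xa188001),(nat_lit 0x30b31001)],[(nat_lit 0xa377001),(nat_lit 0xa31c001),(nat_lit 0xa18d001),(nat_lit 0x30b34001),(nat_lit 0xa37b001),(nat_lit 0xa18c001),(nat_lit 0x30b37001)],[(nat_lit 0x9ef2f2b44b002),(nat_lit 0x9c26708e1f002),(nat_lit 0x9ef342b913002),(nat_lit 0x9c26627171002),(nat_lit 0x8e1e001),(nat_lit 0x9ef352b916002),(nat_lit 0x2bc38001)],[(nat_lit 0x9c264272d3002),(nat_lit 0x9a8420803e002),(nat_lit 0x9c26523eec002),(nat_lit 0x803d001),(nat_lit 0x9c26627170002),(nat_lit 0x9ae1523413002),(nat_lit 0x22de7001)],[(nat_lit 0xb760b30c44002),(nat_lit 0x30c45001),(nat_lit 0x30c46001),(nat_lit 0x30c47001),(nat_lit 0x30c48001),(nat_lit 0xb75f930c49002),(nat_lit 0xa23a001)],[(nat_lit 0x14396001),(nat_lit 0x9d8251d0f1002),(nat_lit 0x9c26708e23002),(nat_lit 0x9d81c2bc3c002),(nat_lit 0x140c208e22002),(nat_lit 0xa37322b917002),(nat_lit 0x9d8282bc3d002)],[(nat_lit 0xf5ba0f5c6002),(nat_lit 0xfc22001),(nat_lit 0xf5c7001),(nat_lit 0xf5c8001),(nat_lit 0xf5c9001),(nat_lit 0xf5ca001),(nat_lit 0xa23e001)],[(nat_lit 0x1406c12832002),(nat_lit 0x9ae1523412002),(nat_lit 0x20a9212831002),(nat_lit 0x1406908048002),(nat_lit 0x9ae18276a6002),(nat_lit 0x9a84208047002),(nat_lit 0x146d0001)],[(nat_lit 0x99d21347a2002),(nat_lit 0x9a83b347a3002),(nat_lit 0x9c262347a4002),(nat_lit 0x9a184347a5002),(nat_lit 0x9c261347a6002),(nat_lit 0x9ba7c347a7002),(nat_lit 0xb47d001)],[(nat_lit 0xa183001),(nat_lit 0x30a59001),(nat_lit 0xa182001),(nat_lit 0x30b21001),(nat_lit 0xa36c001),(nat_lit 0xa378001),(nat_lit 0x30b24001)],[(nat_lit 0xa185001),(nat_lit 0xf5e80a311002),(nat_lit 0xa35f001),(nat_lit 0xa184001),(nat_lit 0xa361001),(nat_lit 0xa363001),(nat_lit 0x30b25001)],[(nat_lit 0xa187001),(nat_lit 0xf62c0a314002),(nat_lit 0xa36a001),(nat_lit 0xa36d001),(nat_lit 0xa186001),(nat_lit 0xa36f001),(nat_lit 0x30b2a001)],[(nat_lit 0xc4f168e318002),(nat_lit 0x98a018e319002),(nat_lit 0xb76698e31a002),(nat_lit 0x989f98e31b002),(nat_lit 0xb760a8e31c002),(nat_lit 0xc466f8e31d002),(nat_lit 0x30a56001)],[(nat_lit 0xf651001),(nat_lit 0xa13b001),(nat_lit 0xf5fd0a13c002),(nat_lit 0x30ae3001),(nat_lit 0xa318001),(nat_lit 0xa31e001),(nat_lit 0x30ae5001)],[(nat_lit 0x30b22001),(nat_lit 0x30ae4001),(nat_lit 0x310b8001),(nat_lit 0x30a61001),(nat_lit 0xcda098e323002),(nat_lit 0x30b36001),(nat_lit 0x8e324001)],[(nat_lit 0xa36b001),(nat_lit 0xa316001),(nat_lit 0xa18b001),(nat_lit 0x30b32001),(nat_lit 0xa18a001),(nat_lit 0xa371001),(nat_lit 0x30b33001)],[(nat_lit 0xcbfcf8e325002),(nat_lit 0xc3dd28e326002),(nat_lit 0x9890f8e327002),(nat_lit 0x9892f8e328002),(nat_lit 0xc3de08e329002),(nat_lit 0xc9a718e32a002),(nat_lit 0x30a62001)],[(nat_lit 0xa360001),(nat_lit 0xf597001),(nat_lit 0xa237001),(nat_lit 0xf599001),(nat_lit 0xa366001),(nat_lit 0xa368001),(nat_lit 0x30c34001)],[(nat_lit 0xa362001),(nat_lit 0xa056c0a19d002),(nat_lit 0xa367001),(nat_lit 0xa307001),(nat_lit 0xa19c001),(nat_lit 0x9cd5430b42002),(nat_lit 0xc1f0630b43002)],[(nat_lit 0xcaf9f30c38002),(nat_lit 0x30c39001),(nat_lit 0x30c3a001),(nat_lit 0x30c3b001),(nat_lit 0x30c3c001),(nat_lit 0xcafae30c3d002),(nat_lit 0xa238001)],[(nat_lit 0xa36e001),(nat_lit 0xa1a7001),(nat_lit 0x30b4c001),(nat_lit 0xa1a6001),(nat_lit 0xa309001),(nat_lit 0xa373001),(nat_lit 0x30b4d001)],[(nat_lit 0xa370001),(nat_lit 0xa1a9001),(nat_lit 0xa372001),(nat_lit 0xa375001),(nat_lit 0xa30a001),(nat_lit 0xa1a8001),(nat_lit 0x30b4e001)],[(nat_lit 0xb76a630c3e002),(nat_lit 0x30c3f001),(nat_lit 0xb600430c40002),(nat_lit 0x30c41001),(nat_lit 0x30c42001),(nat_lit 0xb767530c43002),(nat_lit 0xa239001)],[(nat_lit 0x8e336001),(nat_lit 0x30a68001),(nat_lit 0xc44648e337002),(nat_lit 0x3123f001),(nat_lit 0x31241001),(nat_lit 0xb761831243002),(nat_lit 0x8e338001)],[(nat_lit 0x31239001),(nat_lit 0x8e33a001),(nat_lit 0x30a69001),(nat_lit 0xb75d88e33b002),(nat_lit 0x31245001),(nat_lit 0xb75d731247002),(nat_lit 0x94be48e33c002)],[(nat_lit 0xb75cc3123b002),(nat_lit 0x31240001),(nat_lit 0xb75f88e33d002),(nat_lit 0x30a6a001),(nat_lit 0xb75fa8e33e002),(nat_lit 0xb75fb31249002),(nat_lit 0x9894f8e33f002)],[(nat_lit 0x3123d001),(nat_lit 0x31242001),(nat_lit 0x31246001),(nat_lit 0x8e340001),(nat_lit 0x30a6b001),(nat_lit 0xb60098e341002),(nat_lit 0xcf5bb8e342002)],[(nat_lit 0xb36e001),(nat_lit 0xb5db001),(nat_lit 0xb6e4001),(nat_lit 0xb6d5001),(nat_lit 0xb6e7001),(nat_lit 0xb36d001),(nat_lit 0x33f0c001)],[(nat_lit 0xf652001),(nat_lit 0xf5ff0a191002),(nat_lit 0xdd70001),(nat_lit 0xf5fd0a190002),(nat_lit 0xf654001),(nat_lit 0xf5fc0a386002),(nat_lit 0x30b38001)],[(nat_lit 0xf655001),(nat_lit 0xa193001),(nat_lit 0xa317001),(nat_lit 0xa37f001),(nat_lit 0xf5fd0a192002),(nat_lit 0xa381001),(nat_lit 0x30b39001)],[(nat_lit 0x46c533479a002),(nat_lit 0x46c6d3479b002),(nat_lit 0x46c5f3479c002),(nat_lit 0x46c6e3479d002),(nat_lit 0x3479e001),(nat_lit 0x46c5b3479f002),(nat_lit 0xb47a001)],[(nat_lit 0xf65d001),(nat_lit 0xdd6c001),(nat_lit 0xf5ff0a5fd002),(nat_lit 0xa5fe001),(nat_lit 0xf65e001),(nat_lit 0xf65f001),(nat_lit 0xaa3c001)],[(nat_lit 0xb6ef001),(nat_lit 0xb6f1001),(nat_lit 0xb6f3001),(nat_lit 0xbd7a001),(nat_lit 0xb480001),(nat_lit 0xb5ea001),(nat_lit 0x9a8bb1df8d002)],[(nat_lit 0x10661001),(nat_lit 0x2fa1e001),(nat_lit 0x10998001),(nat_lit 0x1065c001),(nat_lit 0x1de95001),(nat_lit 0x10662001),(nat_lit 0xb481001)],[(nat_lit 0xa37e001),(nat_lit 0xa380001),(nat_lit 0x30c4a001),(nat_lit 0xa23b001),(nat_lit 0xf660001),(nat_lit 0xa383001),(nat_lit 0x30c4f001)],[(nat_lit 0xa359001),(nat_lit 0xa382001),(nat_lit 0xa1ab001),(nat_lit 0xa384001),(nat_lit 0x9ab3a0a30d002),(nat_lit 0xa1aa001),(nat_lit 0x949a530b4f002)],[(nat_lit 0x9325530c53002),(nat_lit 0x949bf30c54002),(nat_lit 0xa63e430c55002),(nat_lit 0x949c830c56002),(nat_lit 0xa19c730c57002),(nat_lit 0x949ba30c58002),(nat_lit 0xa23c001)],[(nat_lit 0xa370e2742b002),(nat_lit 0x7fd7001),(nat_lit 0xa37122742f002),(nat_lit 0xa371727446002),(nat_lit 0x7fd6001),(nat_lit 0xa371827447002),(nat_lit 0x27659001)],[(nat_lit 0xf851001),(nat_lit 0xf4970f25f002),(nat_lit 0xda0c001),(nat_lit 0xa056e0da0d002),(nat_lit 0xda0e001),(nat_lit 0xf526001),(nat_lit 0x4393001)],[(nat_lit 0xa056a07ead002),(nat_lit 0x7eae001),(nat_lit 0x7eaf001),(nat_lit 0x7eb0001),(nat_lit 0x7eb1001),(nat_lit 0xa1f0207eb2002),(nat_lit 0x28c3001)],[(nat_lit 0x1099d001),(nat_lit 0x12fe7001),(nat_lit 0x1099c001),(nat_lit 0x10bf6001),(nat_lit 0x20ddf12565002),(nat_lit 0x1099e001),(nat_lit 0xa056e1099b002)],[(nat_lit 0xf5f60a303002),(nat_lit 0xa308001),(nat_lit 0xa371e30ae9002),(nat_lit 0xa056c0a13d002),(nat_lit 0xa13e001),(nat_lit 0x9cd4a30aec002),(nat_lit 0x30aee001)],[(nat_lit 0xa1b1c270ae002),(nat_lit 0xa371d27437002),(nat_lit 0xa1f0207fdd002),(nat_lit 0xa371f27439002),(nat_lit 0xa37202744a002),(nat_lit 0x7fdc001),(nat_lit 0xa37212765b002)],[(nat_lit 0xf935001),(nat_lit 0xf936001),(nat_lit 0xfdd7001),(nat_lit 0xf937001),(nat_lit 0xf938001),(nat_lit 0xfc24001),(nat_lit 0xaf9b001)],[(nat_lit 0x6f8d001),(nat_lit 0xc41e001),(nat_lit 0xc40c0a62f002),(nat_lit 0xcb85001),(nat_lit 0xc41f06f8c002),(nat_lit 0x809f001),(nat_lit 0xa795001)],[(nat_lit 0xc40e0c394002),(nat_lit 0xc420001),(nat_lit 0x36e6001),(nat_lit 0xc40c0a5ff002),(nat_lit 0xc422036e5002),(nat_lit 0xaa02001),(nat_lit 0xf3870cb86002)],[(nat_lit 0xc40f06dde002),(nat_lit 0xc80f001),(nat_lit 0xc41f06d3f002),(nat_lit 0xc42406d40002),(nat_lit 0xc40c0a62e002),(nat_lit 0x6df5001),(nat_lit 0x13319001)],[(nat_lit 0x92d3a326fa002),(nat_lit 0x326fb001),(nat_lit 0xa4182326fc002),(nat_lit 0x326fd001),(nat_lit 0xa5e6f326fe002),(nat_lit 0xa139d326ff002),(nat_lit 0xa98e001)],[(nat_lit 0xa35c001),(nat_lit 0xa374001),(nat_lit 0x30b50001),(nat_lit 0xa1ad001),(nat_lit 0x9ae1930b52002),(nat_lit 0xa1ac001),(nat_lit 0x9ed0730b53002)],[(nat_lit 0xa413001),(nat_lit 0xa43e001),(nat_lit 0xa2b3001),(nat_lit 0xa440001),(nat_lit 0x9e4f20a396002),(nat_lit 0xa2b2001),(nat_lit 0xa111930d20002)],[(nat_lit 0x1ca9c001),(nat_lit 0x2686a001),(nat_lit 0xa12042686b002),(nat_lit 0x9f3335efb7002),(nat_lit 0x268621ca9b002),(nat_lit 0xa41e25efb8002),(nat_lit 0xa2b845efb9002)],[(nat_lit 0xa55c48e35c002),(nat_lit 0x30a7c001),(nat_lit 0xa55c58e35d002),(nat_lit 0x31256001),(nat_lit 0x31258001),(nat_lit 0xa2b833125a002),(nat_lit 0xc74998e35e002)],[(nat_lit 0x9e3b93124f002),(nat_lit 0xbea5f8e362002),(nat_lit 0x30a7d001),(nat_lit 0x9ff2b8e363002),(nat_lit 0xa12783125c002),(nat_lit 0x930d83125e002),(nat_lit 0x913cf8e364002)],[(nat_lit 0x930e331251002),(nat_lit 0x31257001),(nat_lit 0x9ef778e365002),(nat_lit 0x30a7e001),(nat_lit 0x8fd298e366002),(nat_lit 0xa298e31260002),(nat_lit 0x9ef798e367002)],[(nat_lit 0x930c431253002),(nat_lit 0x31259001),(nat_lit 0xa12783125d002),(nat_lit 0x8fd2e8e368002),(nat_lit 0x30a7f001),(nat_lit 0x9f6ea8e369002),(nat_lit 0x9f9d88e36a002)],[(nat_lit 0x1dab001),(nat_lit 0x222b001),(nat_lit 0x22df001),(nat_lit 0x1daa001),(nat_lit 0x22e2001),(nat_lit 0x1dac001),(nat_lit 0x1aa93053b6002)],[(nat_lit 0x22e0001),(nat_lit 0x27b3001),(nat_lit 0x2228001),(nat_lit 0x53db001),(nat_lit 0x22e4001),(nat_lit 0x2227001),(nat_lit 0x64a9001)],[(nat_lit 0x22e3001),(nat_lit 0x225f001),(nat_lit 0x22e5001),(nat_lit 0x22ad001),(nat_lit 0x225e001),(nat_lit 0x6174001),(nat_lit 0x655c001)],[(nat_lit 0x18b40065ea002),(nat_lit 0x1aa30065eb002),(nat_lit 0x1aa2b065ec002),(nat_lit 0x18b52065ed002),(nat_lit 0x65ee001),(nat_lit 0x1aa97065ef002),(nat_lit 0x22de001)],[(nat_lit 0x7694001),(nat_lit 0x2772001),(nat_lit 0x27b4001),(nat_lit 0x2771001),(nat_lit 0x27c1001),(nat_lit 0x2795001),(nat_lit 0x77e0001)],[(nat_lit 0x22d2001),(nat_lit 0x27c2001),(nat_lit 0x2261001),(nat_lit 0x27bc001),(nat_lit 0x2260001),(nat_lit 0x6178001),(nat_lit 0x655d001)],[(nat_lit 0x22a8001),(nat_lit 0x22ae001),(nat_lit 0x2c50001),(nat_lit 0x224a001),(nat_lit 0x224b001),(nat_lit 0x617d001),(nat_lit 0x64d3001)],[(nat_lit 0x6170001),(nat_lit 0x6173001),(nat_lit 0x6179001),(nat_lit 0x617c001),(nat_lit 0x6072001),(nat_lit 0x6073001),(nat_lit 0x9c72d1d172002)],[(nat_lit 0x4a49c1e352002),(nat_lit 0x1e353001),(nat_lit 0x460651e354002),(nat_lit 0x1e355001),(nat_lit 0x1e356001),(nat_lit 0x9c8471e357002),(nat_lit 0x64b0001)],[(nat_lit 0x3ef4001),(nat_lit 0x3f6c001),(nat_lit 0x3f7a001),(nat_lit 0x3ef3001),(nat_lit 0x3f7c001),(nat_lit 0x3f7e001),(nat_lit 0x107ce001)],[(nat_lit 0x3ef8001),(nat_lit 0x3f65001),(nat_lit 0x3f79001),(nat_lit 0x3f80001),(nat_lit 0x3f8a001),(nat_lit 0x3ef7001),(nat_lit 0x2525b107d0002)],[(nat_lit 0x2772e248e0002),(nat_lit 0x248e1001),(nat_lit 0x276d625bc4002),(nat_lit 0x248e2001),(nat_lit 0x276db001),(nat_lit 0x276dc24b25002),(nat_lit 0x1061c001)],[(nat_lit 0x3f7b001),(nat_lit 0x2259001),(nat_lit 0x225a001),(nat_lit 0x6476001),(nat_lit 0x3f28001),(nat_lit 0x225b001),(nat_lit 0x64e0001)],[(nat_lit 0x3f7d001),(nat_lit 0x21fd001),(nat_lit 0x3f2a001),(nat_lit 0x3eba001),(nat_lit 0x21fc001),(nat_lit 0x62ab001),(nat_lit 0x63a7001)],[(nat_lit 0x2b5a810818002),(nat_lit 0x10819001),(nat_lit 0x1081a001),(nat_lit 0x1081b001),(nat_lit 0x1081c001),(nat_lit 0x2b5ad1081d002),(nat_lit 0x3f27001)],[(nat_lit 0x3f8b001),(nat_lit 0x1861001),(nat_lit 0x18dc001),(nat_lit 0x1912001),(nat_lit 0x1860001),(nat_lit 0x1905001),(nat_lit 0x414c001)],[(nat_lit 0x276ca10834002),(nat_lit 0x276d010835002),(nat_lit 0x276d110836002),(nat_lit 0x276d210837002),(nat_lit 0x10838001),(nat_lit 0x276d310839002),(nat_lit 0x3f30001)],[(nat_lit 0x276f6001),(nat_lit 0x1061e001),(nat_lit 0x25b62001),(nat_lit 0x10757001),(nat_lit 0x10759001),(nat_lit 0x1075b001),(nat_lit 0x25b2f001)],[(nat_lit 0x10750001),(nat_lit 0x2620825a8d002),(nat_lit 0x1061f001),(nat_lit 0x276fc25450002),(nat_lit 0x1075d001),(nat_lit 0x1075f001),(nat_lit 0x25453001)],[(nat_lit 0x276da10752002),(nat_lit 0x10758001),(nat_lit 0x276ff24e73002),(nat_lit 0x10620001),(nat_lit 0x27701001),(nat_lit 0x10761001),(nat_lit 0x24e87001)],[(nat_lit 0x10754001),(nat_lit 0x1075a001),(nat_lit 0x1075e001),(nat_lit 0x3f157001),(nat_lit 0x10621001),(nat_lit 0xc547d3f158002),(nat_lit 0xc389b3f15a002)],[(nat_lit 0x6169001),(nat_lit 0x62ac001),(nat_lit 0x616a001),(nat_lit 0x6293001),(nat_lit 0x6168001),(nat_lit 0x616b001),(nat_lit 0xa0a401d56a002)],[(nat_lit 0x525311d9df002),(nat_lit 0x9f44a1d9e0002),(nat_lit 0x9e4751d9e1002),(nat_lit 0xa18a21d9e2002),(nat_lit 0x9e4771d9e3002),(nat_lit 0xa18a01d9e4002),(nat_lit 0x624f001)],[(nat_lit 0x1911001),(nat_lit 0x1913001),(nat_lit 0x43b8001),(nat_lit 0x1903001),(nat_lit 0x2191001),(nat_lit 0x1914001),(nat_lit 0x43b9001)],[(nat_lit 0x10042043ba002),(nat_lit 0x43bb001),(nat_lit 0x1003d043bc002),(nat_lit 0x43bd001),(nat_lit 0x43be001),(nat_lit 0x10044043bf002),(nat_lit 0x1904001)],[(nat_lit 0x6e8e001),(nat_lit 0xa0ef11d376002),(nat_lit 0x6e89001),(nat_lit 0x6e88001),(nat_lit 0x120b0001),(nat_lit 0x6e8f001),(nat_lit 0x6e8d001)],[(nat_lit 0x11e96001),(nat_lit 0x4374001),(nat_lit 0x11e97001),(nat_lit 0x43e5001),(nat_lit 0x43e7001),(nat_lit 0x43e9001),(nat_lit 0x11e98001)],[(nat_lit 0xfffc0ffea002),(nat_lit 0x10001001),(nat_lit 0x103bc10002002),(nat_lit 0x10003001),(nat_lit 0x103bd001),(nat_lit 0x10004001),(nat_lit 0x40ac001)],[(nat_lit 0x11205043e3002),(nat_lit 0x43e8001),(nat_lit 0x43ec001),(nat_lit 0x11e9b001),(nat_lit 0x4377001),(nat_lit 0x11e9c001),(nat_lit 0x11e9d001)],[(nat_lit 0x2763001),(nat_lit 0x2762001),(nat_lit 0x2766001),(nat_lit 0x2764001),(nat_lit 0x2f14001),(nat_lit 0x2765001),(nat_lit 0x77d0001)],[(nat_lit 0x2f15001),(nat_lit 0x18f2001),(nat_lit 0x18f3001),(nat_lit 0x437a001),(nat_lit 0x18f1001),(nat_lit 0x18f4001),(nat_lit 0x4395001)],[(nat_lit 0x18a7a09b24002),(nat_lit 0x18aa109b25002),(nat_lit 0x18aa209b26002),(nat_lit 0x173d909b27002),(nat_lit 0x9b28001),(nat_lit 0x18aa009b29002),(nat_lit 0x2ed2001)],[(nat_lit 0x1d45001),(nat_lit 0x437b001),(nat_lit 0x517d001),(nat_lit 0x1d46001),(nat_lit 0x1d44001),(nat_lit 0x1d47001),(nat_lit 0x52d0001)],[(nat_lit 0x6e8c001),(nat_lit 0x11e9e001),(nat_lit 0x6e89001),(nat_lit 0x6d57001),(nat_lit 0xa155211d45002),(nat_lit 0x6d5b001),(nat_lit 0x4379001)],[(nat_lit 0x2558e001),(nat_lit 0x8d6d001),(nat_lit 0x23401001),(nat_lit 0x8eb3001),(nat_lit 0x8eb5001),(nat_lit 0x8eb7001),(nat_lit 0x21efc001)],[(nat_lit 0x8eae001),(nat_lit 0x1796a001),(nat_lit 0x8d6e001),(nat_lit 0x178e7001),(nat_lit 0x8eb9001),(nat_lit 0x8ebb001),(nat_lit 0x1baef001)],[(nat_lit 0x8eb2001),(nat_lit 0x8eb6001),(nat_lit 0x8eba001),(nat_lit 0x28812001),(nat_lit 0x8d70001),(nat_lit 0xaa00c2bb25002),(nat_lit 0x2bb26001)],[(nat_lit 0x1899001),(nat_lit 0x4042001),(nat_lit 0x1898001),(nat_lit 0x3f5d001),(nat_lit 0x2b82001),(nat_lit 0x189a001),(nat_lit 0x4269001)],[(nat_lit 0x1881001),(nat_lit 0x18a5001),(nat_lit 0x1882001),(nat_lit 0x1883001),(nat_lit 0x2b7c001),(nat_lit 0x1880001),(nat_lit 0x41e7001)],[(nat_lit 0x189c001),(nat_lit 0x1a95001),(nat_lit 0x2b80001),(nat_lit 0x2b83001),(nat_lit 0x189b001),(nat_lit 0x2b85001),(nat_lit 0x426f001)],[(nat_lit 0x3f90001),(nat_lit 0x3fc5001),(nat_lit 0x3f91001),(nat_lit 0x3f92001),(nat_lit 0x10b64001),(nat_lit 0x3f8f001),(nat_lit 0x10b7f001)],[(nat_lit 0x2b81001),(nat_lit 0x1a22001),(nat_lit 0x189e001),(nat_lit 0x4270001),(nat_lit 0x189d001),(nat_lit 0x2b88001),(nat_lit 0x4271001)],[(nat_lit 0x190e810be7002),(nat_lit 0x190e910be8002),(nat_lit 0x190ea10be9002),(nat_lit 0x190ab10bea002),(nat_lit 0x10beb001),(nat_lit 0x1967210bec002),(nat_lit 0x3fea001)],[(nat_lit 0x2b7d001),(nat_lit 0x18c2001),(nat_lit 0x18c3001),(nat_lit 0x1ac0001),(nat_lit 0x18c1001),(nat_lit 0x2c1f001),(nat_lit 0x431b001)],[(nat_lit 0x180b208cd5002),(nat_lit 0x180b708cd6002),(nat_lit 0x1809608cd7002),(nat_lit 0x180b808cd8002),(nat_lit 0x8cd9001),(nat_lit 0x180ba08cda002),(nat_lit 0x2b7b001)],[(nat_lit 0x2b84001),(nat_lit 0x1a9a001),(nat_lit 0x4875001),(nat_lit 0x1a99001),(nat_lit 0x1ac2001),(nat_lit 0x2b8c001),(nat_lit 0x4876001)],[(nat_lit 0x2b86001),(nat_lit 0x181d001),(nat_lit 0x2b8a001),(nat_lit 0x2b8e001),(nat_lit 0x181c001),(nat_lit 0x181e001),(nat_lit 0x408f001)],[(nat_lit 0xa602e08cdc002),(nat_lit 0x8cdd001),(nat_lit 0x8cde001),(nat_lit 0x8cdf001),(nat_lit 0x8ce0001),(nat_lit 0xa5fee08ce1002),(nat_lit 0x2b7f001)],[(nat_lit 0x10aa8001),(nat_lit 0x190cf03fa0002),(nat_lit 0x10aac001),(nat_lit 0x1915810864002),(nat_lit 0x1915a10ad7002),(nat_lit 0x3f9f001),(nat_lit 0x29e9410b85002)],[(nat_lit 0x190c31085a002),(nat_lit 0x10aba001),(nat_lit 0x190cf03fa4002),(nat_lit 0x10abe001),(nat_lit 0x190d110ad8002),(nat_lit 0x3fa3001),(nat_lit 0x10b88001)],[(nat_lit 0x1746d1085d002),(nat_lit 0x1915810863002),(nat_lit 0x10ac8001),(nat_lit 0x190cf03fa6002),(nat_lit 0x10b89001),(nat_lit 0x3fa5001),(nat_lit 0x1915f10b8a002)],[(nat_lit 0x42a9001),(nat_lit 0x42af001),(nat_lit 0x42b3001),(nat_lit 0x11908001),(nat_lit 0x4267001),(nat_lit 0x1916011909002),(nat_lit 0x1190a001)],[(nat_lit 0x1dd7001),(nat_lit 0x18c5001),(nat_lit 0x18c6001),(nat_lit 0x18c7001),(nat_lit 0x18c4001),(nat_lit 0x305d001),(nat_lit 0x431c001)],[(nat_lit 0x1abe001),(nat_lit 0x1ac1001),(nat_lit 0x25e3001),(nat_lit 0x18e1001),(nat_lit 0x190a001),(nat_lit 0x25a7001),(nat_lit 0x18e0001)],[(nat_lit 0x2c19001),(nat_lit 0x2c1e001),(nat_lit 0x305c001),(nat_lit 0x2bc3001),(nat_lit 0x2bfd001),(nat_lit 0x2bc4001),(nat_lit 0x6ffa001)],[(nat_lit 0x6d6e001),(nat_lit 0x110a1001),(nat_lit 0x6d6a001),(nat_lit 0x6d6b001),(nat_lit 0x11949001),(nat_lit 0x6ffe001),(nat_lit 0x427e001)],[(nat_lit 0x2f57001),(nat_lit 0x2f5c001),(nat_lit 0x2f20001),(nat_lit 0x9cd1001),(nat_lit 0x2f1f001),(nat_lit 0x43c6001),(nat_lit 0x5304a09cd2002)],[(nat_lit 0x2b79001),(nat_lit 0x2b8d001),(nat_lit 0x43c7001),(nat_lit 0x1a9c001),(nat_lit 0x2c26001),(nat_lit 0x1a9b001),(nat_lit 0x4877001)],[(nat_lit 0x5191d11f47002),(nat_lit 0x11f48001),(nat_lit 0x4b16b11f49002),(nat_lit 0x11f4a001),(nat_lit 0x11f4b001),(nat_lit 0x5192211f4c002),(nat_lit 0x43c5001)],[(nat_lit 0x9ab2f13785002),(nat_lit 0x4863001),(nat_lit 0x4db5113786002),(nat_lit 0x48eb001),(nat_lit 0x9a0f8048ed002),(nat_lit 0x48ef001),(nat_lit 0x13787001)],[(nat_lit 0x48e8001),(nat_lit 0x48ec001),(nat_lit 0x99ac91378e002),(nat_lit 0x4865001),(nat_lit 0x99a161378f002),(nat_lit 0x48f5001),(nat_lit 0x13790001)],[(nat_lit 0x48ea001),(nat_lit 0x9a0f8048ee002),(nat_lit 0x48f2001),(nat_lit 0x99acc13791002),(nat_lit 0x4866001),(nat_lit 0x9b1cf13792002),(nat_lit 0x13793001)],[(nat_lit 0x4035001),(nat_lit 0x3fda001),(nat_lit 0x4034001),(nat_lit 0x403d001),(nat_lit 0x403f001),(nat_lit 0x4041001),(nat_lit 0x10bc3001)],[(nat_lit 0x3f8d001),(nat_lit 0x403e001),(nat_lit 0x3f91001),(nat_lit 0x3f8c001),(nat_lit 0x108f1001),(nat_lit 0x3f8e001),(nat_lit 0x108f3001)],[(nat_lit 0x1886001),(nat_lit 0x4040001),(nat_lit 0x1885001),(nat_lit 0x404c001),(nat_lit 0x1887001),(nat_lit 0x3fde001),(nat_lit 0x41ee001)],[(nat_lit 0x190eb10bc4002),(nat_lit 0x190fd10bc5002),(nat_lit 0x1797210bc6002),(nat_lit 0x190af10bc7002),(nat_lit 0x1910610bc8002),(nat_lit 0x190ae10bc9002),(nat_lit 0x3fdb001)],[(nat_lit 0x187e001),(nat_lit 0x29ac001),(nat_lit 0x187f001),(nat_lit 0x3f35001),(nat_lit 0x187d001),(nat_lit 0x3ff9001),(nat_lit 0x41e6001)],[(nat_lit 0x180f110bca002),(nat_lit 0x2152110bcb002),(nat_lit 0x180b510bcc002),(nat_lit 0x1815010bcd002),(nat_lit 0x180f210bce002),(nat_lit 0x180e910bcf002),(nat_lit 0x3fdc001)],[(nat_lit 0x1889001),(nat_lit 0x2a2b001),(nat_lit 0x40df001),(nat_lit 0x1888001),(nat_lit 0x3f38001),(nat_lit 0x3fe1001),(nat_lit 0x41f6001)],[(nat_lit 0x188b001),(nat_lit 0x2a2e001),(nat_lit 0x3fe0001),(nat_lit 0x3fe3001),(nat_lit 0x2b87001),(nat_lit 0x188a001),(nat_lit 0x41fa001)],[(nat_lit 0xa270d10bd0002),(nat_lit 0x10bd1001),(nat_lit 0xa27ae10bd2002),(nat_lit 0xa270010bd3002),(nat_lit 0xa27f210bd4002),(nat_lit 0xa26ff10bd5002),(nat_lit 0x3fdd001)],[(nat_lit 0x3f94001),(nat_lit 0x190bb10943002),(nat_lit 0x190c103f93002),(nat_lit 0x10aad001),(nat_lit 0x10856001),(nat_lit 0x190c310859002),(nat_lit 0x10b80001)],[(nat_lit 0x3f98001),(nat_lit 0x1913710a9e002),(nat_lit 0x10858001),(nat_lit 0x10aca001),(nat_lit 0x190c103f97002),(nat_lit 0x10acc001),(nat_lit 0xb7bb510b81002)],[(nat_lit 0x1a88001),(nat_lit 0x4036001),(nat_lit 0x1a87001),(nat_lit 0x3fc0001),(nat_lit 0x2f36001),(nat_lit 0x1a89001),(nat_lit 0x4851001)],[(nat_lit 0x3fc1001),(nat_lit 0x3f54001),(nat_lit 0x3f6b001),(nat_lit 0x3f53001),(nat_lit 0x108b8001),(nat_lit 0x3fc3001),(nat_lit 0x108ba001)],[(nat_lit 0x2f35001),(nat_lit 0x1783001),(nat_lit 0x1784001),(nat_lit 0x404e001),(nat_lit 0x1785001),(nat_lit 0x2f6a001),(nat_lit 0x4055001)],[(nat_lit 0x1aa49108bb002),(nat_lit 0x108bc001),(nat_lit 0x108bd001),(nat_lit 0x108be001),(nat_lit 0x108bf001),(nat_lit 0x1aabc108c0002),(nat_lit 0x3f55001)],[(nat_lit 0x3f90001),(nat_lit 0x426b001),(nat_lit 0x3f5e001),(nat_lit 0x3f5d001),(nat_lit 0x108cf001),(nat_lit 0x3f8e001),(nat_lit 0x108d1001)],[(nat_lit 0x108f2001),(nat_lit 0x108b9001),(nat_lit 0x108d0001),(nat_lit 0x10934001),(nat_lit 0x1084d001),(nat_lit 0x3f8c9001),(nat_lit 0x3f8ca001)],[(nat_lit 0x181e81810f002),(nat_lit 0x9b6a317af6002),(nat_lit 0x11a14001),(nat_lit 0x1849a11779002),(nat_lit 0x27b8e001),(nat_lit 0x181ca001),(nat_lit 0x1084e001)],[(nat_lit 0x404d001),(nat_lit 0x404f001),(nat_lit 0x10bdf001),(nat_lit 0x3fe8001),(nat_lit 0x10935001),(nat_lit 0x4050001),(nat_lit 0x10be0001)],[(nat_lit 0x3fdf001),(nat_lit 0x2f6b001),(nat_lit 0x188d001),(nat_lit 0x4051001),(nat_lit 0x2b8b001),(nat_lit 0x188c001),(nat_lit 0x41fb001)],[(nat_lit 0xa533610be1002),(nat_lit 0x10be2001),(nat_lit 0x10be3001),(nat_lit 0x10be4001),(nat_lit 0x10be5001),(nat_lit 0xa3e3110be6002),(nat_lit 0x3fe9001)],[(nat_lit 0x1917611d43002),(nat_lit 0x10850001),(nat_lit 0x1b60a001),(nat_lit 0x10a8e001),(nat_lit 0x10a90001),(nat_lit 0x10a92001),(nat_lit 0x18b07001)],[(nat_lit 0x1918810a88002),(nat_lit 0x197b7001),(nat_lit 0x10851001),(nat_lit 0x1910b10869002),(nat_lit 0x10a94001),(nat_lit 0x10a96001),(nat_lit 0x171c4001)],[(nat_lit 0x10a8a001),(nat_lit 0x10a8f001),(nat_lit 0x1093f001),(nat_lit 0x10852001),(nat_lit 0x297ec001),(nat_lit 0x10a98001),(nat_lit 0x17b0a001)],[(nat_lit 0x10a8d001),(nat_lit 0x10a91001),(nat_lit 0x10a95001),(nat_lit 0x29e55001),(nat_lit 0x10853001),(nat_lit 0x3f8d0001),(nat_lit 0xaf2953f8d3002)],[(nat_lit 0x3f36001),(nat_lit 0x181a001),(nat_lit 0x4089001),(nat_lit 0x1819001),(nat_lit 0x181b001),(nat_lit 0x3f57001),(nat_lit 0x408b001)],[(nat_lit 0x3ffa001),(nat_lit 0x2c60001),(nat_lit 0x2c61001),(nat_lit 0x3f59001),(nat_lit 0x2c62001),(nat_lit 0x2c5f001),(nat_lit 0x8f76001)],[(nat_lit 0x2988510e0f002),(nat_lit 0x10e10001),(nat_lit 0x10e11001),(nat_lit 0x10e12001),(nat_lit 0x10e13001),(nat_lit 0x292d910e14002),(nat_lit 0x3ff8001)],[(nat_lit 0x214a61148f002),(nat_lit 0x41e1001),(nat_lit 0x1718511490002),(nat_lit 0x422d001),(nat_lit 0x422f001),(nat_lit 0x4231001),(nat_lit 0x18ae911491002)],[(nat_lit 0x4226001),(nat_lit 0x180a91167b002),(nat_lit 0x41e2001),(nat_lit 0x180df1167c002),(nat_lit 0x4233001),(nat_lit 0x4235001),(nat_lit 0x1167d001)],[(nat_lit 0x1812104228002),(nat_lit 0x422e001),(nat_lit 0x9f3d61167e002),(nat_lit 0x41e3001),(nat_lit 0xab7d11167f002),(nat_lit 0x4237001),(nat_lit 0x1847011680002)],[(nat_lit 0x422a001),(nat_lit 0x4230001),(nat_lit 0x4234001),(nat_lit 0xaa65911681002),(nat_lit 0x41e4001),(nat_lit 0xaa65a11682002),(nat_lit 0x11683001)],[(nat_lit 0x40e0001),(nat_lit 0x4a41001),(nat_lit 0x4059001),(nat_lit 0x10e6c001),(nat_lit 0x408a001),(nat_lit 0x40e1001),(nat_lit 0x10e6d001)],[(nat_lit 0x3fe2001),(nat_lit 0x188f001),(nat_lit 0x40e2001),(nat_lit 0x1890001),(nat_lit 0x4061001),(nat_lit 0x188e001),(nat_lit 0x4253001)],[(nat_lit 0xa77e610e6e002),(nat_lit 0x10e6f001),(nat_lit 0x10e70001),(nat_lit 0x10e71001),(nat_lit 0xcc5f610e72002),(nat_lit 0xa77ee10e73002),(nat_lit 0x405a001)],[(nat_lit 0xa52f010e74002),(nat_lit 0xa27df10e75002),(nat_lit 0xa270c10e76002),(nat_lit 0xa0e5210e77002),(nat_lit 0x10e78001),(nat_lit 0xa52f810e79002),(nat_lit 0x405b001)],[(nat_lit 0x1169b001),(nat_lit 0x41e9001),(nat_lit 0x1169c001),(nat_lit 0x4241001),(nat_lit 0x4243001),(nat_lit 0x4245001),(nat_lit 0x1169d001)],[(nat_lit 0x423a001),(nat_lit 0x9f44e116a1002),(nat_lit 0x41ea001),(nat_lit 0x9c639116a2002),(nat_lit 0x4247001),(nat_lit 0x4249001),(nat_lit 0x116a3001)],[(nat_lit 0x423c001),(nat_lit 0x4242001),(nat_lit 0x116a4001),(nat_lit 0x41eb001),(nat_lit 0x116a5001),(nat_lit 0x424b001),(nat_lit 0x116a6001)],[(nat_lit 0x423e001),(nat_lit 0x4244001),(nat_lit 0x4248001),(nat_lit 0x116a7001),(nat_lit 0x41ec001),(nat_lit 0x116a8001),(nat_lit 0x116a9001)],[(nat_lit 0x1085f001),(nat_lit 0x1913510937002),(nat_lit 0x10aa1001),(nat_lit 0x10aa3001),(nat_lit 0x10aa5001),(nat_lit 0x10aa7001),(nat_lit 0x2a907001)],[(nat_lit 0x10aa2001),(nat_lit 0x10938001),(nat_lit 0x10860001),(nat_lit 0x2af62001),(nat_lit 0x10aa9001),(nat_lit 0x10aab001),(nat_lit 0x2c42c001)],[(nat_lit 0x10aa4001),(nat_lit 0x3f9c001),(nat_lit 0x10b82001),(nat_lit 0x3f9b001),(nat_lit 0x10ac3001),(nat_lit 0x1915810862002),(nat_lit 0x21f2710b83002)],[(nat_lit 0x10aa6001),(nat_lit 0x3f9e001),(nat_lit 0x10aaa001),(nat_lit 0x10ace001),(nat_lit 0x3f9d001),(nat_lit 0x10ad0001),(nat_lit 0x10b84001)],[(nat_lit 0x18aaf001),(nat_lit 0x18a1a18391002),(nat_lit 0x18a1d056cb002),(nat_lit 0x19078001),(nat_lit 0x18ab0001),(nat_lit 0x56ca001),(nat_lit 0x2a9ee19a94002)],[(nat_lit 0x10944001),(nat_lit 0x10865001),(nat_lit 0x10939001),(nat_lit 0x10ab2001),(nat_lit 0x10ab5001),(nat_lit 0x10ab8001),(nat_lit 0x1a2c81a088002)],[(nat_lit 0x10aae001),(nat_lit 0x10ab4001),(nat_lit 0x1095d001),(nat_lit 0x10866001),(nat_lit 0x27b83001),(nat_lit 0x10abb001),(nat_lit 0x1980e001)],[(nat_lit 0x10857001),(nat_lit 0x10ab7001),(nat_lit 0x3fa2001),(nat_lit 0x27b7410b86002),(nat_lit 0x3fa1001),(nat_lit 0x10ad2001),(nat_lit 0x10b87001)],[(nat_lit 0x190c416d9d002),(nat_lit 0x19892001),(nat_lit 0x16d88001),(nat_lit 0x17afc001),(nat_lit 0xbb0683f8dc002),(nat_lit 0x190d2171f5002),(nat_lit 0x10867001)],[(nat_lit 0x7832001),(nat_lit 0x197f4001),(nat_lit 0x1913907831002),(nat_lit 0x19133179ed002),(nat_lit 0x1915b179ee002),(nat_lit 0x19131179ef002),(nat_lit 0x1915c001)],[(nat_lit 0x7834001),(nat_lit 0x19157179fc002),(nat_lit 0x1915b179fd002),(nat_lit 0x1915d001),(nat_lit 0x1913907833002),(nat_lit 0x25132001),(nat_lit 0x252e2001)],[(nat_lit 0x10acb001),(nat_lit 0x10acf001),(nat_lit 0xaf2503f8df002),(nat_lit 0x1086e001),(nat_lit 0x1093b001),(nat_lit 0x10ad4001),(nat_lit 0x3f8e0001)],[(nat_lit 0x10acd001),(nat_lit 0x10ad1001),(nat_lit 0x10ad3001),(nat_lit 0x10ad5001),(nat_lit 0x1093c001),(nat_lit 0x1086f001),(nat_lit 0xc193f3f8e1002)],[(nat_lit 0xbeb553f8e6002),(nat_lit 0xbeb563f8e7002),(nat_lit 0xbeb573f8e8002),(nat_lit 0xbeb583f8e9002),(nat_lit 0xbeb593f8ea002),(nat_lit 0xbeb5a3f8eb002),(nat_lit 0x10870001)],[(nat_lit 0x1a6f001),(nat_lit 0x1a8f001),(nat_lit 0x1a70001),(nat_lit 0x1a71001),(nat_lit 0x2f30001),(nat_lit 0x1a6e001),(nat_lit 0x47d4001)],[(nat_lit 0x1a8b001),(nat_lit 0x1a8d001),(nat_lit 0x2f34001),(nat_lit 0x2f37001),(nat_lit 0x1a8a001),(nat_lit 0x2f67001),(nat_lit 0x4857001)],[(nat_lit 0x1ab1004761002),(nat_lit 0x17985130d8002),(nat_lit 0x1ab1812e54002),(nat_lit 0x1799412e57002),(nat_lit 0x1ab1913105002),(nat_lit 0x1aaa504760002),(nat_lit 0x12eef001)],[(nat_lit 0x2f31001),(nat_lit 0x1a9e001),(nat_lit 0x1a9f001),(nat_lit 0x1ac3001),(nat_lit 0x1a9d001),(nat_lit 0x20d9a04571002),(nat_lit 0x4878001)],[(nat_lit 0x1a24209ce9002),(nat_lit 0x1a15909cea002),(nat_lit 0x1a1b609ceb002),(nat_lit 0x1a35f09cec002),(nat_lit 0x9ced001),(nat_lit 0x1a37209cee002),(nat_lit 0x2f2f001)],[(nat_lit 0x2f38001),(nat_lit 0x18bc001),(nat_lit 0x430f001),(nat_lit 0x18bb001),(nat_lit 0x1ac5001),(nat_lit 0x2f6e001),(nat_lit 0x4310001)],[(nat_lit 0x2f68001),(nat_lit 0x18a2001),(nat_lit 0x2f6c001),(nat_lit 0x2f70001),(nat_lit 0x1a26001),(nat_lit 0x18a1001),(nat_lit 0x427a001)],[(nat_lit 0xa19ab09cf0002),(nat_lit 0x9cf1001),(nat_lit 0x9cf2001),(nat_lit 0x9cf3001),(nat_lit 0x9cf4001),(nat_lit 0xa146b09cf5002),(nat_lit 0x2f33001)],[(nat_lit 0x130e4001),(nat_lit 0x1ab1004767002),(nat_lit 0x130e8001),(nat_lit 0x1ab0f12e5d002),(nat_lit 0x1ab7d13106002),(nat_lit 0x4766001),(nat_lit 0x13160001)],[(nat_lit 0x1ab1812e53002),(nat_lit 0x130ee001),(nat_lit 0x1ab100476b002),(nat_lit 0x130f2001),(nat_lit 0x1ab7b13107002),(nat_lit 0x476a001),(nat_lit 0x13163001)],[(nat_lit 0x1799412e56002),(nat_lit 0x1ab0f12e5c002),(nat_lit 0x1aa8b12e67002),(nat_lit 0x1ab100476d002),(nat_lit 0x13164001),(nat_lit 0x476c001),(nat_lit 0x1ab1213165002)],[(nat_lit 0x48d6001),(nat_lit 0x48dc001),(nat_lit 0x48e0001),(nat_lit 0x13765001),(nat_lit 0x484f001),(nat_lit 0x1ab8213766002),(nat_lit 0x13767001)],[(nat_lit 0x1aa1001),(nat_lit 0x1aa2001),(nat_lit 0x1aa3001),(nat_lit 0x1aa4001),(nat_lit 0x1aa0001),(nat_lit 0x20d7904572002),(nat_lit 0x4879001)],[(nat_lit 0x1998001),(nat_lit 0x1ac4001),(nat_lit 0x42c7001),(nat_lit 0x1997001),(nat_lit 0x1999001),(nat_lit 0x20d9f0456a002),(nat_lit 0x458d001)],[(nat_lit 0x41c4001),(nat_lit 0x41c5001),(nat_lit 0x44f3001),(nat_lit 0x44ec001),(nat_lit 0x41c3001),(nat_lit 0x20d7704575002),(nat_lit 0x20da11144f002)],[(nat_lit 0x1db7412568002),(nat_lit 0x12569001),(nat_lit 0x12b391256a002),(nat_lit 0x1db591256b002),(nat_lit 0x9c0401256c002),(nat_lit 0x1db421256d002),(nat_lit 0x44ef001)],[(nat_lit 0x42c5001),(nat_lit 0x20e121191f002),(nat_lit 0x4272001),(nat_lit 0x20e1610bfd002),(nat_lit 0x42c6001),(nat_lit 0x42c8001),(nat_lit 0x11920001)],[(nat_lit 0x2a41001),(nat_lit 0x2f6f001),(nat_lit 0x42c9001),(nat_lit 0x18be001),(nat_lit 0x4314001),(nat_lit 0x18bd001),(nat_lit 0x4315001)],[(nat_lit 0x4a37811923002),(nat_lit 0x11924001),(nat_lit 0x11925001),(nat_lit 0x9e77a11926002),(nat_lit 0x11927001),(nat_lit 0x4a3a311928002),(nat_lit 0x4273001)],[(nat_lit 0x11931001),(nat_lit 0x4275001),(nat_lit 0x11932001),(nat_lit 0x42d2001),(nat_lit 0x42d4001),(nat_lit 0x42d6001),(nat_lit 0x11933001)],[(nat_lit 0x42cd001),(nat_lit 0x42d3001),(nat_lit 0x1193a001),(nat_lit 0x4277001),(nat_lit 0x2cf371193b002),(nat_lit 0x42dc001),(nat_lit 0x1193c001)],[(nat_lit 0x42cf001),(nat_lit 0x42d5001),(nat_lit 0x42d9001),(nat_lit 0x1193d001),(nat_lit 0x4278001),(nat_lit 0x1193e001),(nat_lit 0x1193f001)],[(nat_lit 0x300d001),(nat_lit 0x300e001),(nat_lit 0x300c001),(nat_lit 0x3059001),(nat_lit 0x305e001),(nat_lit 0x300f001),(nat_lit 0x300b001)],[(nat_lit 0x25e1001),(nat_lit 0x6b40001),(nat_lit 0x2469001),(nat_lit 0x24b6001),(nat_lit 0x5157001),(nat_lit 0x262b001),(nat_lit 0x2468001)],[(nat_lit 0x4f58001),(nat_lit 0x24eb001),(nat_lit 0x251c001),(nat_lit 0x24ec001),(nat_lit 0x2797001),(nat_lit 0x24ea001),(nat_lit 0x6cdb001)],[(nat_lit 0x19f4001),(nat_lit 0x2798001),(nat_lit 0x19f5001),(nat_lit 0x27d6001),(nat_lit 0x19f3001),(nat_lit 0x2473001),(nat_lit 0x4660001)],[(nat_lit 0x1ab8001),(nat_lit 0x492e001),(nat_lit 0x1ab7001),(nat_lit 0x1ab6001),(nat_lit 0x3f42001),(nat_lit 0x2f55001),(nat_lit 0x4930001)],[(nat_lit 0x2fa3001),(nat_lit 0x3f58001),(nat_lit 0x2fa5001),(nat_lit 0x2fa2001),(nat_lit 0x3010001),(nat_lit 0x2fa4001),(nat_lit 0x6bec001)],[(nat_lit 0x6bf0001),(nat_lit 0xa648f093bb002),(nat_lit 0x6aad001),(nat_lit 0x6aae001),(nat_lit 0x6d58001),(nat_lit 0x6bef001),(nat_lit 0x3f56001)],[(nat_lit 0x14d6001),(nat_lit 0x21eb001),(nat_lit 0x2557001),(nat_lit 0x14d7001),(nat_lit 0x22a9001),(nat_lit 0x14d5001),(nat_lit 0x2bfe001)],[(nat_lit 0x2b52001),(nat_lit 0x14d4001),(nat_lit 0x3eaf001),(nat_lit 0x14d3001),(nat_lit 0x2214001),(nat_lit 0x21ec001),(nat_lit 0x3eb0001)],[(nat_lit 0x2596001),(nat_lit 0x69a2001),(nat_lit 0x240b001),(nat_lit 0x240a001),(nat_lit 0x2bea001),(nat_lit 0x2559001),(nat_lit 0x4b05001)],[(nat_lit 0x2188001),(nat_lit 0x2213001),(nat_lit 0x2bec001),(nat_lit 0x2187001),(nat_lit 0x2189001),(nat_lit 0x61d9001),(nat_lit 0x6236001)],[(nat_lit 0x1c87001),(nat_lit 0x27a8001),(nat_lit 0x1420001),(nat_lit 0x1869001),(nat_lit 0x266b001),(nat_lit 0x141f001),(nat_lit 0x3be8001)],[(nat_lit 0x1c8a001),(nat_lit 0x13fd001),(nat_lit 0x266c001),(nat_lit 0x13fe001),(nat_lit 0x13fc001),(nat_lit 0x2467001),(nat_lit 0x3ce2001)],[(nat_lit 0x769b001),(nat_lit 0x2776001),(nat_lit 0x27a9001),(nat_lit 0x2794001),(nat_lit 0x27ca001),(nat_lit 0x2775001),(nat_lit 0x77e2001)],[(nat_lit 0x1400001),(nat_lit 0x27cb001),(nat_lit 0x1401001),(nat_lit 0x27dc001),(nat_lit 0x13ff001),(nat_lit 0x2735001),(nat_lit 0x3ce3001)],[(nat_lit 0x240f001),(nat_lit 0x2465001),(nat_lit 0x2734001),(nat_lit 0x2410001),(nat_lit 0x240e001),(nat_lit 0x2411001),(nat_lit 0x6a40001)],[(nat_lit 0xf558078eb002),(nat_lit 0x78ec001),(nat_lit 0x1064b078ed002),(nat_lit 0x78ee001),(nat_lit 0x78ef001),(nat_lit 0xf561078f0002),(nat_lit 0x27a1001)],[(nat_lit 0x10874001),(nat_lit 0x49a2001),(nat_lit 0x4a42001),(nat_lit 0x10876001),(nat_lit 0x49a1001),(nat_lit 0x10879001),(nat_lit 0x13cf2001)],[(nat_lit 0x9131001),(nat_lit 0x10877001),(nat_lit 0x92dc001),(nat_lit 0x9130001),(nat_lit 0x9132001),(nat_lit 0x1087b001),(nat_lit 0xa0f1f2ca23002)],[(nat_lit 0x4053001),(nat_lit 0x1087a001),(nat_lit 0x3fab001),(nat_lit 0x1087c001),(nat_lit 0x4063001),(nat_lit 0x3faa001),(nat_lit 0x10b91001)],[(nat_lit 0xad23001),(nat_lit 0xad25001),(nat_lit 0x9e40b0ad27002),(nat_lit 0x11767001),(nat_lit 0xab35001),(nat_lit 0x9cb073289f002),(nat_lit 0x9fa5e328a2002)],[(nat_lit 0x4007001),(nat_lit 0x4062001),(nat_lit 0x4064001),(nat_lit 0x3f45001),(nat_lit 0x3f46001),(nat_lit 0x3f44001),(nat_lit 0x9fb2610883002)],[(nat_lit 0x4dd8e10e81002),(nat_lit 0xa050110e82002),(nat_lit 0x9fd5e10e83002),(nat_lit 0x9d0a810e84002),(nat_lit 0x9d3d010e85002),(nat_lit 0x4dd2a10e86002),(nat_lit 0x4060001)],[(nat_lit 0x9f90d3f909002),(nat_lit 0x1087e001),(nat_lit 0x9f90e3f90a002),(nat_lit 0x9df9610ae1002),(nat_lit 0x10ae3001),(nat_lit 0x9e78310ae5002),(nat_lit 0x9f90f3f90b002)],[(nat_lit 0x10ada001),(nat_lit 0x9f9113f90e002),(nat_lit 0x1087f001),(nat_lit 0x9d8393f90f002),(nat_lit 0x10ae7001),(nat_lit 0x9d83810ae9002),(nat_lit 0x4b31f3f910002)],[(nat_lit 0x10ade001),(nat_lit 0x10ae4001),(nat_lit 0x10ae8001),(nat_lit 0x7fdcc3f914002),(nat_lit 0x10881001),(nat_lit 0x9cfc93f915002),(nat_lit 0x9ccfc3f916002)],[(nat_lit 0xa108210b07002),(nat_lit 0x517c103fb9002),(nat_lit 0x10b0b001),(nat_lit 0xa29f310898002),(nat_lit 0x518b010b2d002),(nat_lit 0x3fb8001),(nat_lit 0x10b9f001)],[(nat_lit 0xa06d010891002),(nat_lit 0xa29f310897002),(nat_lit 0x10b1f001),(nat_lit 0x517c103fbf002),(nat_lit 0x10ba2001),(nat_lit 0x3fbe001),(nat_lit 0x10ba3001)],[(nat_lit 0x51b541ec93002),(nat_lit 0x4b0c81eedd002),(nat_lit 0x5188b0674b002),(nat_lit 0xa15e61efde002),(nat_lit 0x4b0530674a002),(nat_lit 0x5195e1eeec002),(nat_lit 0x1efdf001)],[(nat_lit 0x10893001),(nat_lit 0x9fe3b10947002),(nat_lit 0x10b00001),(nat_lit 0xa004a10b02002),(nat_lit 0x10b04001),(nat_lit 0xa108210b06002),(nat_lit 0xbeea63f946002)],[(nat_lit 0x10b01001),(nat_lit 0x10948001),(nat_lit 0x10894001),(nat_lit 0xa36713f94d002),(nat_lit 0x10b08001),(nat_lit 0x10b0a001),(nat_lit 0xcf0463f94e002)],[(nat_lit 0xa004a10b03002),(nat_lit 0x3fb5001),(nat_lit 0x10b9c001),(nat_lit 0x3fb4001),(nat_lit 0x10b1a001),(nat_lit 0xa29f310896002),(nat_lit 0x10b9d001)],[(nat_lit 0x10b05001),(nat_lit 0x3fb7001),(nat_lit 0x10b09001),(nat_lit 0x10b24001),(nat_lit 0x3fb6001),(nat_lit 0x10b26001),(nat_lit 0x10b9e001)],[(nat_lit 0xbf8e83f952002),(nat_lit 0xbf8e93f953002),(nat_lit 0xbf8ea3f954002),(nat_lit 0x3f955001),(nat_lit 0xbf8ec3f956002),(nat_lit 0xc0d513f957002),(nat_lit 0x10895001)],[(nat_lit 0x518801eed6002),(nat_lit 0x5188206749002),(nat_lit 0x518831eeda002),(nat_lit 0x5187e1ec9c002),(nat_lit 0x519771eeee002),(nat_lit 0x6748001),(nat_lit 0x1efdd001)],[(nat_lit 0x5178d1ec96002),(nat_lit 0x5187e1ec9b002),(nat_lit 0x516d61eee7002),(nat_lit 0x518820674d002),(nat_lit 0xa36741efe0002),(nat_lit 0x517900674c002),(nat_lit 0x1efe1001)],[(nat_lit 0x518881088c002),(nat_lit 0x4b3a810b11002),(nat_lit 0x3fbb001),(nat_lit 0x10ba0001),(nat_lit 0x4b30a03fba002),(nat_lit 0x10b28001),(nat_lit 0x10ba1001)],[(nat_lit 0x10b17001),(nat_lit 0xa0f923f96b002),(nat_lit 0x1089c001),(nat_lit 0x9fbbb2d208002),(nat_lit 0x10b1c001),(nat_lit 0x10b1e001),(nat_lit 0x3f96c001)],[(nat_lit 0x10b19001),(nat_lit 0x10b1b001),(nat_lit 0x10b1d001),(nat_lit 0x1094a001),(nat_lit 0x1089d001),(nat_lit 0x9e2763f971002),(nat_lit 0x2ee50001)],[(nat_lit 0x5196b3f974002),(nat_lit 0xb1ccd3f975002),(nat_lit 0x3f976001),(nat_lit 0x9afe23f977002),(nat_lit 0x3f978001),(nat_lit 0x518b23f979002),(nat_lit 0x1089e001)],[(nat_lit 0x10b21001),(nat_lit 0x10b25001),(nat_lit 0x9bd583f97a002),(nat_lit 0x1089f001),(nat_lit 0x1094b001),(nat_lit 0x10b2a001),(nat_lit 0x9e6ca3f97b002)],[(nat_lit 0x10b23001),(nat_lit 0x10b27001),(nat_lit 0x10b29001),(nat_lit 0x10b2b001),(nat_lit 0x1094c001),(nat_lit 0x108a0001),(nat_lit 0x3f97f001)],[(nat_lit 0xa1a703f986002),(nat_lit 0x3f987001),(nat_lit 0xa1a723f988002),(nat_lit 0x3f989001),(nat_lit 0xa1a743f98a002),(nat_lit 0xa332b3f98b002),(nat_lit 0x108a1001)],[(nat_lit 0x355c001),(nat_lit 0x355d001),(nat_lit 0x6012001),(nat_lit 0x355b001),(nat_lit 0x355e001),(nat_lit 0x4a24001),(nat_lit 0x468e001)],[(nat_lit 0x4af3001),(nat_lit 0x4af2001),(nat_lit 0x4af4001),(nat_lit 0x4af5001),(nat_lit 0x4af6001),(nat_lit 0x4af7001),(nat_lit 0x20cc304af8002)],[(nat_lit 0x22db001),(nat_lit 0x22dc001),(nat_lit 0x44b6001),(nat_lit 0x22dd001),(nat_lit 0x22da001),(nat_lit 0x20d4904578002),(nat_lit 0x20d4a065e8002)],[(nat_lit 0xab60001),(nat_lit 0x137e7001),(nat_lit 0xab5f001),(nat_lit 0xab82001),(nat_lit 0xab61001),(nat_lit 0xab81001),(nat_lit 0xf333001)],[(nat_lit 0x31fe001),(nat_lit 0x32b3001),(nat_lit 0xab7f001),(nat_lit 0x31ff001),(nat_lit 0xab83001),(nat_lit 0x31fd001),(nat_lit 0xab86001)],[(nat_lit 0xf490001),(nat_lit 0xf48e001),(nat_lit 0xc98b001),(nat_lit 0xf296001),(nat_lit 0x131dd001),(nat_lit 0xf492001),(nat_lit 0xab62001)],[(nat_lit 0xf2b20ad66002),(nat_lit 0xf3780ad68002),(nat_lit 0xe4f4001),(nat_lit 0xab66001),(nat_lit 0x20a760fbc6002),(nat_lit 0xf2b70ad6b002),(nat_lit 0x20acf1d193002)],[(nat_lit 0x473b001),(nat_lit 0x9792001),(nat_lit 0x47da001),(nat_lit 0x473a001),(nat_lit 0x20a6c1314c002),(nat_lit 0x47dd001),(nat_lit 0x4739001)],[(nat_lit 0x3baf001),(nat_lit 0x3bb0001),(nat_lit 0x3bb1001),(nat_lit 0x45d9001),(nat_lit 0x3bae001),(nat_lit 0x495b001),(nat_lit 0x4739001)],[(nat_lit 0x4566001),(nat_lit 0x4567001),(nat_lit 0x1262b001),(nat_lit 0x4565001),(nat_lit 0x45dc001),(nat_lit 0x4603001),(nat_lit 0x210b012637002)],[(nat_lit 0x2435001),(nat_lit 0x2436001),(nat_lit 0x2437001),(nat_lit 0x4606001),(nat_lit 0x2438001),(nat_lit 0x2434001),(nat_lit 0x20b7506a6d002)],[(nat_lit 0xadbd001),(nat_lit 0xf29b03264002),(nat_lit 0xadc1001),(nat_lit 0xaba4001),(nat_lit 0x20ac00addd002),(nat_lit 0x3263001),(nat_lit 0xaf5d001)],[(nat_lit 0xf1970ab9e002),(nat_lit 0xaba3001),(nat_lit 0xadd5001),(nat_lit 0xf29b0326a002),(nat_lit 0x20a810af69002),(nat_lit 0x3269001),(nat_lit 0xaf6a001)],[(nat_lit 0x47db001),(nat_lit 0x991d001),(nat_lit 0x47da001),(nat_lit 0x47dc001),(nat_lit 0x20a6e133a0002),(nat_lit 0x47dd001),(nat_lit 0x495c001)],[(nat_lit 0xab9f001),(nat_lit 0xf1940abf6002),(nat_lit 0xadb6001),(nat_lit 0xadb8001),(nat_lit 0x20b660adba002),(nat_lit 0xadbc001),(nat_lit 0x21ff1001)],[(nat_lit 0xadb7001),(nat_lit 0xf0f30abf7002),(nat_lit 0xaba0001),(nat_lit 0x20b6a0f0fd002),(nat_lit 0x20b680adbe002),(nat_lit 0xadc0001),(nat_lit 0xa4aea25474002)],[(nat_lit 0xadb9001),(nat_lit 0x3260001),(nat_lit 0xf82b0af51002),(nat_lit 0x325f001),(nat_lit 0xadd0001),(nat_lit 0xaba2001),(nat_lit 0x20b6f0af52002)],[(nat_lit 0x20b660adbb002),(nat_lit 0x20acc03262002),(nat_lit 0x20b680adbf002),(nat_lit 0x20b700add6002),(nat_lit 0x3261001),(nat_lit 0x20ac90add7002),(nat_lit 0x20b710af58002)],[(nat_lit 0x21ff8001),(nat_lit 0x33329001),(nat_lit 0x21ff0001),(nat_lit 0x21fee001),(nat_lit 0x3332a001),(nat_lit 0x22101001),(nat_lit 0xaba1001)],[(nat_lit 0xf1900adc3002),(nat_lit 0xf0f40adc5002),(nat_lit 0xf1a3001),(nat_lit 0xaba6001),(nat_lit 0x20b72001),(nat_lit 0xf2ae0adca002),(nat_lit 0x20b131d1a7002)],[(nat_lit 0xf1950adcd002),(nat_lit 0xf496001),(nat_lit 0xaba8001),(nat_lit 0xf297001),(nat_lit 0xadd2001),(nat_lit 0xadd4001),(nat_lit 0x1cde1001)],[(nat_lit 0x12630001),(nat_lit 0x12631001),(nat_lit 0x12632001),(nat_lit 0x12633001),(nat_lit 0x12634001),(nat_lit 0x12d6712a6d002),(nat_lit 0x4646001)],[(nat_lit 0x1c9cf001),(nat_lit 0x1c9d0001),(nat_lit 0x1cdda001),(nat_lit 0x1c9ce001),(nat_lit 0x21f3f001),(nat_lit 0x1c9d1001),(nat_lit 0xabaa001)],[(nat_lit 0x2e7c001),(nat_lit 0x2e7d001),(nat_lit 0x2e7b001),(nat_lit 0x9a39001),(nat_lit 0x2e7e001),(nat_lit 0x4647001),(nat_lit 0x9a85001)],[(nat_lit 0x243a001),(nat_lit 0x243b001),(nat_lit 0x464a001),(nat_lit 0x243c001),(nat_lit 0x464f001),(nat_lit 0x2439001),(nat_lit 0x6a6e001)],[(nat_lit 0xc5c10aa7c002),(nat_lit 0xc75d001),(nat_lit 0xaa7b001),(nat_lit 0xc647001),(nat_lit 0xac88001),(nat_lit 0xac94001),(nat_lit 0xb7fb932783002)],[(nat_lit 0xaa7e001),(nat_lit 0xac3e001),(nat_lit 0xac7b001),(nat_lit 0xaa7d001),(nat_lit 0xac7d001),(nat_lit 0xac7f001),(nat_lit 0x32787001)],[(nat_lit 0xaa80001),(nat_lit 0xac43001),(nat_lit 0xac86001),(nat_lit 0xac89001),(nat_lit 0xaa7f001),(nat_lit 0xac8b001),(nat_lit 0xb7e023278b002)],[(nat_lit 0xc1bd05c91c002),(nat_lit 0xb985d5ce9e002),(nat_lit 0xb16311c37f002),(nat_lit 0xbd92f5d04c002),(nat_lit 0xb15321c37e002),(nat_lit 0xb16a05cea8002),(nat_lit 0xb98115d04d002)],[(nat_lit 0xc336001),(nat_lit 0xbf79001),(nat_lit 0x360bf001),(nat_lit 0xbf78001),(nat_lit 0x361f6001),(nat_lit 0xbf7a001),(nat_lit 0x361f8001)]]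

theorem rows0_3_ok : okRows data table 980686 3000 rows0_3 = true := by decide +kernel

theorem rows0_3_len : rows0_3.length = 1000 := by decide +kernel


end CfsgLib.CosetEnum.ON122760
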