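/-
Certificate data of a coset enumeration.
-/
import Cfsg.Agent.Lib.CosetEnum.ON122760.Data

set_option autoImplicit false
set_option maxRecDepth 1000000

namespace CfsgLib.CosetEnum.ON122760

open CfsgLib.CosetEnum

/-- Completion of the rows from 120000. -/
noncomputable def rows30_0 : List (List ℕ) := [[(nat_lit 0xebfda001),(nat_lit 0xe5aef001),(nat_lit 0xe5af1001),(nat_lit 0xea13f001),(nat_lit 0xe5af0001),(nat_lit 0xee8a5001),(nat_lit 0xee631001)],[(nat_lit 0xeacfe001),(nat_lit 0xe756c001),(nat_lit 0xe7570001),(nat_lit 0xe756b001),(nat_lit 0xe756d001),(nat_lit 0xe756e001),(nat_lit 0xe756f001)],[(nat_lit 0xad56155789002),(nat_lit 0xec690c8089002),(nat_lit 0xed5e1001),(nat_lit 0xc845c001),(nat_lit 0xcb9f655788002),(nat_lit 0xd574a001),(nat_lit 0xd4bb5001)],[(nat_lit 0x822ab001),(nat_lit 0xea297001),(nat_lit 0x822ac001),(nat_lit 0xd4bc8001),(nat_lit 0x83e02001),(nat_lit 0x822aa001),(nat_lit 0xd7796001)],[(nat_lit 0xec3d4001),(nat_lit 0xed962001),(nat_lit 0xec3d3001),(nat_lit 0xec4a2001),(nat_lit 0xee4b1001),(nat_lit 0xec9f0001),(nat_lit 0xec3d5001)],[(nat_lit 0xee4b0001),(nat_lit 0xe48a9001),(nat_lit 0xe48a8001),(nat_lit 0xeab6f001),(nat_lit 0xe48aa001),(nat_lit 0xea302001),(nat_lit 0xecaff001)],[(nat_lit 0xbd4b7aaf96002),(nat_lit 0x49fcf001),(nat_lit 0xd52aaccfb7002),(nat_lit 0x4aa70001),(nat_lit 0x4aa72001),(nat_lit 0x4aa74001),(nat_lit 0xd0a81001)],[(nat_lit 0xe729d001),(nat_lit 0xe73aa001),(nat_lit 0xdf584001),(nat_lit 0xdcbd9001),(nat_lit 0xe729f001),(nat_lit 0xe7e35001),(nat_lit 0xdf585001)],[(nat_lit 0x8409f001),(nat_lit 0xcf66a001),(nat_lit 0xe190d001),(nat_lit 0xc8cbf001),(nat_lit 0xe4398001),(nat_lit 0x8409e001),(nat_lit 0xc8cc0001)],[(nat_lit 0xdb3c1001),(nat_lit 0xe5d01001),(nat_lit 0xdb3c0001),(nat_lit 0xe3529001),(nat_lit 0xdb3c3001),(nat_lit 0xdb3c2001),(nat_lit 0xdb3bf001)],[(nat_lit 0xad1b46925a002),(nat_lit 0xcea82001),(nat_lit 0x69259001),(nat_lit 0xdfbeb001),(nat_lit 0xd6796001),(nat_lit 0xe5d03001),(nat_lit 0xc998d001)],[(nat_lit 0x8e3fa001),(nat_lit 0x80b12001),(nat_lit 0x80328001),(nat_lit 0xe8070001),(nat_lit 0xd2ef580327002),(nat_lit 0x8e3fc001),(nat_lit 0xe1df1001)],[(nat_lit 0x3d977001),(nat_lit 0x3c909001),(nat_lit 0x8e3fd001),(nat_lit 0x3c908001),(nat_lit 0x3dfb2001),(nat_lit 0x3c90a001),(nat_lit 0xd5167001)],[(nat_lit 0x56a1f001),(nat_lit 0xd52e656a20002),(nat_lit 0xc5a7b001),(nat_lit 0x56a21001),(nat_lit 0xab8c1001),(nat_lit 0x575cb001),(nat_lit 0xc6bb4001)],[(nat_lit 0x383a6001),(nat_lit 0x383a7001),(nat_lit 0x383a8001),(nat_lit 0x950268e460002),(nat_lit 0x383a5001),(nat_lit 0x8e462001),(nat_lit 0xdb6b8001)],[(nat_lit 0xe4d26001),(nat_lit 0xde89e001),(nat_lit 0xde89f001),(nat_lit 0xde89d001),(nat_lit 0xe7e42001),(nat_lit 0xe297c001),(nat_lit 0xe5ca0001)],[(nat_lit 0xe6be3001),(nat_lit 0xe7e44001),(nat_lit 0xee946001),(nat_lit 0xe6be4001),(nat_lit 0xe6be2001),(nat_lit 0xe6be5001),(nat_lit 0xe6be6001)],[(nat_lit 0xcd184001),(nat_lit 0xd615f001),(nat_lit 0x637ba001),(nat_lit 0xd7c16cbfb0002),(nat_lit 0xcbfaa637b9002),(nat_lit 0xd0853001),(nat_lit 0xd4879001)],[(nat_lit 0xed0d3001),(nat_lit 0xdb6e9001),(nat_lit 0xe988c001),(nat_lit 0xdb6ea001),(nat_lit 0xdc235001),(nat_lit 0xed0d6001),(nat_lit 0xed0d8001)],[(nat_lit 0xbc233001),(nat_lit 0xbeca55fea3002),(nat_lit 0xbc234001),(nat_lit 0xd106c001),(nat_lit 0xbc2275fea2002),(nat_lit 0xbc235001),(nat_lit 0xe3193001)],[(nat_lit 0x683f4001),(nat_lit 0xa6e3667848002),(nat_lit 0xa7977001),(nat_lit 0x67849001),(nat_lit 0x67847001),(nat_lit 0xa4ed46784a002),(nat_lit 0xcdab2001)],[(nat_lit 0xa3e6265f1b002),(nat_lit 0x66cbd001),(nat_lit 0x66cec001),(nat_lit 0xa6e3666c11002),(nat_lit 0x65f1a001),(nat_lit 0x65f1c001),(nat_lit 0xea1ae001)],[(nat_lit 0xdb472001),(nat_lit 0xeca5d001),(nat_lit 0xdb476001),(nat_lit 0xdb473001),(nat_lit 0xdb474001),(nat_lit 0xdb475001),(nat_lit 0xdb477001)],[(nat_lit 0xe2d57001),(nat_lit 0xdb680001),(nat_lit 0xdb681001),(nat_lit 0xe3f3b001),(nat_lit 0xe3df1001),(nat_lit 0xe62ae001),(nat_lit 0xdb96a001)],[(nat_lit 0x82fcf001),(nat_lit 0x820a9001),(nat_lit 0xd0d7f001),(nat_lit 0x820a8001),(nat_lit 0x82d62001),(nat_lit 0xcb64f82fd4002),(nat_lit 0xdb67b001)],[(nat_lit 0xdee55001),(nat_lit 0xdee56001),(nat_lit 0xe52a3001),(nat_lit 0xdee53001),(nat_lit 0xdee57001),(nat_lit 0xe667a001),(nat_lit 0xdb3cf001)],[(nat_lit 0xe72fe001),(nat_lit 0xe72fd001),(nat_lit 0xe72ff001),(nat_lit 0xe7408001),(nat_lit 0xe7300001),(nat_lit 0xe7301001),(nat_lit 0xe7728001)],[(nat_lit 0x9d7426f62f002),(nat_lit 0x71c5c001),(nat_lit 0x9d73f6f630002),(nat_lit 0xe2a67001),(nat_lit 0xa0a2271274002),(nat_lit 0x6f62e001),(nat_lit 0xcf6f9001)],[(nat_lit 0xe5146001),(nat_lit 0xd749c001),(nat_lit 0xd845cd83c8002),(nat_lit 0xe297a001),(nat_lit 0xd39b6001),(nat_lit 0xd445a001),(nat_lit 0x7090b001)],[(nat_lit 0xdb69e001),(nat_lit 0xdb69d001),(nat_lit 0xdf0ed001),(nat_lit 0xdf9c4001),(nat_lit 0xdb69f001),(nat_lit 0xe277a001),(nat_lit 0xdb6a0001)],[(nat_lit 0xe1e4d001),(nat_lit 0xe1e56001),(nat_lit 0xe1e4c001),(nat_lit 0xe1e4e001),(nat_lit 0xe1e4f001),(nat_lit 0xe1e50001),(nat_lit 0xe1e51001)],[(nat_lit 0xe835d001),(nat_lit 0x6ab86001),(nat_lit 0x6ab87001),(nat_lit 0xe4b6b001),(nat_lit 0x6ab88001),(nat_lit 0xdb0eb001),(nat_lit 0xd1661001)],[(nat_lit 0xd8e7e001),(nat_lit 0x36d50001),(nat_lit 0xda42a001),(nat_lit 0x36d4f001),(nat_lit 0x36d51001),(nat_lit 0x383bb001),(nat_lit 0xcb9f0001)],[(nat_lit 0xe0218001),(nat_lit 0xdb6d0001),(nat_lit 0xdb6d3001),(nat_lit 0xe1382001),(nat_lit 0xdb6d1001),(nat_lit 0xdb6d2001),(nat_lit 0xe1387001)],[(nat_lit 0x4593f001),(nat_lit 0x99008001),(nat_lit 0x4593e001),(nat_lit 0x99004001),(nat_lit 0xd8898983da002),(nat_lit 0x45940001),(nat_lit 0xcca86001)],[(nat_lit 0xecaf8001),(nat_lit 0xec185001),(nat_lit 0xec184001),(nat_lit 0xee060001),(nat_lit 0xec186001),(nat_lit 0xeccff001),(nat_lit 0xedfb2001)],[(nat_lit 0xe5f1c001),(nat_lit 0xe5f1d001),(nat_lit 0xe84ed001),(nat_lit 0xe5f1e001),(nat_lit 0xe5f1b001),(nat_lit 0xe5f1f001),(nat_lit 0xe76e6001)],[(nat_lit 0xeb147001),(nat_lit 0x82dd0001),(nat_lit 0xb31a282dd1002),(nat_lit 0xe3cc4001),(nat_lit 0x82dd2001),(nat_lit 0xe858f001),(nat_lit 0xe39ee001)],[(nat_lit 0xe4244001),(nat_lit 0xe4245001),(nat_lit 0xe4247001),(nat_lit 0xe4243001),(nat_lit 0xe4246001),(nat_lit 0xe8e88001),(nat_lit 0xe4248001)],[(nat_lit 0xec4a7001),(nat_lit 0xec0b2001),(nat_lit 0xec0b5001),(nat_lit 0xec0b1001),(nat_lit 0xec0b3001),(nat_lit 0xec0b4001),(nat_lit 0xec0b6001)],[(nat_lit 0xe650f001),(nat_lit 0xe5c68001),(nat_lit 0xe5c69001),(nat_lit 0xe5fcb001),(nat_lit 0xe5c6a001),(nat_lit 0xe5c6b001),(nat_lit 0xe5c6c001)],[(nat_lit 0xe4641001),(nat_lit 0xe3b4a001),(nat_lit 0xe3b4b001),(nat_lit 0xe3b49001),(nat_lit 0xe3b4d001),(nat_lit 0xe4459001),(nat_lit 0xe6b85001)],[(nat_lit 0xe85d9001),(nat_lit 0xe85d8001),(nat_lit 0xe85da001),(nat_lit 0xe884a001),(nat_lit 0xe85db001),(nat_lit 0xe85dc001),(nat_lit 0xe85dd001)],[(nat_lit 0xd8010001),(nat_lit 0xda24c001),(nat_lit 0xe73de001),(nat_lit 0xd7e9d001),(nat_lit 0xd81d6001),(nat_lit 0xd7f6b001),(nat_lit 0x8765c001)],[(nat_lit 0x6aef2001),(nat_lit 0x4879e001),(nat_lit 0xdf95c001),(nat_lit 0x4879d001),(nat_lit 0xbe8b769596002),(nat_lit 0xa763990ecf002),(nat_lit 0xb56c4001)],[(nat_lit 0x7153a001),(nat_lit 0x7153b001),(nat_lit 0xe5d8f001),(nat_lit 0x7153c001),(nat_lit 0x71539001),(nat_lit 0x72a27001),(nat_lit 0xdb9d5001)],[(nat_lit 0x6f499001),(nat_lit 0x704bf001),(nat_lit 0x7128a001),(nat_lit 0x6f498001),(nat_lit 0x6fab2001),(nat_lit 0x7090c001),(nat_lit 0xe514a001)],[(nat_lit 0x98812001),(nat_lit 0x93ea8001),(nat_lit 0xda1c7001),(nat_lit 0x93ea7001),(nat_lit 0x93ea9001),(nat_lit 0xdc267001),(nat_lit 0xdde47001)],[(nat_lit 0xebe10001),(nat_lit 0xebe11001),(nat_lit 0xebe12001),(nat_lit 0xebe0f001),(nat_lit 0xebe13001),(nat_lit 0xebe14001),(nat_lit 0xebf13001)],[(nat_lit 0x46912001),(nat_lit 0xa59908384e002),(nat_lit 0xb55f889c1b002),(nat_lit 0x46913001),(nat_lit 0xbe8cc8b236002),(nat_lit 0x46911001),(nat_lit 0xbd437001)],[(nat_lit 0xd8e7e001),(nat_lit 0xd8e7f001),(nat_lit 0xea961001),(nat_lit 0xd8e80001),(nat_lit 0xd8e7d001),(nat_lit 0xd8e81001),(nat_lit 0xe2ca0001)],[(nat_lit 0xd4250001),(nat_lit 0xeb57e001),(nat_lit 0xce4c1001),(nat_lit 0xc3066c1d4a002),(nat_lit 0xe42eb001),(nat_lit 0xd63bf001),(nat_lit 0x713f8001)],[(nat_lit 0x4ab0e001),(nat_lit 0xcfd0d001),(nat_lit 0x4ab0f001),(nat_lit 0xd2a2bd0a6e002),(nat_lit 0x4ab0d001),(nat_lit 0xcfcf7001),(nat_lit 0xec02a001)],[(nat_lit 0xea0cc001),(nat_lit 0xea0ce001),(nat_lit 0xea1e6001),(nat_lit 0xea0cd001),(nat_lit 0xea0cf001),(nat_lit 0xea0d0001),(nat_lit 0xea0cb001)],[(nat_lit 0xec24d001),(nat_lit 0xe46e4001),(nat_lit 0xe50bde4b86002),(nat_lit 0xe46e5001),(nat_lit 0xe46e3001),(nat_lit 0xe496a001),(nat_lit 0xec7e8001)],[(nat_lit 0xa84e071199002),(nat_lit 0xa98357242d002),(nat_lit 0x71198001),(nat_lit 0xd79217119f002),(nat_lit 0x7119a001),(nat_lit 0x7119b001),(nat_lit 0xd5738001)],[(nat_lit 0xddb66001),(nat_lit 0xddb62001),(nat_lit 0xddb61001),(nat_lit 0xddb64001),(nat_lit 0xde7a8001),(nat_lit 0xddb63001),(nat_lit 0xddb65001)],[(nat_lit 0xe16fce0607002),(nat_lit 0x4c1fd001),(nat_lit 0x4c1fe001),(nat_lit 0xeaa48001),(nat_lit 0x4c1ff001),(nat_lit 0x4c1fc001),(nat_lit 0xd8145001)],[(nat_lit 0xdb8d5001),(nat_lit 0x8518c001),(nat_lit 0xc894585e4a002),(nat_lit 0xda4c5001),(nat_lit 0x8518b001),(nat_lit 0xdb5dbd8846002),(nat_lit 0xda4c8001)],[(nat_lit 0x85195001),(nat_lit 0xda4c3001),(nat_lit 0xeaba5001),(nat_lit 0x85194001),(nat_lit 0xe1b21001),(nat_lit 0xd726f001),(nat_lit 0xbc804001)],[(nat_lit 0xe1815001),(nat_lit 0xe8834001),(nat_lit 0xe3e1b001),(nat_lit 0xe7eec001),(nat_lit 0xe1820001),(nat_lit 0xe33ea001),(nat_lit 0x3d30d001)],[(nat_lit 0xe9ea3001),(nat_lit 0xe9ea4001),(nat_lit 0xe9ea2001),(nat_lit 0xe9ea5001),(nat_lit 0xec792001),(nat_lit 0xe9ea6001),(nat_lit 0xe9ea7001)],[(nat_lit 0x7265b001),(nat_lit 0xdc3e6001),(nat_lit 0xc73c482bce002),(nat_lit 0x7265c001),(nat_lit 0xcf455001),(nat_lit 0x7265a001),(nat_lit 0xd52b5001)],[(nat_lit 0x6558e001),(nat_lit 0x65590001),(nat_lit 0xc49b2001),(nat_lit 0x64cdb001),(nat_lit 0xea5fd001),(nat_lit 0x65591001),(nat_lit 0xd7011d3e49002)],[(nat_lit 0xea5fc001),(nat_lit 0x69f1f001),(nat_lit 0xdb5cc001),(nat_lit 0xc694a001),(nat_lit 0xabb1369f1e002),(nat_lit 0xe3ff9001),(nat_lit 0xd7feb001)],[(nat_lit 0x6949e001),(nat_lit 0xe3ff7001),(nat_lit 0x6949f001),(nat_lit 0xe2e25001),(nat_lit 0x694a0001),(nat_lit 0x6949d001),(nat_lit 0xee776001)],[(nat_lit 0x6d8e4001),(nat_lit 0x6e8e4001),(nat_lit 0xcc9ff001),(nat_lit 0x6e4df001),(nat_lit 0x6d8e3001),(nat_lit 0xde7f8001),(nat_lit 0xe368b001)],[(nat_lit 0xeb3bc001),(nat_lit 0xeb3bd001),(nat_lit 0xeb3bb001),(nat_lit 0xeb3be001),(nat_lit 0xedebf001),(nat_lit 0xeda08001),(nat_lit 0xeb3bf001)],[(nat_lit 0xeadd4001),(nat_lit 0x6441d001),(nat_lit 0xb2c146441e002),(nat_lit 0xccc38001),(nat_lit 0xd9e88001),(nat_lit 0x6441f001),(nat_lit 0xdfbd5001)],[(nat_lit 0xe0319001),(nat_lit 0xe419e001),(nat_lit 0xe0b32001),(nat_lit 0xe0318001),(nat_lit 0xe6f8d001),(nat_lit 0xe031a001),(nat_lit 0xe031b001)],[(nat_lit 0x2191c001),(nat_lit 0x2191d001),(nat_lit 0x2ed35001),(nat_lit 0x304ac001),(nat_lit 0x2222d001),(nat_lit 0x22230001),(nat_lit 0x6a5e4001)],[(nat_lit 0xe3591001),(nat_lit 0xe3592001),(nat_lit 0xe3593001),(nat_lit 0xe3594001),(nat_lit 0xe3590001),(nat_lit 0xe3595001),(nat_lit 0xe3596001)],[(nat_lit 0x824ee001),(nat_lit 0xcf169835fe002),(nat_lit 0x8360a001),(nat_lit 0x834cc001),(nat_lit 0xc64bb830a1002),(nat_lit 0x824ed001),(nat_lit 0xe5c0b001)],[(nat_lit 0xb0ed1a6df0002),(nat_lit 0x41221001),(nat_lit 0xc64bbb0ed2002),(nat_lit 0xa4e7e41220002),(nat_lit 0xb0ecda6df1002),(nat_lit 0xc3faca6df2002),(nat_lit 0xe7089001)],[(nat_lit 0xe6723001),(nat_lit 0xe6722001),(nat_lit 0xe6724001),(nat_lit 0xe6a4d001),(nat_lit 0xe6725001),(nat_lit 0xe6726001),(nat_lit 0xe6727001)],[(nat_lit 0xeecfa001),(nat_lit 0xe6124001),(nat_lit 0xef41a001),(nat_lit 0xe6123001),(nat_lit 0xe6125001),(nat_lit 0xeb9a7001),(nat_lit 0xe6126001)],[(nat_lit 0x8d37d001),(nat_lit 0x3990c001),(nat_lit 0xdc7d38d381002),(nat_lit 0x3b67c001),(nat_lit 0x3990b001),(nat_lit 0xdc94b001),(nat_lit 0xdc950001)],[(nat_lit 0x4503a001),(nat_lit 0x45039001),(nat_lit 0x82b37001),(nat_lit 0x9977792fbe002),(nat_lit 0xc106b92fb0002),(nat_lit 0x6427e001),(nat_lit 0xe9701001)],[(nat_lit 0xedea8001),(nat_lit 0xe6357001),(nat_lit 0xed967001),(nat_lit 0xe6355001),(nat_lit 0xe6353001),(nat_lit 0xe6354001),(nat_lit 0xe6356001)],[(nat_lit 0xebc56001),(nat_lit 0xebc55001),(nat_lit 0xede6b001),(nat_lit 0xedea9001),(nat_lit 0xebc57001),(nat_lit 0xebc58001),(nat_lit 0xdb2b5001)],[(nat_lit 0xd0c52001),(nat_lit 0xba227001),(nat_lit 0xba228001),(nat_lit 0xe0172001),(nat_lit 0xd0c51001),(nat_lit 0xba229001),(nat_lit 0x49622001)],[(nat_lit 0xea27d001),(nat_lit 0xe7d5d001),(nat_lit 0xe6005001),(nat_lit 0xe5f44001),(nat_lit 0xe5f43001),(nat_lit 0xe5f45001),(nat_lit 0xe5f46001)],[(nat_lit 0xea8bf001),(nat_lit 0xea8c0001),(nat_lit 0xea8c1001),(nat_lit 0xea8c8001),(nat_lit 0xedbb2001),(nat_lit 0xea8c2001),(nat_lit 0xea8c3001)],[(nat_lit 0xedf24001),(nat_lit 0xedf25001),(nat_lit 0xedf23001),(nat_lit 0xedf26001),(nat_lit 0xedf27001),(nat_lit 0xedf28001),(nat_lit 0xedf29001)],[(nat_lit 0xede6c001),(nat_lit 0xeddfe001),(nat_lit 0xeddff001),(nat_lit 0xede66001),(nat_lit 0xede00001),(nat_lit 0xede01001),(nat_lit 0xede02001)],[(nat_lit 0xe77e2001),(nat_lit 0xe77e3001),(nat_lit 0xe7a2f001),(nat_lit 0xe77e1001),(nat_lit 0xe77e4001),(nat_lit 0xe77e5001),(nat_lit 0xe77e6001)],[(nat_lit 0xe7d63001),(nat_lit 0xeb873001),(nat_lit 0xe7d62001),(nat_lit 0xe7d65001),(nat_lit 0xed8bf001),(nat_lit 0xe7d64001),(nat_lit 0xe7d66001)],[(nat_lit 0x75831001),(nat_lit 0xcd463001),(nat_lit 0x75832001),(nat_lit 0xc3c19001),(nat_lit 0x75830001),(nat_lit 0x75833001),(nat_lit 0xcbdef001)],[(nat_lit 0x95f7e001),(nat_lit 0xc6fe24510b002),(nat_lit 0xcd7bab1979002),(nat_lit 0x4510a001),(nat_lit 0xd533e001),(nat_lit 0x4510c001),(nat_lit 0xcd461001)],[(nat_lit 0x93397001),(nat_lit 0x70af9001),(nat_lit 0x70afa001),(nat_lit 0xcb9b274e6b002),(nat_lit 0x70afb001),(nat_lit 0x70c34001),(nat_lit 0xdc0a0d6eed002)],[(nat_lit 0x958e7001),(nat_lit 0xda1fd001),(nat_lit 0x940e6001),(nat_lit 0xe49f3001),(nat_lit 0x958ed001),(nat_lit 0x958ef001),(nat_lit 0xdb363001)],[(nat_lit 0xe6529001),(nat_lit 0xc153f686cf002),(nat_lit 0xdf942001),(nat_lit 0xbad17686ce002),(nat_lit 0xbb7cb001),(nat_lit 0xe8272001),(nat_lit 0xd9f60001)],[(nat_lit 0xdf33d001),(nat_lit 0xe571d001),(nat_lit 0xdf33c001),(nat_lit 0xdf33f001),(nat_lit 0xe2cd6001),(nat_lit 0xdf33e001),(nat_lit 0xdf344001)],[(nat_lit 0xee719001),(nat_lit 0xef2cd001),(nat_lit 0xee71a001),(nat_lit 0xee718001),(nat_lit 0xee71b001),(nat_lit 0xee71c001),(nat_lit 0xee71d001)],[(nat_lit 0xed57b001),(nat_lit 0xed57c001),(nat_lit 0xedafb001),(nat_lit 0xed57d001),(nat_lit 0xed57a001),(nat_lit 0xed57e001),(nat_lit 0xed57f001)],[(nat_lit 0xd9f81001),(nat_lit 0xe9bd1001),(nat_lit 0xc30c3001),(nat_lit 0x993fe001),(nat_lit 0xc9faf993ff002),(nat_lit 0xed205001),(nat_lit 0xd8f1a001)],[(nat_lit 0xe6bd9001),(nat_lit 0xe6bda001),(nat_lit 0xe6bd8001),(nat_lit 0xe6def001),(nat_lit 0xee7f4001),(nat_lit 0xe6bdb001),(nat_lit 0xe6bdc001)],[(nat_lit 0xe6e55001),(nat_lit 0xe6c40001),(nat_lit 0xe6c237dfb4002),(nat_lit 0xe6dff001),(nat_lit 0xe6c3f001),(nat_lit 0x7dfb3001),(nat_lit 0xe6e04001)],[(nat_lit 0xedb5c001),(nat_lit 0xedb5d001),(nat_lit 0xedb5e001),(nat_lit 0xedbd9001),(nat_lit 0xedb5b001),(nat_lit 0xedb5f001),(nat_lit 0xedb60001)],[(nat_lit 0xe85a3001),(nat_lit 0xe540f001),(nat_lit 0xe13a4001),(nat_lit 0xe13a5001),(nat_lit 0xe540d001),(nat_lit 0xee80b001),(nat_lit 0xe5035001)],[(nat_lit 0xeaa04001),(nat_lit 0xe80e7001),(nat_lit 0xe80e6001),(nat_lit 0xe839e001),(nat_lit 0xe80e8001),(nat_lit 0xec6d7001),(nat_lit 0xe80e9001)],[(nat_lit 0xec1b7001),(nat_lit 0xec1b6001),(nat_lit 0xec1b8001),(nat_lit 0xec37b001),(nat_lit 0xec1b9001),(nat_lit 0xedd41001),(nat_lit 0xedb3a001)],[(nat_lit 0x92879001),(nat_lit 0xdc268001),(nat_lit 0xd99ec001),(nat_lit 0x9287a001),(nat_lit 0xb7f7992878002),(nat_lit 0x929c3001),(nat_lit 0xee7af001)],[(nat_lit 0xe9cd7001),(nat_lit 0xe9cd8001),(nat_lit 0xe9cd6001),(nat_lit 0xe9e4c001),(nat_lit 0xe9cd9001),(nat_lit 0xee7b4001),(nat_lit 0xe9cda001)],[(nat_lit 0xeec4f001),(nat_lit 0xeec4a001),(nat_lit 0xeec67001),(nat_lit 0xeec4b001),(nat_lit 0xeec4c001),(nat_lit 0xeec4d001),(nat_lit 0xeec4e001)],[(nat_lit 0xeec92001),(nat_lit 0xeec94001),(nat_lit 0xeecd9001),(nat_lit 0xeec93001),(nat_lit 0xeec95001),(nat_lit 0xeec96001),(nat_lit 0xeec91001)],[(nat_lit 0xe1485001),(nat_lit 0x5e145001),(nat_lit 0xbda29001),(nat_lit 0x5e146001),(nat_lit 0xeaee1001),(nat_lit 0xb00755e144002),(nat_lit 0xbe544001)],[(nat_lit 0xee5d9001),(nat_lit 0xee5db001),(nat_lit 0xee60c001),(nat_lit 0xee5da001),(nat_lit 0xee5dc001),(nat_lit 0xee5dd001),(nat_lit 0xee5d8001)],[(nat_lit 0xd67f4001),(nat_lit 0x8c5c6001),(nat_lit 0x88d9f001),(nat_lit 0xcee9d88da0002),(nat_lit 0xe48cb001),(nat_lit 0xd67f6001),(nat_lit 0xe6698e452b002)],[(nat_lit 0xd77ed001),(nat_lit 0xde18a001),(nat_lit 0x87b14001),(nat_lit 0x87b90001),(nat_lit 0xc8538001),(nat_lit 0xd77f0001),(nat_lit 0x87a30001)],[(nat_lit 0xe4eed001),(nat_lit 0xdcec6001),(nat_lit 0xe51b3001),(nat_lit 0xdcec7001),(nat_lit 0xe979b001),(nat_lit 0xdcec8001),(nat_lit 0xe242b001)],[(nat_lit 0xdb119001),(nat_lit 0xdb11a001),(nat_lit 0xdf9c5001),(nat_lit 0xdb118001),(nat_lit 0xea32b001),(nat_lit 0xdb11b001),(nat_lit 0xdb11c001)],[(nat_lit 0xe3e5b001),(nat_lit 0xeb1aa001),(nat_lit 0xe3e5c001),(nat_lit 0xe3e5a001),(nat_lit 0xe3e5d001),(nat_lit 0xeac92001),(nat_lit 0xed585001)],[(nat_lit 0xdefb1001),(nat_lit 0xdefb0001),(nat_lit 0xdefb4001),(nat_lit 0xdefb2001),(nat_lit 0xe7679001),(nat_lit 0xdefb3001),(nat_lit 0xdefb5001)],[(nat_lit 0xea32a001),(nat_lit 0x53954001),(nat_lit 0xcb09e001),(nat_lit 0x53fbf001),(nat_lit 0xd39ed53fc1002),(nat_lit 0x53fc3001),(nat_lit 0xeb962001)],[(nat_lit 0x575c8001),(nat_lit 0xd515d575c9002),(nat_lit 0xc66fc001),(nat_lit 0x575ca001),(nat_lit 0xac605001),(nat_lit 0x575cb001),(nat_lit 0xc6a4e001)],[(nat_lit 0xd94b9001),(nat_lit 0xd94ba001),(nat_lit 0xd94bb001),(nat_lit 0xe9d7e001),(nat_lit 0xd94b8001),(nat_lit 0xebf8a001),(nat_lit 0xeca4c001)],[(nat_lit 0x92822001),(nat_lit 0xebf88001),(nat_lit 0x92821001),(nat_lit 0xdf1d5001),(nat_lit 0x937ff001),(nat_lit 0xa944c93906002),(nat_lit 0xee711001)],[(nat_lit 0xea0c3001),(nat_lit 0xef69b001),(nat_lit 0xecec5001),(nat_lit 0xecdf3001),(nat_lit 0xea0c4001),(nat_lit 0xea2ebea0c5002),(nat_lit 0x92824001)],[(nat_lit 0xea265e8250002),(nat_lit 0xad97689f04002),(nat_lit 0x89f05001),(nat_lit 0xe7c98001),(nat_lit 0x89f06001),(nat_lit 0xc801d001),(nat_lit 0xca83c001)],[(nat_lit 0xdbe3e001),(nat_lit 0xe10b8001),(nat_lit 0xe5444001),(nat_lit 0xdb87a001),(nat_lit 0xdf411001),(nat_lit 0xdb87b001),(nat_lit 0xea2dc001)],[(nat_lit 0xdf724001),(nat_lit 0xea586001),(nat_lit 0xdf6d9001),(nat_lit 0xe3e62001),(nat_lit 0xdfaf8001),(nat_lit 0xe6b25001),(nat_lit 0xdf6d8001)],[(nat_lit 0xeef6b001),(nat_lit 0xeef6c001),(nat_lit 0xeef6a001),(nat_lit 0xef59e001),(nat_lit 0xeef6d001),(nat_lit 0xeef6e001),(nat_lit 0xeef75001)],[(nat_lit 0x3b3b9001),(nat_lit 0x3b9e1001),(nat_lit 0x3b3ba001),(nat_lit 0x3bb5b001),(nat_lit 0x3b3b8001),(nat_lit 0x3bb5d001),(nat_lit 0xe1b0f001)],[(nat_lit 0xe54f9001),(nat_lit 0xe54fa001),(nat_lit 0xe5b84001),(nat_lit 0xe54f8001),(nat_lit 0xe6766001),(nat_lit 0xe54fb001),(nat_lit 0xe54fc001)],[(nat_lit 0xbd213001),(nat_lit 0x3ac60001),(nat_lit 0xbd1ea3ac61002),(nat_lit 0xdddab001),(nat_lit 0x3ac62001),(nat_lit 0xbd215001),(nat_lit 0xda01a001)],[(nat_lit 0x651ab001),(nat_lit 0x82a58001),(nat_lit 0x651ac001),(nat_lit 0x651aa001),(nat_lit 0xe646a001),(nat_lit 0x651ad001),(nat_lit 0xd205585c63002)],[(nat_lit 0xeb5ab001),(nat_lit 0xeb5ad001),(nat_lit 0xeb70e001),(nat_lit 0xeb5ac001),(nat_lit 0xeb5ae001),(nat_lit 0xeb5af001),(nat_lit 0xeb5aa001)],[(nat_lit 0xeb4a3001),(nat_lit 0xe6de0001),(nat_lit 0xe7155001),(nat_lit 0xe6ddf001),(nat_lit 0xe6de1001),(nat_lit 0xe6de2001),(nat_lit 0xe6dde001)],[(nat_lit 0xe6557001),(nat_lit 0x82e11001),(nat_lit 0xe8e83001),(nat_lit 0xb4df582e10002),(nat_lit 0xe6a6d001),(nat_lit 0x82e7e001),(nat_lit 0xe144c001)],[(nat_lit 0xa993b001),(nat_lit 0xa85e64a833002),(nat_lit 0xce50e001),(nat_lit 0x4a832001),(nat_lit 0xb54a282338002),(nat_lit 0xa993c001),(nat_lit 0xd812d001)],[(nat_lit 0xeee98001),(nat_lit 0xeee99001),(nat_lit 0xeee9f001),(nat_lit 0xeee9a001),(nat_lit 0xeee97001),(nat_lit 0xeee9b001),(nat_lit 0xeee9c001)],[(nat_lit 0xe7340001),(nat_lit 0xeb8a7001),(nat_lit 0xe70ea001),(nat_lit 0xdb240001),(nat_lit 0xe5ba5001),(nat_lit 0xe7351001),(nat_lit 0xdb23f001)],[(nat_lit 0xdebe7001),(nat_lit 0xdebe8001),(nat_lit 0xdebe9001),(nat_lit 0xdebea001),(nat_lit 0xdebeb001),(nat_lit 0xdebec001),(nat_lit 0x927ee001)],[(nat_lit 0xee035001),(nat_lit 0xe6e0d001),(nat_lit 0xe6e10001),(nat_lit 0xe6e0c001),(nat_lit 0xe6e0e001),(nat_lit 0xe6e0f001),(nat_lit 0xe6e11001)],[(nat_lit 0xb4fac97609002),(nat_lit 0xb4faf001),(nat_lit 0xb4fb0001),(nat_lit 0x7293d001),(nat_lit 0xb4f8d7293e002),(nat_lit 0xce219001),(nat_lit 0xd8be9001)],[(nat_lit 0xde57a001),(nat_lit 0x68668001),(nat_lit 0xe3348001),(nat_lit 0xe0e2c001),(nat_lit 0x68667001),(nat_lit 0xe5614001),(nat_lit 0xd62d1001)],[(nat_lit 0xd7342001),(nat_lit 0xd39b3001),(nat_lit 0x6866a001),(nat_lit 0xd4a41001),(nat_lit 0x68669001),(nat_lit 0xd7341001),(nat_lit 0xd39b5001)],[(nat_lit 0xd4a40001),(nat_lit 0x88764001),(nat_lit 0xcdb36001),(nat_lit 0x89316001),(nat_lit 0x89318001),(nat_lit 0x8931a001),(nat_lit 0xd3396001)],[(nat_lit 0xe7ae4001),(nat_lit 0xeb554001),(nat_lit 0xe7ae5001),(nat_lit 0xe7ae6001),(nat_lit 0xe7ae3001),(nat_lit 0xe7ae7001),(nat_lit 0xe7ae8001)],[(nat_lit 0xe46ed001),(nat_lit 0xe3093001),(nat_lit 0xe3b47001),(nat_lit 0xe26db001),(nat_lit 0xe26dc001),(nat_lit 0xe26dd001),(nat_lit 0xe26de001)],[(nat_lit 0xe6ca7001),(nat_lit 0xe1f35001),(nat_lit 0xe2583001),(nat_lit 0xe1f33001),(nat_lit 0xe7838001),(nat_lit 0xe3893001),(nat_lit 0xe1f32001)],[(nat_lit 0xc4018001),(nat_lit 0xdbe68001),(nat_lit 0x38f16001),(nat_lit 0xdbe6c001),(nat_lit 0xd9f97001),(nat_lit 0x38f15001),(nat_lit 0xdbe75001)],[(nat_lit 0xdbe66001),(nat_lit 0xedd8b001),(nat_lit 0xdcb36001),(nat_lit 0xde7aa001),(nat_lit 0xdbe67001),(nat_lit 0xdbe79001),(nat_lit 0xdbbea001)],[(nat_lit 0xa84949729f002),(nat_lit 0x38f18001),(nat_lit 0xd9f99001),(nat_lit 0x395ef001),(nat_lit 0x38f17001),(nat_lit 0xdbe7a001),(nat_lit 0xbd263001)],[(nat_lit 0xedfc8001),(nat_lit 0xe1ae5001),(nat_lit 0xe1ae4001),(nat_lit 0xee6e3001),(nat_lit 0xe1ae6001),(nat_lit 0xe1ae7001),(nat_lit 0xe1ae8001)],[(nat_lit 0xebf0f001),(nat_lit 0xe5484001),(nat_lit 0xe5485001),(nat_lit 0xe5a1a001),(nat_lit 0xe5486001),(nat_lit 0xe5487001),(nat_lit 0xe5488001)],[(nat_lit 0xe9f97001),(nat_lit 0xeb124001),(nat_lit 0xeb416001),(nat_lit 0xe9f98001),(nat_lit 0xe9f96001),(nat_lit 0xe9f99001),(nat_lit 0xe9f9a001)],[(nat_lit 0xd3a6d001),(nat_lit 0xde375001),(nat_lit 0x7aff3001),(nat_lit 0x7aff2001),(nat_lit 0xc4573001),(nat_lit 0xd3de4001),(nat_lit 0xc4572001)],[(nat_lit 0xdba85001),(nat_lit 0xdba86001),(nat_lit 0xeb656001),(nat_lit 0xdba84001),(nat_lit 0xdba87001),(nat_lit 0xe32ed001),(nat_lit 0xdba88001)],[(nat_lit 0xe950c001),(nat_lit 0xe81cd001),(nat_lit 0xe81cc001),(nat_lit 0xe8443001),(nat_lit 0xef38e001),(nat_lit 0xe81ce001),(nat_lit 0xe81cf001)],[(nat_lit 0xecee8001),(nat_lit 0xeccab001),(nat_lit 0xeccaa001),(nat_lit 0xecd26001),(nat_lit 0xeccac001),(nat_lit 0xed68e001),(nat_lit 0xeccad001)],[(nat_lit 0xeee4a001),(nat_lit 0xed714001),(nat_lit 0xed713001),(nat_lit 0xed715001),(nat_lit 0xed716001),(nat_lit 0xed717001),(nat_lit 0xed719001)],[(nat_lit 0xe9493001),(nat_lit 0xe5a3d001),(nat_lit 0xe5a3c001),(nat_lit 0xe5a3f001),(nat_lit 0xe5a3e001),(nat_lit 0xe5a40001),(nat_lit 0xe9e4b001)],[(nat_lit 0xe518c001),(nat_lit 0xe518d001),(nat_lit 0xe518e001),(nat_lit 0xe518b001),(nat_lit 0xe518f001),(nat_lit 0xe5190001),(nat_lit 0xe5191001)],[(nat_lit 0x97b35001),(nat_lit 0xda083001),(nat_lit 0x97b36001),(nat_lit 0xe1f52001),(nat_lit 0x97b34001),(nat_lit 0xdc857001),(nat_lit 0xe1716001)],[(nat_lit 0xe64ae001),(nat_lit 0xe4d09001),(nat_lit 0xe4d0c001),(nat_lit 0xe4d08001),(nat_lit 0xe4d0a001),(nat_lit 0xe8125001),(nat_lit 0xe4d0b001)],[(nat_lit 0xea1a0001),(nat_lit 0xe78d1e56c5002),(nat_lit 0xe5859001),(nat_lit 0xe56c2001),(nat_lit 0xe56c4001),(nat_lit 0xe6004001),(nat_lit 0xe56c1001)],[(nat_lit 0xdb9ca001),(nat_lit 0xdb9cb001),(nat_lit 0xeacb7001),(nat_lit 0xe880a001),(nat_lit 0xdb9cc001),(nat_lit 0xe879bdb9cd002),(nat_lit 0xe5c55001)],[(nat_lit 0xdb9d3001),(nat_lit 0xdb9d4001),(nat_lit 0xe05a9001),(nat_lit 0xdb9d2001),(nat_lit 0xe7124001),(nat_lit 0xdbe45001),(nat_lit 0xdb9d5001)],[(nat_lit 0xeba33001),(nat_lit 0xeba34001),(nat_lit 0xeba9b001),(nat_lit 0xeba32001),(nat_lit 0xeba35001),(nat_lit 0xeba36001),(nat_lit 0xeba37001)],[(nat_lit 0xeb28d001),(nat_lit 0xdb908001),(nat_lit 0xdb909001),(nat_lit 0xeb02f001),(nat_lit 0xdb90a001),(nat_lit 0xe9f37001),(nat_lit 0xea1a8001)],[(nat_lit 0xe4a30001),(nat_lit 0xde1b1001),(nat_lit 0xde1ad001),(nat_lit 0xde1ac001),(nat_lit 0xde1ae001),(nat_lit 0xde1af001),(nat_lit 0xde1b0001)],[(nat_lit 0xde740001),(nat_lit 0xdae63001),(nat_lit 0xe412d001),(nat_lit 0xdae61001),(nat_lit 0xe9156001),(nat_lit 0xdae62001),(nat_lit 0x77c36001)],[(nat_lit 0xe696d001),(nat_lit 0x55f39001),(nat_lit 0x55f3a001),(nat_lit 0xc66fd001),(nat_lit 0x56a30001),(nat_lit 0x55f3b001),(nat_lit 0xdb841001)],[(nat_lit 0xe5142001),(nat_lit 0xe5141001),(nat_lit 0xe55b5001),(nat_lit 0xe54ca001),(nat_lit 0xe54cf001),(nat_lit 0xe5143001),(nat_lit 0xe5144001)],[(nat_lit 0xeef46001),(nat_lit 0xeef47001),(nat_lit 0xeef45001),(nat_lit 0xeef5e001),(nat_lit 0xeef48001),(nat_lit 0xeef49001),(nat_lit 0xeef4a001)],[(nat_lit 0xcb0a1b0a71002),(nat_lit 0x6920c001),(nat_lit 0xea464001),(nat_lit 0xb08f06920d002),(nat_lit 0xb0a72001),(nat_lit 0x6920b001),(nat_lit 0xce0bd001)],[(nat_lit 0x6a739001),(nat_lit 0x23052001),(nat_lit 0x6c727001),(nat_lit 0x6c714001),(nat_lit 0x69813001),(nat_lit 0x23051001),(nat_lit 0xd74c76d53b002)],[(nat_lit 0xe2b5c001),(nat_lit 0x6c1ad001),(nat_lit 0xdfc77001),(nat_lit 0x93354001),(nat_lit 0x6c1ac001),(nat_lit 0xcfcb3001),(nat_lit 0xbae8f001)],[(nat_lit 0xe1327001),(nat_lit 0xdeb7c001),(nat_lit 0xdeb7d001),(nat_lit 0xdeb7e001),(nat_lit 0xe28b7001),(nat_lit 0xdeb7f001),(nat_lit 0xdeb80001)],[(nat_lit 0xee03b001),(nat_lit 0xee03c001),(nat_lit 0xee03d001),(nat_lit 0xee03a001),(nat_lit 0xee03e001),(nat_lit 0xee03f001),(nat_lit 0xef069001)],[(nat_lit 0xeafe2001),(nat_lit 0xda04e001),(nat_lit 0xd6f57665cb002),(nat_lit 0xeb105001),(nat_lit 0xd6f56665ca002),(nat_lit 0xea85c001),(nat_lit 0xeb10f001)],[(nat_lit 0xea84c001),(nat_lit 0x6d35b001),(nat_lit 0xecf35001),(nat_lit 0x6d35c001),(nat_lit 0xe6213001),(nat_lit 0x6d35a001),(nat_lit 0xebd4a001)],[(nat_lit 0xeba9a001),(nat_lit 0xeba99001),(nat_lit 0xeba9b001),(nat_lit 0xebc83001),(nat_lit 0xeba9c001),(nat_lit 0xeba9d001),(nat_lit 0xeba9e001)],[(nat_lit 0xec37c001),(nat_lit 0xe19eb001),(nat_lit 0xeb0b7001),(nat_lit 0xe79b8001),(nat_lit 0xe19ec001),(nat_lit 0xe19ed001),(nat_lit 0xdbaf0001)],[(nat_lit 0x6e871001),(nat_lit 0xd5138001),(nat_lit 0xd230977ebd002),(nat_lit 0x6e872001),(nat_lit 0x6ecb1001),(nat_lit 0x6e870001),(nat_lit 0xdbabe001)],[(nat_lit 0xe1837001),(nat_lit 0xe1838001),(nat_lit 0xe8c71001),(nat_lit 0xe1836001),(nat_lit 0xe5c8c001),(nat_lit 0xe3af0001),(nat_lit 0x4ae25001)],[(nat_lit 0xe2cba001),(nat_lit 0xe2cbb001),(nat_lit 0xe2cb9001),(nat_lit 0xe5acc001),(nat_lit 0xe2cbe001),(nat_lit 0xe2cbc001),(nat_lit 0xe2cbd001)],[(nat_lit 0xd8119001),(nat_lit 0xd8be6001),(nat_lit 0xd811a001),(nat_lit 0xd811b001),(nat_lit 0xd811c001),(nat_lit 0xd811d001),(nat_lit 0x64cd7001)],[(nat_lit 0xe3c09001),(nat_lit 0xe5869001),(nat_lit 0xe3c0a001),(nat_lit 0xe3c08001),(nat_lit 0xec237001),(nat_lit 0xe8c72001),(nat_lit 0xe4248001)],[(nat_lit 0xeb8e6001),(nat_lit 0xeb8e5001),(nat_lit 0xeb8e7001),(nat_lit 0xeb963001),(nat_lit 0xec295001),(nat_lit 0xeb8e8001),(nat_lit 0xebbd9001)],[(nat_lit 0xe5dbe001),(nat_lit 0xec294001),(nat_lit 0xebf10001),(nat_lit 0xe5dc1001),(nat_lit 0xe5dc0001),(nat_lit 0xe62d4001),(nat_lit 0x8693a001)],[(nat_lit 0xe85a3001),(nat_lit 0xe85a2001),(nat_lit 0xedb5e001),(nat_lit 0xe85a1001),(nat_lit 0xe87d2001),(nat_lit 0xeb1f3001),(nat_lit 0xe85a0001)],[(nat_lit 0xb4933001),(nat_lit 0xcd274b4934002),(nat_lit 0xb4935001),(nat_lit 0xb48cc535aa002),(nat_lit 0xb4936001),(nat_lit 0x535a9001),(nat_lit 0xcdd34001)],[(nat_lit 0xe7d25001),(nat_lit 0xba0fd6299d002),(nat_lit 0xe5ce1001),(nat_lit 0xe5e92001),(nat_lit 0xb92376299c002),(nat_lit 0xdb6d2001),(nat_lit 0xe5e96001)],[(nat_lit 0xef38c001),(nat_lit 0xef1fd001),(nat_lit 0xef20c001),(nat_lit 0xef1fc001),(nat_lit 0xef1fe001),(nat_lit 0xef1ff001),(nat_lit 0xef200001)],[(nat_lit 0xd01c278dae002),(nat_lit 0x76a32001),(nat_lit 0xa2bc376a33002),(nat_lit 0xd01b078560002),(nat_lit 0xa01bb76a34002),(nat_lit 0x76a35001),(nat_lit 0xe7997001)],[(nat_lit 0xdbaa6001),(nat_lit 0xe3701001),(nat_lit 0xdbaa7001),(nat_lit 0xdbaa8001),(nat_lit 0xdbaa9001),(nat_lit 0xe4b49001),(nat_lit 0xe7e1a001)],[(nat_lit 0xe7fbe001),(nat_lit 0xe72c5001),(nat_lit 0xe97d9001),(nat_lit 0xe4e67001),(nat_lit 0xea2d4001),(nat_lit 0xed81c001),(nat_lit 0xdbab9001)],[(nat_lit 0xee3de001),(nat_lit 0xe95f2001),(nat_lit 0xe95f3001),(nat_lit 0xe95f4001),(nat_lit 0xe95f1001),(nat_lit 0xe95f5001),(nat_lit 0xeac1a001)],[(nat_lit 0xe9d30001),(nat_lit 0xe9d31001),(nat_lit 0xe9d34001),(nat_lit 0xe9d2f001),(nat_lit 0xe9d32001),(nat_lit 0xe9d33001),(nat_lit 0xe9d35001)],[(nat_lit 0xecf78001),(nat_lit 0xedb6c001),(nat_lit 0xecf77001),(nat_lit 0xecf79001),(nat_lit 0xeda01001),(nat_lit 0xecf7a001),(nat_lit 0xecf76001)],[(nat_lit 0xc57a0001),(nat_lit 0x896f8001),(nat_lit 0xdc75c001),(nat_lit 0xc83c6001),(nat_lit 0xc6efb001),(nat_lit 0xcab97896f7002),(nat_lit 0xeee4e001)],[(nat_lit 0x6c049001),(nat_lit 0x6cd3a001),(nat_lit 0xd97a4001),(nat_lit 0x6c04a001),(nat_lit 0xec313001),(nat_lit 0x6c048001),(nat_lit 0xd4f4e001)],[(nat_lit 0xdb366001),(nat_lit 0xdb365001),(nat_lit 0xdc788001),(nat_lit 0xde941001),(nat_lit 0xdb367001),(nat_lit 0xdb368001),(nat_lit 0xdb36e001)],[(nat_lit 0xc08d57b294002),(nat_lit 0xdd0a5001),(nat_lit 0x7b293001),(nat_lit 0xc01f1001),(nat_lit 0xedbc3001),(nat_lit 0x7b295001),(nat_lit 0xe6f6e001)],[(nat_lit 0xed80b001),(nat_lit 0xed80c001),(nat_lit 0xed80a001),(nat_lit 0xed845001),(nat_lit 0xed80d001),(nat_lit 0xed80e001),(nat_lit 0xed80f001)],[(nat_lit 0xe3dc8001),(nat_lit 0xea4fe001),(nat_lit 0x70dbe001),(nat_lit 0xd6998001),(nat_lit 0x70dbd001),(nat_lit 0xd8cb1001),(nat_lit 0xed3cf001)],[(nat_lit 0xecb1a001),(nat_lit 0xeb1cd001),(nat_lit 0xd01d080fe3002),(nat_lit 0xef032001),(nat_lit 0xc363880fe2002),(nat_lit 0xedbc4001),(nat_lit 0xeefdf001)],[(nat_lit 0xef37b001),(nat_lit 0xec63a001),(nat_lit 0xec639001),(nat_lit 0xec7b9001),(nat_lit 0xec63b001),(nat_lit 0xec63c001),(nat_lit 0xec658001)],[(nat_lit 0xe065a001),(nat_lit 0xda724001),(nat_lit 0xda726001),(nat_lit 0xda70d001),(nat_lit 0xda723001),(nat_lit 0xda725001),(nat_lit 0xda70c001)],[(nat_lit 0xc3c9a001),(nat_lit 0xda331001),(nat_lit 0x466a4001),(nat_lit 0xc1a11001),(nat_lit 0x466a3001),(nat_lit 0xcccec001),(nat_lit 0xe668a001)],[(nat_lit 0xeb964001),(nat_lit 0xeae04001),(nat_lit 0xeae05001),(nat_lit 0xeb181001),(nat_lit 0xeae06001),(nat_lit 0xeae07001),(nat_lit 0xeb73d001)],[(nat_lit 0xebc43001),(nat_lit 0xebc46001),(nat_lit 0xeeebc001),(nat_lit 0xebfd0001),(nat_lit 0xebc47001),(nat_lit 0xebc48001),(nat_lit 0xdae9c001)],[(nat_lit 0xec33f001),(nat_lit 0xed944001),(nat_lit 0xec340001),(nat_lit 0xec33e001),(nat_lit 0xec341001),(nat_lit 0xec343001),(nat_lit 0xec342001)],[(nat_lit 0xe70ba001),(nat_lit 0xed6b2001),(nat_lit 0xdebb1001),(nat_lit 0xe914a001),(nat_lit 0xed95c001),(nat_lit 0xdebb8001),(nat_lit 0xdc734001)],[(nat_lit 0xec1c7001),(nat_lit 0xe8fed001),(nat_lit 0xe8fee001),(nat_lit 0xe8fef001),(nat_lit 0xe8ff0001),(nat_lit 0xe8ff1001),(nat_lit 0xea0b5001)],[(nat_lit 0xec1d9001),(nat_lit 0xec1d7001),(nat_lit 0xed6b0001),(nat_lit 0xec1d6001),(nat_lit 0xec1d8001),(nat_lit 0xec1da001),(nat_lit 0xec1d5001)],[(nat_lit 0xe69b5001),(nat_lit 0xebf34001),(nat_lit 0xe69b6001),(nat_lit 0xed4e8001),(nat_lit 0xed5f8001),(nat_lit 0xe70bb001),(nat_lit 0xdc1cc001)],[(nat_lit 0xeacb8001),(nat_lit 0xeacb9001),(nat_lit 0xeacb7001),(nat_lit 0xeacbb001),(nat_lit 0xeacba001),(nat_lit 0xeb8c0001),(nat_lit 0xeacbc001)],[(nat_lit 0xeab08001),(nat_lit 0xe8c2f001),(nat_lit 0xe8d27001),(nat_lit 0xe8c2e001),(nat_lit 0xe8c30001),(nat_lit 0xeaf38001),(nat_lit 0xe8c31001)],[(nat_lit 0xdc0a0686f2002),(nat_lit 0xdd490001),(nat_lit 0xdc0bf001),(nat_lit 0x686f1001),(nat_lit 0xdc0c0001),(nat_lit 0xde507001),(nat_lit 0xd30c7001)],[(nat_lit 0xea16c001),(nat_lit 0xea16d001),(nat_lit 0xea1a3001),(nat_lit 0xea27f001),(nat_lit 0xea16b001),(nat_lit 0xea280001),(nat_lit 0xea16e001)],[(nat_lit 0xed95a001),(nat_lit 0xed95b001),(nat_lit 0xed96e001),(nat_lit 0xed959001),(nat_lit 0xed95c001),(nat_lit 0xed95d001),(nat_lit 0xed95e001)],[(nat_lit 0x7355d001),(nat_lit 0x7355e001),(nat_lit 0xaf0f6001),(nat_lit 0x7474b001),(nat_lit 0x748e3001),(nat_lit 0x7355f001),(nat_lit 0xeac57001)],[(nat_lit 0xee33a001),(nat_lit 0xeb318001),(nat_lit 0xeb470001),(nat_lit 0xeb317001),(nat_lit 0xeb319001),(nat_lit 0xeb31a001),(nat_lit 0xeb316001)],[(nat_lit 0x6d4a6001),(nat_lit 0x6d4a7001),(nat_lit 0x6d4a8001),(nat_lit 0x90ec2001),(nat_lit 0x7053b001),(nat_lit 0x6d4a5001),(nat_lit 0xd9a3c001)],[(nat_lit 0xe7c47001),(nat_lit 0xe9be1001),(nat_lit 0xe7c48001),(nat_lit 0xe7c46001),(nat_lit 0xe7c49001),(nat_lit 0xea4a7001),(nat_lit 0xe7c4a001)],[(nat_lit 0xe6349001),(nat_lit 0xe4db2001),(nat_lit 0xe4db5001),(nat_lit 0xe4db1001),(nat_lit 0xe4db7001),(nat_lit 0xe4db3001),(nat_lit 0xe4db4001)],[(nat_lit 0xe222d001),(nat_lit 0xe222e001),(nat_lit 0xe2230001),(nat_lit 0xe222c001),(nat_lit 0xe358e001),(nat_lit 0xe2231001),(nat_lit 0xe222f001)],[(nat_lit 0xe3f3c001),(nat_lit 0xe3f3d001),(nat_lit 0xe3f3e001),(nat_lit 0xe3f3b001),(nat_lit 0xe7cb6001),(nat_lit 0xe64e5001),(nat_lit 0xe42c1001)],[(nat_lit 0x8278f001),(nat_lit 0x82793001),(nat_lit 0xe64e1001),(nat_lit 0x44486001),(nat_lit 0xee18c001),(nat_lit 0x44485001),(nat_lit 0xd7dd6001)],[(nat_lit 0xe62ac001),(nat_lit 0xe62ad001),(nat_lit 0xe62ab001),(nat_lit 0xe64e3001),(nat_lit 0xe8df2001),(nat_lit 0xe62ae001),(nat_lit 0xe62af001)],[(nat_lit 0xee419001),(nat_lit 0xee16c001),(nat_lit 0xee18a001),(nat_lit 0xee16b001),(nat_lit 0xee16d001),(nat_lit 0xee16f001),(nat_lit 0xee16e001)],[(nat_lit 0x4c7c3001),(nat_lit 0x2f8df001),(nat_lit 0x8a696001),(nat_lit 0x2f8de001),(nat_lit 0x2f8e0001),(nat_lit 0xa59908384d002),(nat_lit 0xb4ffc8ab38002)],[(nat_lit 0x8a695001),(nat_lit 0xe03d1001),(nat_lit 0x7b1d9001),(nat_lit 0xe1b27001),(nat_lit 0xc05517b1d8002),(nat_lit 0xdf960001),(nat_lit 0xb8730001)],[(nat_lit 0xdc04b001),(nat_lit 0xdc04c001),(nat_lit 0xdc04d001),(nat_lit 0xdc04e001),(nat_lit 0xdc04f001),(nat_lit 0xdc04a001),(nat_lit 0xe4461001)],[(nat_lit 0x80b91001),(nat_lit 0xe64bf001),(nat_lit 0x80b8e001),(nat_lit 0xcf46e001),(nat_lit 0x80b8f001),(nat_lit 0x80b8d001),(nat_lit 0xe65a1001)],[(nat_lit 0xe1bbf001),(nat_lit 0xe4d1d001),(nat_lit 0xd7dc264462002),(nat_lit 0xd712c001),(nat_lit 0xe4d04001),(nat_lit 0x64461001),(nat_lit 0xec903001)],[(nat_lit 0xe10d2001),(nat_lit 0xe10d1001),(nat_lit 0xe10d3001),(nat_lit 0xe6db4001),(nat_lit 0xe10d5001),(nat_lit 0xe10d4001),(nat_lit 0xe10d6001)],[(nat_lit 0x44978001),(nat_lit 0xc029892ebd002),(nat_lit 0x44977001),(nat_lit 0xb2b4197766002),(nat_lit 0xe4439001),(nat_lit 0x92a04001),(nat_lit 0xe4726001)],[(nat_lit 0xecb3c001),(nat_lit 0xecb3d001),(nat_lit 0xecb3b001),(nat_lit 0xecb3f001),(nat_lit 0xecb3e001),(nat_lit 0xed667001),(nat_lit 0xecb40001)],[(nat_lit 0x7f7be001),(nat_lit 0x7f7bf001),(nat_lit 0x7f7c0001),(nat_lit 0xd6537001),(nat_lit 0x7f7bd001),(nat_lit 0xdafe9001),(nat_lit 0xd6bf4001)],[(nat_lit 0xef229001),(nat_lit 0xeee42001),(nat_lit 0xeee41001),(nat_lit 0xeee40001),(nat_lit 0xeee43001),(nat_lit 0xef1c6001),(nat_lit 0xeee44001)],[(nat_lit 0x74ad6001),(nat_lit 0xe95e0001),(nat_lit 0x73f3a001),(nat_lit 0xde52c001),(nat_lit 0x74ae1001),(nat_lit 0x74ae3001),(nat_lit 0xde52e001)],[(nat_lit 0xee73b001),(nat_lit 0xee73a001),(nat_lit 0xee73c001),(nat_lit 0xee77b001),(nat_lit 0xee73d001),(nat_lit 0xee73e001),(nat_lit 0xee73f001)],[(nat_lit 0xd742d001),(nat_lit 0x98232001),(nat_lit 0x98233001),(nat_lit 0xd63d3001),(nat_lit 0xd678a98234002),(nat_lit 0x98235001),(nat_lit 0xed7d9001)],[(nat_lit 0x6184b001),(nat_lit 0xd2b2f001),(nat_lit 0xc4aa8001),(nat_lit 0xd2b306184a002),(nat_lit 0xc4aaa001),(nat_lit 0xd2b31c4aab002),(nat_lit 0xe5ab9001)],[(nat_lit 0xe47c6001),(nat_lit 0xe4bd8001),(nat_lit 0xe47c5001),(nat_lit 0xe4a5f001),(nat_lit 0xe4bde001),(nat_lit 0xe47c7001),(nat_lit 0xe47c4001)],[(nat_lit 0xd4b9b001),(nat_lit 0x94176001),(nat_lit 0xeb97d001),(nat_lit 0xd05cf95955002),(nat_lit 0x95957001),(nat_lit 0xd05d595959002),(nat_lit 0xe6f74001)],[(nat_lit 0xe4294001),(nat_lit 0xe388e001),(nat_lit 0xe3c0d001),(nat_lit 0xe388d001),(nat_lit 0xe388f001),(nat_lit 0xe3890001),(nat_lit 0xe388c001)],[(nat_lit 0xecce3001),(nat_lit 0xee039001),(nat_lit 0xecce2001),(nat_lit 0xecce4001),(nat_lit 0xecce5001),(nat_lit 0xecce6001),(nat_lit 0xee155001)],[(nat_lit 0xed7c9001),(nat_lit 0xed7c8001),(nat_lit 0xed7ca001),(nat_lit 0xed7cb001),(nat_lit 0xed7cc001),(nat_lit 0xee154001),(nat_lit 0xed7ce001)],[(nat_lit 0xed664001),(nat_lit 0xed665001),(nat_lit 0xed735001),(nat_lit 0xed663001),(nat_lit 0xed666001),(nat_lit 0xed667001),(nat_lit 0xee679001)],[(nat_lit 0xd401687484002),(nat_lit 0x88ffe001),(nat_lit 0xad21e87485002),(nat_lit 0xdc840001),(nat_lit 0xae2d0001),(nat_lit 0x87483001),(nat_lit 0xe560f001)],[(nat_lit 0xabcff66dce002),(nat_lit 0xb4f4067877002),(nat_lit 0xc74d4001),(nat_lit 0xb4f6566dcf002),(nat_lit 0xb4f66001),(nat_lit 0x66dcd001),(nat_lit 0xc74d5001)],[(nat_lit 0xe44be001),(nat_lit 0xe44b8001),(nat_lit 0xe5af4001),(nat_lit 0xe5af7001),(nat_lit 0xecc79001),(nat_lit 0xe44bc001),(nat_lit 0xdb929001)],[(nat_lit 0x44983001),(nat_lit 0xd36359759d002),(nat_lit 0x44011001),(nat_lit 0xce0bf001),(nat_lit 0x44010001),(nat_lit 0xd36359759f002),(nat_lit 0xdca77001)],[(nat_lit 0xb20e4001),(nat_lit 0x43f58001),(nat_lit 0xb20e5001),(nat_lit 0x43f57001),(nat_lit 0xb2107b20e6002),(nat_lit 0xb20e7001),(nat_lit 0xd3da7001)],[(nat_lit 0xe942e001),(nat_lit 0xe942d001),(nat_lit 0xe942f001),(nat_lit 0xe951d001),(nat_lit 0xe9430001),(nat_lit 0xe9431001),(nat_lit 0xec696001)],[(nat_lit 0xe8917001),(nat_lit 0xe994c001),(nat_lit 0xe8a91001),(nat_lit 0xe8916001),(nat_lit 0xec958001),(nat_lit 0xe900f001),(nat_lit 0xe8918001)],[(nat_lit 0xd18f0001),(nat_lit 0xeb1e6001),(nat_lit 0x8a0d1001),(nat_lit 0xc525c001),(nat_lit 0x8a0d0001),(nat_lit 0xc525f001),(nat_lit 0xc7f89001)],[(nat_lit 0xd39fd001),(nat_lit 0x95a2b001),(nat_lit 0xd3a00001),(nat_lit 0xd39fa001),(nat_lit 0x95a2a001),(nat_lit 0xd3a01001),(nat_lit 0xd6f25001)],[(nat_lit 0xd8aa2001),(nat_lit 0xb13dc75988002),(nat_lit 0xdae14001),(nat_lit 0xcbb15001),(nat_lit 0xc0f7d75987002),(nat_lit 0xc2534001),(nat_lit 0xd18b2001)],[(nat_lit 0xd84f4001),(nat_lit 0xd84f5001),(nat_lit 0xd84f7001),(nat_lit 0xdbbb9001),(nat_lit 0xd84f3001),(nat_lit 0xd84f6001),(nat_lit 0xe1449001)],[(nat_lit 0xea9ad001),(nat_lit 0xea9ae001),(nat_lit 0xea9ac001),(nat_lit 0xea9b1001),(nat_lit 0xea9af001),(nat_lit 0xea9b0001),(nat_lit 0xea9b2001)],[(nat_lit 0xec3dd001),(nat_lit 0xeecf8001),(nat_lit 0xeecad001),(nat_lit 0xec3dc001),(nat_lit 0xeecf9001),(nat_lit 0xeedf2001),(nat_lit 0x7337c001)],[(nat_lit 0xedc22001),(nat_lit 0xedc21001),(nat_lit 0xedc23001),(nat_lit 0xedcc9001),(nat_lit 0xedc24001),(nat_lit 0xeed5c001),(nat_lit 0xeec12001)],[(nat_lit 0xed67c001),(nat_lit 0xeb9f6001),(nat_lit 0xee143001),(nat_lit 0xeb9f5001),(nat_lit 0xeb9f7001),(nat_lit 0xeb9f9001),(nat_lit 0xeb9f8001)],[(nat_lit 0xeeddf001),(nat_lit 0xeee06001),(nat_lit 0xeede1001),(nat_lit 0xeedde001),(nat_lit 0xef41e001),(nat_lit 0xeede0001),(nat_lit 0xeede2001)],[(nat_lit 0xeed59001),(nat_lit 0xeec9d001),(nat_lit 0xeeca0001),(nat_lit 0xeec9c001),(nat_lit 0xeec9e001),(nat_lit 0xeec9f001),(nat_lit 0xeeca1001)],[(nat_lit 0xedb8a001),(nat_lit 0xecfb1001),(nat_lit 0xecfb0001),(nat_lit 0xed0d0001),(nat_lit 0xed692001),(nat_lit 0xedb16001),(nat_lit 0xecfb2001)],[(nat_lit 0xe93a0001),(nat_lit 0xe4f1b001),(nat_lit 0xe4f18001),(nat_lit 0xe4f17001),(nat_lit 0xe4f19001),(nat_lit 0xe4f1c001),(nat_lit 0xe4f1d001)],[(nat_lit 0xe7f07001),(nat_lit 0xe4f1e001),(nat_lit 0xdc91a001),(nat_lit 0xdc91c001),(nat_lit 0xdc91b001),(nat_lit 0xdc919001),(nat_lit 0xdc92a001)],[(nat_lit 0xe6ede001),(nat_lit 0xe71bb001),(nat_lit 0xe6edc001),(nat_lit 0xe727c001),(nat_lit 0xe6edd001),(nat_lit 0xe748c001),(nat_lit 0xe6edb001)],[(nat_lit 0xea4fd001),(nat_lit 0xe6d9a001),(nat_lit 0xe7489001),(nat_lit 0xe6d99001),(nat_lit 0xe6d9b001),(nat_lit 0xe6d9c001),(nat_lit 0xe6d98001)],[(nat_lit 0xde826001),(nat_lit 0xd3fe6001),(nat_lit 0x9399b001),(nat_lit 0xd3fe7001),(nat_lit 0xd8890001),(nat_lit 0xc2a6a9399a002),(nat_lit 0xcfdd09399d002)],[(nat_lit 0xe9593001),(nat_lit 0xe9594001),(nat_lit 0xe9595001),(nat_lit 0xe9592001),(nat_lit 0xe9596001),(nat_lit 0xe9597001),(nat_lit 0xe9598001)],[(nat_lit 0x2f522001),(nat_lit 0x2f523001),(nat_lit 0x2f524001),(nat_lit 0x54383001),(nat_lit 0x2f525001),(nat_lit 0x45c5e001),(nat_lit 0xc38528a876002)],[(nat_lit 0xd32f6cfb73002),(nat_lit 0xdc1d1001),(nat_lit 0xc383f001),(nat_lit 0xc5270c383c002),(nat_lit 0xcaeb6001),(nat_lit 0xcf64a001),(nat_lit 0x7ae62001)],[(nat_lit 0xebfd4001),(nat_lit 0xe636b001),(nat_lit 0xe6362001),(nat_lit 0xe6361001),(nat_lit 0xe70ee001),(nat_lit 0xe636a001),(nat_lit 0xe7c30001)],[(nat_lit 0xdc24c001),(nat_lit 0xe8dc7001),(nat_lit 0xeb8a9001),(nat_lit 0xd9bca001),(nat_lit 0xe8101001),(nat_lit 0xdc254001),(nat_lit 0xd9bcb001)],[(nat_lit 0xeb98e001),(nat_lit 0xeb98f001),(nat_lit 0xeb990001),(nat_lit 0xeb98d001),(nat_lit 0xed43e001),(nat_lit 0xeb991001),(nat_lit 0xeb992001)],[(nat_lit 0xda748001),(nat_lit 0xda74b001),(nat_lit 0xe2f4c001),(nat_lit 0xda73c56d41002),(nat_lit 0xde931da749002),(nat_lit 0x56d40001),(nat_lit 0xda74c001)],[(nat_lit 0xeb485001),(nat_lit 0xe7fe5001),(nat_lit 0xe7fe4001),(nat_lit 0xe7fe7001),(nat_lit 0xe7fe6001),(nat_lit 0xeb29b001),(nat_lit 0xe83e1001)],[(nat_lit 0xdc773001),(nat_lit 0xe749b001),(nat_lit 0xd4775001),(nat_lit 0xc41c08ec89002),(nat_lit 0xd7552001),(nat_lit 0xd3f4e8ec88002),(nat_lit 0xe3a87001)],[(nat_lit 0xb5497001),(nat_lit 0xb5498001),(nat_lit 0xb54765569a002),(nat_lit 0xb5499001),(nat_lit 0xb546255699002),(nat_lit 0xb549a001),(nat_lit 0xd7ca4001)],[(nat_lit 0xd88db001),(nat_lit 0xe0238001),(nat_lit 0xd88da001),(nat_lit 0xe69d1001),(nat_lit 0xd88dc001),(nat_lit 0xeb189001),(nat_lit 0xd88dd001)],[(nat_lit 0xd3904001),(nat_lit 0xc17458cd13002),(nat_lit 0xe9297001),(nat_lit 0xe94c0001),(nat_lit 0x8cd12001),(nat_lit 0xec924001),(nat_lit 0xe69d0001)],[(nat_lit 0x419dd001),(nat_lit 0xa8ce1419df002),(nat_lit 0xaa25b001),(nat_lit 0x4149f001),(nat_lit 0xaa25c001),(nat_lit 0x419e0001),(nat_lit 0xe3796001)],[(nat_lit 0xcec53c109f002),(nat_lit 0x60b9d001),(nat_lit 0xe07ed001),(nat_lit 0x60b9c001),(nat_lit 0xb94ad9979d002),(nat_lit 0xde290c10a0002),(nat_lit 0xe61ea001)],[(nat_lit 0x98439001),(nat_lit 0x91737001),(nat_lit 0x91736001),(nat_lit 0x9341b001),(nat_lit 0x91738001),(nat_lit 0xee940001),(nat_lit 0xef26c001)],[(nat_lit 0x92ee8001),(nat_lit 0x9341c001),(nat_lit 0xc8080001),(nat_lit 0x915a3001),(nat_lit 0x915a4001),(nat_lit 0xef0e7001),(nat_lit 0xde68e001)],[(nat_lit 0x65638001),(nat_lit 0x65345001),(nat_lit 0x648fb001),(nat_lit 0xce3ef001),(nat_lit 0x648fa001),(nat_lit 0x6563c001),(nat_lit 0xe43c9001)],[(nat_lit 0x61230001),(nat_lit 0x615a0001),(nat_lit 0x61231001),(nat_lit 0x61a8b001),(nat_lit 0x61a8d001),(nat_lit 0x61a90001),(nat_lit 0xc3459001)],[(nat_lit 0xe54da001),(nat_lit 0xd86f3001),(nat_lit 0xd86f4001),(nat_lit 0xd86f6001),(nat_lit 0xd86f5001),(nat_lit 0xdb1f9001),(nat_lit 0xd86f8001)],[(nat_lit 0xe6d1f001),(nat_lit 0xe6d22001),(nat_lit 0xe6f69001),(nat_lit 0xe6d20001),(nat_lit 0xe6d21001),(nat_lit 0xe6d23001),(nat_lit 0xe6d1e001)],[(nat_lit 0xeee30001),(nat_lit 0xed5b9001),(nat_lit 0xed67f001),(nat_lit 0xed5b7001),(nat_lit 0xed5b8001),(nat_lit 0xed684001),(nat_lit 0xed5b6001)],[(nat_lit 0xe9a6a001),(nat_lit 0xe89f7001),(nat_lit 0xe8cf0001),(nat_lit 0xe89f6001),(nat_lit 0xeed22001),(nat_lit 0xe89f9001),(nat_lit 0xe89f8001)],[(nat_lit 0xe60a9001),(nat_lit 0xec311001),(nat_lit 0xe60aa001),(nat_lit 0xe60a8001),(nat_lit 0xe60ab001),(nat_lit 0xe79f5001),(nat_lit 0xe832c001)],[(nat_lit 0x916ec001),(nat_lit 0xd803b001),(nat_lit 0x6fc13001),(nat_lit 0x6fc12001),(nat_lit 0xd803c001),(nat_lit 0x6fc14001),(nat_lit 0xc2624001)],[(nat_lit 0xee31a001),(nat_lit 0xee31c001),(nat_lit 0xee32f001),(nat_lit 0xee31b001),(nat_lit 0xee31d001),(nat_lit 0xee31e001),(nat_lit 0xee319001)],[(nat_lit 0xde8b0001),(nat_lit 0xe61fa001),(nat_lit 0xd8426935cd002),(nat_lit 0xd8425001),(nat_lit 0xed80d001),(nat_lit 0x935cc001),(nat_lit 0xe297f001)],[(nat_lit 0xd845d001),(nat_lit 0xe62a0001),(nat_lit 0xd845e001),(nat_lit 0xd845f001),(nat_lit 0xd8460001),(nat_lit 0xd8461001),(nat_lit 0x87669001)],[(nat_lit 0xe3dcb001),(nat_lit 0xe3c41001),(nat_lit 0xed80a001),(nat_lit 0xe767b001),(nat_lit 0xd8cb0001),(nat_lit 0xd8cb1001),(nat_lit 0xe2981001)],[(nat_lit 0xd57a88dbc2002),(nat_lit 0x8dbcd001),(nat_lit 0xee6c2001),(nat_lit 0xd68348cce7002),(nat_lit 0xea347001),(nat_lit 0xb068f8cce6002),(nat_lit 0xde72c001)],[(nat_lit 0xd97e7001),(nat_lit 0xeb0c6001),(nat_lit 0xd97e8001),(nat_lit 0xd97e9001),(nat_lit 0xda6b4001),(nat_lit 0xd97e6001),(nat_lit 0xd97ea001)],[(nat_lit 0x36d5f001),(nat_lit 0xd8e7f001),(nat_lit 0xda6b2001),(nat_lit 0x36d5e001),(nat_lit 0x36d60001),(nat_lit 0x38453001),(nat_lit 0xda6b6001)],[(nat_lit 0xb2070816e5002),(nat_lit 0xb20ea001),(nat_lit 0xb21a2b20eb002),(nat_lit 0x43f5d001),(nat_lit 0xb20ec001),(nat_lit 0x43f5c001),(nat_lit 0xcc5a3001)],[(nat_lit 0x3a93b001),(nat_lit 0x3a93c001),(nat_lit 0xdcdc2001),(nat_lit 0x3a93a001),(nat_lit 0x46968001),(nat_lit 0x927dd001),(nat_lit 0xe286b001)],[(nat_lit 0x6a6ed001),(nat_lit 0x43904001),(nat_lit 0x43903001),(nat_lit 0x6abe7001),(nat_lit 0x43905001),(nat_lit 0x94496001),(nat_lit 0xd9d00001)],[(nat_lit 0x3a231001),(nat_lit 0x3a232001),(nat_lit 0xd5aea937ec002),(nat_lit 0x3a233001),(nat_lit 0xef05e935d6002),(nat_lit 0x3a234001),(nat_lit 0xd794c001)],[(nat_lit 0xe59e9001),(nat_lit 0xe584e001),(nat_lit 0xe584d001),(nat_lit 0xe5d97001),(nat_lit 0xe584f001),(nat_lit 0xe61fb001),(nat_lit 0x98472001)],[(nat_lit 0xe1327001),(nat_lit 0xe3b6b001),(nat_lit 0xe1328001),(nat_lit 0xe1326001),(nat_lit 0xe1329001),(nat_lit 0xe29f2001),(nat_lit 0xe132a001)],[(nat_lit 0xaad04001),(nat_lit 0x8501a001),(nat_lit 0xd706eaad05002),(nat_lit 0x85019001),(nat_lit 0xa94a08501b002),(nat_lit 0xef05eaad06002),(nat_lit 0xe2e99001)],[(nat_lit 0xc301a001),(nat_lit 0xd8e35001),(nat_lit 0xa5a0a7dfc7002),(nat_lit 0xdf710001),(nat_lit 0xd8e2ba76ad002),(nat_lit 0x7dfc6001),(nat_lit 0xd4218001)],[(nat_lit 0xe9b29001),(nat_lit 0xe4d93001),(nat_lit 0xe4d94001),(nat_lit 0xe83f8001),(nat_lit 0xe4d95001),(nat_lit 0xeb0c8001),(nat_lit 0xe5f2d001)],[(nat_lit 0xb8c3844017002),(nat_lit 0xb8c4e001),(nat_lit 0xb8c4f001),(nat_lit 0xb8c50001),(nat_lit 0xc373c44016002),(nat_lit 0xb8c51001),(nat_lit 0xd02a2001)],[(nat_lit 0x934ab001),(nat_lit 0xef05e935d7002),(nat_lit 0xdcb23001),(nat_lit 0x98133001),(nat_lit 0x934aa001),(nat_lit 0xa94a1934ac002),(nat_lit 0xea63f001)],[(nat_lit 0xecb55001),(nat_lit 0xee7b2001),(nat_lit 0xecb54001),(nat_lit 0xecb58001),(nat_lit 0xecb56001),(nat_lit 0xecb57001),(nat_lit 0xecb59001)],[(nat_lit 0x9811b001),(nat_lit 0xe747a001),(nat_lit 0xe163d001),(nat_lit 0x9811c001),(nat_lit 0x9811a001),(nat_lit 0x9943d001),(nat_lit 0xe7264001)],[(nat_lit 0xe9200001),(nat_lit 0xcdfec001),(nat_lit 0x70ee3001),(nat_lit 0xca765001),(nat_lit 0xb49fe70ee2002),(nat_lit 0xcdfed001),(nat_lit 0xe242c001)],[(nat_lit 0xed508001),(nat_lit 0xed50d001),(nat_lit 0xed507001),(nat_lit 0xed509001),(nat_lit 0xed50a001),(nat_lit 0xed50b001),(nat_lit 0xed50c001)],[(nat_lit 0xe8d17001),(nat_lit 0xe8d18001),(nat_lit 0xe8d16001),(nat_lit 0xe8d1b001),(nat_lit 0xe8d19001),(nat_lit 0xe8d1a001),(nat_lit 0xed6e5001)],[(nat_lit 0xe7d84001),(nat_lit 0xe7d85001),(nat_lit 0xe7d87001),(nat_lit 0xe7d83001),(nat_lit 0xe7d86001),(nat_lit 0xe7d8a001),(nat_lit 0xe7d88001)],[(nat_lit 0xea2d9001),(nat_lit 0xea2da001),(nat_lit 0xea2dd001),(nat_lit 0xea2d8001),(nat_lit 0xea2db001),(nat_lit 0xed624001),(nat_lit 0xea2dc001)],[(nat_lit 0xe95df001),(nat_lit 0xe95e0001),(nat_lit 0xe95e1001),(nat_lit 0xe95de001),(nat_lit 0xee629001),(nat_lit 0xe95e2001),(nat_lit 0xe95e3001)],[(nat_lit 0x691e0001),(nat_lit 0xe89d0001),(nat_lit 0xccb81691df002),(nat_lit 0xe12bd001),(nat_lit 0xed4ae001),(nat_lit 0x691e1001),(nat_lit 0xd0c37001)],[(nat_lit 0xeed02001),(nat_lit 0xe8950001),(nat_lit 0xe9ba2001),(nat_lit 0xe9c88001),(nat_lit 0xe8951001),(nat_lit 0xe89d1001),(nat_lit 0xe8952001)],[(nat_lit 0xe6539001),(nat_lit 0xe653a001),(nat_lit 0xe653b001),(nat_lit 0xe6538001),(nat_lit 0xe69d9001),(nat_lit 0xe7834001),(nat_lit 0xe653c001)],[(nat_lit 0xcdd26738d8002),(nat_lit 0x738dd001),(nat_lit 0x73271001),(nat_lit 0x7353b001),(nat_lit 0x7314c001),(nat_lit 0xe3ecd001),(nat_lit 0xd851b001)],[(nat_lit 0x9fdc4001),(nat_lit 0x746fc001),(nat_lit 0xda822001),(nat_lit 0x746fb001),(nat_lit 0x746fd001),(nat_lit 0xbab94001),(nat_lit 0xdf9f4001)],[(nat_lit 0xe3753001),(nat_lit 0xe3752001),(nat_lit 0xe3754001),(nat_lit 0xe3755001),(nat_lit 0xe3756001),(nat_lit 0xe3757001),(nat_lit 0xe3758001)],[(nat_lit 0xc1076001),(nat_lit 0x4446a001),(nat_lit 0xc107560208002),(nat_lit 0xc1077001),(nat_lit 0xc105944828002),(nat_lit 0x44469001),(nat_lit 0xed54b001)],[(nat_lit 0xd7156001),(nat_lit 0xe970ad827e002),(nat_lit 0xeaa66001),(nat_lit 0xd4998001),(nat_lit 0xe3f06001),(nat_lit 0xd827b001),(nat_lit 0x940df001)],[(nat_lit 0xd3708001),(nat_lit 0x940f8001),(nat_lit 0xde218955a2002),(nat_lit 0x95900001),(nat_lit 0x940f9001),(nat_lit 0xc108d95902002),(nat_lit 0xd72db001)],[(nat_lit 0xef481001),(nat_lit 0xef48b001),(nat_lit 0xef480001),(nat_lit 0xef488001),(nat_lit 0xef484001),(nat_lit 0xef482001),(nat_lit 0xef483001)],[(nat_lit 0xee23f001),(nat_lit 0xee23e001),(nat_lit 0xee240001),(nat_lit 0xee281001),(nat_lit 0xee241001),(nat_lit 0xef48f001),(nat_lit 0xee242001)],[(nat_lit 0x5eb22001),(nat_lit 0xee283001),(nat_lit 0x5eb21001),(nat_lit 0xd27db001),(nat_lit 0xebbe5001),(nat_lit 0xef48a001),(nat_lit 0xeccb7001)],[(nat_lit 0xd7f92001),(nat_lit 0x953ef001),(nat_lit 0x953f0001),(nat_lit 0xd4ece001),(nat_lit 0x953f1001),(nat_lit 0xe7fa8001),(nat_lit 0xd6922001)],[(nat_lit 0xe80f5001),(nat_lit 0x9027c001),(nat_lit 0x9027d001),(nat_lit 0xd60fe001),(nat_lit 0xea730001),(nat_lit 0x9027e001),(nat_lit 0xd9c33001)],[(nat_lit 0xe89ca001),(nat_lit 0x956f8001),(nat_lit 0xe7fa4001),(nat_lit 0xd73d1001),(nat_lit 0xd73d0001),(nat_lit 0x956f7001),(nat_lit 0xd79ed001)],[(nat_lit 0xd8302001),(nat_lit 0x512d3001),(nat_lit 0xd5383001),(nat_lit 0x512d2001),(nat_lit 0xe94fc001),(nat_lit 0xd70df001),(nat_lit 0xeba45001)],[(nat_lit 0x71aca001),(nat_lit 0xb1f57001),(nat_lit 0x719a7001),(nat_lit 0x719a8001),(nat_lit 0xb1f58001),(nat_lit 0x71a0a001),(nat_lit 0xc5956001)],[(nat_lit 0xcc42a001),(nat_lit 0xb222787de0002),(nat_lit 0x87de1001),(nat_lit 0xee03a001),(nat_lit 0xcc42b001),(nat_lit 0x87de2001),(nat_lit 0xdca46001)],[(nat_lit 0xeac0c001),(nat_lit 0xeac0e001),(nat_lit 0xeac45001),(nat_lit 0xeac0d001),(nat_lit 0xeac0f001),(nat_lit 0xeb494001),(nat_lit 0xeac0b001)],[(nat_lit 0xd5b73001),(nat_lit 0xd6a53001),(nat_lit 0xd6d3f001),(nat_lit 0xd16937113c002),(nat_lit 0xd6d41001),(nat_lit 0x7113b001),(nat_lit 0xde973001)],[(nat_lit 0x8692d001),(nat_lit 0x8692c001),(nat_lit 0xb8b62001),(nat_lit 0x8692e001),(nat_lit 0xb8b63001),(nat_lit 0xe8415001),(nat_lit 0xeefc8001)],[(nat_lit 0xee03b001),(nat_lit 0xbbeb591a7b002),(nat_lit 0xd1842001),(nat_lit 0xb37ea91a7a002),(nat_lit 0xb286391a7c002),(nat_lit 0xe8408001),(nat_lit 0xef601001)],[(nat_lit 0xe81bf001),(nat_lit 0xe81db001),(nat_lit 0xe8412001),(nat_lit 0xe8404001),(nat_lit 0xe81be001),(nat_lit 0xe81c0001),(nat_lit 0xe81c1001)],[(nat_lit 0xdca44001),(nat_lit 0xeb423001),(nat_lit 0xe39df001),(nat_lit 0xdc4bb001),(nat_lit 0xea4bf001),(nat_lit 0xdc4bc001),(nat_lit 0xdc4bd001)],[(nat_lit 0x424df001),(nat_lit 0xe8406001),(nat_lit 0x424de001),(nat_lit 0xe81d5001),(nat_lit 0xcc58e001),(nat_lit 0x424e0001),(nat_lit 0xdf048001)],[(nat_lit 0xeae8d001),(nat_lit 0xeb049001),(nat_lit 0xeae8c001),(nat_lit 0xeaf8b001),(nat_lit 0xeae8e001),(nat_lit 0xeae8f001),(nat_lit 0xeae90001)],[(nat_lit 0x87504001),(nat_lit 0xe8fca001),(nat_lit 0x87503001),(nat_lit 0xc1f48001),(nat_lit 0x87505001),(nat_lit 0xeb04c001),(nat_lit 0xd0864001)],[(nat_lit 0xe67dd001),(nat_lit 0xc3a088ebb2002),(nat_lit 0xe53f7001),(nat_lit 0xdededd33ff002),(nat_lit 0xe6a41001),(nat_lit 0x8ebb1001),(nat_lit 0xd5e21001)],[(nat_lit 0xe5ab6001),(nat_lit 0xe529a001),(nat_lit 0xe529e001),(nat_lit 0xe535c001),(nat_lit 0xe529b001),(nat_lit 0xe529c001),(nat_lit 0xe529d001)],[(nat_lit 0xaeb3d6c4cb002),(nat_lit 0xaeb766c4cc002),(nat_lit 0x6c4cd001),(nat_lit 0xaf223001),(nat_lit 0xc9919af224002),(nat_lit 0x6c4ce001),(nat_lit 0xce1e8001)],[(nat_lit 0xda7f8001),(nat_lit 0xdba14001),(nat_lit 0xdff07001),(nat_lit 0xdd9ea001),(nat_lit 0xdb9cc001),(nat_lit 0xda7fb001),(nat_lit 0x6947c001)],[(nat_lit 0xd33ce5f620002),(nat_lit 0x5ecb1001),(nat_lit 0xb02605f625002),(nat_lit 0x5f25f001),(nat_lit 0x5ecb2001),(nat_lit 0x5ecb0001),(nat_lit 0xcaa17001)],[(nat_lit 0xe7baf001),(nat_lit 0xed883001),(nat_lit 0x95adb001),(nat_lit 0xe723a001),(nat_lit 0xcb21295ada002),(nat_lit 0xecfb6001),(nat_lit 0xecfb7001)],[(nat_lit 0xe2cfb001),(nat_lit 0xeb4bf001),(nat_lit 0xe6f7b001),(nat_lit 0xe2cfc001),(nat_lit 0xe723b001),(nat_lit 0xe2cfd001),(nat_lit 0xe2cfa001)],[(nat_lit 0x69bfc001),(nat_lit 0x69bfd001),(nat_lit 0x69bfe001),(nat_lit 0x69bfb001),(nat_lit 0x6ad06001),(nat_lit 0x69c05001),(nat_lit 0xcd05f001)],[(nat_lit 0x3faa3001),(nat_lit 0xd7b446973f002),(nat_lit 0x3faa2001),(nat_lit 0x68e6d001),(nat_lit 0x83898001),(nat_lit 0x631f0001),(nat_lit 0xce202001)],[(nat_lit 0xe8009001),(nat_lit 0xe83ca001),(nat_lit 0xe800c001),(nat_lit 0xe8008001),(nat_lit 0xe800a001),(nat_lit 0xe800b001),(nat_lit 0xe800d001)],[(nat_lit 0x71d5f001),(nat_lit 0xcae6f001),(nat_lit 0x71061001),(nat_lit 0x71a0b001),(nat_lit 0x71d63001),(nat_lit 0x71060001),(nat_lit 0xbbc98001)],[(nat_lit 0x449a0001),(nat_lit 0xb23c2b22af002),(nat_lit 0xb249fb22b0002),(nat_lit 0x449a1001),(nat_lit 0xb24a0001),(nat_lit 0x4499f001),(nat_lit 0xcb615001)],[(nat_lit 0xe0a0c001),(nat_lit 0xe0a0e001),(nat_lit 0xe0a0b001),(nat_lit 0xe0a0d001),(nat_lit 0xe10b4001),(nat_lit 0xe0a0f001),(nat_lit 0xe0a0a001)],[(nat_lit 0x8b180001),(nat_lit 0xd3d5f8b181002),(nat_lit 0xe3576001),(nat_lit 0x8b182001),(nat_lit 0xd008d001),(nat_lit 0xe2b49001),(nat_lit 0xcf304001)],[(nat_lit 0xe3360001),(nat_lit 0xe8239001),(nat_lit 0xe3f97001),(nat_lit 0xe823b001),(nat_lit 0xe335f001),(nat_lit 0xe3361001),(nat_lit 0xe3362001)],[(nat_lit 0xe5c3c001),(nat_lit 0xe5c3d001),(nat_lit 0xe5c3e001),(nat_lit 0xe5c3b001),(nat_lit 0xe5c40001),(nat_lit 0xe7c5e001),(nat_lit 0xe5c3f001)],[(nat_lit 0x46193001),(nat_lit 0xbc67b9777d002),(nat_lit 0x46192001),(nat_lit 0x46194001),(nat_lit 0xe5980001),(nat_lit 0x46195001),(nat_lit 0xc6a5c001)],[(nat_lit 0xe8411001),(nat_lit 0x85825001),(nat_lit 0x86e60001),(nat_lit 0xdd12385824002),(nat_lit 0x863c5001),(nat_lit 0x85826001),(nat_lit 0xef125001)],[(nat_lit 0x45062001),(nat_lit 0x965118092e002),(nat_lit 0x45061001),(nat_lit 0xb3dd592954002),(nat_lit 0x45063001),(nat_lit 0x45064001),(nat_lit 0xdee7c001)],[(nat_lit 0x82d5c001),(nat_lit 0x82d61001),(nat_lit 0xc2683001),(nat_lit 0xa7c2a81985002),(nat_lit 0x81986001),(nat_lit 0xcfe04001),(nat_lit 0xb6caf001)],[(nat_lit 0x7f7be001),(nat_lit 0x4537b44dc2002),(nat_lit 0x754bb001),(nat_lit 0xd03ee001),(nat_lit 0x4537944dc1002),(nat_lit 0xd18ea001),(nat_lit 0xd413e001)],[(nat_lit 0xeb7e1001),(nat_lit 0xe9d71001),(nat_lit 0xe9d6e001),(nat_lit 0xe9d70001),(nat_lit 0xe9d6f001),(nat_lit 0xee889001),(nat_lit 0xec04c001)],[(nat_lit 0xee88c001),(nat_lit 0xee88d001),(nat_lit 0xee88b001),(nat_lit 0xee88e001),(nat_lit 0xee88f001),(nat_lit 0xee890001),(nat_lit 0xee891001)],[(nat_lit 0xd2302001),(nat_lit 0xd34f046477002),(nat_lit 0xd2303001),(nat_lit 0xd8118d2304002),(nat_lit 0x46476001),(nat_lit 0xd2305001),(nat_lit 0xdf075001)],[(nat_lit 0x957d3001),(nat_lit 0xec61a001),(nat_lit 0x957d2001),(nat_lit 0xe4acd001),(nat_lit 0xca19d97a37002),(nat_lit 0xe787f001),(nat_lit 0xedc4f001)],[(nat_lit 0xe1157001),(nat_lit 0xe1156001),(nat_lit 0xe1158001),(nat_lit 0xe1b8b001),(nat_lit 0xe1159001),(nat_lit 0xe4053001),(nat_lit 0xe1b91001)],[(nat_lit 0xe7eca001),(nat_lit 0xe85b4001),(nat_lit 0xe5532001),(nat_lit 0xe5534001),(nat_lit 0xe5533001),(nat_lit 0xe776f001),(nat_lit 0xe5539001)],[(nat_lit 0x89f77001),(nat_lit 0x88068001),(nat_lit 0x8901b001),(nat_lit 0xcfb81001),(nat_lit 0xb7d5e88067002),(nat_lit 0xb7d84001),(nat_lit 0xd37ff001)],[(nat_lit 0x4be4f001),(nat_lit 0x29388001),(nat_lit 0x7912c001),(nat_lit 0x29387001),(nat_lit 0x29389001),(nat_lit 0x6b35f001),(nat_lit 0xc0a2a7baf1002)],[(nat_lit 0x8a32b001),(nat_lit 0x8a32f001),(nat_lit 0x8a331001),(nat_lit 0x8a333001),(nat_lit 0x89e41001),(nat_lit 0x89afe001),(nat_lit 0xd0e5a001)],[(nat_lit 0xee4cb001),(nat_lit 0x839f5001),(nat_lit 0xe4543001),(nat_lit 0xd786c001),(nat_lit 0xe4cdc001),(nat_lit 0x839f4001),(nat_lit 0xd8007001)],[(nat_lit 0xe8883001),(nat_lit 0xeb5c6001),(nat_lit 0xe8882001),(nat_lit 0xe8a23001),(nat_lit 0xe8884001),(nat_lit 0xe8885001),(nat_lit 0xe8886001)],[(nat_lit 0xc9e34001),(nat_lit 0xe48f9001),(nat_lit 0xcc848001),(nat_lit 0xe403a001),(nat_lit 0xe8a24001),(nat_lit 0xd5c7a001),(nat_lit 0x983f6001)],[(nat_lit 0x60456001),(nat_lit 0x6068b001),(nat_lit 0x60c34001),(nat_lit 0x60d82001),(nat_lit 0x60457001),(nat_lit 0x60d84001),(nat_lit 0xc18fc001)],[(nat_lit 0x60060001),(nat_lit 0xa5b4d001),(nat_lit 0x5f9bd001),(nat_lit 0xb53f6ae56a002),(nat_lit 0x60067001),(nat_lit 0x60069001),(nat_lit 0xbdbb3001)],[(nat_lit 0x417a5001),(nat_lit 0x439cc001),(nat_lit 0x94610001),(nat_lit 0x417a4001),(nat_lit 0x42015001),(nat_lit 0x439cd001),(nat_lit 0xe51b8001)],[(nat_lit 0xe2ac0001),(nat_lit 0xe29d3001),(nat_lit 0xe29d4001),(nat_lit 0xe29d2001),(nat_lit 0xe9768001),(nat_lit 0xe29d5001),(nat_lit 0xe29d6001)],[(nat_lit 0x4ae27001),(nat_lit 0x2f2cb001),(nat_lit 0x926cc89a9b002),(nat_lit 0x2f2ca001),(nat_lit 0x8a2b6001),(nat_lit 0x2fa90001),(nat_lit 0x8a613001)],[(nat_lit 0x2f264001),(nat_lit 0x4ae28001),(nat_lit 0x3114f001),(nat_lit 0x2f263001),(nat_lit 0xb06bc8a207002),(nat_lit 0x2f9ed001),(nat_lit 0x8a5dc001)],[(nat_lit 0xd81ac001),(nat_lit 0x654c7001),(nat_lit 0xe60d0001),(nat_lit 0x654c8001),(nat_lit 0xe800a001),(nat_lit 0x654c6001),(nat_lit 0xd2b5d001)],[(nat_lit 0x8a20a001),(nat_lit 0xd7a2c001),(nat_lit 0x89a06001),(nat_lit 0xe18aa001),(nat_lit 0x8a216001),(nat_lit 0x8a218001),(nat_lit 0xda248001)],[(nat_lit 0x83fa3001),(nat_lit 0xc40cb001),(nat_lit 0xc40cc001),(nat_lit 0xe9b80001),(nat_lit 0xabea383fa2002),(nat_lit 0xc40cd001),(nat_lit 0xe703d001)],[(nat_lit 0xee594001),(nat_lit 0xe163f001),(nat_lit 0xee1e1001),(nat_lit 0xee172001),(nat_lit 0xe1267001),(nat_lit 0xe54d1001),(nat_lit 0x8bb6a001)],[(nat_lit 0xc78d9856b3002),(nat_lit 0x2fad7001),(nat_lit 0xc4c1b85f07002),(nat_lit 0x856b7001),(nat_lit 0x30205001),(nat_lit 0x2fad6001),(nat_lit 0x8ad0c001)],[(nat_lit 0x93e41001),(nat_lit 0xc48b593e44002),(nat_lit 0x95608001),(nat_lit 0xa8b6374c54002),(nat_lit 0x95346001),(nat_lit 0x74c53001),(nat_lit 0xed4df001)],[(nat_lit 0xec812001),(nat_lit 0xe8dd5001),(nat_lit 0xe8dd7001),(nat_lit 0xe8dd4001),(nat_lit 0xe8dd6001),(nat_lit 0xeb8a2001),(nat_lit 0xe8dd8001)],[(nat_lit 0xc3d54001),(nat_lit 0xd5284001),(nat_lit 0xc3d4c5f41c002),(nat_lit 0xe0fef001),(nat_lit 0xc3d55001),(nat_lit 0x5f41b001),(nat_lit 0xcf5a9001)],[(nat_lit 0xecbcc001),(nat_lit 0x51e74001),(nat_lit 0xcb9ac001),(nat_lit 0xcb9ad001),(nat_lit 0x51e73001),(nat_lit 0xb11a9001),(nat_lit 0xedda8001)],[(nat_lit 0xeea32001),(nat_lit 0xeb243001),(nat_lit 0xeb244001),(nat_lit 0xee91b001),(nat_lit 0xeb245001),(nat_lit 0xeb242001),(nat_lit 0xeb427001)],[(nat_lit 0xe1576001),(nat_lit 0xe1575001),(nat_lit 0xe190f001),(nat_lit 0xe1574001),(nat_lit 0xe1577001),(nat_lit 0xe1578001),(nat_lit 0xe1573001)],[(nat_lit 0xc181f001),(nat_lit 0x5f674001),(nat_lit 0xc2332001),(nat_lit 0x5f673001),(nat_lit 0xc233d001),(nat_lit 0xde174001),(nat_lit 0xc92a9001)],[(nat_lit 0xeddf5001),(nat_lit 0xed685001),(nat_lit 0xed686001),(nat_lit 0xeec15001),(nat_lit 0xed687001),(nat_lit 0xed688001),(nat_lit 0xed689001)],[(nat_lit 0xec7a7001),(nat_lit 0xe4b2e001),(nat_lit 0xe4ec8001),(nat_lit 0xe4b2d001),(nat_lit 0xeec16001),(nat_lit 0xe4ecd001),(nat_lit 0xe4b2f001)],[(nat_lit 0x938ba001),(nat_lit 0xd33fb001),(nat_lit 0x938bb001),(nat_lit 0xee688001),(nat_lit 0x938b9001),(nat_lit 0x95607001),(nat_lit 0xee68c001)],[(nat_lit 0x413b3001),(nat_lit 0xcaee479169002),(nat_lit 0xc37a181d4a002),(nat_lit 0x413b4001),(nat_lit 0x7a4c7001),(nat_lit 0x413b2001),(nat_lit 0xd025f001)],[(nat_lit 0xee565001),(nat_lit 0xed221001),(nat_lit 0xed222001),(nat_lit 0xed220001),(nat_lit 0xed226001),(nat_lit 0xed225001),(nat_lit 0xed223001)],[(nat_lit 0xb0ed084197002),(nat_lit 0x833f2001),(nat_lit 0x833f0001),(nat_lit 0xbede9b0ed4002),(nat_lit 0x833ef001),(nat_lit 0x833f1001),(nat_lit 0xeb552001)],[(nat_lit 0xef5a3001),(nat_lit 0xef5a4001),(nat_lit 0xef5b4001),(nat_lit 0xef5a7001),(nat_lit 0xef5a2001),(nat_lit 0xef5a5001),(nat_lit 0xef5a6001)],[(nat_lit 0x581f5001),(nat_lit 0x581f6001),(nat_lit 0xef486001),(nat_lit 0x581f7001),(nat_lit 0xebf22001),(nat_lit 0x581f8001),(nat_lit 0xed4e7001)],[(nat_lit 0xeee3d001),(nat_lit 0xeee3e001),(nat_lit 0xeee3c001),(nat_lit 0xef64a001),(nat_lit 0xef489001),(nat_lit 0xeee3f001),(nat_lit 0xeef0b001)],[(nat_lit 0xe9703001),(nat_lit 0xebecc001),(nat_lit 0xebe09001),(nat_lit 0xdf1d5001),(nat_lit 0xdf1d6001),(nat_lit 0xdf1d7001),(nat_lit 0xdf1d4001)],[(nat_lit 0xe9b3c001),(nat_lit 0xe9b3d001),(nat_lit 0xe9b3e001),(nat_lit 0xe9d41001),(nat_lit 0xe9b3f001),(nat_lit 0xed4d5001),(nat_lit 0xe9b40001)],[(nat_lit 0xea058001),(nat_lit 0xeefcb001),(nat_lit 0xea22d001),(nat_lit 0xea05b001),(nat_lit 0xea057001),(nat_lit 0xea059001),(nat_lit 0xea05a001)],[(nat_lit 0xef029001),(nat_lit 0xed4f0001),(nat_lit 0xea25e001),(nat_lit 0xea25c001),(nat_lit 0xea25d001),(nat_lit 0xea269001),(nat_lit 0xea264001)],[(nat_lit 0x6c8d0001),(nat_lit 0x6d882001),(nat_lit 0x6e8c5001),(nat_lit 0x6c8d1001),(nat_lit 0x6d440001),(nat_lit 0x6c8cf001),(nat_lit 0xe1248001)],[(nat_lit 0xed775001),(nat_lit 0xed776001),(nat_lit 0xed774001),(nat_lit 0xed7af001),(nat_lit 0xed777001),(nat_lit 0xedcef001),(nat_lit 0xed778001)],[(nat_lit 0xe286f001),(nat_lit 0xdc9ef001),(nat_lit 0xe3b14001),(nat_lit 0xdc9ee001),(nat_lit 0xe2f30001),(nat_lit 0xe3498001),(nat_lit 0xdc9ed001)],[(nat_lit 0xd8c6f001),(nat_lit 0x8f8cb001),(nat_lit 0x96ef4001),(nat_lit 0x8f8ca001),(nat_lit 0xd5ef5001),(nat_lit 0x8f8cc001),(nat_lit 0xe297f001)],[(nat_lit 0xe85a9001),(nat_lit 0xe6b72001),(nat_lit 0xe6b71001),(nat_lit 0xe6b73001),(nat_lit 0xed85e001),(nat_lit 0xe6b75001),(nat_lit 0xe6b74001)],[(nat_lit 0xd19c1001),(nat_lit 0x644e8001),(nat_lit 0x7b5b3001),(nat_lit 0xcfc4e001),(nat_lit 0x644e7001),(nat_lit 0xd2541001),(nat_lit 0xdd4af001)],[(nat_lit 0xeb794001),(nat_lit 0xbe1c0936aa002),(nat_lit 0xd10be001),(nat_lit 0xea55f001),(nat_lit 0x936a9001),(nat_lit 0xea182001),(nat_lit 0xd10bf001)],[(nat_lit 0xedbe2001),(nat_lit 0xedba0001),(nat_lit 0xedc2e001),(nat_lit 0xedb9f001),(nat_lit 0xedba1001),(nat_lit 0xedba2001),(nat_lit 0xedba3001)],[(nat_lit 0x97e85001),(nat_lit 0xd9ab8001),(nat_lit 0xeb185001),(nat_lit 0x97e86001),(nat_lit 0xd8a03001),(nat_lit 0x97e84001),(nat_lit 0xe6ff5001)],[(nat_lit 0xd9a93001),(nat_lit 0xdbe16001),(nat_lit 0xd9a94001),(nat_lit 0xd9a95001),(nat_lit 0xeaccc001),(nat_lit 0xd9a92001),(nat_lit 0xe8df5001)],[(nat_lit 0xe6698e475e002),(nat_lit 0xe6695001),(nat_lit 0xe475d001),(nat_lit 0xe475f001),(nat_lit 0xe6c22e669e002),(nat_lit 0xe4760001),(nat_lit 0xe475c001)],[(nat_lit 0xe6c0b7dfa6002),(nat_lit 0xe6c22e6c17002),(nat_lit 0xe6c18001),(nat_lit 0xe6c197dfa5002),(nat_lit 0xe6c1a001),(nat_lit 0xe6c22e6c1b002),(nat_lit 0xe6c1c001)],[(nat_lit 0x8e123001),(nat_lit 0xea3b9dbcb5002),(nat_lit 0xb0bb38e124002),(nat_lit 0xae3cb001),(nat_lit 0xad3228e122002),(nat_lit 0xeaccd001),(nat_lit 0xded67001)],[(nat_lit 0xee244001),(nat_lit 0xeba25001),(nat_lit 0xeba24001),(nat_lit 0xebac9001),(nat_lit 0xebdf8001),(nat_lit 0xeba26001),(nat_lit 0xeba23001)],[(nat_lit 0xdeccd001),(nat_lit 0xde661001),(nat_lit 0xde662001),(nat_lit 0xde663001),(nat_lit 0xe30ac001),(nat_lit 0xde664001),(nat_lit 0xdb787001)],[(nat_lit 0x97f72001),(nat_lit 0x74103001),(nat_lit 0xd6ee3001),(nat_lit 0x74102001),(nat_lit 0xd6ed796374002),(nat_lit 0xee99d001),(nat_lit 0xebdf3001)],[(nat_lit 0xe95a8001),(nat_lit 0xe95ac001),(nat_lit 0xe95a9001),(nat_lit 0xe95a7001),(nat_lit 0xe95ab001),(nat_lit 0xe95aa001),(nat_lit 0xec0f2001)],[(nat_lit 0xee926001),(nat_lit 0xef0e4001),(nat_lit 0xee925001),(nat_lit 0xee93d001),(nat_lit 0xee929001),(nat_lit 0xee927001),(nat_lit 0xee928001)],[(nat_lit 0xd9e6f001),(nat_lit 0x9341c001),(nat_lit 0xd790c001),(nat_lit 0x9341b001),(nat_lit 0xafda59341d002),(nat_lit 0xee927001),(nat_lit 0xca74a001)],[(nat_lit 0xef6b0001),(nat_lit 0xef6af001),(nat_lit 0xef6b4001),(nat_lit 0xef6c1001),(nat_lit 0xef6b1001),(nat_lit 0xef6b2001),(nat_lit 0xef6b3001)],[(nat_lit 0xe9739001),(nat_lit 0xe9d43001),(nat_lit 0xe9738001),(nat_lit 0xe9854001),(nat_lit 0xe973a001),(nat_lit 0xe973b001),(nat_lit 0xe973c001)],[(nat_lit 0xeda12001),(nat_lit 0xeda13001),(nat_lit 0xedb03001),(nat_lit 0xeda11001),(nat_lit 0xedb08001),(nat_lit 0xedec4001),(nat_lit 0xeda14001)],[(nat_lit 0xe9703001),(nat_lit 0xe96fe001),(nat_lit 0xec5d0001),(nat_lit 0xe96ff001),(nat_lit 0xec1fb001),(nat_lit 0xe9700001),(nat_lit 0xe9701001)],[(nat_lit 0xef672001),(nat_lit 0xef625001),(nat_lit 0xef624001),(nat_lit 0xef67e001),(nat_lit 0xef626001),(nat_lit 0xef675001),(nat_lit 0xef681001)],[(nat_lit 0xecec1001),(nat_lit 0xe971d001),(nat_lit 0xe971e93626002),(nat_lit 0xe9a10001),(nat_lit 0xe9b65001),(nat_lit 0x93625001),(nat_lit 0xec489001)],[(nat_lit 0xe93c2001),(nat_lit 0xe970de93c3002),(nat_lit 0xe9b63001),(nat_lit 0xeca94001),(nat_lit 0xe971b001),(nat_lit 0xe93c4001),(nat_lit 0x88c5b001)],[(nat_lit 0xe93bd001),(nat_lit 0xeca96001),(nat_lit 0xe93be001),(nat_lit 0xe970de93bc002),(nat_lit 0xee8c5001),(nat_lit 0xe93bf001),(nat_lit 0xe93c0001)],[(nat_lit 0x1e342001),(nat_lit 0x1e761001),(nat_lit 0x602bf001),(nat_lit 0x1e341001),(nat_lit 0x602c2001),(nat_lit 0x1e343001),(nat_lit 0x649a7001)],[(nat_lit 0xe6c42001),(nat_lit 0xe6c287dfae002),(nat_lit 0xe6c43001),(nat_lit 0xe6df5001),(nat_lit 0x7dfad001),(nat_lit 0xe7fd9001),(nat_lit 0xe6c45001)],[(nat_lit 0x8e3ad001),(nat_lit 0x8e3ae001),(nat_lit 0xd9a73001),(nat_lit 0x8e3ac001),(nat_lit 0xa84cd8f076002),(nat_lit 0x8e3af001),(nat_lit 0xe5479001)],[(nat_lit 0xa01ba781a4002),(nat_lit 0xa7e71781a5002),(nat_lit 0xe0198001),(nat_lit 0xa01b9781a3002),(nat_lit 0xe52bb001),(nat_lit 0xbe4f97e398002),(nat_lit 0xbcc51001)],[(nat_lit 0xbadf5936ae002),(nat_lit 0xb8038928c6002),(nat_lit 0xc6d06936b3002),(nat_lit 0x939a5001),(nat_lit 0xb93dc928c7002),(nat_lit 0x928c5001),(nat_lit 0xe1d3a001)],[(nat_lit 0xbe368001),(nat_lit 0xbe369001),(nat_lit 0xbe36a001),(nat_lit 0xbe36b001),(nat_lit 0xc6d0bc32f4002),(nat_lit 0xbe36c001),(nat_lit 0x6d417001)],[(nat_lit 0xd3277a8e45002),(nat_lit 0x6fa86001),(nat_lit 0x6fa87001),(nat_lit 0x72661001),(nat_lit 0xa7b8a6faa6002),(nat_lit 0x6fab7001),(nat_lit 0xe9b26001)],[(nat_lit 0xea671001),(nat_lit 0xe3ced001),(nat_lit 0xe3cef001),(nat_lit 0xe3cec001),(nat_lit 0xe3cee001),(nat_lit 0xe3cf1001),(nat_lit 0xe3cf0001)],[(nat_lit 0x3be4c001),(nat_lit 0x3be4d001),(nat_lit 0x9238b001),(nat_lit 0x3be4b001),(nat_lit 0x3be4e001),(nat_lit 0x8e3af001),(nat_lit 0xecd6a001)],[(nat_lit 0x425e9001),(nat_lit 0x425ea001),(nat_lit 0x92a02001),(nat_lit 0x425e8001),(nat_lit 0xbfd5b90f42002),(nat_lit 0x425eb001),(nat_lit 0xe3a77001)],[(nat_lit 0xeaec7001),(nat_lit 0xed2b8001),(nat_lit 0xeaec6001),(nat_lit 0xed68b001),(nat_lit 0xeaec8001),(nat_lit 0xecd2b001),(nat_lit 0xeaec9001)],[(nat_lit 0xe7e2a001),(nat_lit 0xe7e2b001),(nat_lit 0xe8088001),(nat_lit 0xe7e29001),(nat_lit 0xe7e2c001),(nat_lit 0xe7e2d001),(nat_lit 0xe7e28001)],[(nat_lit 0xee614001),(nat_lit 0xee615001),(nat_lit 0xee866001),(nat_lit 0xee612001),(nat_lit 0xee611001),(nat_lit 0xee613001),(nat_lit 0xee616001)],[(nat_lit 0xe3e18001),(nat_lit 0xe8aa0001),(nat_lit 0xe3e1b001),(nat_lit 0xe3e17001),(nat_lit 0xe40ed001),(nat_lit 0xe3e19001),(nat_lit 0xe3e1a001)],[(nat_lit 0xe1718001),(nat_lit 0xe1717001),(nat_lit 0xe171d001),(nat_lit 0xe1719001),(nat_lit 0xe171a001),(nat_lit 0xe171b001),(nat_lit 0xe171c001)],[(nat_lit 0xe7f04001),(nat_lit 0xe7f03001),(nat_lit 0xe804b001),(nat_lit 0xe7f02001),(nat_lit 0xeb6ce001),(nat_lit 0xe7f05001),(nat_lit 0xe7f01001)],[(nat_lit 0xea65f001),(nat_lit 0x6a5bf001),(nat_lit 0x6a5c0001),(nat_lit 0x851c3001),(nat_lit 0x6a5c1001),(nat_lit 0x84799001),(nat_lit 0xd8248001)],[(nat_lit 0xeddcc001),(nat_lit 0xc491983783002),(nat_lit 0xe1fdc001),(nat_lit 0x83782001),(nat_lit 0xee3f6001),(nat_lit 0xedc83001),(nat_lit 0xec5f2001)],[(nat_lit 0xe87d3001),(nat_lit 0xea9fe001),(nat_lit 0xeaa02001),(nat_lit 0xec656001),(nat_lit 0xe87d2001),(nat_lit 0xeaa05001),(nat_lit 0xe87d4001)],[(nat_lit 0xec89b001),(nat_lit 0xec89c001),(nat_lit 0xec89a001),(nat_lit 0xec89f001),(nat_lit 0xec89d001),(nat_lit 0xec89e001),(nat_lit 0xec8a0001)],[(nat_lit 0x575bc001),(nat_lit 0x56ae2001),(nat_lit 0x575b7001),(nat_lit 0xc7bfd001),(nat_lit 0x5781d001),(nat_lit 0x56ae1001),(nat_lit 0xd1788001)],[(nat_lit 0xe63a4001),(nat_lit 0xe357180081002),(nat_lit 0xd1c4e001),(nat_lit 0xd1a07001),(nat_lit 0xd154880080002),(nat_lit 0xe09b4001),(nat_lit 0xd29a0001)],[(nat_lit 0xed544001),(nat_lit 0xed378001),(nat_lit 0xed377001),(nat_lit 0xed39a001),(nat_lit 0xed379001),(nat_lit 0xeeeef001),(nat_lit 0xed37a001)],[(nat_lit 0xea964001),(nat_lit 0xded6f001),(nat_lit 0xda42a001),(nat_lit 0xdf646001),(nat_lit 0xda429001),(nat_lit 0xda42b001),(nat_lit 0xdb970001)],[(nat_lit 0xef279001),(nat_lit 0xedfd6001),(nat_lit 0xedfd7001),(nat_lit 0xee022001),(nat_lit 0xedfd8001),(nat_lit 0xeebbe001),(nat_lit 0xee025001)],[(nat_lit 0xe631e001),(nat_lit 0xe6bb7001),(nat_lit 0xee0f1001),(nat_lit 0xe631f001),(nat_lit 0xe631d001),(nat_lit 0xee831001),(nat_lit 0xee286001)],[(nat_lit 0x9339a001),(nat_lit 0xe95ac001),(nat_lit 0x916f6001),(nat_lit 0xe96af001),(nat_lit 0x916f5001),(nat_lit 0x916f7001),(nat_lit 0xe98bf001)],[(nat_lit 0xed13a001),(nat_lit 0xed030001),(nat_lit 0xed02f001),(nat_lit 0xee5c9001),(nat_lit 0xed031001),(nat_lit 0xed032001),(nat_lit 0xed033001)],[(nat_lit 0x81904001),(nat_lit 0xd602d001),(nat_lit 0x81903001),(nat_lit 0xb118e81905002),(nat_lit 0xcb8ca001),(nat_lit 0x82a0d001),(nat_lit 0xe46f0001)],[(nat_lit 0xd9154001),(nat_lit 0xd9155001),(nat_lit 0xd9156001),(nat_lit 0xd9157001),(nat_lit 0xd9153001),(nat_lit 0xd9158001),(nat_lit 0xde978001)],[(nat_lit 0x51e5c001),(nat_lit 0xe2721b1216002),(nat_lit 0xc3d23b1169002),(nat_lit 0xe2736001),(nat_lit 0xb120a51e5b002),(nat_lit 0xe2734001),(nat_lit 0xe275a001)],[(nat_lit 0xd9aa7001),(nat_lit 0xea732001),(nat_lit 0x98e3b9071d002),(nat_lit 0xdfe97001),(nat_lit 0x9071c001),(nat_lit 0xea5aa001),(nat_lit 0xcda75001)],[(nat_lit 0xe7df4001),(nat_lit 0xeac53001),(nat_lit 0xe788b001),(nat_lit 0xe74a8001),(nat_lit 0xe944a001),(nat_lit 0xe74a9001),(nat_lit 0xe74a7001)],[(nat_lit 0xe853a001),(nat_lit 0xe5eee001),(nat_lit 0xe5ef1001),(nat_lit 0xe5fd5001),(nat_lit 0xed86f001),(nat_lit 0xe5eef001),(nat_lit 0xe5ef0001)],[(nat_lit 0xed082001),(nat_lit 0xecf7f001),(nat_lit 0xec3a3001),(nat_lit 0xec3a1001),(nat_lit 0xec3a2001),(nat_lit 0xed409001),(nat_lit 0xec3a4001)],[(nat_lit 0xbb0e0872cb002),(nat_lit 0x872cd001),(nat_lit 0xbf3dc001),(nat_lit 0x86799001),(nat_lit 0x87b18001),(nat_lit 0xc08be872d0002),(nat_lit 0xb8691001)],[(nat_lit 0x44995001),(nat_lit 0xbfd5b90f44002),(nat_lit 0x90f47001),(nat_lit 0xbfd5a90bdd002),(nat_lit 0x44994001),(nat_lit 0xead93001),(nat_lit 0xe2740001)],[(nat_lit 0xecbeb001),(nat_lit 0xe9624001),(nat_lit 0xe9623001),(nat_lit 0xe9901001),(nat_lit 0xe9625001),(nat_lit 0xe9626001),(nat_lit 0xe9627001)],[(nat_lit 0x71285001),(nat_lit 0xe4034001),(nat_lit 0x70e8d001),(nat_lit 0xee4b9001),(nat_lit 0x70e8c001),(nat_lit 0xdce5a001),(nat_lit 0xef21e001)],[(nat_lit 0xbfd5a90bde002),(nat_lit 0x447e0001),(nat_lit 0x956b3001),(nat_lit 0x447df001),(nat_lit 0x447e1001),(nat_lit 0x97813001),(nat_lit 0xed4da001)],[(nat_lit 0xead91001),(nat_lit 0xe92c7001),(nat_lit 0xe92c8001),(nat_lit 0xe92c9001),(nat_lit 0xe92c6001),(nat_lit 0xe92ca001),(nat_lit 0xe92cb001)],[(nat_lit 0x8c616001),(nat_lit 0x8b258001),(nat_lit 0x8b209001),(nat_lit 0xead8b001),(nat_lit 0x8b208001),(nat_lit 0x8b20a001),(nat_lit 0xead8e001)],[(nat_lit 0xb52c3b32c7002),(nat_lit 0xb32b43eada002),(nat_lit 0xced8d001),(nat_lit 0x3ead9001),(nat_lit 0xa2320001),(nat_lit 0xb61f2a2321002),(nat_lit 0xd149c001)],[(nat_lit 0xee347001),(nat_lit 0xeb14a001),(nat_lit 0xeb149001),(nat_lit 0xeb30a001),(nat_lit 0xeb14b001),(nat_lit 0xeb14c001),(nat_lit 0xeb14d001)],[(nat_lit 0xe2a94001),(nat_lit 0xe2a95001),(nat_lit 0xe2a96001),(nat_lit 0xe2a93001),(nat_lit 0xe2a97001),(nat_lit 0xe3a41001),(nat_lit 0xe2a98001)],[(nat_lit 0x89c45001),(nat_lit 0x654a4001),(nat_lit 0x8d2a0001),(nat_lit 0xa0d66654a5002),(nat_lit 0x8b669001),(nat_lit 0x654a3001),(nat_lit 0xe295e001)],[(nat_lit 0xeac76001),(nat_lit 0xeac78001),(nat_lit 0xeda60001),(nat_lit 0xed977001),(nat_lit 0xeac75001),(nat_lit 0xed534001),(nat_lit 0xeac77001)],[(nat_lit 0xed4e6001),(nat_lit 0xed4e3001),(nat_lit 0xed4e4001),(nat_lit 0xed52f001),(nat_lit 0xed4e5001),(nat_lit 0xed97b001),(nat_lit 0xed4e7001)],[(nat_lit 0xe6f9a001),(nat_lit 0xe6f92001),(nat_lit 0xe7196001),(nat_lit 0xe6f91001),(nat_lit 0xe719b001),(nat_lit 0xe6f93001),(nat_lit 0xe6f90001)],[(nat_lit 0xe193c001),(nat_lit 0xe027e001),(nat_lit 0xe0280001),(nat_lit 0xe027d001),(nat_lit 0xe492d001),(nat_lit 0xe027f001),(nat_lit 0xe2a19001)],[(nat_lit 0xec4a1001),(nat_lit 0xed024001),(nat_lit 0xec582001),(nat_lit 0xec4a2001),(nat_lit 0xedc96001),(nat_lit 0xeca2e001),(nat_lit 0xec4a0001)],[(nat_lit 0x6356c001),(nat_lit 0x4801d001),(nat_lit 0x48532001),(nat_lit 0x4875f001),(nat_lit 0x48761001),(nat_lit 0x48763001),(nat_lit 0xe64a2001)],[(nat_lit 0x74b57001),(nat_lit 0xdeaff001),(nat_lit 0xd0986001),(nat_lit 0x74b58001),(nat_lit 0x7571f001),(nat_lit 0x74b56001),(nat_lit 0xcc3d9001)],[(nat_lit 0x8a1ca001),(nat_lit 0x88f44001),(nat_lit 0x8b5ea001),(nat_lit 0x88f43001),(nat_lit 0x88f45001),(nat_lit 0x8a38c001),(nat_lit 0xe2af4001)],[(nat_lit 0xe8c6f001),(nat_lit 0xe8c70001),(nat_lit 0xe8c71001),(nat_lit 0xe8c6e001),(nat_lit 0xeca30001),(nat_lit 0xe8c72001),(nat_lit 0xe8e89001)],[(nat_lit 0x75155001),(nat_lit 0x71698001),(nat_lit 0xe2fde001),(nat_lit 0x71697001),(nat_lit 0x75b01001),(nat_lit 0x71699001),(nat_lit 0xd1cce001)],[(nat_lit 0x7219b001),(nat_lit 0x74103001),(nat_lit 0xee2bf001),(nat_lit 0x7219c001),(nat_lit 0x7219a001),(nat_lit 0x74c3f001),(nat_lit 0xe7e45001)],[(nat_lit 0xecc62001),(nat_lit 0xecc63001),(nat_lit 0xecc64001),(nat_lit 0xecc65001),(nat_lit 0xed915001),(nat_lit 0xecc66001),(nat_lit 0x74101001)],[(nat_lit 0xeea1c001),(nat_lit 0xeea1e001),(nat_lit 0xeea76001),(nat_lit 0xeea1d001),(nat_lit 0xeefd9001),(nat_lit 0xeeb15001),(nat_lit 0xeea1b001)],[(nat_lit 0xef007001),(nat_lit 0xef008001),(nat_lit 0xef00b001),(nat_lit 0xef006001),(nat_lit 0xef009001),(nat_lit 0xef00a001),(nat_lit 0xef038001)],[(nat_lit 0xecc24001),(nat_lit 0x9d84991d41002),(nat_lit 0xd4f04001),(nat_lit 0x9d84891d40002),(nat_lit 0xe3842001),(nat_lit 0xec503001),(nat_lit 0xcf62c001)],[(nat_lit 0xe41a5001),(nat_lit 0x75b32001),(nat_lit 0xe06f2001),(nat_lit 0x766b9001),(nat_lit 0x75b31001),(nat_lit 0xe95aa001),(nat_lit 0xd73f8001)],[(nat_lit 0x25e58001),(nat_lit 0x25d95001),(nat_lit 0x24938001),(nat_lit 0x7169f001),(nat_lit 0x24937001),(nat_lit 0x2595b001),(nat_lit 0xb79a7716a0002)],[(nat_lit 0xd8a2b001),(nat_lit 0xbda18001),(nat_lit 0xe1558001),(nat_lit 0xc18adbda15002),(nat_lit 0xe9ba9001),(nat_lit 0xc2a09001),(nat_lit 0x73cf5001)],[(nat_lit 0xdf888001),(nat_lit 0xdf88b001),(nat_lit 0xdf88a001),(nat_lit 0xdf889001),(nat_lit 0xdf88c001),(nat_lit 0xdf88d001),(nat_lit 0xdf887001)],[(nat_lit 0xef0ff001),(nat_lit 0xee8b4001),(nat_lit 0xef1bf001),(nat_lit 0xef1c2001),(nat_lit 0xee8b5001),(nat_lit 0xeee47001),(nat_lit 0xee8b6001)],[(nat_lit 0xecb61001),(nat_lit 0xecb62001),(nat_lit 0xecb60001),(nat_lit 0xecbe0001),(nat_lit 0xecb65001),(nat_lit 0xecb63001),(nat_lit 0xecb64001)],[(nat_lit 0xe65b1001),(nat_lit 0xe65b0001),(nat_lit 0xe65b2001),(nat_lit 0xe65b3001),(nat_lit 0xe65b4001),(nat_lit 0xe65b5001),(nat_lit 0xe65b6001)],[(nat_lit 0xed7b9001),(nat_lit 0xed7ba001),(nat_lit 0xed7b8001),(nat_lit 0xed852001),(nat_lit 0xed7bb001),(nat_lit 0xed7bc001),(nat_lit 0xed7bd001)],[(nat_lit 0xec2b5001),(nat_lit 0xec2b4001),(nat_lit 0xec2b6001),(nat_lit 0xec2b7001),(nat_lit 0xee934001),(nat_lit 0xec2b8001),(nat_lit 0xec2b9001)],[(nat_lit 0xe56b9001),(nat_lit 0xe56ba001),(nat_lit 0xe56b8001),(nat_lit 0xe56bb001),(nat_lit 0xe56bf001),(nat_lit 0xe56bc001),(nat_lit 0xe56bd001)],[(nat_lit 0xe51fd001),(nat_lit 0xe51fe001),(nat_lit 0xe5202001),(nat_lit 0xe51fc001),(nat_lit 0xe51ff001),(nat_lit 0xe5200001),(nat_lit 0xe5201001)],[(nat_lit 0xda426001),(nat_lit 0xec459001),(nat_lit 0xda425001),(nat_lit 0xe4ccb001),(nat_lit 0xea965001),(nat_lit 0xda427001),(nat_lit 0xda428001)],[(nat_lit 0xeb0c4001),(nat_lit 0xeb0c6001),(nat_lit 0xec457001),(nat_lit 0xeb0c5001),(nat_lit 0xeb0c7001),(nat_lit 0xeb0c8001),(nat_lit 0xeb0c3001)],[(nat_lit 0xed795001),(nat_lit 0xea960001),(nat_lit 0xea814001),(nat_lit 0xe0cef001),(nat_lit 0xec45b001),(nat_lit 0xe46dc001),(nat_lit 0x8ab68001)],[(nat_lit 0xd9cfd001),(nat_lit 0xda007001),(nat_lit 0xdd57a001),(nat_lit 0xd9cfe001),(nat_lit 0xd9cfc001),(nat_lit 0xe3b8c001),(nat_lit 0xd9cff001)],[(nat_lit 0xb5788001),(nat_lit 0xb57788b01c002),(nat_lit 0x8b01d001),(nat_lit 0xb5789001),(nat_lit 0x8c60f001),(nat_lit 0xd3fb58c5ef002),(nat_lit 0xce742001)],[(nat_lit 0xe4d6a001),(nat_lit 0xe4d67001),(nat_lit 0xe4d66001),(nat_lit 0xe4d69001),(nat_lit 0xe4d6b001),(nat_lit 0xe4d68001),(nat_lit 0xe7519001)],[(nat_lit 0x5f2c9001),(nat_lit 0x5f2ca001),(nat_lit 0xe6c73001),(nat_lit 0x5f2cb001),(nat_lit 0xc71bf001),(nat_lit 0x5f2cc001),(nat_lit 0xda996001)],[(nat_lit 0xdd98e001),(nat_lit 0xddc7e001),(nat_lit 0xdd98a001),(nat_lit 0xdd989001),(nat_lit 0xe59a4001),(nat_lit 0xdd98b001),(nat_lit 0xe6eab001)],[(nat_lit 0xe9906001),(nat_lit 0xe83f7001),(nat_lit 0xe83f6001),(nat_lit 0xe83f8001),(nat_lit 0xedbcf001),(nat_lit 0xe83f9001),(nat_lit 0xe83fa001)],[(nat_lit 0x6461a001),(nat_lit 0x6334c001),(nat_lit 0x1fd621f259002),(nat_lit 0x65592001),(nat_lit 0x1fd7b001),(nat_lit 0x1fd5d1f258002),(nat_lit 0x67346001)],[(nat_lit 0xe46f5001),(nat_lit 0xea900001),(nat_lit 0xe5db0001),(nat_lit 0xe3227001),(nat_lit 0xee706001),(nat_lit 0xe7762001),(nat_lit 0xe3226001)],[(nat_lit 0xdfb43001),(nat_lit 0x96e5c001),(nat_lit 0x96e5b001),(nat_lit 0x96e5d001),(nat_lit 0xc4c53001),(nat_lit 0x96e5e001),(nat_lit 0xda614001)],[(nat_lit 0xc4d49819fc002),(nat_lit 0xe8bcb001),(nat_lit 0x7cbb1001),(nat_lit 0x7cbaf001),(nat_lit 0xc4d55001),(nat_lit 0x7cbb0001),(nat_lit 0xccbf9001)],[(nat_lit 0x56cfd001),(nat_lit 0xec6cb001),(nat_lit 0x56cfc001),(nat_lit 0xdc844001),(nat_lit 0x56cfe001),(nat_lit 0xd7833001),(nat_lit 0xd3f08001)],[(nat_lit 0xeea68001),(nat_lit 0xeea67001),(nat_lit 0xeeab0001),(nat_lit 0xeeb16001),(nat_lit 0xeea69001),(nat_lit 0xeea6a001),(nat_lit 0xeea6b001)],[(nat_lit 0xea082001),(nat_lit 0xe9ad8001),(nat_lit 0xe9ad5001),(nat_lit 0xee215001),(nat_lit 0xe9ad6001),(nat_lit 0xe9ad7001),(nat_lit 0xe9ad4001)],[(nat_lit 0xef24f001),(nat_lit 0xef24e001),(nat_lit 0xef250001),(nat_lit 0xef264001),(nat_lit 0xef251001),(nat_lit 0xef252001),(nat_lit 0xef253001)],[(nat_lit 0xef231001),(nat_lit 0xef230001),(nat_lit 0xef232001),(nat_lit 0xef23f001),(nat_lit 0xef233001),(nat_lit 0xef234001),(nat_lit 0xef235001)],[(nat_lit 0xe839a001),(nat_lit 0xea5b7001),(nat_lit 0xe4860001),(nat_lit 0xe4adb001),(nat_lit 0xef23c001),(nat_lit 0xe4861001),(nat_lit 0x7087c001)],[(nat_lit 0xef2f2001),(nat_lit 0xef2f3001),(nat_lit 0xef2f1001),(nat_lit 0xef301001),(nat_lit 0xef2f4001),(nat_lit 0xef2f5001),(nat_lit 0xef2f6001)],[(nat_lit 0xed720001),(nat_lit 0xed724001),(nat_lit 0xed721001),(nat_lit 0xed71f001),(nat_lit 0xed722001),(nat_lit 0xed723001),(nat_lit 0xed79d001)],[(nat_lit 0xeedeb001),(nat_lit 0xeedea001),(nat_lit 0xeedec001),(nat_lit 0xeee04001),(nat_lit 0xeeded001),(nat_lit 0xef252001),(nat_lit 0xeee33001)],[(nat_lit 0xed90d001),(nat_lit 0xed90e001),(nat_lit 0xed9f4001),(nat_lit 0xed90c001),(nat_lit 0xed90f001),(nat_lit 0xed910001),(nat_lit 0xed911001)],[(nat_lit 0xe9ead001),(nat_lit 0xe9eb1001),(nat_lit 0xea081001),(nat_lit 0xe9eac001),(nat_lit 0xe9eae001),(nat_lit 0xedfee001),(nat_lit 0xe9eaf001)],[(nat_lit 0xee216001),(nat_lit 0xea485001),(nat_lit 0xea1d9001),(nat_lit 0xea1d8001),(nat_lit 0xea1da001),(nat_lit 0xea1db001),(nat_lit 0xea1dc001)],[(nat_lit 0xeedeb001),(nat_lit 0xed526001),(nat_lit 0xed525001),(nat_lit 0xed528001),(nat_lit 0xed527001),(nat_lit 0xed616001),(nat_lit 0xed5b6001)],[(nat_lit 0xe8560001),(nat_lit 0xeb04e001),(nat_lit 0xe855f001),(nat_lit 0xe8562001),(nat_lit 0xed615001),(nat_lit 0xe8561001),(nat_lit 0xec7a1001)],[(nat_lit 0xeee74001),(nat_lit 0xed680001),(nat_lit 0xed67f001),(nat_lit 0xed682001),(nat_lit 0xed681001),(nat_lit 0xed684001),(nat_lit 0xed683001)],[(nat_lit 0xeec3e001),(nat_lit 0xeec3f001),(nat_lit 0xeec3d001),(nat_lit 0xeec5b001),(nat_lit 0xef081001),(nat_lit 0xeec40001),(nat_lit 0xeec41001)],[(nat_lit 0xe4685001),(nat_lit 0xdb0ea001),(nat_lit 0xdb0e9001),(nat_lit 0xe2884001),(nat_lit 0xded70001),(nat_lit 0xdb0eb001),(nat_lit 0x730d5001)],[(nat_lit 0xed6fe001),(nat_lit 0xed796001),(nat_lit 0xed6ff001),(nat_lit 0xed6fd001),(nat_lit 0xed700001),(nat_lit 0xed701001),(nat_lit 0xed702001)],[(nat_lit 0xc5eb083f1a002),(nat_lit 0xc5eb583f1b002),(nat_lit 0xc7560001),(nat_lit 0x83f1c001),(nat_lit 0xc6a4d001),(nat_lit 0xc5ee384f8e002),(nat_lit 0xe7f14001)],[(nat_lit 0xed6e7001),(nat_lit 0xed6e6001),(nat_lit 0xed6e8001),(nat_lit 0xed794001),(nat_lit 0xef1c9001),(nat_lit 0xed6e9001),(nat_lit 0xed6ea001)],[(nat_lit 0xef2b2001),(nat_lit 0xef1e0001),(nat_lit 0xef1e3001),(nat_lit 0xef1df001),(nat_lit 0xef1e1001),(nat_lit 0xef1e2001),(nat_lit 0xef1f2001)],[(nat_lit 0xd5658001),(nat_lit 0x896f6001),(nat_lit 0xe96f7001),(nat_lit 0xd4cd7001),(nat_lit 0xaced6896f5002),(nat_lit 0xeb2c1001),(nat_lit 0xe165c001)],[(nat_lit 0xed5f9001),(nat_lit 0xed5fa001),(nat_lit 0xed5fb001),(nat_lit 0xed68f001),(nat_lit 0xed5f8001),(nat_lit 0xed8c0001),(nat_lit 0xed5fc001)],[(nat_lit 0x6a6f5001),(nat_lit 0xabafe6a6f6002),(nat_lit 0xaebbb001),(nat_lit 0xd8b51001),(nat_lit 0x6a6f7001),(nat_lit 0x6a6f4001),(nat_lit 0xde29f001)],[(nat_lit 0xe2fa8001),(nat_lit 0xe2fa9001),(nat_lit 0xe2faa001),(nat_lit 0xe2fa7001),(nat_lit 0xe2fab001),(nat_lit 0xe2fac001),(nat_lit 0xe2fad001)],[(nat_lit 0xef176001),(nat_lit 0x84ef2001),(nat_lit 0xa743984ef3002),(nat_lit 0xe51e7001),(nat_lit 0x85e1d001),(nat_lit 0x85e17001),(nat_lit 0xd904e001)],[(nat_lit 0x9fba893936002),(nat_lit 0xe3e47001),(nat_lit 0x93935001),(nat_lit 0xba782001),(nat_lit 0xe4112001),(nat_lit 0xbaf08001),(nat_lit 0xd0e16001)],[(nat_lit 0x6425b001),(nat_lit 0x6425a001),(nat_lit 0xe78d9001),(nat_lit 0xd66fc001),(nat_lit 0x6425c001),(nat_lit 0xc10a7001),(nat_lit 0xd71a2001)],[(nat_lit 0xef09c001),(nat_lit 0xeef2e001),(nat_lit 0xeef2d001),(nat_lit 0xeef2f001),(nat_lit 0xeef30001),(nat_lit 0xeef31001),(nat_lit 0xeef32001)],[(nat_lit 0xd7eb9001),(nat_lit 0xe23ff001),(nat_lit 0xe00a5001),(nat_lit 0xe2a54001),(nat_lit 0xdb4e0001),(nat_lit 0xd9cbe001),(nat_lit 0x450aa001)],[(nat_lit 0xe961f001),(nat_lit 0xe0b4c001),(nat_lit 0xe0b4d001),(nat_lit 0xe2042001),(nat_lit 0xe0b4b001),(nat_lit 0xe0b4e001),(nat_lit 0xe0b4f001)],[(nat_lit 0xe444b001),(nat_lit 0xe41e2001),(nat_lit 0xe41e3001),(nat_lit 0xe41e1001),(nat_lit 0xe41e4001),(nat_lit 0xe475b001),(nat_lit 0xe41e5001)],[(nat_lit 0xe8646001),(nat_lit 0xe864b001),(nat_lit 0xe8645001),(nat_lit 0xe8647001),(nat_lit 0xe8648001),(nat_lit 0xe8649001),(nat_lit 0xe864a001)],[(nat_lit 0x465b9001),(nat_lit 0x4613d001),(nat_lit 0x45b00001),(nat_lit 0xe4606001),(nat_lit 0x465bd001),(nat_lit 0x45b01001),(nat_lit 0xe138b001)],[(nat_lit 0xdfaed001),(nat_lit 0xdfaee001),(nat_lit 0xdfaef001),(nat_lit 0xdfaec001),(nat_lit 0xdfaf0001),(nat_lit 0xdfaf1001),(nat_lit 0xdfaf2001)],[(nat_lit 0x8a047001),(nat_lit 0x88ff1001),(nat_lit 0xe3f21001),(nat_lit 0xce2678a04f002),(nat_lit 0x88ff0001),(nat_lit 0x88ff2001),(nat_lit 0xe6e31001)],[(nat_lit 0xeae8d001),(nat_lit 0xe9295001),(nat_lit 0xe9297001),(nat_lit 0xe9294001),(nat_lit 0xe9296001),(nat_lit 0xeca87001),(nat_lit 0xe9293001)],[(nat_lit 0xc0754001),(nat_lit 0xc3a0a001),(nat_lit 0xc0755001),(nat_lit 0xc0756001),(nat_lit 0xc0757001),(nat_lit 0xc3a0dc0758002),(nat_lit 0x8371f001)],[(nat_lit 0xdf848001),(nat_lit 0xe81cd001),(nat_lit 0xdd39b001),(nat_lit 0xdd39a001),(nat_lit 0xef3a0001),(nat_lit 0xdd39c001),(nat_lit 0xe2b39001)],[(nat_lit 0xece44001),(nat_lit 0xe9563001),(nat_lit 0xeb0df001),(nat_lit 0xe9562001),(nat_lit 0xe9564001),(nat_lit 0xe9565001),(nat_lit 0xe9561001)],[(nat_lit 0xec3f1001),(nat_lit 0xec3f0001),(nat_lit 0xec41a001),(nat_lit 0xec3ef001),(nat_lit 0xef5ed001),(nat_lit 0xec3f2001),(nat_lit 0xec3ee001)],[(nat_lit 0x98132001),(nat_lit 0x3ac70001),(nat_lit 0xbe0b8001),(nat_lit 0x3ac6f001),(nat_lit 0x3ac71001),(nat_lit 0xa81669219a002),(nat_lit 0xe8b00001)],[(nat_lit 0xeb078001),(nat_lit 0xeb079001),(nat_lit 0xeb077001),(nat_lit 0xeb704001),(nat_lit 0xeb07a001),(nat_lit 0xeb17e001),(nat_lit 0xeb07b001)],[(nat_lit 0x906f9001),(nat_lit 0xd7a24d5ec9002),(nat_lit 0x906fa001),(nat_lit 0xebf17001),(nat_lit 0x91899001),(nat_lit 0x906f8001),(nat_lit 0xd7c81001)],[(nat_lit 0x906fc001),(nat_lit 0xe129c001),(nat_lit 0xd6b6e001),(nat_lit 0x906fd001),(nat_lit 0xd1be6001),(nat_lit 0x906fb001),(nat_lit 0xeabd2001)],[(nat_lit 0xeccd2001),(nat_lit 0xeccd3001),(nat_lit 0xeccd1001),(nat_lit 0xece0b001),(nat_lit 0xeccd4001),(nat_lit 0xeccd5001),(nat_lit 0xece48001)],[(nat_lit 0xe6bd0001),(nat_lit 0xdd10f001),(nat_lit 0xdd110001),(nat_lit 0xdd115001),(nat_lit 0xe72ce001),(nat_lit 0xdd111001),(nat_lit 0xe1fd4001)],[(nat_lit 0x902b3001),(nat_lit 0x902b4001),(nat_lit 0xdaeab001),(nat_lit 0xce0ff902b5002),(nat_lit 0xd8998001),(nat_lit 0x918a4001),(nat_lit 0xe49bc001)],[(nat_lit 0xea317001),(nat_lit 0xe3d51001),(nat_lit 0xe3d53001),(nat_lit 0xe3d52001),(nat_lit 0xe3d50001),(nat_lit 0xe3d71001),(nat_lit 0xe3d5a001)],[(nat_lit 0x996fb84fcf002),(nat_lit 0xcd4be996fc002),(nat_lit 0xd17d6996fd002),(nat_lit 0x996fe001),(nat_lit 0x84fce001),(nat_lit 0x996ff84fd0002),(nat_lit 0xeaa33001)],[(nat_lit 0xeb17b001),(nat_lit 0xeb030001),(nat_lit 0xeb19c001),(nat_lit 0xeb02f001),(nat_lit 0xeb031001),(nat_lit 0xeb032001),(nat_lit 0xeb02e001)],[(nat_lit 0xe696d001),(nat_lit 0xe696e001),(nat_lit 0xe696c001),(nat_lit 0xe696f001),(nat_lit 0xe6970001),(nat_lit 0xe6971001),(nat_lit 0xe6973001)],[(nat_lit 0xe3d87001),(nat_lit 0xed7ea001),(nat_lit 0xea31b001),(nat_lit 0xe3d74001),(nat_lit 0xe3d88001),(nat_lit 0xe60e6001),(nat_lit 0xdc15f001)],[(nat_lit 0x863de001),(nat_lit 0x863df001),(nat_lit 0x8a46a001),(nat_lit 0xaeb34863dd002),(nat_lit 0x863e0001),(nat_lit 0x88c7e001),(nat_lit 0xd60ef001)],[(nat_lit 0xed9be001),(nat_lit 0xedb43001),(nat_lit 0xed9bd001),(nat_lit 0xeda18001),(nat_lit 0xed9bf001),(nat_lit 0xed9d0001),(nat_lit 0xeda1a001)],[(nat_lit 0xeccf2001),(nat_lit 0xeccf3001),(nat_lit 0xeccf6001),(nat_lit 0xeccf1001),(nat_lit 0xeccf4001),(nat_lit 0xeccf5001),(nat_lit 0xece53001)],[(nat_lit 0xed9cd001),(nat_lit 0xe2961001),(nat_lit 0xe6b3c001),(nat_lit 0xe2960001),(nat_lit 0xe2963001),(nat_lit 0xe2962001),(nat_lit 0xe80ac001)],[(nat_lit 0xe5716001),(nat_lit 0xeb209001),(nat_lit 0xe5717001),(nat_lit 0xe5715001),(nat_lit 0xe5718001),(nat_lit 0xe5719001),(nat_lit 0xe571a001)],[(nat_lit 0xea3ef001),(nat_lit 0xe84c9001),(nat_lit 0x84300001),(nat_lit 0xea53e001),(nat_lit 0x842ff001),(nat_lit 0xdb2f7001),(nat_lit 0xe51f6001)],[(nat_lit 0xef5f0001),(nat_lit 0xef5ef001),(nat_lit 0xef5f1001),(nat_lit 0xef5f7001),(nat_lit 0xef5f2001),(nat_lit 0xef5f3001),(nat_lit 0xef5f4001)],[(nat_lit 0xebae0001),(nat_lit 0xebadf001),(nat_lit 0xebae1001),(nat_lit 0xebc25001),(nat_lit 0xebae2001),(nat_lit 0xebae3001),(nat_lit 0xed963001)],[(nat_lit 0xe40f5001),(nat_lit 0xe40f4001),(nat_lit 0xe40f7001),(nat_lit 0xeda6a001),(nat_lit 0xe40f6001),(nat_lit 0xee331001),(nat_lit 0xec439001)],[(nat_lit 0xeb76a001),(nat_lit 0xeb8d5001),(nat_lit 0xeb76b001),(nat_lit 0xeb769001),(nat_lit 0xeb76e001),(nat_lit 0xeb76c001),(nat_lit 0xeb76d001)],[(nat_lit 0xee808001),(nat_lit 0xee846001),(nat_lit 0xee809001),(nat_lit 0xee807001),(nat_lit 0xee80a001),(nat_lit 0xee80b001),(nat_lit 0xee80c001)],[(nat_lit 0xdbe11001),(nat_lit 0xe384d001),(nat_lit 0xe29c8001),(nat_lit 0xdbe12001),(nat_lit 0xdf6b1001),(nat_lit 0xdbe10001),(nat_lit 0xdc7be001)],[(nat_lit 0xebd10001),(nat_lit 0x84426001),(nat_lit 0xe78b5001),(nat_lit 0x84425001),(nat_lit 0xe9e5f001),(nat_lit 0xeb91c001),(nat_lit 0xd557e001)],[(nat_lit 0xec2f7001),(nat_lit 0xec2f8001),(nat_lit 0xec2f9001),(nat_lit 0xec2f6001),(nat_lit 0xec2fa001),(nat_lit 0xecf32001),(nat_lit 0xec7b0001)],[(nat_lit 0xecdfa001),(nat_lit 0xecdfb001),(nat_lit 0xecdf9001),(nat_lit 0xecf30001),(nat_lit 0xecdfc001),(nat_lit 0xecdfd001),(nat_lit 0xecdfe001)],[(nat_lit 0xe83cb001),(nat_lit 0xe4457001),(nat_lit 0xe4456001),(nat_lit 0xe445a001),(nat_lit 0xe4458001),(nat_lit 0xe4459001),(nat_lit 0xe4638001)],[(nat_lit 0xd6b12001),(nat_lit 0xcfdde9194d002),(nat_lit 0xd5a63001),(nat_lit 0xd5b80001),(nat_lit 0xcfddb9194c002),(nat_lit 0xde1ec001),(nat_lit 0xd5b81001)],[(nat_lit 0xe4733001),(nat_lit 0xe4734001),(nat_lit 0xe4732001),(nat_lit 0xe4735001),(nat_lit 0xe4736001),(nat_lit 0xe7668001),(nat_lit 0xe9967001)],[(nat_lit 0xe84aa001),(nat_lit 0xe84ab001),(nat_lit 0xe867e001),(nat_lit 0xe84a9001),(nat_lit 0xe84ac001),(nat_lit 0xe84ad001),(nat_lit 0xe84ae001)],[(nat_lit 0x8b971001),(nat_lit 0xd549f001),(nat_lit 0xd8aba001),(nat_lit 0xc78dd8b972002),(nat_lit 0xd8ab6001),(nat_lit 0x8b970001),(nat_lit 0xd6b15001)],[(nat_lit 0xe6627001),(nat_lit 0xe6bda001),(nat_lit 0xe6626001),(nat_lit 0xe6832001),(nat_lit 0xee7b8001),(nat_lit 0xe70a7001),(nat_lit 0xe6628001)],[(nat_lit 0xec654001),(nat_lit 0xec655001),(nat_lit 0xec653001),(nat_lit 0xec656001),(nat_lit 0xee529001),(nat_lit 0xec657001),(nat_lit 0xec658001)],[(nat_lit 0x7374a001),(nat_lit 0x7374b001),(nat_lit 0xdf75f001),(nat_lit 0x7374c001),(nat_lit 0xaf0f5001),(nat_lit 0x7474c001),(nat_lit 0xc8836001)],[(nat_lit 0xe6c5f001),(nat_lit 0xe6c5a001),(nat_lit 0xe6e23001),(nat_lit 0xe6c59001),(nat_lit 0xe6c5b001),(nat_lit 0xe6c5c001),(nat_lit 0xe6c5d001)],[(nat_lit 0xedbc7001),(nat_lit 0xedbc8001),(nat_lit 0xedbc6001),(nat_lit 0xedc01001),(nat_lit 0xedbc9001),(nat_lit 0xee730001),(nat_lit 0xedbca001)],[(nat_lit 0xe910fe6331002),(nat_lit 0xe632e001),(nat_lit 0xe632f001),(nat_lit 0xe642a001),(nat_lit 0xe632d001),(nat_lit 0xe911c001),(nat_lit 0xe6330001)],[(nat_lit 0x8b84f001),(nat_lit 0xc76858c702002),(nat_lit 0xb0c998b850002),(nat_lit 0xdd68a001),(nat_lit 0xc4f298cdfb002),(nat_lit 0x8b84e001),(nat_lit 0xe1419001)],[(nat_lit 0xdcb66001),(nat_lit 0xe68ca001),(nat_lit 0xd5f338ca80002),(nat_lit 0xdc8c1d4b97002),(nat_lit 0xd04998ca7f002),(nat_lit 0xdec95001),(nat_lit 0xd4b98001)],[(nat_lit 0x44313001),(nat_lit 0x8b01e001),(nat_lit 0x301d4001),(nat_lit 0x30757001),(nat_lit 0x44316001),(nat_lit 0x301d3001),(nat_lit 0xc78aa8cf2d002)],[(nat_lit 0x4a603001),(nat_lit 0x926c88cca4002),(nat_lit 0x3114f001),(nat_lit 0x31151001),(nat_lit 0xb052a8b2cb002),(nat_lit 0x31150001),(nat_lit 0xd4c728f41b002)],[(nat_lit 0x8aba7001),(nat_lit 0x8aba8001),(nat_lit 0xea6e9001),(nat_lit 0xc78d98aba9002),(nat_lit 0xe34ef001),(nat_lit 0x8aba6001),(nat_lit 0xe77a3001)],[(nat_lit 0xc78dd8a8c0002),(nat_lit 0x8a704001),(nat_lit 0x2faf2001),(nat_lit 0x8ad28001),(nat_lit 0x30219001),(nat_lit 0x2faf1001),(nat_lit 0x8ad2a001)],[(nat_lit 0xeb4d4001),(nat_lit 0xeb4d6001),(nat_lit 0xeb592001),(nat_lit 0xeb4d5001),(nat_lit 0xeb4d7001),(nat_lit 0xeb4d8001),(nat_lit 0xeb4d3001)],[(nat_lit 0xe6be8001),(nat_lit 0xe003c001),(nat_lit 0xe003d001),(nat_lit 0xe003e001),(nat_lit 0xe003f001),(nat_lit 0xe0040001),(nat_lit 0x63dfc001)],[(nat_lit 0x468e5001),(nat_lit 0xc09de9225b002),(nat_lit 0x983aa001),(nat_lit 0x468e6001),(nat_lit 0x9637c001),(nat_lit 0x468e4001),(nat_lit 0xd288b001)],[(nat_lit 0xea704001),(nat_lit 0xedd1c001),(nat_lit 0xedd0b001),(nat_lit 0xea705001),(nat_lit 0xea703001),(nat_lit 0xea706001),(nat_lit 0xedb34001)],[(nat_lit 0xecd65001),(nat_lit 0xecd66001),(nat_lit 0xecd64001),(nat_lit 0xece54001),(nat_lit 0xecd67001),(nat_lit 0xecd68001),(nat_lit 0xecd69001)],[(nat_lit 0xcf123001),(nat_lit 0x7436c001),(nat_lit 0x7456b001),(nat_lit 0x74e51001),(nat_lit 0xa6fe174e53002),(nat_lit 0x74e55001),(nat_lit 0xe199a001)],[(nat_lit 0xea6ff001),(nat_lit 0xea700001),(nat_lit 0xea827001),(nat_lit 0xea6fe001),(nat_lit 0xea701001),(nat_lit 0xea702001),(nat_lit 0xea6fd001)],[(nat_lit 0x47496001),(nat_lit 0x47497001),(nat_lit 0x6b4de001),(nat_lit 0x48739001),(nat_lit 0x47495001),(nat_lit 0x70355001),(nat_lit 0xced18001)],[(nat_lit 0xeced1001),(nat_lit 0xeeeb6001),(nat_lit 0xecfb3001),(nat_lit 0xeced2001),(nat_lit 0xeced3001),(nat_lit 0xeced4001),(nat_lit 0xeced0001)],[(nat_lit 0x6611f001),(nat_lit 0xe6630001),(nat_lit 0xcd608c63c7002),(nat_lit 0x660d5001),(nat_lit 0x660d6001),(nat_lit 0xe6632001),(nat_lit 0xd781e001)],[(nat_lit 0xdb025db020002),(nat_lit 0xdb021001),(nat_lit 0xdb022001),(nat_lit 0xdf532001),(nat_lit 0xdb01f001),(nat_lit 0xdb023001),(nat_lit 0xdb024001)],[(nat_lit 0xeb3fc001),(nat_lit 0xeb3f6001),(nat_lit 0xeb3f7001),(nat_lit 0xeb3f8001),(nat_lit 0xeb3f9001),(nat_lit 0xeb3fa001),(nat_lit 0xeb3fb001)],[(nat_lit 0x652aa001),(nat_lit 0xbe75a001),(nat_lit 0xe9e93001),(nat_lit 0xbe75b001),(nat_lit 0x652a9001),(nat_lit 0x652ab001),(nat_lit 0xe71c0001)],[(nat_lit 0xec895001),(nat_lit 0xe8ba1001),(nat_lit 0xe8ba4001),(nat_lit 0xe8ba0001),(nat_lit 0xe8ba2001),(nat_lit 0xe8ba3001),(nat_lit 0xe8ba5001)],[(nat_lit 0xec0da001),(nat_lit 0x71d4c001),(nat_lit 0xeb2f1001),(nat_lit 0xafee571d4d002),(nat_lit 0xe96f1001),(nat_lit 0x71d4b001),(nat_lit 0xebd81001)],[(nat_lit 0xed851001),(nat_lit 0xe82e2001),(nat_lit 0xe94ee001),(nat_lit 0xe82e1001),(nat_lit 0xe82e3001),(nat_lit 0xec796001),(nat_lit 0xe82e0001)],[(nat_lit 0xec825001),(nat_lit 0xec826001),(nat_lit 0xeda37001),(nat_lit 0xec824001),(nat_lit 0xec827001),(nat_lit 0xec828001),(nat_lit 0xec823001)],[(nat_lit 0xed8b0001),(nat_lit 0xed8b1001),(nat_lit 0xef274001),(nat_lit 0xed8af001),(nat_lit 0xed8b2001),(nat_lit 0xed8b3001),(nat_lit 0xed93d001)],[(nat_lit 0xd3761001),(nat_lit 0x8800d001),(nat_lit 0xcfef7001),(nat_lit 0x8800c001),(nat_lit 0xc994f001),(nat_lit 0xddb97001),(nat_lit 0xc8a92001)],[(nat_lit 0xcc4fa8895e002),(nat_lit 0xc52a08895f002),(nat_lit 0xc52a188960002),(nat_lit 0x88961001),(nat_lit 0xc52a288962002),(nat_lit 0xc52a388963002),(nat_lit 0x2e700001)],[(nat_lit 0xc529e001),(nat_lit 0xcc506001),(nat_lit 0xcc507001),(nat_lit 0xcc508001),(nat_lit 0xe5b02001),(nat_lit 0xcc4fac52a9002),(nat_lit 0x6b33a001)],[(nat_lit 0xcc50489315002),(nat_lit 0x89319001),(nat_lit 0xdd08e8931d002),(nat_lit 0xe2a75001),(nat_lit 0x88767001),(nat_lit 0xe2231001),(nat_lit 0xd6cb4001)],[(nat_lit 0xdf04b001),(nat_lit 0xd1bff001),(nat_lit 0x76c1b001),(nat_lit 0xd0c38001),(nat_lit 0xe4037001),(nat_lit 0xbcc9276c1a002),(nat_lit 0xd0b0c001)],[(nat_lit 0x53ea7001),(nat_lit 0x53eac001),(nat_lit 0xdb6d3001),(nat_lit 0x5340e001),(nat_lit 0x5340f001),(nat_lit 0xe5ce4001),(nat_lit 0xd3357001)],[(nat_lit 0xe8e2f001),(nat_lit 0xea5cc001),(nat_lit 0xe8e2e001),(nat_lit 0xe8e32001),(nat_lit 0xe8e30001),(nat_lit 0xe8e31001),(nat_lit 0xe8e33001)],[(nat_lit 0x60eac001),(nat_lit 0x60222001),(nat_lit 0x8fee1001),(nat_lit 0x60223001),(nat_lit 0xb0990001),(nat_lit 0x60221001),(nat_lit 0xddd8b001)],[(nat_lit 0xe4a0d001),(nat_lit 0xef09d001),(nat_lit 0xe4a08001),(nat_lit 0xe4a07001),(nat_lit 0xe4a0a001),(nat_lit 0xe4a09001),(nat_lit 0xe4a06001)],[(nat_lit 0x7a4c6001),(nat_lit 0x7b049001),(nat_lit 0xce72e001),(nat_lit 0x7a4c5001),(nat_lit 0x7a4c7001),(nat_lit 0x813c2001),(nat_lit 0xe5c7f001)],[(nat_lit 0xef085001),(nat_lit 0xef084001),(nat_lit 0xef086001),(nat_lit 0xef09b001),(nat_lit 0xef087001),(nat_lit 0xef088001),(nat_lit 0xef089001)],[(nat_lit 0xedf9b001),(nat_lit 0xed28e001),(nat_lit 0xed28f001),(nat_lit 0xed28d001),(nat_lit 0xed292001),(nat_lit 0xef0a0001),(nat_lit 0xed291001)],[(nat_lit 0xebeab001),(nat_lit 0xe77f6001),(nat_lit 0xe81cc001),(nat_lit 0xe77f5001),(nat_lit 0xeee46001),(nat_lit 0xe77f7001),(nat_lit 0xe77f4001)],[(nat_lit 0xe759ce710d002),(nat_lit 0x6609b001),(nat_lit 0x6609c001),(nat_lit 0xe69e2001),(nat_lit 0xe7599d60c1002),(nat_lit 0x6609d001),(nat_lit 0xcded5001)],[(nat_lit 0x44021001),(nat_lit 0x929fa001),(nat_lit 0xab9d3929fd002),(nat_lit 0x92a00001),(nat_lit 0x5676244020002),(nat_lit 0xdadd8001),(nat_lit 0xea315001)],[(nat_lit 0x6a51f001),(nat_lit 0xdc174001),(nat_lit 0xbb54abb4fb002),(nat_lit 0x6a51e001),(nat_lit 0x6ccf2001),(nat_lit 0x6a520001),(nat_lit 0xdfaff001)],[(nat_lit 0xe4b39001),(nat_lit 0xe9c7e001),(nat_lit 0xe4b38001),(nat_lit 0xe4e82001),(nat_lit 0xe4b3a001),(nat_lit 0xe4b3b001),(nat_lit 0xe4b3c001)],[(nat_lit 0x1d420001),(nat_lit 0x2e6c1001),(nat_lit 0x122bc001),(nat_lit 0x417f0001),(nat_lit 0x122bd001),(nat_lit 0x122bb001),(nat_lit 0xc559f45967002)],[(nat_lit 0x50af6001),(nat_lit 0x97691001),(nat_lit 0x50af7001),(nat_lit 0x50ce8001),(nat_lit 0xbd78f742f8002),(nat_lit 0x50af5001),(nat_lit 0xb87aa001)],[(nat_lit 0xb86be001),(nat_lit 0x4a6d9001),(nat_lit 0xe13a8001),(nat_lit 0x4a6d8001),(nat_lit 0x4a6da001),(nat_lit 0xb86bf001),(nat_lit 0xe2cea001)],[(nat_lit 0xdee42001),(nat_lit 0xbea3d85f3c002),(nat_lit 0xdf723001),(nat_lit 0xaeed285f3b002),(nat_lit 0xe2e65001),(nat_lit 0xe8d7e001),(nat_lit 0xd9eb5001)],[(nat_lit 0xe9266001),(nat_lit 0xe91ba001),(nat_lit 0xe9453001),(nat_lit 0xe91b8001),(nat_lit 0xeb5e1001),(nat_lit 0xe91bb001),(nat_lit 0xe91b7001)],[(nat_lit 0xee485001),(nat_lit 0xedd50001),(nat_lit 0xedd4f001),(nat_lit 0xeddab001),(nat_lit 0xedd51001),(nat_lit 0xedd52001),(nat_lit 0xeeca5001)],[(nat_lit 0xea139001),(nat_lit 0xea13a001),(nat_lit 0xea138001),(nat_lit 0xea13b001),(nat_lit 0xea13c001),(nat_lit 0xea13d001),(nat_lit 0xeddaf001)],[(nat_lit 0xe7335001),(nat_lit 0xe732f001),(nat_lit 0xe7330001),(nat_lit 0xe7331001),(nat_lit 0xe7332001),(nat_lit 0xe7333001),(nat_lit 0xed173001)],[(nat_lit 0xdc77a001),(nat_lit 0xe2a2fdceb0002),(nat_lit 0xd91e8001),(nat_lit 0xdceaf001),(nat_lit 0xd91e7001),(nat_lit 0xd91e9001),(nat_lit 0xe5a67001)],[(nat_lit 0xecc1e001),(nat_lit 0xe79de001),(nat_lit 0xeccf6001),(nat_lit 0xe79dd001),(nat_lit 0xe79df001),(nat_lit 0xe79e0001),(nat_lit 0xe79dc001)],[(nat_lit 0xe476c001),(nat_lit 0xebaf1001),(nat_lit 0xe476d001),(nat_lit 0xe476b001),(nat_lit 0xe6ddb001),(nat_lit 0xe5bdd001),(nat_lit 0xe476e001)],[(nat_lit 0xeafa7001),(nat_lit 0xeafa8001),(nat_lit 0xeafa6001),(nat_lit 0xeafa9001),(nat_lit 0xeb934001),(nat_lit 0xebc73001),(nat_lit 0xeb59b001)],[(nat_lit 0x3976b001),(nat_lit 0x3976c001),(nat_lit 0x3976d001),(nat_lit 0xd8ed6001),(nat_lit 0x3976a001),(nat_lit 0x3976e001),(nat_lit 0xdc764001)],[(nat_lit 0x3b067001),(nat_lit 0x3b068001),(nat_lit 0xcf237001),(nat_lit 0x3b069001),(nat_lit 0xcf238c7592002),(nat_lit 0x3b066001),(nat_lit 0xd8edb001)],[(nat_lit 0xe21d2001),(nat_lit 0xea850001),(nat_lit 0xe21d1001),(nat_lit 0xeb7d0001),(nat_lit 0xea8db001),(nat_lit 0xe9300e3e9a002),(nat_lit 0xd9b25001)],[(nat_lit 0x22853001),(nat_lit 0x22854001),(nat_lit 0x2f524001),(nat_lit 0xab386539d9002),(nat_lit 0x22855001),(nat_lit 0x2cdba001),(nat_lit 0xc81126b86e002)],[(nat_lit 0xeb87a001),(nat_lit 0xeb87b001),(nat_lit 0xeb87c001),(nat_lit 0xeb87d001),(nat_lit 0xeb879001),(nat_lit 0xeb87e001),(nat_lit 0xeb87f001)],[(nat_lit 0xedc3b001),(nat_lit 0xec4d0001),(nat_lit 0xec4d3001),(nat_lit 0xec5ec001),(nat_lit 0xec4d1001),(nat_lit 0xec4d2001),(nat_lit 0xeda9f001)],[(nat_lit 0xe7e43001),(nat_lit 0xe9e90001),(nat_lit 0xeef5a001),(nat_lit 0xeea4b001),(nat_lit 0xe4d29001),(nat_lit 0xee2b8001),(nat_lit 0xd8eb7001)],[(nat_lit 0x842fa001),(nat_lit 0xdd790d9e95002),(nat_lit 0xe9e91001),(nat_lit 0x842f9001),(nat_lit 0x842fb001),(nat_lit 0xef5a0001),(nat_lit 0xd0cba001)],[(nat_lit 0xeea86001),(nat_lit 0xeea87001),(nat_lit 0xeea85001),(nat_lit 0xeea88001),(nat_lit 0xeea89001),(nat_lit 0xeea8a001),(nat_lit 0xeea8b001)],[(nat_lit 0xef596001),(nat_lit 0xef597001),(nat_lit 0xef59b001),(nat_lit 0xef595001),(nat_lit 0xef598001),(nat_lit 0xef599001),(nat_lit 0xef59a001)],[(nat_lit 0xe71ab001),(nat_lit 0xe18ae001),(nat_lit 0xe18af001),(nat_lit 0xe18ad001),(nat_lit 0xe18b0001),(nat_lit 0xe5fe0001),(nat_lit 0xe27a7001)],[(nat_lit 0xe6e07001),(nat_lit 0xe6e0b001),(nat_lit 0xe6e06001),(nat_lit 0xe71ac001),(nat_lit 0xe6e08001),(nat_lit 0xe6e09001),(nat_lit 0xe6e0a001)],[(nat_lit 0xe5fdd001),(nat_lit 0xe18a4001),(nat_lit 0xe18a2001),(nat_lit 0xe18a3001),(nat_lit 0xe18a5001),(nat_lit 0xe71af001),(nat_lit 0xe27c9001)],[(nat_lit 0xe44fe001),(nat_lit 0xe4500001),(nat_lit 0xe65ac001),(nat_lit 0xe44ff001),(nat_lit 0xe4501001),(nat_lit 0xe4503001),(nat_lit 0xe44fd001)],[(nat_lit 0xd8a10001),(nat_lit 0x3d96a001),(nat_lit 0xd27e7001),(nat_lit 0x3dfa6001),(nat_lit 0x3d969001),(nat_lit 0x90047001),(nat_lit 0xd2f25001)],[(nat_lit 0xe7546001),(nat_lit 0xe7545001),(nat_lit 0xe754a001),(nat_lit 0xe7547001),(nat_lit 0xe7548001),(nat_lit 0xeb512001),(nat_lit 0xe7549001)],[(nat_lit 0xe9e09001),(nat_lit 0xe8104001),(nat_lit 0xe8103001),(nat_lit 0xe8303001),(nat_lit 0xe8105001),(nat_lit 0xe8106001),(nat_lit 0xe8107001)],[(nat_lit 0xecc6d001),(nat_lit 0xeba93001),(nat_lit 0xebbc2001),(nat_lit 0xeba94001),(nat_lit 0xeba95001),(nat_lit 0xeba96001),(nat_lit 0xeba97001)],[(nat_lit 0xee151001),(nat_lit 0xeba91001),(nat_lit 0xef1e4001),(nat_lit 0xeba90001),(nat_lit 0xeba92001),(nat_lit 0xed6c3001),(nat_lit 0xeba8f001)],[(nat_lit 0x58186001),(nat_lit 0x56329001),(nat_lit 0xc2719001),(nat_lit 0x56328001),(nat_lit 0xc66fe001),(nat_lit 0x5632a001),(nat_lit 0xeaea7001)],[(nat_lit 0xafee571d4a002),(nat_lit 0xeef47001),(nat_lit 0xb0390001),(nat_lit 0xec0d9001),(nat_lit 0xb0391001),(nat_lit 0x71d49001),(nat_lit 0xe676d001)],[(nat_lit 0xe6d3f001),(nat_lit 0xe6d40001),(nat_lit 0xe8bc9001),(nat_lit 0xe6d3e001),(nat_lit 0xe6d41001),(nat_lit 0xebf43001),(nat_lit 0xe6d3d001)],[(nat_lit 0xd8e79001),(nat_lit 0x7023e001),(nat_lit 0x70c32001),(nat_lit 0xc580c001),(nat_lit 0x7023d001),(nat_lit 0x7023f001),(nat_lit 0xd624b001)],[(nat_lit 0xe7017001),(nat_lit 0xe7018001),(nat_lit 0xe720a001),(nat_lit 0xe7016001),(nat_lit 0xeddd9001),(nat_lit 0xe7019001),(nat_lit 0xe7015001)],[(nat_lit 0xec867001),(nat_lit 0xec868001),(nat_lit 0xec866001),(nat_lit 0xec869001),(nat_lit 0xeea82001),(nat_lit 0xec86a001),(nat_lit 0xec86b001)],[(nat_lit 0xe5a42001),(nat_lit 0xe5a43001),(nat_lit 0xe5a45001),(nat_lit 0xe5a41001),(nat_lit 0xe5a48001),(nat_lit 0xe5a44001),(nat_lit 0xe5da2001)],[(nat_lit 0x3bec7001),(nat_lit 0x44428001),(nat_lit 0x3deed001),(nat_lit 0x3b8da001),(nat_lit 0x3b8db001),(nat_lit 0x3deea001),(nat_lit 0xc7fbb001)],[(nat_lit 0xedd0c001),(nat_lit 0xeddba001),(nat_lit 0xedd0b001),(nat_lit 0xeddb8001),(nat_lit 0xedd0d001),(nat_lit 0xedd0e001),(nat_lit 0xedd0f001)],[(nat_lit 0x85bad001),(nat_lit 0xadb7e85bae002),(nat_lit 0x87659001),(nat_lit 0x85baf001),(nat_lit 0x8765d001),(nat_lit 0x85bac001),(nat_lit 0xde11a001)],[(nat_lit 0x87658001),(nat_lit 0xc9298001),(nat_lit 0x86428001),(nat_lit 0xe41e1001),(nat_lit 0xd186f87660002),(nat_lit 0x86427001),(nat_lit 0xe316e001)],[(nat_lit 0xec67e001),(nat_lit 0xe7908001),(nat_lit 0xe7907001),(nat_lit 0xe790b001),(nat_lit 0xe7909001),(nat_lit 0xe790a001),(nat_lit 0xed18b001)],[(nat_lit 0x3dee7001),(nat_lit 0x82766001),(nat_lit 0x3dee6001),(nat_lit 0x3dee8001),(nat_lit 0x3dee9001),(nat_lit 0x3deea001),(nat_lit 0xc5663001)],[(nat_lit 0xd5c1e001),(nat_lit 0xdeca2001),(nat_lit 0xd4a72001),(nat_lit 0x6a13b001),(nat_lit 0xc9cdd001),(nat_lit 0x6a13a001),(nat_lit 0xd7a10001)],[(nat_lit 0xe4e51001),(nat_lit 0xe1f2b001),(nat_lit 0xdf8ef001),(nat_lit 0xdf8f0001),(nat_lit 0xdf8f1001),(nat_lit 0xece59001),(nat_lit 0xdf8ee001)],[(nat_lit 0xe9f5d001),(nat_lit 0xe9f5e001),(nat_lit 0xe9f5f001),(nat_lit 0xe9f5c001),(nat_lit 0xe9f60001),(nat_lit 0xe9f61001),(nat_lit 0xea2d7001)],[(nat_lit 0xe5a6d001),(nat_lit 0xe66fe001),(nat_lit 0xe5a68001),(nat_lit 0xe5e1d001),(nat_lit 0xe5a69001),(nat_lit 0xe8633001),(nat_lit 0xe5a6a001)],[(nat_lit 0xe9666001),(nat_lit 0xec67f001),(nat_lit 0x75bc2001),(nat_lit 0x99593001),(nat_lit 0x75bc1001),(nat_lit 0xe3aab001),(nat_lit 0xd163c001)],[(nat_lit 0xcf13f001),(nat_lit 0xb813c75bc8002),(nat_lit 0xec680001),(nat_lit 0xcfd1c001),(nat_lit 0x75bc7001),(nat_lit 0xc33af001),(nat_lit 0xed6ef001)],[(nat_lit 0x71dc2001),(nat_lit 0xd4034001),(nat_lit 0x71174001),(nat_lit 0x71ab4001),(nat_lit 0x71dd2001),(nat_lit 0x71173001),(nat_lit 0xc973bc73c8002)],[(nat_lit 0xec5a3001),(nat_lit 0xec5a4001),(nat_lit 0xec5a2001),(nat_lit 0xec67d001),(nat_lit 0xec5a5001),(nat_lit 0xec5a6001),(nat_lit 0xec5a7001)],[(nat_lit 0xea040001),(nat_lit 0xea041001),(nat_lit 0xea042001),(nat_lit 0xea03f001),(nat_lit 0xea045001),(nat_lit 0xec682001),(nat_lit 0xea646001)],[(nat_lit 0xeb19b001),(nat_lit 0xeb19a001),(nat_lit 0xeb19c001),(nat_lit 0xeb2ae001),(nat_lit 0xeb19d001),(nat_lit 0xeb19e001),(nat_lit 0xeb19f001)],[(nat_lit 0xe683d001),(nat_lit 0xe683e001),(nat_lit 0xe8b73001),(nat_lit 0xe683c001),(nat_lit 0xe683f001),(nat_lit 0xe7aee001),(nat_lit 0xe6840001)],[(nat_lit 0xe7dba001),(nat_lit 0xe7dbd001),(nat_lit 0xe800c001),(nat_lit 0xe7dbb001),(nat_lit 0xe7dbc001),(nat_lit 0xe7dbe001),(nat_lit 0xe7db9001)],[(nat_lit 0x71caa001),(nat_lit 0xe60cf001),(nat_lit 0x71cab001),(nat_lit 0xe5f7a001),(nat_lit 0x71ca9001),(nat_lit 0xe4005001),(nat_lit 0xd7e17001)],[(nat_lit 0xcbcf1ba4b9002),(nat_lit 0xba4ba001),(nat_lit 0xa039572a42002),(nat_lit 0xba4bb001),(nat_lit 0xce267ba4bc002),(nat_lit 0xba4ad72a41002),(nat_lit 0xe9ad4001)],[(nat_lit 0xe4835001),(nat_lit 0xea00c001),(nat_lit 0xe72c3001),(nat_lit 0xe9b39001),(nat_lit 0xe4833001),(nat_lit 0xe9ad7001),(nat_lit 0x89cad001)],[(nat_lit 0xdd3c280d31002),(nat_lit 0x3b709001),(nat_lit 0xaf8bc6bc29002),(nat_lit 0x81396001),(nat_lit 0x45a0a001),(nat_lit 0x3b708001),(nat_lit 0xdd496001)],[(nat_lit 0xeb09d001),(nat_lit 0xeb09c001),(nat_lit 0xeb09e001),(nat_lit 0xeb0f1001),(nat_lit 0xeb09f001),(nat_lit 0xeb0a0001),(nat_lit 0xeb0a1001)],[(nat_lit 0xe74e3001),(nat_lit 0xe74e4001),(nat_lit 0xe74e5001),(nat_lit 0xe74e2001),(nat_lit 0xeb23f001),(nat_lit 0xe8d0d001),(nat_lit 0xe74e6001)],[(nat_lit 0xe8122001),(nat_lit 0xe8123001),(nat_lit 0xe8127001),(nat_lit 0xe8121001),(nat_lit 0xe8124001),(nat_lit 0xe8125001),(nat_lit 0xe8126001)],[(nat_lit 0x510d2001),(nat_lit 0xb5bce001),(nat_lit 0x510d3001),(nat_lit 0xb5bcf001),(nat_lit 0x51ce4001),(nat_lit 0x510d1001),(nat_lit 0xdd963001)],[(nat_lit 0xb5c02001),(nat_lit 0x510cb001),(nat_lit 0x51ce9001),(nat_lit 0xb5c03001),(nat_lit 0x510ca001),(nat_lit 0xb5c04001),(nat_lit 0xe488d001)],[(nat_lit 0xee512001),(nat_lit 0xe571d001),(nat_lit 0xe59ef001),(nat_lit 0xe571c001),(nat_lit 0xed816001),(nat_lit 0xe571e001),(nat_lit 0xe571b001)],[(nat_lit 0xe054784063002),(nat_lit 0x83eea001),(nat_lit 0x8328f001),(nat_lit 0xe8e6d001),(nat_lit 0x8328e001),(nat_lit 0xd1be884069002),(nat_lit 0xecebd001)],[(nat_lit 0xc73e4001),(nat_lit 0x611fc001),(nat_lit 0xc8188c73e5002),(nat_lit 0x6b877001),(nat_lit 0x611fb001),(nat_lit 0xc73e6001),(nat_lit 0xc73e2001)],[(nat_lit 0xeef7d001),(nat_lit 0xeef80001),(nat_lit 0xeef7c001),(nat_lit 0xef006001),(nat_lit 0xeef7e001),(nat_lit 0xeef7f001),(nat_lit 0xeef81001)],[(nat_lit 0xed06b001),(nat_lit 0xee6b1001),(nat_lit 0xee627001),(nat_lit 0xed06c001),(nat_lit 0xed06a001),(nat_lit 0xeef13001),(nat_lit 0xed06d001)],[(nat_lit 0xef022001),(nat_lit 0xee6d8001),(nat_lit 0xee6d7001),(nat_lit 0xee6d9001),(nat_lit 0xee6da001),(nat_lit 0xef00a001),(nat_lit 0xee7bf001)],[(nat_lit 0xe1d61001),(nat_lit 0xe8dac001),(nat_lit 0xdfca3001),(nat_lit 0xdfca4001),(nat_lit 0xdfca5001),(nat_lit 0xdfca6001),(nat_lit 0xdfca2001)],[(nat_lit 0xceef6001),(nat_lit 0x73bbe001),(nat_lit 0xe3b1d001),(nat_lit 0xd2c5773bbd002),(nat_lit 0xeeea9001),(nat_lit 0x73bbf001),(nat_lit 0xca518001)],[(nat_lit 0xed6e1001),(nat_lit 0xed914001),(nat_lit 0xed6e2001),(nat_lit 0xed6e0001),(nat_lit 0xed6e3001),(nat_lit 0xed6e4001),(nat_lit 0xed6e5001)],[(nat_lit 0x938b2001),(nat_lit 0x77409001),(nat_lit 0x77407001),(nat_lit 0x77408001),(nat_lit 0xe7994001),(nat_lit 0x77410001),(nat_lit 0xb0f11001)],[(nat_lit 0xee9a2001),(nat_lit 0xee9a1001),(nat_lit 0xeeae8001),(nat_lit 0xee9a3001),(nat_lit 0xee9a4001),(nat_lit 0xee9a5001),(nat_lit 0xee9a6001)],[(nat_lit 0xd90ae001),(nat_lit 0xe3ef7001),(nat_lit 0xd90b0001),(nat_lit 0xd90ad001),(nat_lit 0xd90af001),(nat_lit 0xe4113001),(nat_lit 0xeb1f0001)],[(nat_lit 0xde2ea001),(nat_lit 0xde2ef001),(nat_lit 0xde2ec001),(nat_lit 0xde2eb001),(nat_lit 0xde2ed001),(nat_lit 0xde2ee001),(nat_lit 0xde2e9001)],[(nat_lit 0xe7e23001),(nat_lit 0xef21f001),(nat_lit 0xe7e22001),(nat_lit 0xe7e24001),(nat_lit 0xee575001),(nat_lit 0xeb595001),(nat_lit 0xe7e25001)],[(nat_lit 0xe74ab001),(nat_lit 0xe74ac001),(nat_lit 0xe74ad001),(nat_lit 0xe74aa001),(nat_lit 0xe74b0001),(nat_lit 0xe74ae001),(nat_lit 0xe74af001)],[(nat_lit 0xe9abf001),(nat_lit 0xec47b001),(nat_lit 0xe5852001),(nat_lit 0xe5ca6001),(nat_lit 0xe5850001),(nat_lit 0xe5853001),(nat_lit 0xe5851001)],[(nat_lit 0xec51d001),(nat_lit 0xec51e001),(nat_lit 0xec51c001),(nat_lit 0xec521001),(nat_lit 0xec51f001),(nat_lit 0xec520001),(nat_lit 0xec522001)],[(nat_lit 0x8732d001),(nat_lit 0xdf56f001),(nat_lit 0xe95538732c002),(nat_lit 0xe72d6001),(nat_lit 0xdf57c001),(nat_lit 0xec47f001),(nat_lit 0xeb9cf001)],[(nat_lit 0xec6b6001),(nat_lit 0xec6ba001),(nat_lit 0xec6b5001),(nat_lit 0xec6b8001),(nat_lit 0xed004001),(nat_lit 0xec6b7001),(nat_lit 0xec6b9001)],[(nat_lit 0x8732f001),(nat_lit 0xea0d2001),(nat_lit 0xea873001),(nat_lit 0xe95538732e002),(nat_lit 0xe23dadf55f002),(nat_lit 0xec3d8001),(nat_lit 0xdf562001)],[(nat_lit 0x7f0b7001),(nat_lit 0x7f0b8001),(nat_lit 0xd7e49001),(nat_lit 0x7f0b9001),(nat_lit 0xd7312001),(nat_lit 0x7f0ba001),(nat_lit 0xeaec9001)],[(nat_lit 0xecf78001),(nat_lit 0xecd29001),(nat_lit 0xece2f001),(nat_lit 0xecd26001),(nat_lit 0xecd2a001),(nat_lit 0xecd2b001),(nat_lit 0xecd25001)],[(nat_lit 0x83d52001),(nat_lit 0x84f7e001),(nat_lit 0xca747001),(nat_lit 0x83d51001),(nat_lit 0x83d53001),(nat_lit 0xda69f001),(nat_lit 0xe0f72001)],[(nat_lit 0xeef9c001),(nat_lit 0x83ffd001),(nat_lit 0xed349001),(nat_lit 0x84f7d001),(nat_lit 0x83ffc001),(nat_lit 0xe7973001),(nat_lit 0xecb1e001)],[(nat_lit 0xe40d1001),(nat_lit 0x84004001),(nat_lit 0xdb8a5ca746002),(nat_lit 0x84003001),(nat_lit 0x84f7f001),(nat_lit 0xe0dfcdd7f1002),(nat_lit 0xecde2001)],[(nat_lit 0xef007001),(nat_lit 0xee329001),(nat_lit 0xeeaee001),(nat_lit 0xee328001),(nat_lit 0xee32a001),(nat_lit 0xef026001),(nat_lit 0xee32b001)],[(nat_lit 0x6fecd001),(nat_lit 0xec554001),(nat_lit 0x6fecc001),(nat_lit 0xe8b7f001),(nat_lit 0xe8f04001),(nat_lit 0x6fece001),(nat_lit 0xeb609001)],[(nat_lit 0xe8b80001),(nat_lit 0xef024001),(nat_lit 0xee013001),(nat_lit 0xd3efd001),(nat_lit 0xeac00001),(nat_lit 0xea3dd001),(nat_lit 0x88c44001)],[(nat_lit 0xef015001),(nat_lit 0xef016001),(nat_lit 0xef021001),(nat_lit 0xef014001),(nat_lit 0xef017001),(nat_lit 0xef018001),(nat_lit 0xef019001)],[(nat_lit 0xeefd0001),(nat_lit 0xeefd1001),(nat_lit 0xeefcf001),(nat_lit 0xeefd4001),(nat_lit 0xeefd2001),(nat_lit 0xeefd3001),(nat_lit 0xef020001)],[(nat_lit 0xd8623001),(nat_lit 0xd8624001),(nat_lit 0xdc825001),(nat_lit 0xd8625001),(nat_lit 0xdc821001),(nat_lit 0xd8626001),(nat_lit 0x96357001)],[(nat_lit 0xe8d17001),(nat_lit 0xe753b001),(nat_lit 0xe753c001),(nat_lit 0xe7756001),(nat_lit 0xe753d001),(nat_lit 0xe753f001),(nat_lit 0xe753e001)],[(nat_lit 0xc86a8001),(nat_lit 0x5df9e001),(nat_lit 0xea636001),(nat_lit 0x5df9d001),(nat_lit 0x5df9f001),(nat_lit 0xc8fc3001),(nat_lit 0xef419001)],[(nat_lit 0xdaa49001),(nat_lit 0xdaa4a001),(nat_lit 0xdae84001),(nat_lit 0xde6be001),(nat_lit 0xdaa48001),(nat_lit 0xdaa4b001),(nat_lit 0xdaa4c001)],[(nat_lit 0xe9bb2001),(nat_lit 0xe9bb3001),(nat_lit 0xea210001),(nat_lit 0xe9c53001),(nat_lit 0xe9bb4001),(nat_lit 0xe9bb5001),(nat_lit 0xd9e77001)],[(nat_lit 0xe352a001),(nat_lit 0xe389b001),(nat_lit 0xe352c001),(nat_lit 0xe3529001),(nat_lit 0xe352e001),(nat_lit 0xe352b001),(nat_lit 0xe352d001)],[(nat_lit 0xec035001),(nat_lit 0xec034001),(nat_lit 0xec036001),(nat_lit 0xec0d5001),(nat_lit 0xec037001),(nat_lit 0xec038001),(nat_lit 0xec039001)],[(nat_lit 0xe6a39001),(nat_lit 0xe94c1001),(nat_lit 0xedfad001),(nat_lit 0xe6a38001),(nat_lit 0xede71001),(nat_lit 0xecc22001),(nat_lit 0xe6a37001)],[(nat_lit 0x964b1461bf002),(nat_lit 0x4586e001),(nat_lit 0x461c4001),(nat_lit 0xb3dcb92951002),(nat_lit 0x4586d001),(nat_lit 0x9651180931002),(nat_lit 0xe6727001)],[(nat_lit 0xe8238001),(nat_lit 0xe8239001),(nat_lit 0xe823a001),(nat_lit 0xe823b001),(nat_lit 0xe8237001),(nat_lit 0xe823c001),(nat_lit 0xe823d001)],[(nat_lit 0x540a4001),(nat_lit 0xd330e001),(nat_lit 0xd330f001),(nat_lit 0xebdca001),(nat_lit 0xd32f5540a3002),(nat_lit 0xebae3001),(nat_lit 0xedb47001)],[(nat_lit 0xe4ef0001),(nat_lit 0xed437001),(nat_lit 0xe4eef001),(nat_lit 0xe4ef2001),(nat_lit 0xe4ef1001),(nat_lit 0xe9791001),(nat_lit 0xe4ef4001)],[(nat_lit 0xe18f1001),(nat_lit 0xe488c001),(nat_lit 0xde754001),(nat_lit 0xde752001),(nat_lit 0xde753001),(nat_lit 0xdf33e001),(nat_lit 0xde755001)],[(nat_lit 0xdee97001),(nat_lit 0xdee98001),(nat_lit 0xdee99001),(nat_lit 0xdee96001),(nat_lit 0xe84ac001),(nat_lit 0xe3f58001),(nat_lit 0xdee9c001)],[(nat_lit 0x980cc001),(nat_lit 0xd8b8d001),(nat_lit 0x980cd001),(nat_lit 0xd801b001),(nat_lit 0x980cb001),(nat_lit 0xd8b92001),(nat_lit 0xe57c9001)],[(nat_lit 0xeeb9e001),(nat_lit 0xeebce001),(nat_lit 0xeeb9d001),(nat_lit 0xeebae001),(nat_lit 0xeeb9f001),(nat_lit 0xeeba0001),(nat_lit 0xeeba1001)],[(nat_lit 0xeec83001),(nat_lit 0xec9ed001),(nat_lit 0xed59a001),(nat_lit 0xec9ec001),(nat_lit 0xede41001),(nat_lit 0xeec5e001),(nat_lit 0xec9eb001)],[(nat_lit 0xe907d001),(nat_lit 0xe56a2001),(nat_lit 0xe5884001),(nat_lit 0xdef7d001),(nat_lit 0xec498001),(nat_lit 0xe8287001),(nat_lit 0xdef7c001)],[(nat_lit 0x93f1b001),(nat_lit 0x707b4001),(nat_lit 0xef4fa001),(nat_lit 0x707b3001),(nat_lit 0x707b5001),(nat_lit 0x93f1e001),(nat_lit 0xec4c9001)],[(nat_lit 0xea4fd001),(nat_lit 0xea4fe001),(nat_lit 0xea5f0001),(nat_lit 0xea4ff001),(nat_lit 0xea4fc001),(nat_lit 0xea500001),(nat_lit 0xea501001)],[(nat_lit 0xeca59001),(nat_lit 0xecb97001),(nat_lit 0xeca5c001),(nat_lit 0xeca58001),(nat_lit 0xeca5a001),(nat_lit 0xeca5b001),(nat_lit 0xecb5f001)],[(nat_lit 0xeab22001),(nat_lit 0xed3b9001),(nat_lit 0xed653001),(nat_lit 0xe81ab8ccc1002),(nat_lit 0xe81b8001),(nat_lit 0x8ccc0001),(nat_lit 0xeec1a001)],[(nat_lit 0xc758b001),(nat_lit 0x66933001),(nat_lit 0xde72b001),(nat_lit 0x66932001),(nat_lit 0xc7d7f001),(nat_lit 0x66934001),(nat_lit 0xeab26001)],[(nat_lit 0xef536001),(nat_lit 0xef4d6001),(nat_lit 0xef4d7001),(nat_lit 0xef51b001),(nat_lit 0xef4d5001),(nat_lit 0xef539001),(nat_lit 0xef4d8001)],[(nat_lit 0xeee05001),(nat_lit 0xed4a4001),(nat_lit 0xed4a5001),(nat_lit 0xed528001),(nat_lit 0xed4a6001),(nat_lit 0xed655001),(nat_lit 0xeee2e001)],[(nat_lit 0xef223001),(nat_lit 0xef222001),(nat_lit 0xef224001),(nat_lit 0xef245001),(nat_lit 0xef225001),(nat_lit 0xef226001),(nat_lit 0xef227001)],[(nat_lit 0xe4d22001),(nat_lit 0xe59e5001),(nat_lit 0xe36be001),(nat_lit 0xe36bd001),(nat_lit 0xe8798001),(nat_lit 0xed2ad001),(nat_lit 0xe36bf001)],[(nat_lit 0xe33f1001),(nat_lit 0xe907f001),(nat_lit 0xdf479001),(nat_lit 0xe4d23001),(nat_lit 0xe1448001),(nat_lit 0xe5235001),(nat_lit 0x7523c001)],[(nat_lit 0x8102b001),(nat_lit 0xd861e81031002),(nat_lit 0xd7a86001),(nat_lit 0x808a8001),(nat_lit 0xd79c5001),(nat_lit 0xd67438103a002),(nat_lit 0xe8c6d001)],[(nat_lit 0xe8129001),(nat_lit 0xe812a001),(nat_lit 0xe812b001),(nat_lit 0xe8128001),(nat_lit 0xe812c001),(nat_lit 0xe812d001),(nat_lit 0xe812e001)],[(nat_lit 0xe74b2001),(nat_lit 0xe2ee1001),(nat_lit 0xe2ee0001),(nat_lit 0xe2ee3001),(nat_lit 0xef141001),(nat_lit 0xe2ee2001),(nat_lit 0xe2ee4001)],[(nat_lit 0x3bb5e001),(nat_lit 0xbed66473c9002),(nat_lit 0x3bb5f001),(nat_lit 0xbd44a6e8b1002),(nat_lit 0x3bb60001),(nat_lit 0x3bb5d001),(nat_lit 0xd1f5d001)],[(nat_lit 0xe7197001),(nat_lit 0xe74c6001),(nat_lit 0xe7196001),(nat_lit 0xe741a001),(nat_lit 0xe719a001),(nat_lit 0xe7198001),(nat_lit 0xe7199001)],[(nat_lit 0xe7091001),(nat_lit 0xe7094001),(nat_lit 0xe7096001),(nat_lit 0xe7092001),(nat_lit 0xed2b2001),(nat_lit 0xe7095001),(nat_lit 0xe7090001)],[(nat_lit 0xe2532001),(nat_lit 0x68fcc001),(nat_lit 0xec977001),(nat_lit 0xe4ce5001),(nat_lit 0xe251168fcb002),(nat_lit 0xecab5001),(nat_lit 0xe3193001)],[(nat_lit 0xe96dd001),(nat_lit 0xe96de001),(nat_lit 0xe96dc001),(nat_lit 0xe96e1001),(nat_lit 0xe96df001),(nat_lit 0xe96e0001),(nat_lit 0xe96e3001)],[(nat_lit 0xec9bf001),(nat_lit 0xecab2001),(nat_lit 0xe6270001),(nat_lit 0xe6271001),(nat_lit 0xed948001),(nat_lit 0xe6272001),(nat_lit 0x87acf001)],[(nat_lit 0xe90e5001),(nat_lit 0xef407001),(nat_lit 0xe90e6001),(nat_lit 0xe9154001),(nat_lit 0xe90e7001),(nat_lit 0xe90e8001),(nat_lit 0x6e9b6001)],[(nat_lit 0xef583001),(nat_lit 0xef588001),(nat_lit 0xef584001),(nat_lit 0xef582001),(nat_lit 0xef585001),(nat_lit 0xef586001),(nat_lit 0xef587001)],[(nat_lit 0xb2c0764414002),(nat_lit 0x64415001),(nat_lit 0xed545001),(nat_lit 0xeb1fb001),(nat_lit 0x64416001),(nat_lit 0xee959001),(nat_lit 0xecbc0001)],[(nat_lit 0xedcb7001),(nat_lit 0xed74c001),(nat_lit 0xed7c3001),(nat_lit 0xed74d001),(nat_lit 0xed74e001),(nat_lit 0xed74f001),(nat_lit 0xed750001)],[(nat_lit 0xed372001),(nat_lit 0xed373001),(nat_lit 0xed371001),(nat_lit 0xed3e7001),(nat_lit 0xed374001),(nat_lit 0xed375001),(nat_lit 0xed376001)],[(nat_lit 0xe8cf8001),(nat_lit 0xe8cf9001),(nat_lit 0xe8cfc001),(nat_lit 0xe8cf7001),(nat_lit 0xecf52001),(nat_lit 0xe8cfa001),(nat_lit 0xe8cfb001)],[(nat_lit 0xb3ac686794002),(nat_lit 0x87472001),(nat_lit 0x866b4001),(nat_lit 0x86daf001),(nat_lit 0x866b3001),(nat_lit 0xba73d8b7d3002),(nat_lit 0xc9c7f001)],[(nat_lit 0xeeefb001),(nat_lit 0xeef2e001),(nat_lit 0xeeefc001),(nat_lit 0xeeefa001),(nat_lit 0xeeefd001),(nat_lit 0xeeefe001),(nat_lit 0xeeeff001)],[(nat_lit 0xedf9b001),(nat_lit 0xedf9c001),(nat_lit 0xedf9a001),(nat_lit 0xedf9e001),(nat_lit 0xedf9d001),(nat_lit 0xeef31001),(nat_lit 0xedfa0001)],[(nat_lit 0xe8ab8001),(nat_lit 0xedf70001),(nat_lit 0xe85e3001),(nat_lit 0xe85e2001),(nat_lit 0xeeb14001),(nat_lit 0xeeef4001),(nat_lit 0xe88e9001)],[(nat_lit 0xeb7ee001),(nat_lit 0xe5536001),(nat_lit 0xe5537001),(nat_lit 0xe59b4001),(nat_lit 0xe5538001),(nat_lit 0xe9ee0001),(nat_lit 0x7f5bf001)],[(nat_lit 0xe726d001),(nat_lit 0xe6acd001),(nat_lit 0xe2bed001),(nat_lit 0xe2bee001),(nat_lit 0xe2bef001),(nat_lit 0xe2bf0001),(nat_lit 0xec00d001)],[(nat_lit 0xe6988001),(nat_lit 0xe6989001),(nat_lit 0xe6987001),(nat_lit 0xe6ace001),(nat_lit 0xe698a001),(nat_lit 0xe698b001),(nat_lit 0xe698c001)],[(nat_lit 0xebb10001),(nat_lit 0xec8d5001),(nat_lit 0xebb11001),(nat_lit 0xebb0f001),(nat_lit 0xebb12001),(nat_lit 0xebb13001),(nat_lit 0xebc40001)],[(nat_lit 0x655b0001),(nat_lit 0x646aa001),(nat_lit 0x9daa3646ab002),(nat_lit 0x654ae001),(nat_lit 0xa0d66646ac002),(nat_lit 0x646a9001),(nat_lit 0xd5539001)],[(nat_lit 0xebaa7001),(nat_lit 0xebaa8001),(nat_lit 0xebaa6001),(nat_lit 0xebc7b001),(nat_lit 0xebaab001),(nat_lit 0xebaa9001),(nat_lit 0xebaaa001)],[(nat_lit 0x952d2001),(nat_lit 0xd5de2001),(nat_lit 0xe9cca001),(nat_lit 0x952d1001),(nat_lit 0x952d3001),(nat_lit 0xdfbd4001),(nat_lit 0xe0345001)],[(nat_lit 0xe96b5001),(nat_lit 0xe96b6001),(nat_lit 0xe96b8001),(nat_lit 0xe96b4001),(nat_lit 0xebda7001),(nat_lit 0xe96b7001),(nat_lit 0xea48d001)],[(nat_lit 0xe9ee2001),(nat_lit 0xeb746001),(nat_lit 0xe9ee1001),(nat_lit 0xe9ee3001),(nat_lit 0xe9ee4001),(nat_lit 0xe9ee5001),(nat_lit 0xe9ee6001)],[(nat_lit 0xed51a001),(nat_lit 0xeac8a001),(nat_lit 0xeac89001),(nat_lit 0xee798001),(nat_lit 0xeac8b001),(nat_lit 0xeac8d001),(nat_lit 0xeac8c001)],[(nat_lit 0xee183001),(nat_lit 0xee186001),(nat_lit 0xee185001),(nat_lit 0xee184001),(nat_lit 0xee187001),(nat_lit 0xee188001),(nat_lit 0xee182001)],[(nat_lit 0xb8ad5b2c5f002),(nat_lit 0x6467f001),(nat_lit 0xb86cd001),(nat_lit 0xb86c1b2c60002),(nat_lit 0xb2c61001),(nat_lit 0x6467e001),(nat_lit 0xb86ce001)],[(nat_lit 0xe4a57001),(nat_lit 0xe654f001),(nat_lit 0xe5232001),(nat_lit 0xe075b001),(nat_lit 0xe075c001),(nat_lit 0xe0ea4001),(nat_lit 0xe075d001)],[(nat_lit 0x43396001),(nat_lit 0xed28e001),(nat_lit 0xa824043395002),(nat_lit 0xc457d001),(nat_lit 0xe15f2001),(nat_lit 0xe4a09001),(nat_lit 0xe5618001)],[(nat_lit 0x83f0f001),(nat_lit 0xdece6001),(nat_lit 0xdc238001),(nat_lit 0xc5eb283f0e002),(nat_lit 0xcb66383f10002),(nat_lit 0xe138f001),(nat_lit 0xd4db3001)],[(nat_lit 0xee3d9001),(nat_lit 0xee422001),(nat_lit 0xef49c001),(nat_lit 0xee3da001),(nat_lit 0xee3d8001),(nat_lit 0xee3db001),(nat_lit 0xee3dc001)],[(nat_lit 0xef49d001),(nat_lit 0xef4a4001),(nat_lit 0xef498001),(nat_lit 0xef49e001),(nat_lit 0xef499001),(nat_lit 0xef49a001),(nat_lit 0xef49b001)],[(nat_lit 0xdd9098a43e002),(nat_lit 0xe0213001),(nat_lit 0x8a43f001),(nat_lit 0xb7ea38b1f1002),(nat_lit 0x8b1e2001),(nat_lit 0x8a43d001),(nat_lit 0xccc6d001)],[(nat_lit 0xa977673837002),(nat_lit 0xa83b173838002),(nat_lit 0xa975d001),(nat_lit 0x73839001),(nat_lit 0xa975e001),(nat_lit 0x747ac001),(nat_lit 0xe5a06001)],[(nat_lit 0x6e91a001),(nat_lit 0xc60366d430002),(nat_lit 0x7012c001),(nat_lit 0x6d431001),(nat_lit 0xb4a9b6d42f002),(nat_lit 0x6d432001),(nat_lit 0xce07d001)],[(nat_lit 0xdf331001),(nat_lit 0xcc4c7001),(nat_lit 0xcc4c672b11002),(nat_lit 0xcc4c8001),(nat_lit 0xcc4c9001),(nat_lit 0x72b10001),(nat_lit 0xcf6be001)],[(nat_lit 0xdf73f001),(nat_lit 0xdcf49001),(nat_lit 0xdc742001),(nat_lit 0xdc744001),(nat_lit 0xe7aaf001),(nat_lit 0xdc743001),(nat_lit 0xdc748001)],[(nat_lit 0xe3b73001),(nat_lit 0xe3b1e001),(nat_lit 0xe3b1d001),(nat_lit 0xe3b1f001),(nat_lit 0xef386001),(nat_lit 0xe3b20001),(nat_lit 0xe3b22001)],[(nat_lit 0xebd9a001),(nat_lit 0xeeb05001),(nat_lit 0xea987001),(nat_lit 0xeeb5f001),(nat_lit 0xeaad4001),(nat_lit 0xeb12a001),(nat_lit 0xdd076001)],[(nat_lit 0xeec89001),(nat_lit 0xeb2a0001),(nat_lit 0xeb125001),(nat_lit 0xeb127001),(nat_lit 0xeb126001),(nat_lit 0xeb129001),(nat_lit 0x7f649001)],[(nat_lit 0xec82f001),(nat_lit 0x73cea001),(nat_lit 0xe72d7001),(nat_lit 0x73ce9001),(nat_lit 0x766de001),(nat_lit 0xdf54574288002),(nat_lit 0xccd4f001)],[(nat_lit 0xeb25f001),(nat_lit 0xeb260001),(nat_lit 0xeb263001),(nat_lit 0xeb25e001),(nat_lit 0xeb261001),(nat_lit 0xeb262001),(nat_lit 0xeb264001)],[(nat_lit 0xe94a2001),(nat_lit 0xe857f001),(nat_lit 0xe857b001),(nat_lit 0xe857e001),(nat_lit 0xe857c001),(nat_lit 0xe857d001),(nat_lit 0xe880e001)],[(nat_lit 0xea44a001),(nat_lit 0xeceed001),(nat_lit 0xeb65f001),(nat_lit 0xeced2001),(nat_lit 0xea449001),(nat_lit 0xea44b001),(nat_lit 0xea44c001)],[(nat_lit 0xd0c52001),(nat_lit 0xd6cfc001),(nat_lit 0x8d5c5001),(nat_lit 0xd6cfd001),(nat_lit 0xcb0b8001),(nat_lit 0xd0c53001),(nat_lit 0x89b52001)],[(nat_lit 0xe826f001),(nat_lit 0xe826e001),(nat_lit 0xe8270001),(nat_lit 0xe8271001),(nat_lit 0xedeed001),(nat_lit 0xe8272001),(nat_lit 0xeaf10001)],[(nat_lit 0x7ef514a77c002),(nat_lit 0x4b64d001),(nat_lit 0x4a77d001),(nat_lit 0xe2f77001),(nat_lit 0xe5d3e001),(nat_lit 0x7ef504a77b002),(nat_lit 0xe3181001)],[(nat_lit 0x80d9a001),(nat_lit 0xb237e80d9f002),(nat_lit 0xc25b1001),(nat_lit 0x803bd001),(nat_lit 0xe8407001),(nat_lit 0x803bc001),(nat_lit 0xea107001)],[(nat_lit 0xe5036001),(nat_lit 0xe59f0001),(nat_lit 0xdf942001),(nat_lit 0xdf943001),(nat_lit 0xe974b001),(nat_lit 0xe80b0001),(nat_lit 0xe5db8001)],[(nat_lit 0x60679001),(nat_lit 0x6067a001),(nat_lit 0xa708560728002),(nat_lit 0xbc7816126f002),(nat_lit 0x61276001),(nat_lit 0x60695001),(nat_lit 0xef08d001)],[(nat_lit 0xb5d0f56a64002),(nat_lit 0xb5d7d001),(nat_lit 0x56a63001),(nat_lit 0xd8e80001),(nat_lit 0xb5cfd56a65002),(nat_lit 0xb5d7e001),(nat_lit 0xe0ee0001)],[(nat_lit 0x3a698001),(nat_lit 0x3a24d001),(nat_lit 0xdcd79001),(nat_lit 0x39e27001),(nat_lit 0xdcd7c001),(nat_lit 0x39e26001),(nat_lit 0xcb29c001)],[(nat_lit 0xb55fa7a7d6002),(nat_lit 0xa80d37b1dd002),(nat_lit 0xbd4457b1e0002),(nat_lit 0xa80cc7b075002),(nat_lit 0x7a7d5001),(nat_lit 0xa80cd7b078002),(nat_lit 0xe3541001)],[(nat_lit 0xe13c9001),(nat_lit 0xe8eb2001),(nat_lit 0xe808d001),(nat_lit 0xe13c5001),(nat_lit 0xe13cb001),(nat_lit 0xe13c8001),(nat_lit 0xda25c001)],[(nat_lit 0xee7fe001),(nat_lit 0xee841001),(nat_lit 0xee7fd001),(nat_lit 0xee7ff001),(nat_lit 0xee800001),(nat_lit 0xee801001),(nat_lit 0xee802001)],[(nat_lit 0xee1f6001),(nat_lit 0xee1f7001),(nat_lit 0xee1f8001),(nat_lit 0xee1f5001),(nat_lit 0xee842001),(nat_lit 0xee1f9001),(nat_lit 0xee1fa001)],[(nat_lit 0xed1e7001),(nat_lit 0xed1e8001),(nat_lit 0xed23d001),(nat_lit 0xed1e6001),(nat_lit 0xed1e9001),(nat_lit 0xed1ea001),(nat_lit 0xed1eb001)],[(nat_lit 0xe7554001),(nat_lit 0xe7553001),(nat_lit 0xe7557001),(nat_lit 0xe7555001),(nat_lit 0xe7556001),(nat_lit 0xe8cfa001),(nat_lit 0xe7558001)],[(nat_lit 0xe3970001),(nat_lit 0xdd4ac001),(nat_lit 0xdd4ab001),(nat_lit 0xdd4ae001),(nat_lit 0xe3d4d001),(nat_lit 0xdd4ad001),(nat_lit 0xdd4af001)],[(nat_lit 0x53e0d001),(nat_lit 0xdc536001),(nat_lit 0xd4208001),(nat_lit 0x53e0c001),(nat_lit 0x53e0e001),(nat_lit 0xd24f9001),(nat_lit 0xc37a6001)],[(nat_lit 0xea833001),(nat_lit 0xea834001),(nat_lit 0xea928001),(nat_lit 0xea832001),(nat_lit 0xea835001),(nat_lit 0xed6e9001),(nat_lit 0xea836001)],[(nat_lit 0xed441001),(nat_lit 0xed442001),(nat_lit 0xed4bb001),(nat_lit 0xed440001),(nat_lit 0xed443001),(nat_lit 0xed444001),(nat_lit 0xed445001)],[(nat_lit 0xe7836001),(nat_lit 0xe7b74001),(nat_lit 0xe7837001),(nat_lit 0xe7835001),(nat_lit 0xe7838001),(nat_lit 0xe977f001),(nat_lit 0xe7839001)],[(nat_lit 0xe7b47001),(nat_lit 0xe7b46001),(nat_lit 0xe7b48001),(nat_lit 0xe7b4b001),(nat_lit 0xe7b49001),(nat_lit 0xe7b4a001),(nat_lit 0xed29e001)],[(nat_lit 0xe6026001),(nat_lit 0xe7018001),(nat_lit 0xe6028001),(nat_lit 0xe6025001),(nat_lit 0xe602a001),(nat_lit 0xe6027001),(nat_lit 0xe6029001)],[(nat_lit 0xe7433001),(nat_lit 0xe4b7d001),(nat_lit 0xe5999001),(nat_lit 0xe4f09001),(nat_lit 0xe4b7e001),(nat_lit 0xe4b7f001),(nat_lit 0xdaed0001)],[(nat_lit 0xe5b9f001),(nat_lit 0xe5b9e001),(nat_lit 0xe5d63001),(nat_lit 0xe5b9d001),(nat_lit 0xe84d0001),(nat_lit 0xe6470001),(nat_lit 0xe5b9c001)],[(nat_lit 0xeb404001),(nat_lit 0xec452001),(nat_lit 0xec39b001),(nat_lit 0xec697001),(nat_lit 0xeb403001),(nat_lit 0xeb405001),(nat_lit 0x41428001)],[(nat_lit 0xa4ed3001),(nat_lit 0xa4ed240ff1002),(nat_lit 0xa4e7e40ff2002),(nat_lit 0xa4ed5001),(nat_lit 0xa224840ff3002),(nat_lit 0xa4ed6001),(nat_lit 0xd8092001)],[(nat_lit 0xdafe8001),(nat_lit 0xbc0bc74996002),(nat_lit 0xe6705001),(nat_lit 0xcd1ba001),(nat_lit 0xbc0b974995002),(nat_lit 0xd18ea001),(nat_lit 0xd4d5e001)],[(nat_lit 0xee9e6001),(nat_lit 0xee9e7001),(nat_lit 0xeeb3e001),(nat_lit 0xee9e5001),(nat_lit 0xee9e8001),(nat_lit 0xee9e9001),(nat_lit 0xee9ea001)],[(nat_lit 0xadef78781e002),(nat_lit 0x8781f001),(nat_lit 0xec9c0001),(nat_lit 0x87820001),(nat_lit 0xc22e9001),(nat_lit 0x891c4001),(nat_lit 0xe4bd7001)],[(nat_lit 0xb5c5b891be002),(nat_lit 0xdb950001),(nat_lit 0x891bd001),(nat_lit 0xdb8f8001),(nat_lit 0xc8786001),(nat_lit 0xe9327001),(nat_lit 0xe6429001)],[(nat_lit 0x73273001),(nat_lit 0xda6d9739ee002),(nat_lit 0x7326e001),(nat_lit 0x7360a001),(nat_lit 0x7326d001),(nat_lit 0xe2048001),(nat_lit 0xcb165001)],[(nat_lit 0xec398001),(nat_lit 0xeb6a0001),(nat_lit 0xeb6a3001),(nat_lit 0xeb69f001),(nat_lit 0xeb6a1001),(nat_lit 0xeeb42001),(nat_lit 0xeb6a2001)],[(nat_lit 0xec698001),(nat_lit 0xeb857001),(nat_lit 0xeba02001),(nat_lit 0xeb856001),(nat_lit 0xeb858001),(nat_lit 0xee996001),(nat_lit 0xeb855001)],[(nat_lit 0xe92bb001),(nat_lit 0x53fbb001),(nat_lit 0x746fa001),(nat_lit 0x53fba001),(nat_lit 0xda6d9739ed002),(nat_lit 0x53fbc001),(nat_lit 0xd4896001)],[(nat_lit 0xc405db619e002),(nat_lit 0xb61a0001),(nat_lit 0x63af6001),(nat_lit 0xb61a1001),(nat_lit 0x63af5001),(nat_lit 0xb61a2001),(nat_lit 0xeeb43001)],[(nat_lit 0xe9129001),(nat_lit 0xe9128001),(nat_lit 0xe912a001),(nat_lit 0xe96c8001),(nat_lit 0xe912b001),(nat_lit 0xe9cb5001),(nat_lit 0xee4d5001)],[(nat_lit 0xe96c6001),(nat_lit 0x43e48001),(nat_lit 0xce3bb001),(nat_lit 0x43e47001),(nat_lit 0xee9cd001),(nat_lit 0xce3b9001),(nat_lit 0xee029001)],[(nat_lit 0xe9cb2001),(nat_lit 0x43e4a001),(nat_lit 0xe4ecf001),(nat_lit 0xd4b0c001),(nat_lit 0xc529d001),(nat_lit 0x43e49001),(nat_lit 0xe8bb3001)],[(nat_lit 0xee4d1001),(nat_lit 0xdae93001),(nat_lit 0xdae94001),(nat_lit 0xe89eb001),(nat_lit 0xdae95001),(nat_lit 0xe8bb7001),(nat_lit 0xdb261001)],[(nat_lit 0xe6843001),(nat_lit 0xe6845001),(nat_lit 0xe6842001),(nat_lit 0xe6844001),(nat_lit 0xe684e001),(nat_lit 0xe684f001),(nat_lit 0xe6841001)],[(nat_lit 0xe54bc001),(nat_lit 0xe54be001),(nat_lit 0xe54bb001),(nat_lit 0xe54bd001),(nat_lit 0xe54c0001),(nat_lit 0xe9874001),(nat_lit 0xe54bf001)],[(nat_lit 0xee0e2001),(nat_lit 0xe6bbd001),(nat_lit 0xe6bbe001),(nat_lit 0xe6e0c001),(nat_lit 0xe6bbf001),(nat_lit 0xe6bc0001),(nat_lit 0xe6bc1001)],[(nat_lit 0x840e8001),(nat_lit 0x83f26001),(nat_lit 0x832ff001),(nat_lit 0xdbf1d001),(nat_lit 0xc5edb840ec002),(nat_lit 0x832fe001),(nat_lit 0xe5733001)],[(nat_lit 0xd7f92001),(nat_lit 0xe263c001),(nat_lit 0xe7e80001),(nat_lit 0xd7749001),(nat_lit 0xe7d59001),(nat_lit 0xdbf1e001),(nat_lit 0x835ac001)],[(nat_lit 0xe891f001),(nat_lit 0xe73bd001),(nat_lit 0xe75b0001),(nat_lit 0xe9b59001),(nat_lit 0xef68f001),(nat_lit 0xea7e1001),(nat_lit 0x65c55001)],[(nat_lit 0xc32b3c2b34002),(nat_lit 0x4343c001),(nat_lit 0xc2b35001),(nat_lit 0x43d24001),(nat_lit 0xa644d4343b002),(nat_lit 0x43d23001),(nat_lit 0xc2b38001)],[(nat_lit 0xbedec001),(nat_lit 0xbede47e01e002),(nat_lit 0xbeded001),(nat_lit 0xbedef001),(nat_lit 0xbedf0001),(nat_lit 0x7e01d001),(nat_lit 0xef5dd001)],[(nat_lit 0xef5de001),(nat_lit 0xe948c001),(nat_lit 0xe9673001),(nat_lit 0xef169001),(nat_lit 0xe9eb2001),(nat_lit 0xef5b1001),(nat_lit 0x835ee001)],[(nat_lit 0x637c2001),(nat_lit 0xec7fb001),(nat_lit 0xe168a001),(nat_lit 0xe1682001),(nat_lit 0xe18eb001),(nat_lit 0x637c1001),(nat_lit 0xd2e7a001)],[(nat_lit 0xe6e07001),(nat_lit 0xe139a001),(nat_lit 0xe139b001),(nat_lit 0xe18ad001),(nat_lit 0xe672c001),(nat_lit 0xe5ef7001),(nat_lit 0xe139c001)],[(nat_lit 0xe2be2001),(nat_lit 0xde7e2001),(nat_lit 0xde7dc001),(nat_lit 0xde7de001),(nat_lit 0xde7dd001),(nat_lit 0xe2b8c001),(nat_lit 0xde7df001)],[(nat_lit 0xe8948001),(nat_lit 0x778c2001),(nat_lit 0xe898f001),(nat_lit 0xd4a5cd002c002),(nat_lit 0xc0121001),(nat_lit 0xb861a778c1002),(nat_lit 0xd4bcf001)],[(nat_lit 0xe951a001),(nat_lit 0xe951b001),(nat_lit 0xe951c001),(nat_lit 0xe951d001),(nat_lit 0xe951e001),(nat_lit 0xe951f001),(nat_lit 0xe9520001)],[(nat_lit 0xe856b001),(nat_lit 0xe856a001),(nat_lit 0xe856c001),(nat_lit 0xe8776001),(nat_lit 0xe856e001),(nat_lit 0xe856d001),(nat_lit 0xe856f001)],[(nat_lit 0xed9d8001),(nat_lit 0xed9d9001),(nat_lit 0xed9d7001),(nat_lit 0xeda11001),(nat_lit 0xed9da001),(nat_lit 0xede76001),(nat_lit 0xed9db001)],[(nat_lit 0xe90df001),(nat_lit 0xe3d20001),(nat_lit 0xd7e826ef7b002),(nat_lit 0xe2410001),(nat_lit 0xe240f001),(nat_lit 0x6ef7a001),(nat_lit 0xe288b001)],[(nat_lit 0x5eb0d001),(nat_lit 0x5eb0e001),(nat_lit 0xbb462001),(nat_lit 0x5eb0c001),(nat_lit 0xc20b45eb0f002),(nat_lit 0xbb464001),(nat_lit 0xd7d0c001)],[(nat_lit 0xead2a001),(nat_lit 0xead2b001),(nat_lit 0xead29001),(nat_lit 0xeaddf001),(nat_lit 0xead2c001),(nat_lit 0xead2d001),(nat_lit 0xead2e001)],[(nat_lit 0xe7054001),(nat_lit 0xe704e001),(nat_lit 0xe704f001),(nat_lit 0xe7050001),(nat_lit 0xe7051001),(nat_lit 0xe7052001),(nat_lit 0xe7055001)],[(nat_lit 0xde2e6001),(nat_lit 0xde2e7001),(nat_lit 0xde2e2001),(nat_lit 0xde2e3001),(nat_lit 0xec953001),(nat_lit 0xde2e4001),(nat_lit 0xde2e8001)],[(nat_lit 0xec9dd001),(nat_lit 0xeede5001),(nat_lit 0xee51d001),(nat_lit 0xec9de001),(nat_lit 0xec9dc001),(nat_lit 0xeeea7001),(nat_lit 0xec9df001)],[(nat_lit 0xd39c48cc86002),(nat_lit 0xce72c001),(nat_lit 0x8be34001),(nat_lit 0xc5721001),(nat_lit 0x8cc90001),(nat_lit 0xd62728cc92002),(nat_lit 0xd627e001)],[(nat_lit 0xe42b9001),(nat_lit 0xe42ba001),(nat_lit 0xe42bb001),(nat_lit 0xe42b8001),(nat_lit 0xed92e001),(nat_lit 0xe42bc001),(nat_lit 0xe42bd001)],[(nat_lit 0xeea09001),(nat_lit 0xeea08001),(nat_lit 0xeea0a001),(nat_lit 0xeea1d001),(nat_lit 0xeea0b001),(nat_lit 0xeea0c001),(nat_lit 0xeea0d001)],[(nat_lit 0xe2c39001),(nat_lit 0xe2c3b001),(nat_lit 0xe2c38001),(nat_lit 0xe2c3a001),(nat_lit 0xe75b5001),(nat_lit 0xe2c3c001),(nat_lit 0xe2c37001)],[(nat_lit 0xee28c001),(nat_lit 0xeea1e001),(nat_lit 0xee297001),(nat_lit 0xee211001),(nat_lit 0xee212001),(nat_lit 0xee213001),(nat_lit 0xee214001)],[(nat_lit 0x6df19001),(nat_lit 0x6df1a001),(nat_lit 0xcc1d7001),(nat_lit 0x6df18001),(nat_lit 0xd54096df1b002),(nat_lit 0xe927b001),(nat_lit 0xd59cc001)],[(nat_lit 0xe9a6a001),(nat_lit 0xe9a6b001),(nat_lit 0xe9a69001),(nat_lit 0xe9a6d001),(nat_lit 0xe9c85001),(nat_lit 0xe9a6c001),(nat_lit 0xe9a68001)],[(nat_lit 0x8b829001),(nat_lit 0xee989001),(nat_lit 0xc3c4d8b828002),(nat_lit 0xe2379001),(nat_lit 0xd4598001),(nat_lit 0xce4c48b82a002),(nat_lit 0xc848e001)],[(nat_lit 0xee9f3001),(nat_lit 0xee9f4001),(nat_lit 0xee9f5001),(nat_lit 0xee9f2001),(nat_lit 0xee9f6001),(nat_lit 0xef425001),(nat_lit 0xee9f7001)],[(nat_lit 0xeef10001),(nat_lit 0xeef80001),(nat_lit 0xeef0f001),(nat_lit 0xeef11001),(nat_lit 0xeef12001),(nat_lit 0xeef13001),(nat_lit 0xeef14001)],[(nat_lit 0xef408001),(nat_lit 0xef407001),(nat_lit 0xef409001),(nat_lit 0xef410001),(nat_lit 0xef40a001),(nat_lit 0xef40b001),(nat_lit 0xef40c001)],[(nat_lit 0xe8e03001),(nat_lit 0xe8dc7001),(nat_lit 0xe9019001),(nat_lit 0xe8dc6001),(nat_lit 0xe8dc8001),(nat_lit 0xe8dc9001),(nat_lit 0xe8dca001)],[(nat_lit 0x9f46064578002),(nat_lit 0xee03c001),(nat_lit 0x64577001),(nat_lit 0xb2227a2831002),(nat_lit 0xdd4cf001),(nat_lit 0x64579001),(nat_lit 0xd9bd6001)],[(nat_lit 0xeca71001),(nat_lit 0xeca73001),(nat_lit 0xed7de001),(nat_lit 0xeca72001),(nat_lit 0xee7ed001),(nat_lit 0xef412001),(nat_lit 0xeca70001)],[(nat_lit 0xea46b001),(nat_lit 0xea46c001),(nat_lit 0xea588001),(nat_lit 0xea46d001),(nat_lit 0xea46a001),(nat_lit 0xea46e001),(nat_lit 0xea46f001)],[(nat_lit 0xda2cd001),(nat_lit 0x432e5001),(nat_lit 0xa7113432e6002),(nat_lit 0xda2d2001),(nat_lit 0x43d19001),(nat_lit 0x432e7001),(nat_lit 0xee724001)],[(nat_lit 0xe15c2da2d6002),(nat_lit 0xa711543389002),(nat_lit 0x43d18001),(nat_lit 0xe48d8001),(nat_lit 0xa711343388002),(nat_lit 0xe4ae7001),(nat_lit 0xe48df001)],[(nat_lit 0xed5a5001),(nat_lit 0xed5a8001),(nat_lit 0xed5a4001),(nat_lit 0xed5a6001),(nat_lit 0xed5a7001),(nat_lit 0xed5a9001),(nat_lit 0xed5a3001)],[(nat_lit 0xd36e8433ec002),(nat_lit 0xe48da001),(nat_lit 0xdcb54001),(nat_lit 0xa7115433eb002),(nat_lit 0xed540001),(nat_lit 0xdcb51001),(nat_lit 0xdbd78001)],[(nat_lit 0xdf8df001),(nat_lit 0xdf8e0001),(nat_lit 0xe15b680ffc002),(nat_lit 0xdf8e3001),(nat_lit 0xdf8c580ffb002),(nat_lit 0xdf8e2001),(nat_lit 0xec2d1001)],[(nat_lit 0xe512c001),(nat_lit 0xe281c001),(nat_lit 0xe281e001),(nat_lit 0xe281b001),(nat_lit 0xe281d001),(nat_lit 0xece63001),(nat_lit 0xece64001)],[(nat_lit 0xe933a001),(nat_lit 0xc2b31001),(nat_lit 0xa644d43437002),(nat_lit 0xe6f53001),(nat_lit 0xc2b32001),(nat_lit 0x43436001),(nat_lit 0xe7047001)],[(nat_lit 0xee3b9001),(nat_lit 0xe269697dfd002),(nat_lit 0xedb1e001),(nat_lit 0xeda68001),(nat_lit 0x97dfc001),(nat_lit 0xec3d1001),(nat_lit 0xeda69001)],[(nat_lit 0xec79e001),(nat_lit 0xec79f001),(nat_lit 0xec7a0001),(nat_lit 0xec79d001),(nat_lit 0xee60f001),(nat_lit 0xee3bc001),(nat_lit 0xed55d001)],[(nat_lit 0xee60d001),(nat_lit 0xd890a001),(nat_lit 0xeae80001),(nat_lit 0xdc3e0001),(nat_lit 0xec3d0001),(nat_lit 0xd8909001),(nat_lit 0xee463001)],[(nat_lit 0x72665001),(nat_lit 0x71bbe001),(nat_lit 0x52427001),(nat_lit 0xe4d03001),(nat_lit 0x52428001),(nat_lit 0x52426001),(nat_lit 0xd64a9001)],[(nat_lit 0xce4fc8b495002),(nat_lit 0xe4cd6001),(nat_lit 0xdf0818b494002),(nat_lit 0xe10be001),(nat_lit 0xe5165001),(nat_lit 0xd5e78001),(nat_lit 0xe0e8c001)],[(nat_lit 0xef590001),(nat_lit 0xe8c50001),(nat_lit 0xe8c4f001),(nat_lit 0xec099001),(nat_lit 0xe8c51001),(nat_lit 0xe8c52001),(nat_lit 0xeb2f3001)],[(nat_lit 0x80c72001),(nat_lit 0x80948001),(nat_lit 0x80a1a001),(nat_lit 0x80949001),(nat_lit 0xe0751810e7002),(nat_lit 0xc5b52810e9002),(nat_lit 0xce07d001)],[(nat_lit 0xedc51001),(nat_lit 0xedc53001),(nat_lit 0xedc88001),(nat_lit 0xedc52001),(nat_lit 0xedc54001),(nat_lit 0xedc55001),(nat_lit 0xedc50001)],[(nat_lit 0xe874e001),(nat_lit 0xe874f001),(nat_lit 0xe8e7c001),(nat_lit 0xe874d001),(nat_lit 0xec735001),(nat_lit 0xe8750001),(nat_lit 0xe8751001)],[(nat_lit 0xecbd3001),(nat_lit 0xecbd4001),(nat_lit 0xece35001),(nat_lit 0xecd79001),(nat_lit 0xecbd2001),(nat_lit 0xecbd5001),(nat_lit 0xecbd6001)],[(nat_lit 0xe8e3b001),(nat_lit 0xee102001),(nat_lit 0xe8e3fe8e3e002),(nat_lit 0xe8e3a001),(nat_lit 0xe8e3c001),(nat_lit 0xe8e3d001),(nat_lit 0xe8e7d001)],[(nat_lit 0xe89b7001),(nat_lit 0xe8ab9001),(nat_lit 0xeacf2001),(nat_lit 0xe89b6001),(nat_lit 0xe89b8001),(nat_lit 0xe89b9001),(nat_lit 0xe89ba001)],[(nat_lit 0x732ba001),(nat_lit 0x73695001),(nat_lit 0xccacb732bb002),(nat_lit 0x741d8001),(nat_lit 0x732b9001),(nat_lit 0x732bc001),(nat_lit 0xd4451001)],[(nat_lit 0xeef3b001),(nat_lit 0xee0ee001),(nat_lit 0xeed85001),(nat_lit 0xee0ed001),(nat_lit 0xee0ef001),(nat_lit 0xee105001),(nat_lit 0xee0f0001)],[(nat_lit 0xd8a4cd5747002),(nat_lit 0xa92bb433b3002),(nat_lit 0xd8a64001),(nat_lit 0xa92ba433b2002),(nat_lit 0xe13c0d8a65002),(nat_lit 0xbdc95001),(nat_lit 0xd9522001)],[(nat_lit 0xd2204001),(nat_lit 0xeda6c001),(nat_lit 0xbdc5a6eaf3002),(nat_lit 0x6eaf4001),(nat_lit 0x6fc17001),(nat_lit 0xd2205001),(nat_lit 0xebf9d001)],[(nat_lit 0xeba43001),(nat_lit 0xee430001),(nat_lit 0xee311001),(nat_lit 0xedf8d001),(nat_lit 0xeba42001),(nat_lit 0xee399001),(nat_lit 0xeba44001)],[(nat_lit 0xeb99a001),(nat_lit 0xe9b51001),(nat_lit 0xe9d06001),(nat_lit 0xe9b50001),(nat_lit 0xe9b52001),(nat_lit 0xea3b6001),(nat_lit 0xe9b53001)],[(nat_lit 0xe270f001),(nat_lit 0xe0b65001),(nat_lit 0xe33c877770002),(nat_lit 0xe2716001),(nat_lit 0xe33b77776f002),(nat_lit 0xeda27001),(nat_lit 0xe7cb3001)],[(nat_lit 0xed9d2001),(nat_lit 0xe3d28001),(nat_lit 0xe9314001),(nat_lit 0xe3d27001),(nat_lit 0xe3d2b001),(nat_lit 0xe3d29001),(nat_lit 0xe3d2a001)],[(nat_lit 0xedd87001),(nat_lit 0xedd86001),(nat_lit 0xedd88001),(nat_lit 0xee579001),(nat_lit 0xedd89001),(nat_lit 0xeef7b001),(nat_lit 0xedd8a001)],[(nat_lit 0xa63b242c86002),(nat_lit 0x43d2e001),(nat_lit 0xa63ae42c87002),(nat_lit 0xdf841dad1c002),(nat_lit 0xa63ad42c85002),(nat_lit 0xdad19001),(nat_lit 0xed7bd001)],[(nat_lit 0xed4fc001),(nat_lit 0xed531001),(nat_lit 0xed4fd001),(nat_lit 0xed4fb001),(nat_lit 0xed4fe001),(nat_lit 0xed4ff001),(nat_lit 0xed500001)],[(nat_lit 0xea2b2001),(nat_lit 0xea2b3001),(nat_lit 0xea2b5001),(nat_lit 0xea2b1001),(nat_lit 0xea2b9001),(nat_lit 0xea2b4001),(nat_lit 0xea3b7001)],[(nat_lit 0xedae7001),(nat_lit 0xedae8001),(nat_lit 0xedae9001),(nat_lit 0xedae6001),(nat_lit 0xedaea001),(nat_lit 0xedaeb001),(nat_lit 0xedaec001)],[(nat_lit 0xdf833001),(nat_lit 0xee64a001),(nat_lit 0xecc26001),(nat_lit 0xdf820001),(nat_lit 0xeda26001),(nat_lit 0xdf832001),(nat_lit 0xdf81f001)],[(nat_lit 0xed44b001),(nat_lit 0xece62001),(nat_lit 0xece61001),(nat_lit 0xed94c001),(nat_lit 0xef1b2001),(nat_lit 0xece63001),(nat_lit 0xece64001)],[(nat_lit 0xec17e001),(nat_lit 0xec17f001),(nat_lit 0xec17d001),(nat_lit 0xec183001),(nat_lit 0xec180001),(nat_lit 0xec181001),(nat_lit 0xec182001)],[(nat_lit 0xe90a9001),(nat_lit 0xe80b3001),(nat_lit 0xe80b2001),(nat_lit 0xe80b5001),(nat_lit 0xea4fb001),(nat_lit 0xe80b4001),(nat_lit 0xe80b6001)],[(nat_lit 0x6e8c4001),(nat_lit 0xd4e46001),(nat_lit 0x6d375001),(nat_lit 0xbae5e001),(nat_lit 0x6e8dd001),(nat_lit 0xe96406d374002),(nat_lit 0xc2b45001)],[(nat_lit 0xeba10001),(nat_lit 0xeba11001),(nat_lit 0xebaa6001),(nat_lit 0xeba0f001),(nat_lit 0xeecc7001),(nat_lit 0xeba12001),(nat_lit 0xeba13001)],[(nat_lit 0x8430e001),(nat_lit 0xdb350001),(nat_lit 0xe270c001),(nat_lit 0xe512b001),(nat_lit 0xe27688430d002),(nat_lit 0xe9315001),(nat_lit 0xe7cb7001)],[(nat_lit 0xe251e8430a002),(nat_lit 0xe4e1e001),(nat_lit 0xe276884309002),(nat_lit 0xe3b42001),(nat_lit 0xe2715001),(nat_lit 0xe2516dfdc3002),(nat_lit 0xdb354001)],[(nat_lit 0x83899001),(nat_lit 0x3fed5001),(nat_lit 0x3fec8001),(nat_lit 0xdd790d9e96002),(nat_lit 0x3fec7001),(nat_lit 0xe6a5a001),(nat_lit 0xe5b37d757b002)],[(nat_lit 0xe3a45001),(nat_lit 0xe3a46001),(nat_lit 0xe3a44001),(nat_lit 0xe9530001),(nat_lit 0xe3a47001),(nat_lit 0xe3a48001),(nat_lit 0xe3a49001)],[(nat_lit 0xe0b2e001),(nat_lit 0x76fd2001),(nat_lit 0xdcb52001),(nat_lit 0x77769001),(nat_lit 0x7776b001),(nat_lit 0x7776d001),(nat_lit 0xd6b34001)],[(nat_lit 0xeb5d8001),(nat_lit 0xadecb8ce2d002),(nat_lit 0xe3ddf001),(nat_lit 0xae59f8ce2c002),(nat_lit 0xc7590001),(nat_lit 0xaeb198ce2e002),(nat_lit 0xdc748001)],[(nat_lit 0xe8e01001),(nat_lit 0x3c671001),(nat_lit 0xe992c001),(nat_lit 0xe2410001),(nat_lit 0x3c670001),(nat_lit 0xee53d001),(nat_lit 0xe8e75001)],[(nat_lit 0xb93a193fb9002),(nat_lit 0x957cd001),(nat_lit 0xc6e67001),(nat_lit 0x93fba001),(nat_lit 0x97839001),(nat_lit 0x93fb8001),(nat_lit 0xe68a1001)],[(nat_lit 0x6f2ac001),(nat_lit 0xc1a5e001),(nat_lit 0xbc21b001),(nat_lit 0x6f2ab001),(nat_lit 0xbb942ba7ce002),(nat_lit 0xddf5a001),(nat_lit 0xe272dbd717002)],[(nat_lit 0xe8ac2001),(nat_lit 0xe8ac3001),(nat_lit 0xe8ac4001),(nat_lit 0xe8ac1001),(nat_lit 0xe8ac5001),(nat_lit 0xe8ac6001),(nat_lit 0xe8ac7001)],[(nat_lit 0x8dbd0001),(nat_lit 0x8dbd2001),(nat_lit 0xe8a94001),(nat_lit 0x8cffb001),(nat_lit 0xd6f12001),(nat_lit 0x8dbd5001),(nat_lit 0xee47f001)],[(nat_lit 0xee4e1001),(nat_lit 0xee4e4001),(nat_lit 0xee4e0001),(nat_lit 0xee536001),(nat_lit 0xee4e2001),(nat_lit 0xef0da001),(nat_lit 0xee4e3001)],[(nat_lit 0xe5b1a001),(nat_lit 0xcccb38d9e2002),(nat_lit 0xe52eadc8fe002),(nat_lit 0xc40ca8d9e3002),(nat_lit 0xdc5a9001),(nat_lit 0x8d9e1001),(nat_lit 0xee21b001)],[(nat_lit 0xe70f0001),(nat_lit 0xe9015001),(nat_lit 0xe70ea001),(nat_lit 0xe70eb001),(nat_lit 0xe70ee001),(nat_lit 0xe70ef001),(nat_lit 0xe70e9001)],[(nat_lit 0xe9b57001),(nat_lit 0xe9b56001),(nat_lit 0xe9b58001),(nat_lit 0xe9b59001),(nat_lit 0xe9b5a001),(nat_lit 0xe9b5b001),(nat_lit 0xe9b5c001)],[(nat_lit 0xe8d6d001),(nat_lit 0xe8d69001),(nat_lit 0xe8d6a001),(nat_lit 0xe8d6b001),(nat_lit 0xe8d6c001),(nat_lit 0xea475001),(nat_lit 0xe8d6e001)],[(nat_lit 0xe891f001),(nat_lit 0xe917c001),(nat_lit 0xe891e001),(nat_lit 0xe8a1a001),(nat_lit 0xef6ac001),(nat_lit 0xea1ac001),(nat_lit 0x667f4001)],[(nat_lit 0xe8e24001),(nat_lit 0xef6a9001),(nat_lit 0xe8e21001),(nat_lit 0xe8e23001),(nat_lit 0xe917e001),(nat_lit 0xef670001),(nat_lit 0x64d0a001)],[(nat_lit 0xea471001),(nat_lit 0xd3f4e8ec85002),(nat_lit 0xd9bd4001),(nat_lit 0xd3a608ec84002),(nat_lit 0xd9bcf001),(nat_lit 0xe749d001),(nat_lit 0xee545001)],[(nat_lit 0xea7de001),(nat_lit 0xea7e3001),(nat_lit 0xea7dd001),(nat_lit 0xea7df001),(nat_lit 0xea7e0001),(nat_lit 0xea7e1001),(nat_lit 0xea7e2001)],[(nat_lit 0xee541001),(nat_lit 0x822a8001),(nat_lit 0xe7510001),(nat_lit 0x822a9001),(nat_lit 0xea10b001),(nat_lit 0x822a7001),(nat_lit 0xea476001)],[(nat_lit 0xec988001),(nat_lit 0x636dc001),(nat_lit 0xe5f26001),(nat_lit 0x636db001),(nat_lit 0x636dd001),(nat_lit 0xe6916001),(nat_lit 0xe273b001)],[(nat_lit 0xe5c35001),(nat_lit 0xe5c33001),(nat_lit 0xe5c32001),(nat_lit 0xe92a3001),(nat_lit 0xef6be001),(nat_lit 0xe5c34001),(nat_lit 0xe9180001)],[(nat_lit 0xeb00a001),(nat_lit 0xeb00b001),(nat_lit 0xeb009001),(nat_lit 0xeb162001),(nat_lit 0xeb00e001),(nat_lit 0xeb00c001),(nat_lit 0xeb00d001)],[(nat_lit 0xe8405001),(nat_lit 0xe7069001),(nat_lit 0xe706a001),(nat_lit 0xe7068001),(nat_lit 0xe706b001),(nat_lit 0xee03f001),(nat_lit 0xef5d0001)],[(nat_lit 0xe898b001),(nat_lit 0x841a4001),(nat_lit 0xe8943001),(nat_lit 0xa7b6f841a3002),(nat_lit 0xd1a30001),(nat_lit 0xb619d841a5002),(nat_lit 0xeb6a2001)],[(nat_lit 0x88c82001),(nat_lit 0x88c83001),(nat_lit 0xd20b48980c002),(nat_lit 0x88c84001),(nat_lit 0x8980e001),(nat_lit 0x89812001),(nat_lit 0xcaf22001)],[(nat_lit 0xea2ff001),(nat_lit 0xee84d001),(nat_lit 0xe9512001),(nat_lit 0xe9510001),(nat_lit 0xe9511001),(nat_lit 0xee4b2001),(nat_lit 0xedddf001)],[(nat_lit 0xee762001),(nat_lit 0xb82706fed6002),(nat_lit 0xee850001),(nat_lit 0x6fed5001),(nat_lit 0xe5af0001),(nat_lit 0xed6d9001),(nat_lit 0xd8b13001)],[(nat_lit 0xce204001),(nat_lit 0xce205001),(nat_lit 0xce206001),(nat_lit 0xce207001),(nat_lit 0xebbf2001),(nat_lit 0xce208001),(nat_lit 0x600ce001)],[(nat_lit 0xe9e9a001),(nat_lit 0xe9e9b001),(nat_lit 0xea085001),(nat_lit 0xe9e99001),(nat_lit 0xec6e8001),(nat_lit 0xeeac0001),(nat_lit 0xe9e9c001)],[(nat_lit 0xec59e001),(nat_lit 0xec59f001),(nat_lit 0xec59d001),(nat_lit 0xec663001),(nat_lit 0xec5a0001),(nat_lit 0xec5a1001),(nat_lit 0xec66a001)],[(nat_lit 0xe68be001),(nat_lit 0xe68bf001),(nat_lit 0xe68c0001),(nat_lit 0xe68c1001),(nat_lit 0xe9e18001),(nat_lit 0xe68c2001),(nat_lit 0xdcbb4001)],[(nat_lit 0xdcb50001),(nat_lit 0xd6bf5001),(nat_lit 0xe0b2d001),(nat_lit 0xa7120433f2002),(nat_lit 0xe9b60001),(nat_lit 0xd36e8433f1002),(nat_lit 0xd5f6d001)],[(nat_lit 0xdf109001),(nat_lit 0xee161001),(nat_lit 0xe6dea001),(nat_lit 0xe66a3001),(nat_lit 0xdf108001),(nat_lit 0xe983b001),(nat_lit 0xdf10a001)],[(nat_lit 0xed1c8001),(nat_lit 0xdc992001),(nat_lit 0xdc993001),(nat_lit 0xdc994001),(nat_lit 0xdc995001),(nat_lit 0xdc996001),(nat_lit 0xef4a7001)],[(nat_lit 0xea2ff001),(nat_lit 0xea300001),(nat_lit 0xea2fe001),(nat_lit 0xed937001),(nat_lit 0xea301001),(nat_lit 0xea302001),(nat_lit 0xecc09001)],[(nat_lit 0xef17c001),(nat_lit 0xef17d001),(nat_lit 0xef17b001),(nat_lit 0xef17e001),(nat_lit 0xef17f001),(nat_lit 0xef180001),(nat_lit 0xef181001)],[(nat_lit 0xde57a001),(nat_lit 0xde57b001),(nat_lit 0xe0361001),(nat_lit 0xde57d001),(nat_lit 0xde579001),(nat_lit 0xeb51f001),(nat_lit 0xde57c001)],[(nat_lit 0xe2532001),(nat_lit 0xdfb0b001),(nat_lit 0xe6914001),(nat_lit 0xe9b5d001),(nat_lit 0xdfb0c001),(nat_lit 0xe5f29001),(nat_lit 0xdfb0d001)],[(nat_lit 0xe3346001),(nat_lit 0xe0362001),(nat_lit 0xe0361001),(nat_lit 0xe0363001),(nat_lit 0xe2e82001),(nat_lit 0xeb546001),(nat_lit 0xe5b87001)],[(nat_lit 0xdeca8001),(nat_lit 0xe0240001),(nat_lit 0xdeca9001),(nat_lit 0xdeca7001),(nat_lit 0xdf58e001),(nat_lit 0xdecaa001),(nat_lit 0xe4b1b001)],[(nat_lit 0xde686001),(nat_lit 0x89467001),(nat_lit 0xe099e001),(nat_lit 0xe54bd001),(nat_lit 0xaef4289466002),(nat_lit 0xdf0b0001),(nat_lit 0xdf0ae001)],[(nat_lit 0xd9461001),(nat_lit 0xd9472001),(nat_lit 0xdcdca001),(nat_lit 0x39e50001),(nat_lit 0xdcdcf001),(nat_lit 0x39e4f001),(nat_lit 0xdcdd0001)],[(nat_lit 0x89439001),(nat_lit 0xdf72c001),(nat_lit 0xdf592001),(nat_lit 0xe225889438002),(nat_lit 0xdf591001),(nat_lit 0xeca98001),(nat_lit 0xe4c78001)],[(nat_lit 0xded1c001),(nat_lit 0xded1d001),(nat_lit 0xded1b001),(nat_lit 0xded1fded1e002),(nat_lit 0xe6644001),(nat_lit 0xded23001),(nat_lit 0xded22001)],[(nat_lit 0xebd29001),(nat_lit 0xebd2a001),(nat_lit 0xebd28001),(nat_lit 0xebe62001),(nat_lit 0xed579001),(nat_lit 0xebd2b001),(nat_lit 0xebd2c001)],[(nat_lit 0xce84f89564002),(nat_lit 0xedd3d001),(nat_lit 0xd6740001),(nat_lit 0xd701f001),(nat_lit 0xce84c89563002),(nat_lit 0xdc6a6001),(nat_lit 0xd701e001)],[(nat_lit 0xe6f6a001),(nat_lit 0xe6f6b001),(nat_lit 0xe6f69001),(nat_lit 0xe75c8001),(nat_lit 0xe6f6c001),(nat_lit 0xe6f6d001),(nat_lit 0xe6f6e001)],[(nat_lit 0xd6804d6802002),(nat_lit 0x72e45001),(nat_lit 0xd387d001),(nat_lit 0x72e44001),(nat_lit 0xd43ea001),(nat_lit 0x73bbf001),(nat_lit 0xda698001)],[(nat_lit 0xdc11b001),(nat_lit 0x8cd7f001),(nat_lit 0xdc118001),(nat_lit 0xd34c4001),(nat_lit 0xce7458cd7e002),(nat_lit 0xdcf0a001),(nat_lit 0xd3d31001)],[(nat_lit 0xef6b5001),(nat_lit 0xef6b6001),(nat_lit 0xef6b4001),(nat_lit 0xef6b9001),(nat_lit 0xef6b7001),(nat_lit 0xef6b8001),(nat_lit 0xef6ba001)],[(nat_lit 0xed018001),(nat_lit 0xed017001),(nat_lit 0xed01b001),(nat_lit 0xee7dd001),(nat_lit 0xed019001),(nat_lit 0xed01a001),(nat_lit 0xed01c001)],[(nat_lit 0xee461001),(nat_lit 0xee460001),(nat_lit 0xee48f001),(nat_lit 0xee761001),(nat_lit 0xeea8e001),(nat_lit 0xee462001),(nat_lit 0xee463001)],[(nat_lit 0xee60d001),(nat_lit 0xee60e001),(nat_lit 0xee60c001),(nat_lit 0xee681001),(nat_lit 0xee60f001),(nat_lit 0xee610001),(nat_lit 0xee70d001)],[(nat_lit 0xe9c76001),(nat_lit 0xe79ed001),(nat_lit 0xe79ec001),(nat_lit 0xe7a80001),(nat_lit 0xe79ee001),(nat_lit 0xe99ad001),(nat_lit 0xe9880001)],[(nat_lit 0xeb941001),(nat_lit 0xeb942001),(nat_lit 0xeb940001),(nat_lit 0xeb943001),(nat_lit 0xeec9a001),(nat_lit 0xee5dd001),(nat_lit 0xeb944001)],[(nat_lit 0xebf6d001),(nat_lit 0x537a8001),(nat_lit 0x757e3001),(nat_lit 0x537a7001),(nat_lit 0x74b47001),(nat_lit 0x53fbc001),(nat_lit 0xd587e001)],[(nat_lit 0xc4881001),(nat_lit 0x746f9001),(nat_lit 0x746fa001),(nat_lit 0xc4880001),(nat_lit 0xeb6a1001),(nat_lit 0x757e4001),(nat_lit 0xcdcb1001)],[(nat_lit 0xeb372001),(nat_lit 0xeb373001),(nat_lit 0xeb374001),(nat_lit 0xeb3fd001),(nat_lit 0xeb375001),(nat_lit 0xeb625001),(nat_lit 0xeb376001)],[(nat_lit 0xc920b6fe5b002),(nat_lit 0xeb373001),(nat_lit 0xd4897001),(nat_lit 0xeb623001),(nat_lit 0x6fe5a001),(nat_lit 0xeb402001),(nat_lit 0xee920001)],[(nat_lit 0xb639288b0a002),(nat_lit 0x896f8001),(nat_lit 0x896fb001),(nat_lit 0xc7300896fd002),(nat_lit 0xb010c88f48002),(nat_lit 0x88b09001),(nat_lit 0xe5d55001)],[(nat_lit 0xb32e0001),(nat_lit 0xb32cb3eadc002),(nat_lit 0xd224a001),(nat_lit 0xd1fcab32e1002),(nat_lit 0x3eadb001),(nat_lit 0xb32e2001),(nat_lit 0xd4896001)],[(nat_lit 0x43369001),(nat_lit 0x4336a001),(nat_lit 0xeef78001),(nat_lit 0xd303d001),(nat_lit 0x43ddc001),(nat_lit 0x4336b001),(nat_lit 0xeeff7001)],[(nat_lit 0xeeff2001),(nat_lit 0x6fea5001),(nat_lit 0xed012001),(nat_lit 0x6fea4001),(nat_lit 0xe81cb001),(nat_lit 0xede31001),(nat_lit 0xeae15001)],[(nat_lit 0xee333001),(nat_lit 0xe93b2001),(nat_lit 0xe93a6001),(nat_lit 0xe93a7001),(nat_lit 0xe93a8001),(nat_lit 0xe93a9001),(nat_lit 0xe93b3001)],[(nat_lit 0xe6a2d001),(nat_lit 0xe6a2c001),(nat_lit 0xe6a30001),(nat_lit 0xe8e73001),(nat_lit 0xe6a2e001),(nat_lit 0xe6a2f001),(nat_lit 0xe93b1001)],[(nat_lit 0x60735001),(nat_lit 0xa4a8f001),(nat_lit 0x60737001),(nat_lit 0xa1d0760734002),(nat_lit 0xe2758001),(nat_lit 0x60736001),(nat_lit 0xd0111001)],[(nat_lit 0xece17001),(nat_lit 0xece18001),(nat_lit 0xece19001),(nat_lit 0xece1a001),(nat_lit 0xece1b001),(nat_lit 0xece1c001),(nat_lit 0xef659001)],[(nat_lit 0xe904a001),(nat_lit 0xe91c2001),(nat_lit 0xe904b001),(nat_lit 0xe9049001),(nat_lit 0xe904e001),(nat_lit 0xe904c001),(nat_lit 0xe904f001)],[(nat_lit 0xb6238934fd002),(nat_lit 0xe9697001),(nat_lit 0xe7bad001),(nat_lit 0xe9422001),(nat_lit 0xb882a934fc002),(nat_lit 0xe2d93001),(nat_lit 0xe98b7001)],[(nat_lit 0xe2df7001),(nat_lit 0xe2dfb001),(nat_lit 0xed61e001),(nat_lit 0xe2df8001),(nat_lit 0xe2dfc001),(nat_lit 0xeb21b001),(nat_lit 0xe2df6001)],[(nat_lit 0x89185001),(nat_lit 0xe7ef5001),(nat_lit 0xee86a001),(nat_lit 0xee3e0001),(nat_lit 0xbb22289184002),(nat_lit 0xe905f001),(nat_lit 0xee338001)],[(nat_lit 0x7f19e001),(nat_lit 0x7f19f001),(nat_lit 0xc5021001),(nat_lit 0xce2cf001),(nat_lit 0x7f1a0001),(nat_lit 0x7f1a1001),(nat_lit 0xe5618001)],[(nat_lit 0xe94d4001),(nat_lit 0xe9607001),(nat_lit 0xe94d0001),(nat_lit 0xe94d1001),(nat_lit 0xe94d2001),(nat_lit 0xe94d3001),(nat_lit 0xecbd6001)]]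

theorem rows30_0_ok : okRows data table 980686 120000 rows30_0 = true := by decide +kernel

theorem rows30_0_len : rows30_0.length = 1000 := by decide +kernel

/-- Completion of the rows from 121000. -/
noncomputable def rows30_1 : List (List ℕ) := [[(nat_lit 0xee8a8001),(nat_lit 0xee8a9001),(nat_lit 0xee8aa001),(nat_lit 0xee8a7001),(nat_lit 0xee8ab001),(nat_lit 0xee9bc001),(nat_lit 0xee8ac001)],[(nat_lit 0x7fea3001),(nat_lit 0xeeb32001),(nat_lit 0xed769001),(nat_lit 0x7fea2001),(nat_lit 0x7fea4001),(nat_lit 0xee406001),(nat_lit 0xe2d8f001)],[(nat_lit 0x6ef6b001),(nat_lit 0xdae31001),(nat_lit 0xd760c6ef6a002),(nat_lit 0xdae2f001),(nat_lit 0xd7ea9001),(nat_lit 0xe90e1001),(nat_lit 0xe6ea7001)],[(nat_lit 0xeb3a6001),(nat_lit 0xed1e4001),(nat_lit 0xeb3a7001),(nat_lit 0xeb3a5001),(nat_lit 0xed67b001),(nat_lit 0xeca00001),(nat_lit 0xeb3a8001)],[(nat_lit 0xe9b64001),(nat_lit 0xeaa67001),(nat_lit 0xe9b63001),(nat_lit 0xec9fe001),(nat_lit 0xe9b65001),(nat_lit 0xe9b66001),(nat_lit 0xe9b67001)],[(nat_lit 0x90133001),(nat_lit 0xd9562001),(nat_lit 0xaf92e8ebbf002),(nat_lit 0xe063e001),(nat_lit 0xaf5408ebbe002),(nat_lit 0x8ebc0001),(nat_lit 0xed918001)],[(nat_lit 0xd7736001),(nat_lit 0x64943001),(nat_lit 0xcc0eb001),(nat_lit 0xcc0ec001),(nat_lit 0xb1bb564942002),(nat_lit 0xd5ed9001),(nat_lit 0xcc0ed001)],[(nat_lit 0xe16b0001),(nat_lit 0xe477e001),(nat_lit 0xe18a2001),(nat_lit 0xe16af001),(nat_lit 0xe49a8001),(nat_lit 0xe7412001),(nat_lit 0xe16ae001)],[(nat_lit 0xed6dc001),(nat_lit 0xed6e6001),(nat_lit 0xed6db001),(nat_lit 0xed6fd001),(nat_lit 0xed6dd001),(nat_lit 0xed6de001),(nat_lit 0xed6df001)],[(nat_lit 0x43366001),(nat_lit 0x43367001),(nat_lit 0xed3cd001),(nat_lit 0xd6e2f001),(nat_lit 0x43368001),(nat_lit 0x43dd6001),(nat_lit 0xd9d00001)],[(nat_lit 0xeef9c001),(nat_lit 0xeef9d001),(nat_lit 0xeefa0001),(nat_lit 0xeef9b001),(nat_lit 0xeef9e001),(nat_lit 0xeef9f001),(nat_lit 0xeefdf001)],[(nat_lit 0xdb6ba001),(nat_lit 0xdb6bb001),(nat_lit 0xdb6b9001),(nat_lit 0xdb6bd001),(nat_lit 0xdb6bc001),(nat_lit 0xe3611001),(nat_lit 0xdb6b8001)],[(nat_lit 0x89169001),(nat_lit 0xe53ae001),(nat_lit 0xb51ef881b8002),(nat_lit 0xe9cb4001),(nat_lit 0x881b7001),(nat_lit 0xe96ca001),(nat_lit 0xee232001)],[(nat_lit 0x7025f001),(nat_lit 0x6f3ab001),(nat_lit 0xe999b001),(nat_lit 0x6f3aa001),(nat_lit 0xb0d69001),(nat_lit 0x6f3ac001),(nat_lit 0xc92a9001)],[(nat_lit 0x4344f001),(nat_lit 0xd44e0001),(nat_lit 0xe65ed001),(nat_lit 0x4344e001),(nat_lit 0xe5ad0001),(nat_lit 0xce7c2001),(nat_lit 0xce7c5001)],[(nat_lit 0xee9b9001),(nat_lit 0xd8b0e001),(nat_lit 0xe2729001),(nat_lit 0xe94c7001),(nat_lit 0xd8b0d001),(nat_lit 0xe96cf001),(nat_lit 0xe8bb5001)],[(nat_lit 0xeeabb001),(nat_lit 0xeeabe001),(nat_lit 0xeeabd001),(nat_lit 0xeeabc001),(nat_lit 0xeeabf001),(nat_lit 0xeeac0001),(nat_lit 0xeeaba001)],[(nat_lit 0x8bdfc001),(nat_lit 0xcde3b8ab08002),(nat_lit 0x69191001),(nat_lit 0xce5a7cde72002),(nat_lit 0x69190001),(nat_lit 0xcdcf8001),(nat_lit 0xebfa8001)],[(nat_lit 0xebfa3001),(nat_lit 0xe9a6b001),(nat_lit 0xe7960001),(nat_lit 0xede0e001),(nat_lit 0xe7961001),(nat_lit 0xec17b001),(nat_lit 0xe7962001)],[(nat_lit 0xd227d001),(nat_lit 0x82d0f001),(nat_lit 0xe6e9c001),(nat_lit 0x82d0e001),(nat_lit 0xc15c082d10002),(nat_lit 0xd227e001),(nat_lit 0xeacf5001)],[(nat_lit 0x437f4001),(nat_lit 0xd6b77001),(nat_lit 0xd7c8cd6c56002),(nat_lit 0x437f3001),(nat_lit 0xd303a001),(nat_lit 0xd7c93001),(nat_lit 0xd767b001)],[(nat_lit 0x437f6001),(nat_lit 0x43dd5001),(nat_lit 0x437f7001),(nat_lit 0xd7c9f001),(nat_lit 0xe0eb2001),(nat_lit 0x437f5001),(nat_lit 0xeb738001)],[(nat_lit 0xe8130001),(nat_lit 0xe8131001),(nat_lit 0xe812f001),(nat_lit 0xe8134001),(nat_lit 0xe8132001),(nat_lit 0xe8133001),(nat_lit 0xe8315001)],[(nat_lit 0xea22a001),(nat_lit 0xea227001),(nat_lit 0xea228001),(nat_lit 0xea420001),(nat_lit 0xea22b001),(nat_lit 0xea229001),(nat_lit 0xea22c001)],[(nat_lit 0xee9ca001),(nat_lit 0xee9cb001),(nat_lit 0xee9c9001),(nat_lit 0xee9cc001),(nat_lit 0xee9cd001),(nat_lit 0xee9ce001),(nat_lit 0xee9cf001)],[(nat_lit 0xbb25e001),(nat_lit 0xee9ed001),(nat_lit 0xbb23487b6b002),(nat_lit 0x87b6a001),(nat_lit 0xbb260001),(nat_lit 0xbb261001),(nat_lit 0xec90e001)],[(nat_lit 0xee298001),(nat_lit 0xee2f6001),(nat_lit 0xee297001),(nat_lit 0xee299001),(nat_lit 0xee29a001),(nat_lit 0xee29b001),(nat_lit 0xee296001)],[(nat_lit 0xeacca001),(nat_lit 0xeaccb001),(nat_lit 0xeacc9001),(nat_lit 0xeae2c001),(nat_lit 0xeaccc001),(nat_lit 0xeaccd001),(nat_lit 0xeacce001)],[(nat_lit 0xe9aad001),(nat_lit 0xe6d30001),(nat_lit 0xe8998001),(nat_lit 0xe6d31001),(nat_lit 0xe6d32001),(nat_lit 0xe8915001),(nat_lit 0xe6d33001)],[(nat_lit 0xb306b001),(nat_lit 0x3ae54001),(nat_lit 0xb30068d24a002),(nat_lit 0xb306c001),(nat_lit 0x3ae55001),(nat_lit 0x3ae53001),(nat_lit 0xe911f001)],[(nat_lit 0x7f14e001),(nat_lit 0xeeb1e001),(nat_lit 0xd73f0001),(nat_lit 0x7fea2001),(nat_lit 0xa01bd7f14d002),(nat_lit 0xee3ec001),(nat_lit 0xee9b7001)],[(nat_lit 0xead89001),(nat_lit 0xead8a001),(nat_lit 0xead88001),(nat_lit 0xead8b001),(nat_lit 0xead8c001),(nat_lit 0xead8d001),(nat_lit 0xece34001)],[(nat_lit 0xd6472001),(nat_lit 0xcd52a8dbe0002),(nat_lit 0xdf620001),(nat_lit 0xb48178dbdf002),(nat_lit 0xe0964001),(nat_lit 0xcdc95001),(nat_lit 0xe0b8f001)],[(nat_lit 0xe26ca001),(nat_lit 0xe8ea9001),(nat_lit 0xe26cc001),(nat_lit 0xe26c9001),(nat_lit 0xee141001),(nat_lit 0xe26cb001),(nat_lit 0xe26cd001)],[(nat_lit 0xe68e3001),(nat_lit 0xec26b001),(nat_lit 0xe68ce001),(nat_lit 0xe6720001),(nat_lit 0xe6644001),(nat_lit 0xe6645001),(nat_lit 0xe6646001)],[(nat_lit 0xec332001),(nat_lit 0xec333001),(nat_lit 0xec331001),(nat_lit 0xec336001),(nat_lit 0xec334001),(nat_lit 0xec335001),(nat_lit 0xec337001)],[(nat_lit 0xee1c1001),(nat_lit 0xed780001),(nat_lit 0xed77f001),(nat_lit 0xed781001),(nat_lit 0xee405001),(nat_lit 0xed782001),(nat_lit 0xed7f9001)],[(nat_lit 0xee298001),(nat_lit 0xee276001),(nat_lit 0xee287001),(nat_lit 0xee22f001),(nat_lit 0xee230001),(nat_lit 0xee231001),(nat_lit 0xee232001)],[(nat_lit 0xe86e6001),(nat_lit 0xe86e7001),(nat_lit 0xe9eb5001),(nat_lit 0xe86e5001),(nat_lit 0xe86e8001),(nat_lit 0xed916001),(nat_lit 0xda41c001)],[(nat_lit 0xb2c266bceb002),(nat_lit 0x5d8c6001),(nat_lit 0xde869001),(nat_lit 0x5cb2e001),(nat_lit 0x5cb2f001),(nat_lit 0xe415a001),(nat_lit 0xe961d001)],[(nat_lit 0x7bc88001),(nat_lit 0xec098001),(nat_lit 0x7bc89001),(nat_lit 0x7bc87001),(nat_lit 0xde867001),(nat_lit 0x7bc8a001),(nat_lit 0xc1d99001)],[(nat_lit 0xc33a6bc65c002),(nat_lit 0x60ac2001),(nat_lit 0xcc572001),(nat_lit 0x60ac1001),(nat_lit 0xc5d26001),(nat_lit 0xde176aad87002),(nat_lit 0xcb3a1001)],[(nat_lit 0xe4daa001),(nat_lit 0xe5e23001),(nat_lit 0xe5a28001),(nat_lit 0xde519001),(nat_lit 0xe8242001),(nat_lit 0xe3ecb001),(nat_lit 0xde51a001)],[(nat_lit 0xdcb50001),(nat_lit 0xe497d001),(nat_lit 0xdcb52001),(nat_lit 0xdcb4f001),(nat_lit 0xe4ce6001),(nat_lit 0xdcb51001),(nat_lit 0xdcb4e001)],[(nat_lit 0xd7b61001),(nat_lit 0xd7e826ef77002),(nat_lit 0xd742b001),(nat_lit 0xd73f5001),(nat_lit 0xd742c001),(nat_lit 0x6ef76001),(nat_lit 0xd7e78001)],[(nat_lit 0xe9155001),(nat_lit 0xd4b37001),(nat_lit 0xe09c3001),(nat_lit 0xd7e826ef7d002),(nat_lit 0xde744001),(nat_lit 0x6ef7c001),(nat_lit 0xe96d3001)],[(nat_lit 0xef6c2001),(nat_lit 0xef6c3001),(nat_lit 0xef6cc001),(nat_lit 0xef6c1001),(nat_lit 0xef6c4001),(nat_lit 0xef6c5001),(nat_lit 0xef6c6001)],[(nat_lit 0xe8bca001),(nat_lit 0x929fa001),(nat_lit 0xe6c8f001),(nat_lit 0xe6c90001),(nat_lit 0x929f9001),(nat_lit 0xe8d3f001),(nat_lit 0xe69c3001)],[(nat_lit 0x7fdff001),(nat_lit 0x80c0b001),(nat_lit 0x80e13001),(nat_lit 0x7fdfe001),(nat_lit 0x7fe00001),(nat_lit 0xe67ac001),(nat_lit 0xded6c001)],[(nat_lit 0xbc2227cdb4002),(nat_lit 0x7db90001),(nat_lit 0xdc222001),(nat_lit 0x7cdb5001),(nat_lit 0xe630c001),(nat_lit 0x7cdb3001),(nat_lit 0xde129001)],[(nat_lit 0xeebdb001),(nat_lit 0xed88d001),(nat_lit 0xed88e001),(nat_lit 0xed92b001),(nat_lit 0xed88f001),(nat_lit 0xeeac5001),(nat_lit 0xee2ed001)],[(nat_lit 0xe212e001),(nat_lit 0xe9108e5882002),(nat_lit 0xe212d001),(nat_lit 0xe212f001),(nat_lit 0xe6dec001),(nat_lit 0xe2554001),(nat_lit 0xe2131001)],[(nat_lit 0xec6e6001),(nat_lit 0xec6e7001),(nat_lit 0xedb48001),(nat_lit 0xeed70001),(nat_lit 0xec6e8001),(nat_lit 0xec6e9001),(nat_lit 0xec6ea001)],[(nat_lit 0xee210001),(nat_lit 0xee20c001),(nat_lit 0xee20d001),(nat_lit 0xee274001),(nat_lit 0xee20e001),(nat_lit 0xee20f001),(nat_lit 0xeed3b001)],[(nat_lit 0x738ca001),(nat_lit 0xe36ef001),(nat_lit 0x73150001),(nat_lit 0x734b3001),(nat_lit 0x738e6001),(nat_lit 0xb0e25738c0002),(nat_lit 0xb6c53001)],[(nat_lit 0xe6571001),(nat_lit 0xeae51001),(nat_lit 0xe6570001),(nat_lit 0xe6572001),(nat_lit 0xe6573001),(nat_lit 0xe68bc001),(nat_lit 0xe656f001)],[(nat_lit 0xe9d00001),(nat_lit 0xecfd5001),(nat_lit 0xe9cff001),(nat_lit 0xe9d03001),(nat_lit 0xe9d01001),(nat_lit 0xe9d02001),(nat_lit 0xe9d04001)],[(nat_lit 0xef6b0001),(nat_lit 0xef69b001),(nat_lit 0xef69c001),(nat_lit 0xef69f001),(nat_lit 0xef69d001),(nat_lit 0xef6b2001),(nat_lit 0xef69e001)],[(nat_lit 0x56733001),(nat_lit 0xe323e001),(nat_lit 0x3c675001),(nat_lit 0xe3b26001),(nat_lit 0x3c674001),(nat_lit 0xed1cb001),(nat_lit 0xeec90001)],[(nat_lit 0xeec8f001),(nat_lit 0xee415001),(nat_lit 0xee416001),(nat_lit 0xee414001),(nat_lit 0xef3d0001),(nat_lit 0xef4a6001),(nat_lit 0xee417001)],[(nat_lit 0xef033001),(nat_lit 0xecc85001),(nat_lit 0xeccc8001),(nat_lit 0xecc84001),(nat_lit 0xecc86001),(nat_lit 0xeefd3001),(nat_lit 0xee32b001)],[(nat_lit 0xe4622001),(nat_lit 0xe4623001),(nat_lit 0xe4621001),(nat_lit 0xe4624001),(nat_lit 0xee93f001),(nat_lit 0xe4625001),(nat_lit 0xe4626001)],[(nat_lit 0xe3fa2001),(nat_lit 0xe42fc001),(nat_lit 0xe3fa1001),(nat_lit 0xe4273001),(nat_lit 0xe3fa3001),(nat_lit 0xe3fa4001),(nat_lit 0xe3fa5001)],[(nat_lit 0x70add001),(nat_lit 0xcb2d3001),(nat_lit 0x3b2de001),(nat_lit 0x3ae57001),(nat_lit 0xe21f2001),(nat_lit 0x3ae56001),(nat_lit 0xcdaae001)],[(nat_lit 0xe1c7a001),(nat_lit 0xe4a9e001),(nat_lit 0xe0f79001),(nat_lit 0xe0f7b001),(nat_lit 0xebbaf001),(nat_lit 0xe0f7a001),(nat_lit 0xe0f78001)],[(nat_lit 0xeb846001),(nat_lit 0xeb96a001),(nat_lit 0xeb847001),(nat_lit 0xeb845001),(nat_lit 0xeb848001),(nat_lit 0xeb849001),(nat_lit 0xeb84a001)],[(nat_lit 0xcdd04001),(nat_lit 0xe0516001),(nat_lit 0xcaaea639dd002),(nat_lit 0xcdcff001),(nat_lit 0xcaada639dc002),(nat_lit 0xd2973001),(nat_lit 0xeae6a001)],[(nat_lit 0x6d1d5001),(nat_lit 0x6c709001),(nat_lit 0x6eb0d001),(nat_lit 0x6c70a001),(nat_lit 0x91e30001),(nat_lit 0x6c708001),(nat_lit 0xdd991001)],[(nat_lit 0xc2a35001),(nat_lit 0x91741001),(nat_lit 0xb198991742002),(nat_lit 0xe448a001),(nat_lit 0xa62d091743002),(nat_lit 0x91744001),(nat_lit 0xd352e001)],[(nat_lit 0x42d8b001),(nat_lit 0x42d8c001),(nat_lit 0x72664001),(nat_lit 0x42d8a001),(nat_lit 0x42d8d001),(nat_lit 0x42d8e001),(nat_lit 0xcd718001)],[(nat_lit 0xe7edb001),(nat_lit 0xe7edc001),(nat_lit 0xe7eda001),(nat_lit 0xe7edd001),(nat_lit 0xe7ede001),(nat_lit 0xe7edf001),(nat_lit 0xe7ee0001)],[(nat_lit 0x522dd001),(nat_lit 0x73d2e001),(nat_lit 0x522de001),(nat_lit 0xd270b001),(nat_lit 0x522dc001),(nat_lit 0x72667001),(nat_lit 0xe4d0b001)],[(nat_lit 0xdff16001),(nat_lit 0xdce54001),(nat_lit 0xe255e001),(nat_lit 0xdce51001),(nat_lit 0xe64a0001),(nat_lit 0xdce52001),(nat_lit 0xdce53001)],[(nat_lit 0xdcc23dcc01002),(nat_lit 0x7106e001),(nat_lit 0xdcc02001),(nat_lit 0xe1e72001),(nat_lit 0x7106d001),(nat_lit 0xdcc31001),(nat_lit 0xdcc0e001)],[(nat_lit 0xd4b69001),(nat_lit 0x87ad7001),(nat_lit 0xea2ca001),(nat_lit 0x87ad8001),(nat_lit 0xe63fb001),(nat_lit 0x87ad6001),(nat_lit 0xc8787001)],[(nat_lit 0xe9b64001),(nat_lit 0xdf579001),(nat_lit 0xdf58789447002),(nat_lit 0xdf586001),(nat_lit 0xecec3001),(nat_lit 0x89446001),(nat_lit 0xecb2b001)],[(nat_lit 0xec9bf001),(nat_lit 0xec9bb001),(nat_lit 0xec9bc001),(nat_lit 0xeca24001),(nat_lit 0xec9bd001),(nat_lit 0xec9be001),(nat_lit 0xeca2a001)],[(nat_lit 0xe9100001),(nat_lit 0xe9afa001),(nat_lit 0xe922b001),(nat_lit 0xe9101001),(nat_lit 0xe9117001),(nat_lit 0xe9118001),(nat_lit 0xe90ff001)],[(nat_lit 0xd2e6f001),(nat_lit 0xd2e70001),(nat_lit 0xd2e71001),(nat_lit 0xe8cf7001),(nat_lit 0xd4dbdd2e72002),(nat_lit 0xd4db4d2e73002),(nat_lit 0x6e8cd001)],[(nat_lit 0xed559001),(nat_lit 0xed558001),(nat_lit 0xed55a001),(nat_lit 0xed945001),(nat_lit 0xed55b001),(nat_lit 0xed55c001),(nat_lit 0xed55d001)],[(nat_lit 0xeeeaa001),(nat_lit 0xeeeab001),(nat_lit 0xef388001),(nat_lit 0xeeeac001),(nat_lit 0xeeea9001),(nat_lit 0xeeead001),(nat_lit 0xeeeae001)],[(nat_lit 0x3b2eb001),(nat_lit 0x3b2ec001),(nat_lit 0x8d0ec001),(nat_lit 0xc7b17001),(nat_lit 0x3b2ed001),(nat_lit 0xe452a001),(nat_lit 0xef42d001)],[(nat_lit 0xef428001),(nat_lit 0xe7ec8001),(nat_lit 0xdaf64001),(nat_lit 0xede43001),(nat_lit 0xde72e001),(nat_lit 0xeb160001),(nat_lit 0xdaf63001)],[(nat_lit 0x957cc001),(nat_lit 0x957cd001),(nat_lit 0xdf13f001),(nat_lit 0x957ce001),(nat_lit 0xef622001),(nat_lit 0x957cf001),(nat_lit 0xe99c6001)],[(nat_lit 0xdf6a4001),(nat_lit 0xdc6cf001),(nat_lit 0xe4222001),(nat_lit 0xdc6ce001),(nat_lit 0xdc6d0001),(nat_lit 0xea813001),(nat_lit 0xe7af5001)],[(nat_lit 0xe9cd0001),(nat_lit 0xe9cd1001),(nat_lit 0xe9ccf001),(nat_lit 0xe9cd2001),(nat_lit 0xe9cd3001),(nat_lit 0xe9cd4001),(nat_lit 0xe9cd5001)],[(nat_lit 0xed699001),(nat_lit 0xed695001),(nat_lit 0xed751001),(nat_lit 0xed694001),(nat_lit 0xed698001),(nat_lit 0xed696001),(nat_lit 0xed697001)],[(nat_lit 0x80038001),(nat_lit 0x7f294001),(nat_lit 0xd6705d4e3e002),(nat_lit 0x7f293001),(nat_lit 0xd8e0c7ff22002),(nat_lit 0xd16338003d002),(nat_lit 0xd628f001)],[(nat_lit 0xda2cc001),(nat_lit 0x43d17001),(nat_lit 0x43d18001),(nat_lit 0xda2d1001),(nat_lit 0x43d19001),(nat_lit 0xe3fc1001),(nat_lit 0xdc106001)],[(nat_lit 0xe2fb1001),(nat_lit 0xe2005001),(nat_lit 0xee7cc001),(nat_lit 0xee4a1001),(nat_lit 0xe8951001),(nat_lit 0xe28f5001),(nat_lit 0x8cfc7001)],[(nat_lit 0xea66a001),(nat_lit 0xec112001),(nat_lit 0xea6f8001),(nat_lit 0xea25fe9950002),(nat_lit 0xedc3d001),(nat_lit 0xee6c9001),(nat_lit 0x8cfb2001)],[(nat_lit 0xe3fc0001),(nat_lit 0xeaed9001),(nat_lit 0xe4ae4001),(nat_lit 0xe3fbf001),(nat_lit 0xe3fc3001),(nat_lit 0xe3fc1001),(nat_lit 0xe3fc2001)],[(nat_lit 0x8c04f001),(nat_lit 0xc7b0e001),(nat_lit 0x8c04e001),(nat_lit 0xd3ba7001),(nat_lit 0xc1e4f8c050002),(nat_lit 0xcfa608ce39002),(nat_lit 0xcfa65001)],[(nat_lit 0xde72a001),(nat_lit 0xdf1f2c848f002),(nat_lit 0x9690f4fc02002),(nat_lit 0xdf1fdd462b002),(nat_lit 0xef42b001),(nat_lit 0x4fc01001),(nat_lit 0xd5902001)],[(nat_lit 0xed8cc001),(nat_lit 0xed8cd001),(nat_lit 0xed8cb001),(nat_lit 0xed8d0001),(nat_lit 0xed8ce001),(nat_lit 0xed8cf001),(nat_lit 0xed8d2001)],[(nat_lit 0xe378b001),(nat_lit 0xe378a001),(nat_lit 0xe378c001),(nat_lit 0xe378d001),(nat_lit 0xe378e001),(nat_lit 0xe67b5001),(nat_lit 0xe4473001)],[(nat_lit 0xe8268001),(nat_lit 0xe0b57001),(nat_lit 0xe05e3001),(nat_lit 0xe2f3c001),(nat_lit 0xe0b5e001),(nat_lit 0xe12f1001),(nat_lit 0xe05e2001)],[(nat_lit 0xe8ae2001),(nat_lit 0x83eb8001),(nat_lit 0xd6f2d001),(nat_lit 0x83eb7001),(nat_lit 0x83eb9001),(nat_lit 0xd6f2e001),(nat_lit 0xdd6df001)],[(nat_lit 0xe33b676985002),(nat_lit 0xe33bb001),(nat_lit 0xe33bc76984002),(nat_lit 0xe378d001),(nat_lit 0xe33bd001),(nat_lit 0xe33be001),(nat_lit 0xe33bf001)],[(nat_lit 0xe885d001),(nat_lit 0xe497d001),(nat_lit 0xe497e001),(nat_lit 0xe4ae5001),(nat_lit 0xe96df001),(nat_lit 0xe497f001),(nat_lit 0xe4980001)],[(nat_lit 0xe0b66001),(nat_lit 0xe0b65001),(nat_lit 0xe96dc001),(nat_lit 0xe2f44001),(nat_lit 0xe0b63001),(nat_lit 0xe2f47001),(nat_lit 0x6e8c2001)],[(nat_lit 0xe9a32001),(nat_lit 0xe8f1b001),(nat_lit 0xe8f1a001),(nat_lit 0xe8f1c001),(nat_lit 0xeb81e001),(nat_lit 0xe8f1d001),(nat_lit 0xe8f1f001)],[(nat_lit 0x3cce2001),(nat_lit 0x3cce4001),(nat_lit 0x82a08001),(nat_lit 0x3c7df001),(nat_lit 0x3cc57001),(nat_lit 0x3cce8001),(nat_lit 0xdc119001)],[(nat_lit 0xd7436001),(nat_lit 0x67fc2001),(nat_lit 0xe8c2b001),(nat_lit 0x67fc1001),(nat_lit 0xee278001),(nat_lit 0x67fc3001),(nat_lit 0xef25f001)],[(nat_lit 0x35897001),(nat_lit 0x35898001),(nat_lit 0x3b3bb001),(nat_lit 0x35896001),(nat_lit 0x35899001),(nat_lit 0x3b066001),(nat_lit 0xcf26f001)],[(nat_lit 0xee441001),(nat_lit 0xdf60a001),(nat_lit 0xdf609001),(nat_lit 0xdf60b001),(nat_lit 0xe1faa001),(nat_lit 0xee5ee001),(nat_lit 0xed473001)],[(nat_lit 0x99758841bd002),(nat_lit 0x84f6c001),(nat_lit 0xa7b7899793002),(nat_lit 0x99794001),(nat_lit 0xe8ed7841bc002),(nat_lit 0x99795841be002),(nat_lit 0xd1a21001)],[(nat_lit 0xe4063001),(nat_lit 0xe4064001),(nat_lit 0xe4065001),(nat_lit 0xe4062001),(nat_lit 0xe4066001),(nat_lit 0xe4067001),(nat_lit 0xe4068001)],[(nat_lit 0xee859001),(nat_lit 0xee85b001),(nat_lit 0xee8a3001),(nat_lit 0xee85a001),(nat_lit 0xee85c001),(nat_lit 0xee85d001),(nat_lit 0xee858001)],[(nat_lit 0xdcd4c001),(nat_lit 0xed0af001),(nat_lit 0xee3c3001),(nat_lit 0xdcd4d001),(nat_lit 0xdcd4b001),(nat_lit 0xdcd4e001),(nat_lit 0xe4a2d001)],[(nat_lit 0xee7e1001),(nat_lit 0xee7e0001),(nat_lit 0xee7e2001),(nat_lit 0xee7e3001),(nat_lit 0xee7e4001),(nat_lit 0xee7e5001),(nat_lit 0xee812001)],[(nat_lit 0xed275001),(nat_lit 0xed276001),(nat_lit 0xed274001),(nat_lit 0xed30f001),(nat_lit 0xed8ef001),(nat_lit 0xed2a8001),(nat_lit 0xed277001)],[(nat_lit 0x6f32c001),(nat_lit 0xe355f001),(nat_lit 0x6f32d001),(nat_lit 0xef1a5001),(nat_lit 0x6f32b001),(nat_lit 0xd310c001),(nat_lit 0xeeaf8001)],[(nat_lit 0x8e3e3001),(nat_lit 0x95d2f001),(nat_lit 0xd8fc3001),(nat_lit 0xd8fc9001),(nat_lit 0x8e3e4001),(nat_lit 0x8e3e2001),(nat_lit 0xd8fc8001)],[(nat_lit 0xef0a5001),(nat_lit 0xef6bd001),(nat_lit 0xef0a4001),(nat_lit 0xef0a3001),(nat_lit 0xef0a6001),(nat_lit 0xef664001),(nat_lit 0xef0a2001)],[(nat_lit 0xe3495001),(nat_lit 0x74b87001),(nat_lit 0xd349e001),(nat_lit 0x74b86001),(nat_lit 0xd7403001),(nat_lit 0xe2870001),(nat_lit 0xdad3b001)],[(nat_lit 0xeeddf001),(nat_lit 0xeecaf001),(nat_lit 0xeecad001),(nat_lit 0xeecae001),(nat_lit 0xeecb0001),(nat_lit 0xeef38001),(nat_lit 0xeecb1001)],[(nat_lit 0xe26a0001),(nat_lit 0xe26a5001),(nat_lit 0xe26a1001),(nat_lit 0xe269f001),(nat_lit 0xead2c001),(nat_lit 0xe26a2001),(nat_lit 0xe26a3001)],[(nat_lit 0xdf74a79a0c002),(nat_lit 0xded28001),(nat_lit 0xa269479a0b002),(nat_lit 0xcfb9e001),(nat_lit 0xde4fd001),(nat_lit 0x79a0d001),(nat_lit 0xd37cb001)],[(nat_lit 0xeb733001),(nat_lit 0xeb734001),(nat_lit 0xeb732001),(nat_lit 0xeb735001),(nat_lit 0xeb736001),(nat_lit 0xeb737001),(nat_lit 0xeb738001)],[(nat_lit 0xe892d001),(nat_lit 0xe8930001),(nat_lit 0xef0f4001),(nat_lit 0xe892e001),(nat_lit 0xe892f001),(nat_lit 0xe8931001),(nat_lit 0xe892c001)],[(nat_lit 0x4b57a001),(nat_lit 0xc52998be46002),(nat_lit 0x3076b001),(nat_lit 0x3076c001),(nat_lit 0xa927c8b8f2002),(nat_lit 0x31150001),(nat_lit 0xbf3268e0d8002)],[(nat_lit 0xd7dfe65597002),(nat_lit 0xef3ee001),(nat_lit 0x65596001),(nat_lit 0xd7dff001),(nat_lit 0xd7e00001),(nat_lit 0xd7e01d7215002),(nat_lit 0xd7207001)],[(nat_lit 0xe98c9001),(nat_lit 0xe98ca001),(nat_lit 0xe98cb001),(nat_lit 0xe98c8001),(nat_lit 0xe98cc001),(nat_lit 0xeb0a0001),(nat_lit 0xe98cd001)],[(nat_lit 0xe71d5001),(nat_lit 0x8bba6001),(nat_lit 0xe2e11001),(nat_lit 0xb1fe88c999002),(nat_lit 0x8c99b001),(nat_lit 0x8c99d001),(nat_lit 0xe1137001)],[(nat_lit 0xe4962001),(nat_lit 0xe565f001),(nat_lit 0xe5467001),(nat_lit 0xe978e001),(nat_lit 0xe4964001),(nat_lit 0xe4963001),(nat_lit 0x8cec8001)],[(nat_lit 0xea695001),(nat_lit 0xed5f6001),(nat_lit 0xea696001),(nat_lit 0xea694001),(nat_lit 0xed984001),(nat_lit 0xed55c001),(nat_lit 0xee3bd001)],[(nat_lit 0xed943001),(nat_lit 0xed944001),(nat_lit 0xed9e1001),(nat_lit 0xed945001),(nat_lit 0xed942001),(nat_lit 0xed946001),(nat_lit 0xed947001)],[(nat_lit 0x2c2d5001),(nat_lit 0x2c2d6001),(nat_lit 0x3faa2001),(nat_lit 0x2c2d4001),(nat_lit 0x3fec4001),(nat_lit 0x2ca29001),(nat_lit 0xe40a583897002)],[(nat_lit 0x3f658001),(nat_lit 0x822e5001),(nat_lit 0xdbe77001),(nat_lit 0xdcb3c001),(nat_lit 0x3f657001),(nat_lit 0xdcb37001),(nat_lit 0xdcb40001)],[(nat_lit 0xddf7c001),(nat_lit 0xdd364001),(nat_lit 0xdd365001),(nat_lit 0xdd363001),(nat_lit 0xe9296001),(nat_lit 0xdd36e001),(nat_lit 0xdd366001)],[(nat_lit 0xdbe76001),(nat_lit 0xda731001),(nat_lit 0x3f65d001),(nat_lit 0xe6221001),(nat_lit 0x3f65c001),(nat_lit 0xdbe65001),(nat_lit 0xd7ce1001)],[(nat_lit 0xdf8ab001),(nat_lit 0xdf32a001),(nat_lit 0xdf326001),(nat_lit 0xdf327001),(nat_lit 0xea701001),(nat_lit 0xdf328001),(nat_lit 0xe3b6d001)],[(nat_lit 0x81d36001),(nat_lit 0xe379e001),(nat_lit 0x8105e001),(nat_lit 0xa7afd81a68002),(nat_lit 0x8105d001),(nat_lit 0xdd990001),(nat_lit 0xc401d001)],[(nat_lit 0xef29a001),(nat_lit 0xef29b001),(nat_lit 0xef42e001),(nat_lit 0xef299001),(nat_lit 0xef29c001),(nat_lit 0xef29d001),(nat_lit 0xef2b1001)],[(nat_lit 0xe75f3001),(nat_lit 0xe775d001),(nat_lit 0xe75f2001),(nat_lit 0xe75f1001),(nat_lit 0xe75f5001),(nat_lit 0xea902001),(nat_lit 0xe75f0001)],[(nat_lit 0x64834001),(nat_lit 0xdf993001),(nat_lit 0xeb872001),(nat_lit 0xeb9b3001),(nat_lit 0xe161564833002),(nat_lit 0xea5b4001),(nat_lit 0xe9e64001)],[(nat_lit 0xe7db3001),(nat_lit 0xe7db4001),(nat_lit 0xe7db5001),(nat_lit 0xe7db2001),(nat_lit 0xe7db6001),(nat_lit 0xe7db7001),(nat_lit 0xe7db8001)],[(nat_lit 0x3d6c4001),(nat_lit 0x52436001),(nat_lit 0xad2ca001),(nat_lit 0xe5bbd001),(nat_lit 0xabafe697ed002),(nat_lit 0x3d6c3001),(nat_lit 0xdf7e4001)],[(nat_lit 0xe20af001),(nat_lit 0xec1f4001),(nat_lit 0x6c4f8001),(nat_lit 0xde975001),(nat_lit 0x6c4f7001),(nat_lit 0xdaa32001),(nat_lit 0xde977001)],[(nat_lit 0xe808b001),(nat_lit 0xe808c001),(nat_lit 0xe808d001),(nat_lit 0xe808a001),(nat_lit 0xe808e001),(nat_lit 0xe808f001),(nat_lit 0xe8090001)],[(nat_lit 0xe4443001),(nat_lit 0xef137001),(nat_lit 0xe407e001),(nat_lit 0xe4081e407f002),(nat_lit 0xece58001),(nat_lit 0xe4080001),(nat_lit 0xe407d001)],[(nat_lit 0xee2be001),(nat_lit 0xe940c001),(nat_lit 0xd8a97001),(nat_lit 0xee0de001),(nat_lit 0xd8a96001),(nat_lit 0xee301001),(nat_lit 0xee2aa001)],[(nat_lit 0xe96f4001),(nat_lit 0xcb37c73ba7002),(nat_lit 0xc81cc73ba8002),(nat_lit 0xd5f5f001),(nat_lit 0xe4fde001),(nat_lit 0xcb38973ba6002),(nat_lit 0xeb42a001)],[(nat_lit 0x8d00c001),(nat_lit 0x8d7ac001),(nat_lit 0x8d00d001),(nat_lit 0x8e0f2001),(nat_lit 0x8d00b001),(nat_lit 0x8d00e001),(nat_lit 0xe7a07001)],[(nat_lit 0xe7eed001),(nat_lit 0x7e36a001),(nat_lit 0xe0f8b001),(nat_lit 0xca6977e369002),(nat_lit 0xe52d5e49df002),(nat_lit 0xeaab6001),(nat_lit 0xe816a001)],[(nat_lit 0xef523001),(nat_lit 0xef524001),(nat_lit 0xef527001),(nat_lit 0xef522001),(nat_lit 0xef525001),(nat_lit 0xef526001),(nat_lit 0xef528001)],[(nat_lit 0xe2b71001),(nat_lit 0xe2b75001),(nat_lit 0xe2b72001),(nat_lit 0xe2b70001),(nat_lit 0xe2b74001),(nat_lit 0xe8169001),(nat_lit 0xeaab7001)],[(nat_lit 0xe4910001),(nat_lit 0xea08d001),(nat_lit 0xe494ae490f002),(nat_lit 0xe678a001),(nat_lit 0xe4911001),(nat_lit 0xe4912001),(nat_lit 0x8cedf001)],[(nat_lit 0x84767001),(nat_lit 0x40894001),(nat_lit 0x40895001),(nat_lit 0xb22608e0f6002),(nat_lit 0x40896001),(nat_lit 0x40897001),(nat_lit 0xd6fa0001)],[(nat_lit 0xe7a04001),(nat_lit 0xe67ae001),(nat_lit 0xe35f9001),(nat_lit 0xbfe74001),(nat_lit 0xe802b001),(nat_lit 0xd310f001),(nat_lit 0x8e0f1001)],[(nat_lit 0xdc77a001),(nat_lit 0xdef86001),(nat_lit 0xdc779001),(nat_lit 0xe5f03001),(nat_lit 0xdc77b001),(nat_lit 0xdc77c001),(nat_lit 0xec3e3001)],[(nat_lit 0xe7151001),(nat_lit 0xe7152001),(nat_lit 0xe7150001),(nat_lit 0xe74aa001),(nat_lit 0xe7c6b001),(nat_lit 0xe71d8001),(nat_lit 0xe7153001)],[(nat_lit 0xe74ab001),(nat_lit 0xe2e69001),(nat_lit 0xe2e6b001),(nat_lit 0xe2e68001),(nat_lit 0xe9848001),(nat_lit 0xe2e6a001),(nat_lit 0xe2e6d001)],[(nat_lit 0xe9433001),(nat_lit 0x88a99001),(nat_lit 0xe901e001),(nat_lit 0x88a9a001),(nat_lit 0xebdbe001),(nat_lit 0x88a98001),(nat_lit 0xd3f36001)],[(nat_lit 0xe5d64001),(nat_lit 0xe5d38001),(nat_lit 0xe5d39001),(nat_lit 0xe5d37001),(nat_lit 0xe5d3a001),(nat_lit 0xe6896001),(nat_lit 0xe61be001)],[(nat_lit 0x896a5001),(nat_lit 0xb3e0a8a477002),(nat_lit 0xe6718001),(nat_lit 0xb3e03896a4002),(nat_lit 0xcd72f001),(nat_lit 0xe9434001),(nat_lit 0xe0813001)],[(nat_lit 0xdcfbc001),(nat_lit 0xe0a11001),(nat_lit 0xdcfbd001),(nat_lit 0xdcfbb001),(nat_lit 0xdcfbe001),(nat_lit 0xdcfbf001),(nat_lit 0xdcfc0001)],[(nat_lit 0xea8a4001),(nat_lit 0xea8a5001),(nat_lit 0xea987001),(nat_lit 0xea8a3001),(nat_lit 0xea8a2001),(nat_lit 0xeb129001),(nat_lit 0x7d6c7001)],[(nat_lit 0x98413001),(nat_lit 0x98414001),(nat_lit 0xeb990001),(nat_lit 0x98415001),(nat_lit 0xed505001),(nat_lit 0x98412001),(nat_lit 0xd9431001)],[(nat_lit 0xe808b001),(nat_lit 0x7f673001),(nat_lit 0xda6ba001),(nat_lit 0x7f672001),(nat_lit 0xe986d001),(nat_lit 0xb1dda7f674002),(nat_lit 0xdf7e4001)],[(nat_lit 0xe75c7001),(nat_lit 0xe7f77001),(nat_lit 0xe75c6001),(nat_lit 0xe75c8001),(nat_lit 0xe75c9001),(nat_lit 0xe75ca001),(nat_lit 0xed7ab001)],[(nat_lit 0x453c3001),(nat_lit 0x46138001),(nat_lit 0x81509001),(nat_lit 0x453c2001),(nat_lit 0x453c4001),(nat_lit 0xecbad001),(nat_lit 0xd19de001)],[(nat_lit 0xd7350001),(nat_lit 0xd6535001),(nat_lit 0xe17e3001),(nat_lit 0xd6536001),(nat_lit 0xd7b06001),(nat_lit 0xd7b07001),(nat_lit 0x81504001)],[(nat_lit 0xeb252001),(nat_lit 0xe6d16001),(nat_lit 0xe6d17001),(nat_lit 0xe6e27001),(nat_lit 0xe6d15001),(nat_lit 0xe6d18001),(nat_lit 0xe71b4001)],[(nat_lit 0xee11a001),(nat_lit 0xe1b1c001),(nat_lit 0xe6bbe001),(nat_lit 0xe1b1b001),(nat_lit 0xe54c0001),(nat_lit 0xe1b1d001),(nat_lit 0xdc944001)],[(nat_lit 0xecdf4001),(nat_lit 0xef6a0001),(nat_lit 0xecdf7001),(nat_lit 0xecdf3001),(nat_lit 0xecdf5001),(nat_lit 0xecdf6001),(nat_lit 0xecdf8001)],[(nat_lit 0x45867001),(nat_lit 0x60e77001),(nat_lit 0xbe1d2001),(nat_lit 0x461fa001),(nat_lit 0x45866001),(nat_lit 0x9fede461f6002),(nat_lit 0xc8491001)],[(nat_lit 0xae56b001),(nat_lit 0xb542eb5433002),(nat_lit 0x45869001),(nat_lit 0xb53ffae56c002),(nat_lit 0x45868001),(nat_lit 0xa2028001),(nat_lit 0xd9822001)],[(nat_lit 0x82303001),(nat_lit 0xe531e001),(nat_lit 0x81509001),(nat_lit 0xe92cc001),(nat_lit 0x81508001),(nat_lit 0xea326001),(nat_lit 0xd9aa3001)],[(nat_lit 0xe21f0001),(nat_lit 0xea13a001),(nat_lit 0xdf3c2001),(nat_lit 0xe1e20001),(nat_lit 0xdf3c3001),(nat_lit 0xdf3c4001),(nat_lit 0xdf3c1001)],[(nat_lit 0x688cd001),(nat_lit 0x705f9001),(nat_lit 0xee8e5001),(nat_lit 0x688cc001),(nat_lit 0x68f77001),(nat_lit 0x705e3001),(nat_lit 0xdcfe3001)],[(nat_lit 0xe6cd2001),(nat_lit 0xeddd2001),(nat_lit 0xe6fa4001),(nat_lit 0xe6cd5001),(nat_lit 0xe6cd1001),(nat_lit 0xe6cd3001),(nat_lit 0xe6cd4001)],[(nat_lit 0xc26e281505002),(nat_lit 0x413d9001),(nat_lit 0xc26d5001),(nat_lit 0x413d8001),(nat_lit 0xc4126814fc002),(nat_lit 0xc26b2809ca002),(nat_lit 0xef49b001)],[(nat_lit 0x2aefe001),(nat_lit 0x3d30f001),(nat_lit 0x2b02b001),(nat_lit 0x2aeff001),(nat_lit 0x3d7ca001),(nat_lit 0x2aefd001),(nat_lit 0x809ae001)],[(nat_lit 0x3deec001),(nat_lit 0x7f938001),(nat_lit 0x3deed001),(nat_lit 0x3deeb001),(nat_lit 0x3deee001),(nat_lit 0x3deef001),(nat_lit 0xd1bec001)],[(nat_lit 0x2bc13001),(nat_lit 0x3c7e5001),(nat_lit 0x2b364001),(nat_lit 0x3c7e8001),(nat_lit 0x2b365001),(nat_lit 0x2b363001),(nat_lit 0x814e2001)],[(nat_lit 0xd734c001),(nat_lit 0x82e3d001),(nat_lit 0xd7db5001),(nat_lit 0x83df7001),(nat_lit 0x82e3c001),(nat_lit 0xec1c4001),(nat_lit 0xd71a4001)],[(nat_lit 0xe98e6001),(nat_lit 0xe7b58001),(nat_lit 0xe7b57001),(nat_lit 0xe7b5a001),(nat_lit 0xe7b59001),(nat_lit 0xec86a001),(nat_lit 0xe7b5b001)],[(nat_lit 0x67ddb001),(nat_lit 0xe9309001),(nat_lit 0xd603367dda002),(nat_lit 0xe4bad001),(nat_lit 0xeae01001),(nat_lit 0xe5212001),(nat_lit 0xd67fe001)],[(nat_lit 0xe94ac001),(nat_lit 0xe94ad001),(nat_lit 0xe94ae001),(nat_lit 0xe94af001),(nat_lit 0xe94ab001),(nat_lit 0xe94b0001),(nat_lit 0xe94b1001)],[(nat_lit 0xecf1a001),(nat_lit 0xecf20001),(nat_lit 0xecf19001),(nat_lit 0xecf1b001),(nat_lit 0xecf1c001),(nat_lit 0xecf1d001),(nat_lit 0xecf1f001)],[(nat_lit 0xea324001),(nat_lit 0xea325001),(nat_lit 0xecbae001),(nat_lit 0xea323001),(nat_lit 0xea43f001),(nat_lit 0xea326001),(nat_lit 0xea327001)],[(nat_lit 0xee32e001),(nat_lit 0xee32d001),(nat_lit 0xee32f001),(nat_lit 0xee3cd001),(nat_lit 0xee330001),(nat_lit 0xee331001),(nat_lit 0xee8d3001)],[(nat_lit 0xcbeeb81dd3002),(nat_lit 0xedebd001),(nat_lit 0x81dd2001),(nat_lit 0xed682001),(nat_lit 0xea562001),(nat_lit 0x81dd4001),(nat_lit 0xd82d5001)],[(nat_lit 0xeec43001),(nat_lit 0xeec42001),(nat_lit 0xeec44001),(nat_lit 0xeec45001),(nat_lit 0xeec46001),(nat_lit 0xeec47001),(nat_lit 0xeec48001)],[(nat_lit 0xed938001),(nat_lit 0xee803001),(nat_lit 0xee294001),(nat_lit 0xe9510001),(nat_lit 0xe91f4001),(nat_lit 0xee506001),(nat_lit 0xe91f5001)],[(nat_lit 0xee84c001),(nat_lit 0xee84d001),(nat_lit 0xee850001),(nat_lit 0xee84b001),(nat_lit 0xee84e001),(nat_lit 0xee851001),(nat_lit 0xee84f001)],[(nat_lit 0xee4e6001),(nat_lit 0xee75c001),(nat_lit 0xee4e5001),(nat_lit 0xee540001),(nat_lit 0xee4e7001),(nat_lit 0xee4e8001),(nat_lit 0xee4e9001)],[(nat_lit 0xee762001),(nat_lit 0xee763001),(nat_lit 0xee765001),(nat_lit 0xee761001),(nat_lit 0xee767001),(nat_lit 0xee764001),(nat_lit 0xee766001)],[(nat_lit 0xc181f001),(nat_lit 0xa73577c367002),(nat_lit 0x7cbec001),(nat_lit 0xa8bef7c366002),(nat_lit 0xe8234001),(nat_lit 0xc36cd001),(nat_lit 0xcb32a001)],[(nat_lit 0xeef10001),(nat_lit 0xee1a0001),(nat_lit 0xee19e001),(nat_lit 0xee19b001),(nat_lit 0xee19f001),(nat_lit 0xee1a1001),(nat_lit 0xee19a001)],[(nat_lit 0xce7c0001),(nat_lit 0x6dda9001),(nat_lit 0xea26f001),(nat_lit 0xc21306dda8002),(nat_lit 0xbdca96ddaa002),(nat_lit 0xce7c2001),(nat_lit 0xc1225001)],[(nat_lit 0xe125f001),(nat_lit 0xe1b17001),(nat_lit 0xe1260001),(nat_lit 0xe125e001),(nat_lit 0xea486001),(nat_lit 0xe4678001),(nat_lit 0xe41bc001)],[(nat_lit 0xececc001),(nat_lit 0xee49a001),(nat_lit 0xececb001),(nat_lit 0xececd001),(nat_lit 0xecece001),(nat_lit 0xececf001),(nat_lit 0xececa001)],[(nat_lit 0xeeafa001),(nat_lit 0xeeafb001),(nat_lit 0xeeafc001),(nat_lit 0xeeaf9001),(nat_lit 0xeeafd001),(nat_lit 0xeeafe001),(nat_lit 0xeeaf8001)],[(nat_lit 0xe932f001),(nat_lit 0xd45419783d002),(nat_lit 0xe8b9c001),(nat_lit 0xb93bf9783c002),(nat_lit 0x9783e001),(nat_lit 0xd45419783f002),(nat_lit 0xd1a2f001)],[(nat_lit 0xea440001),(nat_lit 0xea441001),(nat_lit 0xeafaa001),(nat_lit 0xea442001),(nat_lit 0xea43f001),(nat_lit 0xea443001),(nat_lit 0xea444001)],[(nat_lit 0xe9cf0001),(nat_lit 0xe9e98001),(nat_lit 0xe9d0d001),(nat_lit 0xe9b39001),(nat_lit 0xe9b3a001),(nat_lit 0xee21a001),(nat_lit 0xe9b3b001)],[(nat_lit 0xeeb75001),(nat_lit 0xeeb76001),(nat_lit 0xeeb74001),(nat_lit 0xeeb78001),(nat_lit 0xef33a001),(nat_lit 0xeeb77001),(nat_lit 0xeeb79001)],[(nat_lit 0xef033001),(nat_lit 0xef034001),(nat_lit 0xef035001),(nat_lit 0xef032001),(nat_lit 0xef036001),(nat_lit 0xef037001),(nat_lit 0xef038001)],[(nat_lit 0xb687a93943002),(nat_lit 0xd9c60001),(nat_lit 0xe0018001),(nat_lit 0xcc8cc9536f002),(nat_lit 0x9fb3593942002),(nat_lit 0xea231001),(nat_lit 0xe9ac6001)],[(nat_lit 0xeefca001),(nat_lit 0xee76b001),(nat_lit 0xee7bb001),(nat_lit 0xee769001),(nat_lit 0xee76a001),(nat_lit 0xeedae001),(nat_lit 0xee768001)],[(nat_lit 0xdc93d001),(nat_lit 0xdc93e001),(nat_lit 0xdc93f001),(nat_lit 0xdc93c001),(nat_lit 0xdc943001),(nat_lit 0xdc940001),(nat_lit 0x39c4f001)],[(nat_lit 0x6e8c4001),(nat_lit 0xe0cd6001),(nat_lit 0x6e8c5001),(nat_lit 0xd95c3001),(nat_lit 0x6f72f001),(nat_lit 0x6e8c3001),(nat_lit 0xd95c4001)],[(nat_lit 0x6d441001),(nat_lit 0x6e91b001),(nat_lit 0x6f72e001),(nat_lit 0x6d442001),(nat_lit 0x6d440001),(nat_lit 0x6d443001),(nat_lit 0xcb29c001)],[(nat_lit 0x8b88d001),(nat_lit 0x8b88f001),(nat_lit 0xecdd0001),(nat_lit 0x8ac10001),(nat_lit 0xe7bbd001),(nat_lit 0x8b890001),(nat_lit 0xc9ef6001)],[(nat_lit 0xe2dba001),(nat_lit 0xe2dbb001),(nat_lit 0xe8233001),(nat_lit 0xe2db9001),(nat_lit 0xe2dbc001),(nat_lit 0xe2dbd001),(nat_lit 0xe2dbe001)],[(nat_lit 0xe31e8001),(nat_lit 0xe31ea001),(nat_lit 0xecb60001),(nat_lit 0xe31e9001),(nat_lit 0xecb65001),(nat_lit 0xe31eb001),(nat_lit 0xe31e7001)],[(nat_lit 0xe7137001),(nat_lit 0xe1c64001),(nat_lit 0xe1bfc001),(nat_lit 0xde5ee001),(nat_lit 0xe3c9a001),(nat_lit 0xe2f6a001),(nat_lit 0xde5ef001)],[(nat_lit 0xe8f3b001),(nat_lit 0xe8f3c001),(nat_lit 0xe8f3f001),(nat_lit 0xe8f3a001),(nat_lit 0xe8f3d001),(nat_lit 0xe8f3e001),(nat_lit 0xe915f001)],[(nat_lit 0xeaf8c001),(nat_lit 0xeaf91001),(nat_lit 0xeaf8f001),(nat_lit 0xeaf8b001),(nat_lit 0xeaf8d001),(nat_lit 0xeaf8e001),(nat_lit 0xeaf90001)],[(nat_lit 0x4b764001),(nat_lit 0x539c7001),(nat_lit 0x5436f001),(nat_lit 0x54804001),(nat_lit 0x4b763001),(nat_lit 0x54372001),(nat_lit 0xc672f001)],[(nat_lit 0xe9e46001),(nat_lit 0xe9e47001),(nat_lit 0xe9e45001),(nat_lit 0xe9e48001),(nat_lit 0xe9e49001),(nat_lit 0xe9e4a001),(nat_lit 0xe9e4b001)],[(nat_lit 0xe9846001),(nat_lit 0xeb95d001),(nat_lit 0xe6075001),(nat_lit 0xe6074001),(nat_lit 0xe74b0001),(nat_lit 0xe6078001),(nat_lit 0xe9829001)],[(nat_lit 0xeccb4001),(nat_lit 0xeaa67001),(nat_lit 0xeaa66001),(nat_lit 0xed25f001),(nat_lit 0xeaa68001),(nat_lit 0xed225001),(nat_lit 0xeaa69001)],[(nat_lit 0xe1f64001),(nat_lit 0xe1273001),(nat_lit 0xe1275001),(nat_lit 0xe1272001),(nat_lit 0xeccb5001),(nat_lit 0xe1274001),(nat_lit 0xe1276001)],[(nat_lit 0xe5f1c001),(nat_lit 0x83df8001),(nat_lit 0xee7b7001),(nat_lit 0x83df7001),(nat_lit 0x83df9001),(nat_lit 0xec204001),(nat_lit 0xe2110001)],[(nat_lit 0xed3cc001),(nat_lit 0xed3cb001),(nat_lit 0xed3cd001),(nat_lit 0xed482001),(nat_lit 0xedd89001),(nat_lit 0xed3ce001),(nat_lit 0xed3cf001)],[(nat_lit 0xc41ac8cc59002),(nat_lit 0xc41b5001),(nat_lit 0xc41858cc5a002),(nat_lit 0xc41b6001),(nat_lit 0xc41838cc58002),(nat_lit 0x8eabd001),(nat_lit 0xd9442001)],[(nat_lit 0xc22f3001),(nat_lit 0xb5c92643e6002),(nat_lit 0xb5659643e7002),(nat_lit 0xb5689001),(nat_lit 0xc7106001),(nat_lit 0xb5c90643e8002),(nat_lit 0xd99a7001)],[(nat_lit 0xdc9ca001),(nat_lit 0xdc9cb001),(nat_lit 0xe51e6001),(nat_lit 0xdc9cc001),(nat_lit 0xec2a5001),(nat_lit 0xdc9c9001),(nat_lit 0xdc9ce001)],[(nat_lit 0x8e3de001),(nat_lit 0xec39e001),(nat_lit 0x8e3dd001),(nat_lit 0xcf18d001),(nat_lit 0x8e3df001),(nat_lit 0xd8fc6001),(nat_lit 0xe2e84001)],[(nat_lit 0xd8fc4001),(nat_lit 0x8e3e6001),(nat_lit 0x8e3e7001),(nat_lit 0xe4111001),(nat_lit 0x8e3e8001),(nat_lit 0x8e3e5001),(nat_lit 0xee8df001)],[(nat_lit 0xe0e34001),(nat_lit 0xe0e35001),(nat_lit 0xe89bc001),(nat_lit 0xe45ae001),(nat_lit 0xe0e36001),(nat_lit 0xee8de001),(nat_lit 0xd90b1001)],[(nat_lit 0x547f2001),(nat_lit 0x8572d001),(nat_lit 0xb5d31b5692002),(nat_lit 0x547f3001),(nat_lit 0xb5db1a9290002),(nat_lit 0x547f1001),(nat_lit 0xe916c001)],[(nat_lit 0xec310001),(nat_lit 0xec311001),(nat_lit 0xec312001),(nat_lit 0xec30f001),(nat_lit 0xec313001),(nat_lit 0xec315001),(nat_lit 0xec314001)],[(nat_lit 0x74bc6001),(nat_lit 0xa8ba274089002),(nat_lit 0xa8ba3001),(nat_lit 0x74088001),(nat_lit 0xa77b8748ab002),(nat_lit 0x74bcb001),(nat_lit 0xd0991001)],[(nat_lit 0xcf747001),(nat_lit 0xe4590001),(nat_lit 0x83afc001),(nat_lit 0xb793983afd002),(nat_lit 0xcb0b8001),(nat_lit 0xcf749001),(nat_lit 0xbd672001)],[(nat_lit 0xebe61001),(nat_lit 0xebe63001),(nat_lit 0xebfcc001),(nat_lit 0xebe62001),(nat_lit 0xebe64001),(nat_lit 0xebe65001),(nat_lit 0xebe60001)],[(nat_lit 0xebfcd001),(nat_lit 0x65f84001),(nat_lit 0x65f85001),(nat_lit 0x84460001),(nat_lit 0x6a5c1001),(nat_lit 0x65f86001),(nat_lit 0xe13cd001)],[(nat_lit 0xef2ec001),(nat_lit 0xe8e25001),(nat_lit 0xe8e21001),(nat_lit 0xe8e22001),(nat_lit 0xe8f23001),(nat_lit 0xe8e26001),(nat_lit 0xe936f001)],[(nat_lit 0xe26ca001),(nat_lit 0x89633001),(nat_lit 0x8a42d001),(nat_lit 0xcc93c001),(nat_lit 0x89632001),(nat_lit 0xe9532001),(nat_lit 0xe973c001)],[(nat_lit 0xee51c001),(nat_lit 0xed86e001),(nat_lit 0xed4d0001),(nat_lit 0xed4ce001),(nat_lit 0xed4cf001),(nat_lit 0xedfc5001),(nat_lit 0xed4d1001)],[(nat_lit 0x83635001),(nat_lit 0x98519001),(nat_lit 0xa1d1283636002),(nat_lit 0xdd9b8001),(nat_lit 0x83634001),(nat_lit 0xa34e583637002),(nat_lit 0xbed61001)],[(nat_lit 0xdffea001),(nat_lit 0xc13987cb13002),(nat_lit 0xa3a7d7cb14002),(nat_lit 0xb50b3001),(nat_lit 0xc00f87dc5f002),(nat_lit 0xa3a7c7dc62002),(nat_lit 0xb6c89001)],[(nat_lit 0x7b6a8001),(nat_lit 0xbd91f7b6a9002),(nat_lit 0xc3ce3001),(nat_lit 0x7b6aa001),(nat_lit 0xcb0c4c7286002),(nat_lit 0x7b6a7001),(nat_lit 0xb7bbb001)],[(nat_lit 0xde18e001),(nat_lit 0xe4352001),(nat_lit 0xe0d9f001),(nat_lit 0xe0ccb001),(nat_lit 0xe738f001),(nat_lit 0xe3f69001),(nat_lit 0x847a1001)],[(nat_lit 0xe4ef9001),(nat_lit 0xdb8f6001),(nat_lit 0xdb8f7001),(nat_lit 0xdb8f8001),(nat_lit 0xdb8f5001),(nat_lit 0xe93fd001),(nat_lit 0xe3350001)],[(nat_lit 0xd2215001),(nat_lit 0xee3d0001),(nat_lit 0xc81c66ef61002),(nat_lit 0xcc673001),(nat_lit 0xc88ba6ef60002),(nat_lit 0xd2205001),(nat_lit 0xeae0f001)],[(nat_lit 0xeee22001),(nat_lit 0xee5bc001),(nat_lit 0xee5bb001),(nat_lit 0xee5bd001),(nat_lit 0xeeadb001),(nat_lit 0xeefb3001),(nat_lit 0xeeaf1001)],[(nat_lit 0xe2a65001),(nat_lit 0xe2a66001),(nat_lit 0xe2a64001),(nat_lit 0xe2a67001),(nat_lit 0xec180001),(nat_lit 0xe2a68001),(nat_lit 0xe2a9d001)],[(nat_lit 0xc9243c5333002),(nat_lit 0xc532e6ee51002),(nat_lit 0xc5334001),(nat_lit 0xc5335001),(nat_lit 0xc532b6ee50002),(nat_lit 0xc5336001),(nat_lit 0xcdcb1001)],[(nat_lit 0xeef1b001),(nat_lit 0xeef1c001),(nat_lit 0xeef1d001),(nat_lit 0xeef1a001),(nat_lit 0xeef1e001),(nat_lit 0xeef1f001),(nat_lit 0xeef20001)],[(nat_lit 0x67856001),(nat_lit 0x66cbd001),(nat_lit 0x9749b001),(nat_lit 0x67849001),(nat_lit 0x66cbc001),(nat_lit 0x66cbe001),(nat_lit 0xef5c4001)],[(nat_lit 0xe95d4001),(nat_lit 0xe95d5001),(nat_lit 0xe97d0001),(nat_lit 0xe95d3001),(nat_lit 0xe95d6001),(nat_lit 0xeb644001),(nat_lit 0xe95d7001)],[(nat_lit 0xeb6a5001),(nat_lit 0xeb6a6001),(nat_lit 0xeb6a7001),(nat_lit 0xeb6a4001),(nat_lit 0xebd73001),(nat_lit 0xeb6a8001),(nat_lit 0xeb6a9001)],[(nat_lit 0xd5635001),(nat_lit 0xe6b62001),(nat_lit 0xedca0001),(nat_lit 0xd3f7a001),(nat_lit 0xe28a1001),(nat_lit 0xed091001),(nat_lit 0x7c689001)],[(nat_lit 0xea5f6001),(nat_lit 0xea5f7001),(nat_lit 0xea5f8001),(nat_lit 0xea5f5001),(nat_lit 0xecbe1001),(nat_lit 0xea5f9001),(nat_lit 0xea5fa001)],[(nat_lit 0xdf5e0001),(nat_lit 0xdf5e1001),(nat_lit 0xdf5e2001),(nat_lit 0xdf5df001),(nat_lit 0xea746001),(nat_lit 0xdf5e3001),(nat_lit 0xdf5e4001)],[(nat_lit 0xea744001),(nat_lit 0xb9e20691bc002),(nat_lit 0xb9e2f001),(nat_lit 0xa9053691bb002),(nat_lit 0xb9e0b83520002),(nat_lit 0xc4b2d001),(nat_lit 0xc8836001)],[(nat_lit 0x6f27f001),(nat_lit 0xccfee95ef0002),(nat_lit 0x6e4e4001),(nat_lit 0xbaa4eb2bdd002),(nat_lit 0x6e4e3001),(nat_lit 0x6e4e5001),(nat_lit 0xc07b4001)],[(nat_lit 0xe7340001),(nat_lit 0xe7341001),(nat_lit 0xe733f001),(nat_lit 0xe7343001),(nat_lit 0xebf18001),(nat_lit 0xe7342001),(nat_lit 0xe7344001)],[(nat_lit 0xc21c0001),(nat_lit 0x7de19001),(nat_lit 0xc6866c21bf002),(nat_lit 0xaac8f7de1a002),(nat_lit 0xc689c001),(nat_lit 0xd90d67de18002),(nat_lit 0xc6899001)],[(nat_lit 0xecbab001),(nat_lit 0xedaa2001),(nat_lit 0xecbae001),(nat_lit 0xecbaa001),(nat_lit 0xecbac001),(nat_lit 0xecbad001),(nat_lit 0xee248001)],[(nat_lit 0xb0bcf6f8dd002),(nat_lit 0xcb2d3001),(nat_lit 0x6f8dc001),(nat_lit 0xb306d6fa25002),(nat_lit 0x70254001),(nat_lit 0xb309170257002),(nat_lit 0xed76b001)],[(nat_lit 0xe5178001),(nat_lit 0xe3652001),(nat_lit 0xe3651001),(nat_lit 0xe3653001),(nat_lit 0xe8995001),(nat_lit 0xe79a0001),(nat_lit 0xed6af001)],[(nat_lit 0xed12b001),(nat_lit 0xed12a001),(nat_lit 0xed258001),(nat_lit 0xed129001),(nat_lit 0xed12c001),(nat_lit 0xed43f001),(nat_lit 0xed128001)],[(nat_lit 0xe53ea001),(nat_lit 0xe5a5e001),(nat_lit 0xe53eb001),(nat_lit 0xe53e9001),(nat_lit 0xe53ec001),(nat_lit 0xe53ed001),(nat_lit 0xe7804001)],[(nat_lit 0xe76fa001),(nat_lit 0xe76f9001),(nat_lit 0xe76fb001),(nat_lit 0xe77e1001),(nat_lit 0xe76fc001),(nat_lit 0xe76fd001),(nat_lit 0xede6a001)],[(nat_lit 0xeed20001),(nat_lit 0xe9c86001),(nat_lit 0xed8a8001),(nat_lit 0xe9c88001),(nat_lit 0xe9c85001),(nat_lit 0xe9c87001),(nat_lit 0xea234001)],[(nat_lit 0xbc28f001),(nat_lit 0x9202f001),(nat_lit 0xbc290001),(nat_lit 0xbc291001),(nat_lit 0xbc27f9202e002),(nat_lit 0xbc292001),(nat_lit 0xcb524001)],[(nat_lit 0xe295b001),(nat_lit 0xe4825001),(nat_lit 0xe295a001),(nat_lit 0xe295c001),(nat_lit 0xed26f001),(nat_lit 0xe295d001),(nat_lit 0xe295e001)],[(nat_lit 0xeed42001),(nat_lit 0xeed43001),(nat_lit 0xeed41001),(nat_lit 0xeed44001),(nat_lit 0xeed45001),(nat_lit 0xeed46001),(nat_lit 0xef4ae001)],[(nat_lit 0xd7978001),(nat_lit 0xda2dc001),(nat_lit 0xd7d12001),(nat_lit 0xdea2f001),(nat_lit 0xd7d14001),(nat_lit 0xdf693001),(nat_lit 0x69695001)],[(nat_lit 0xd2492001),(nat_lit 0x5c4c4001),(nat_lit 0xd2493001),(nat_lit 0xe6550001),(nat_lit 0xbdf955c4c3002),(nat_lit 0xda9cf001),(nat_lit 0xdd0b2001)],[(nat_lit 0xee5df001),(nat_lit 0xedf64001),(nat_lit 0xedf63001),(nat_lit 0xedf66001),(nat_lit 0xeed90001),(nat_lit 0xedf65001),(nat_lit 0xedf67001)],[(nat_lit 0x7d6bd001),(nat_lit 0x7f19f001),(nat_lit 0x7d6be001),(nat_lit 0xbb665b508d002),(nat_lit 0x7d6bf001),(nat_lit 0x9cf317d6bc002),(nat_lit 0xbc0c3001)],[(nat_lit 0xe2577001),(nat_lit 0xed7fd001),(nat_lit 0x7dd93001),(nat_lit 0xd5137001),(nat_lit 0xe93a8001),(nat_lit 0x7dd92001),(nat_lit 0xd6461001)],[(nat_lit 0xe9922001),(nat_lit 0xeb235001),(nat_lit 0xe9b4c001),(nat_lit 0xe9921001),(nat_lit 0xedffc001),(nat_lit 0xebe0d001),(nat_lit 0xe9920001)],[(nat_lit 0xeb629001),(nat_lit 0xeb62a001),(nat_lit 0xeb6b5001),(nat_lit 0xeb628001),(nat_lit 0xeb62c001),(nat_lit 0xeb62b001),(nat_lit 0xeb627001)],[(nat_lit 0xec5ca001),(nat_lit 0x6ee5b001),(nat_lit 0xe8516001),(nat_lit 0xd377d001),(nat_lit 0xc11f46ee5a002),(nat_lit 0xd2450001),(nat_lit 0xe8794001)],[(nat_lit 0xe38ac001),(nat_lit 0xa1a7696ea9002),(nat_lit 0x65446001),(nat_lit 0xbe918001),(nat_lit 0x65445001),(nat_lit 0x96eab001),(nat_lit 0xcf81e001)],[(nat_lit 0xddda0001),(nat_lit 0xddd9e001),(nat_lit 0xddd9c001),(nat_lit 0xddd9d001),(nat_lit 0xddd9f001),(nat_lit 0xe00e4001),(nat_lit 0xddd9b001)],[(nat_lit 0xe3c70001),(nat_lit 0xe3e07001),(nat_lit 0xe3797001),(nat_lit 0xe3799001),(nat_lit 0xe893d001),(nat_lit 0xe3798001),(nat_lit 0xe379a001)],[(nat_lit 0xafc3f6d5c9002),(nat_lit 0x6d5ca001),(nat_lit 0xca47c001),(nat_lit 0x6df18001),(nat_lit 0x6d5c8001),(nat_lit 0xc6eb3001),(nat_lit 0xd291d001)],[(nat_lit 0xee82e001),(nat_lit 0xe86cf001),(nat_lit 0xe86d2001),(nat_lit 0xe86ce001),(nat_lit 0xe86d0001),(nat_lit 0xe86d1001),(nat_lit 0xe86d3001)],[(nat_lit 0xee18b001),(nat_lit 0xee20c001),(nat_lit 0xee18a001),(nat_lit 0xee22f001),(nat_lit 0xee18c001),(nat_lit 0xee18d001),(nat_lit 0xee189001)],[(nat_lit 0xeddd4001),(nat_lit 0xeddd2001),(nat_lit 0xede3f001),(nat_lit 0xeddd1001),(nat_lit 0xeddd3001),(nat_lit 0xeddd5001),(nat_lit 0xeddd0001)],[(nat_lit 0xe7113001),(nat_lit 0xe7110001),(nat_lit 0xe7115001),(nat_lit 0xe75b3001),(nat_lit 0xef62e001),(nat_lit 0xe7114001),(nat_lit 0x875d1001)],[(nat_lit 0xd5025001),(nat_lit 0xd3696001),(nat_lit 0x700c5001),(nat_lit 0xd149b001),(nat_lit 0xd2236700c4002),(nat_lit 0xd6925001),(nat_lit 0xebf72001)],[(nat_lit 0xebf21001),(nat_lit 0x5e5b9001),(nat_lit 0xd8038001),(nat_lit 0x5eb27001),(nat_lit 0x5e5b8001),(nat_lit 0xec19e001),(nat_lit 0xe85b1001)],[(nat_lit 0xea1eb001),(nat_lit 0xea1ec001),(nat_lit 0xea1ea001),(nat_lit 0xea1ef001),(nat_lit 0xea1ed001),(nat_lit 0xea1ee001),(nat_lit 0xea1f0001)],[(nat_lit 0xe554d001),(nat_lit 0xe5556001),(nat_lit 0xe5552e5551002),(nat_lit 0xe554c001),(nat_lit 0xe554e001),(nat_lit 0xe554f001),(nat_lit 0xe5550001)],[(nat_lit 0x234dd001),(nat_lit 0x6d902001),(nat_lit 0x234dc001),(nat_lit 0xb23c96cb2c002),(nat_lit 0xb21b86b72f002),(nat_lit 0x234de001),(nat_lit 0x6d905001)],[(nat_lit 0xc5ea082aa6002),(nat_lit 0x82aa7001),(nat_lit 0xd60d7001),(nat_lit 0x83f1c001),(nat_lit 0x83f1f001),(nat_lit 0xc5ef883f25002),(nat_lit 0xde29d001)],[(nat_lit 0x860c3001),(nat_lit 0xb36147cc9d002),(nat_lit 0x7cc9e001),(nat_lit 0xd25a5001),(nat_lit 0x860c1001),(nat_lit 0x7cc9f001),(nat_lit 0xeb4e3001)],[(nat_lit 0x50c6f001),(nat_lit 0xc2a04001),(nat_lit 0x50c6e001),(nat_lit 0x50c71001),(nat_lit 0xdbff0001),(nat_lit 0x50c70001),(nat_lit 0xddda8001)],[(nat_lit 0x79fe0001),(nat_lit 0xbf81d001),(nat_lit 0x7912c001),(nat_lit 0xe29f5001),(nat_lit 0x7912b001),(nat_lit 0x7baf2001),(nat_lit 0xde33d001)],[(nat_lit 0xb79af9288a002),(nat_lit 0xce8d7001),(nat_lit 0xbae059288b002),(nat_lit 0xbec55bbf9a002),(nat_lit 0x92889001),(nat_lit 0x953a9001),(nat_lit 0xbbf55001)],[(nat_lit 0xa8ff086913002),(nat_lit 0xe060187435002),(nat_lit 0xea8c1001),(nat_lit 0x86912001),(nat_lit 0xea721001),(nat_lit 0xc6bfa86914002),(nat_lit 0xc6bf9001)],[(nat_lit 0xeb467001),(nat_lit 0xeb468001),(nat_lit 0xeb466001),(nat_lit 0xeb46b001),(nat_lit 0xeb469001),(nat_lit 0xeb46a001),(nat_lit 0xeb46c001)],[(nat_lit 0xb69e684ca2002),(nat_lit 0xacaaf83a9d002),(nat_lit 0x67f6e001),(nat_lit 0xcf24386050002),(nat_lit 0x67f6f001),(nat_lit 0x67f6d001),(nat_lit 0xca25f001)],[(nat_lit 0xbabe1b4e66002),(nat_lit 0x5435b001),(nat_lit 0xb4e67001),(nat_lit 0xb4e68001),(nat_lit 0x5435c001),(nat_lit 0x5435a001),(nat_lit 0xb6bbf001)],[(nat_lit 0xe9965001),(nat_lit 0xe9964001),(nat_lit 0xe9966001),(nat_lit 0xed29d001),(nat_lit 0xe9a62001),(nat_lit 0xec6e4001),(nat_lit 0xe9967001)],[(nat_lit 0x87e61001),(nat_lit 0x87e62001),(nat_lit 0xae2d987e63002),(nat_lit 0xc11ae001),(nat_lit 0x87e64001),(nat_lit 0x89000001),(nat_lit 0xd662fce1bc002)],[(nat_lit 0xe6394001),(nat_lit 0xe874f001),(nat_lit 0xe9c1e001),(nat_lit 0xe4f6d001),(nat_lit 0xe4f6e001),(nat_lit 0xe4f6f001),(nat_lit 0xe4f70001)],[(nat_lit 0xec500001),(nat_lit 0xebf8f001),(nat_lit 0xe841d001),(nat_lit 0xe841e001),(nat_lit 0xe841f001),(nat_lit 0xecc25001),(nat_lit 0xe8420001)],[(nat_lit 0xcb0e28b95a002),(nat_lit 0xde454001),(nat_lit 0x8b959001),(nat_lit 0xe556c001),(nat_lit 0xe35aa001),(nat_lit 0xea6eb001),(nat_lit 0xeb71a001)],[(nat_lit 0xeb1bd001),(nat_lit 0xeb1be001),(nat_lit 0xeb2bb001),(nat_lit 0xeb1bf001),(nat_lit 0xeb1bc001),(nat_lit 0xeba36001),(nat_lit 0xeb1c0001)],[(nat_lit 0xdb77f001),(nat_lit 0xdb780001),(nat_lit 0xde7e8001),(nat_lit 0xdb781001),(nat_lit 0xdb77a001),(nat_lit 0xe5fc8001),(nat_lit 0x81617001)],[(nat_lit 0x62d63001),(nat_lit 0x62d64001),(nat_lit 0xd17cbb0f37002),(nat_lit 0x62d62001),(nat_lit 0xa3cfb99705002),(nat_lit 0x996f5950d0002),(nat_lit 0xde7e9001)],[(nat_lit 0x83f99001),(nat_lit 0xd214f001),(nat_lit 0xc6c47001),(nat_lit 0xd3554001),(nat_lit 0xc6c48001),(nat_lit 0x83f98001),(nat_lit 0xe6995001)],[(nat_lit 0xe21d2001),(nat_lit 0x8db16001),(nat_lit 0xda076001),(nat_lit 0xd36d98db15002),(nat_lit 0xead26001),(nat_lit 0xe3e95001),(nat_lit 0xda079001)],[(nat_lit 0xe7eb7001),(nat_lit 0xe7eb6001),(nat_lit 0xe7eb8001),(nat_lit 0xe7eb9001),(nat_lit 0xe7ebb001),(nat_lit 0xeac55001),(nat_lit 0xe7eba001)],[(nat_lit 0xe77b9001),(nat_lit 0x6228f5cac0002),(nat_lit 0xaa783001),(nat_lit 0x5cabf001),(nat_lit 0x5cac1001),(nat_lit 0x626da001),(nat_lit 0xd0a4c001)],[(nat_lit 0xe80bd001),(nat_lit 0xe80be001),(nat_lit 0xe80bc001),(nat_lit 0xe80bf001),(nat_lit 0xecf74001),(nat_lit 0xe8106001),(nat_lit 0xe80c0001)],[(nat_lit 0x6de02001),(nat_lit 0xb47156de03002),(nat_lit 0x728c4001),(nat_lit 0xc883a6de04002),(nat_lit 0xb4711b3a9a002),(nat_lit 0x6de05001),(nat_lit 0xde0be001)],[(nat_lit 0x52ae6001),(nat_lit 0x5247f001),(nat_lit 0x52aeb001),(nat_lit 0x52979001),(nat_lit 0x5247e001),(nat_lit 0xc2153001),(nat_lit 0xce1e1001)],[(nat_lit 0xe8d9a001),(nat_lit 0xe4721001),(nat_lit 0xe4722001),(nat_lit 0xe4723001),(nat_lit 0xe4724001),(nat_lit 0xe4725001),(nat_lit 0xe4726001)],[(nat_lit 0xddfe3001),(nat_lit 0xddfe4001),(nat_lit 0xddfe5001),(nat_lit 0xddfe2001),(nat_lit 0xe6420001),(nat_lit 0xddfe6001),(nat_lit 0xddfe7001)],[(nat_lit 0xeaec7001),(nat_lit 0x92a06001),(nat_lit 0x92a07001),(nat_lit 0xeee6f001),(nat_lit 0x92a05001),(nat_lit 0xecf7a001),(nat_lit 0xe619f001)],[(nat_lit 0xec949001),(nat_lit 0xec94a001),(nat_lit 0xec948001),(nat_lit 0xec94b001),(nat_lit 0xec94c001),(nat_lit 0xec94d001),(nat_lit 0xec94e001)],[(nat_lit 0x72b01001),(nat_lit 0xcc4be001),(nat_lit 0xcc4bf72b00002),(nat_lit 0xcc4c0001),(nat_lit 0xcc4c1001),(nat_lit 0xdf334001),(nat_lit 0xcc4c2001)],[(nat_lit 0xea49f001),(nat_lit 0xea156001),(nat_lit 0xea24d001),(nat_lit 0xea154001),(nat_lit 0xea155001),(nat_lit 0xea157001),(nat_lit 0xea153001)],[(nat_lit 0x4128a001),(nat_lit 0x4128b001),(nat_lit 0x8b5e6001),(nat_lit 0x4128c001),(nat_lit 0x8a1cc001),(nat_lit 0x41289001),(nat_lit 0xb6842001)],[(nat_lit 0xea18b001),(nat_lit 0xeace8001),(nat_lit 0xea18a001),(nat_lit 0xea18c001),(nat_lit 0xea18d001),(nat_lit 0xea18e001),(nat_lit 0xea189001)],[(nat_lit 0xe8076001),(nat_lit 0xe8079001),(nat_lit 0xe8078001),(nat_lit 0xeace6001),(nat_lit 0xe8075001),(nat_lit 0xebd0c001),(nat_lit 0xe8077001)],[(nat_lit 0xebd4f001),(nat_lit 0xebd50001),(nat_lit 0xebd51001),(nat_lit 0xebd4e001),(nat_lit 0xebd54001),(nat_lit 0xebd52001),(nat_lit 0xebd53001)],[(nat_lit 0x645fd001),(nat_lit 0xce50f001),(nat_lit 0xe77ca001),(nat_lit 0xb5480645fc002),(nat_lit 0xe41df001),(nat_lit 0xe5dc8001),(nat_lit 0xce511001)],[(nat_lit 0xad596001),(nat_lit 0xb5480645cc002),(nat_lit 0xc3d1c001),(nat_lit 0xc1fec001),(nat_lit 0xabea5645cb002),(nat_lit 0xe1a27001),(nat_lit 0xc3232001)],[(nat_lit 0xc91fb6fd5c002),(nat_lit 0x6fd5d001),(nat_lit 0xee06b001),(nat_lit 0xc91fa6fd5e002),(nat_lit 0xeb375001),(nat_lit 0x70c1d001),(nat_lit 0xd389b001)],[(nat_lit 0xb63c5001),(nat_lit 0x5cd94001),(nat_lit 0xb63c7001),(nat_lit 0x5cd93001),(nat_lit 0xb63c8001),(nat_lit 0x5cd95001),(nat_lit 0xceedd001)],[(nat_lit 0xe21a0001),(nat_lit 0xed1fe001),(nat_lit 0xed193001),(nat_lit 0xed096001),(nat_lit 0xe219e001),(nat_lit 0xe21a1001),(nat_lit 0x725f1001)],[(nat_lit 0xaa278001),(nat_lit 0xa8d4672041002),(nat_lit 0xaa279001),(nat_lit 0xa8d4372040002),(nat_lit 0xaa27b001),(nat_lit 0xaa27c001),(nat_lit 0xdb264001)],[(nat_lit 0xe75c7001),(nat_lit 0xe0154001),(nat_lit 0xe0153001),(nat_lit 0xe0155001),(nat_lit 0xe0156001),(nat_lit 0xe0157001),(nat_lit 0xed7b3001)],[(nat_lit 0xebf1c001),(nat_lit 0xebf1b001),(nat_lit 0xebf1d001),(nat_lit 0xebf6f001),(nat_lit 0xebf1e001),(nat_lit 0xebf1f001),(nat_lit 0xee242001)],[(nat_lit 0xd0534001),(nat_lit 0x62995001),(nat_lit 0xd0535001),(nat_lit 0xdc644001),(nat_lit 0xdb6d1001),(nat_lit 0xb923662994002),(nat_lit 0xd572d001)],[(nat_lit 0xe286f001),(nat_lit 0xe286d001),(nat_lit 0xe3dfd001),(nat_lit 0xe286c001),(nat_lit 0xe286e001),(nat_lit 0xe2870001),(nat_lit 0xe286b001)],[(nat_lit 0x5c32d001),(nat_lit 0xd4f05001),(nat_lit 0x5c32c001),(nat_lit 0x5ca79001),(nat_lit 0xecefc001),(nat_lit 0x5cc44001),(nat_lit 0xc9393001)],[(nat_lit 0xe91c3001),(nat_lit 0x8dbd2001),(nat_lit 0xecfdc001),(nat_lit 0xa48508dbd1002),(nat_lit 0xe0dca001),(nat_lit 0xe76a7001),(nat_lit 0xd389a001)],[(nat_lit 0xe7c26001),(nat_lit 0xe7c25001),(nat_lit 0xe7c29001),(nat_lit 0xe7d8f001),(nat_lit 0xe7c27001),(nat_lit 0xe7c28001),(nat_lit 0xe7c2a001)],[(nat_lit 0x73af0001),(nat_lit 0xe7c6f001),(nat_lit 0xbcf81001),(nat_lit 0x73aef001),(nat_lit 0xbcf82001),(nat_lit 0xe126c001),(nat_lit 0xe11c6001)],[(nat_lit 0x72ef7001),(nat_lit 0x72604001),(nat_lit 0xddb35001),(nat_lit 0x72603001),(nat_lit 0x72d0c001),(nat_lit 0x72efa001),(nat_lit 0xea2a2001)],[(nat_lit 0xed9dd001),(nat_lit 0xedb8b001),(nat_lit 0xed9e0001),(nat_lit 0xed9de001),(nat_lit 0xed9df001),(nat_lit 0xeecc8001),(nat_lit 0xed9dc001)],[(nat_lit 0xee978001),(nat_lit 0xee24a001),(nat_lit 0xee249001),(nat_lit 0xee269001),(nat_lit 0xee24b001),(nat_lit 0xee94d001),(nat_lit 0xee24c001)],[(nat_lit 0xceecc001),(nat_lit 0xcc6576fe89002),(nat_lit 0xe4fdc001),(nat_lit 0xcc6546fe88002),(nat_lit 0xcc675001),(nat_lit 0xcc676001),(nat_lit 0xe90d1001)],[(nat_lit 0xe76fa001),(nat_lit 0xc5223001),(nat_lit 0x691ba001),(nat_lit 0xdcbc2001),(nat_lit 0xdc301001),(nat_lit 0x691b9001),(nat_lit 0xede02001)],[(nat_lit 0xa79d8001),(nat_lit 0xa60467209d002),(nat_lit 0x84167001),(nat_lit 0xa79d97209c002),(nat_lit 0xa604382f6b002),(nat_lit 0xa79da001),(nat_lit 0xc9e30001)],[(nat_lit 0xea9d5001),(nat_lit 0x72e7f001),(nat_lit 0xe87e8001),(nat_lit 0x72e7e001),(nat_lit 0x72e81001),(nat_lit 0x72e80001),(nat_lit 0xe85b7001)],[(nat_lit 0xe92bb001),(nat_lit 0xe968a001),(nat_lit 0xe92ba001),(nat_lit 0xeb237001),(nat_lit 0xeb403001),(nat_lit 0xebf71001),(nat_lit 0xe92b9001)],[(nat_lit 0xdcd61001),(nat_lit 0xe2f02dcd62002),(nat_lit 0xef05edcd63002),(nat_lit 0xe4fe0001),(nat_lit 0xdcd60001),(nat_lit 0xdcd64001),(nat_lit 0xe4fe2001)],[(nat_lit 0xed913001),(nat_lit 0xed914001),(nat_lit 0xed917001),(nat_lit 0xed912001),(nat_lit 0xed915001),(nat_lit 0xed916001),(nat_lit 0xed918001)],[(nat_lit 0xeb2bf001),(nat_lit 0xeb2c0001),(nat_lit 0xecc61eb2be002),(nat_lit 0xeb2c2001),(nat_lit 0xecd90001),(nat_lit 0xeb2c1001),(nat_lit 0xeb2c3001)],[(nat_lit 0xd5658001),(nat_lit 0xc88bb6ef5b002),(nat_lit 0xc81d9001),(nat_lit 0x6ef5a001),(nat_lit 0xcc672c81da002),(nat_lit 0xc81db001),(nat_lit 0xee1c7001)],[(nat_lit 0x49a7e001),(nat_lit 0xa7b00001),(nat_lit 0xa7b01001),(nat_lit 0x7e9ed49a7d002),(nat_lit 0xa535f001),(nat_lit 0xa7b02001),(nat_lit 0xceee8001)],[(nat_lit 0x83df5001),(nat_lit 0xd6c37001),(nat_lit 0xe3def001),(nat_lit 0x83df4001),(nat_lit 0x83df6001),(nat_lit 0xd584d001),(nat_lit 0xe11e2001)],[(nat_lit 0xecd71001),(nat_lit 0xecd72001),(nat_lit 0xecd70001),(nat_lit 0xed732001),(nat_lit 0xecd73001),(nat_lit 0xecd74001),(nat_lit 0xecd75001)],[(nat_lit 0xeba28001),(nat_lit 0xe9756001),(nat_lit 0xe936d001),(nat_lit 0xebc4a001),(nat_lit 0xe936c001),(nat_lit 0xe936e001),(nat_lit 0xe936f001)],[(nat_lit 0x73123001),(nat_lit 0x738bd001),(nat_lit 0x7326e001),(nat_lit 0x73538001),(nat_lit 0x73122001),(nat_lit 0xee961001),(nat_lit 0xe8d03001)],[(nat_lit 0xb0e25738bf002),(nat_lit 0xbca11001),(nat_lit 0x73128001),(nat_lit 0xb0df17347a002),(nat_lit 0xbca12738c7002),(nat_lit 0x738c9001),(nat_lit 0xb82fd001)],[(nat_lit 0xeadba001),(nat_lit 0xeadbb001),(nat_lit 0xeadb9001),(nat_lit 0xeadbc001),(nat_lit 0xeb69c001),(nat_lit 0xeadbd001),(nat_lit 0xeadbe001)],[(nat_lit 0x504f6001),(nat_lit 0xcdce7cdce8002),(nat_lit 0xcdce9001),(nat_lit 0xe0514001),(nat_lit 0x504f5001),(nat_lit 0xcdcea001),(nat_lit 0xd3c7a001)],[(nat_lit 0xb487d504f8002),(nat_lit 0x50db1001),(nat_lit 0xb48d1001),(nat_lit 0x504f9001),(nat_lit 0xb48d3001),(nat_lit 0x504f7001),(nat_lit 0xe85b1001)],[(nat_lit 0xcdcd166c0d002),(nat_lit 0x2f8d4001),(nat_lit 0xcdcdc865f3002),(nat_lit 0x2f8d3001),(nat_lit 0x2f8d5001),(nat_lit 0xcdcce8a43a002),(nat_lit 0xe8eae8ab31002)],[(nat_lit 0xeb415001),(nat_lit 0xeb33a001),(nat_lit 0xeb33c001),(nat_lit 0xeb339001),(nat_lit 0xeb414001),(nat_lit 0xeee3f001),(nat_lit 0xeb33b001)],[(nat_lit 0xee926001),(nat_lit 0xed7f2001),(nat_lit 0xed7f5001),(nat_lit 0xed7f1001),(nat_lit 0xee6a3001),(nat_lit 0xed7f3001),(nat_lit 0xed7f4001)],[(nat_lit 0xce74b001),(nat_lit 0xe146f001),(nat_lit 0xce74c001),(nat_lit 0xce74d001),(nat_lit 0xd5043001),(nat_lit 0xd8a2c001),(nat_lit 0x73cfc001)],[(nat_lit 0xbe29c001),(nat_lit 0xbba8e7b4d9002),(nat_lit 0xbba8d001),(nat_lit 0xe2ee3001),(nat_lit 0xbe29a001),(nat_lit 0x7b4d8001),(nat_lit 0xc10c6001)],[(nat_lit 0x81907001),(nat_lit 0xeefd8001),(nat_lit 0x80a7b001),(nat_lit 0x80a7c001),(nat_lit 0xee212001),(nat_lit 0x819f8001),(nat_lit 0xd1047001)],[(nat_lit 0xe6a16001),(nat_lit 0xe175d001),(nat_lit 0xe31d2001),(nat_lit 0xe8d2d001),(nat_lit 0xef5a2001),(nat_lit 0xe2f20001),(nat_lit 0x88cc4001)],[(nat_lit 0xee29d001),(nat_lit 0xef5a4001),(nat_lit 0xee29c001),(nat_lit 0xee29e001),(nat_lit 0xee29f001),(nat_lit 0xee667001),(nat_lit 0xee2a0001)],[(nat_lit 0xb32e5001),(nat_lit 0xb32e6001),(nat_lit 0xb32cb3eae0002),(nat_lit 0xb32e7001),(nat_lit 0xb32ca3eadf002),(nat_lit 0xb52ccb32e8002),(nat_lit 0xed4b2001)],[(nat_lit 0x6ec46001),(nat_lit 0x6ec47001),(nat_lit 0x6fb08001),(nat_lit 0xc975ab5f6f002),(nat_lit 0xb5f70001),(nat_lit 0xae353915e2002),(nat_lit 0xdd4b0001)],[(nat_lit 0xdf1ce001),(nat_lit 0xe10e7001),(nat_lit 0xdf9be001),(nat_lit 0xdf1cf001),(nat_lit 0xdf1d1001),(nat_lit 0xdf1d0001),(nat_lit 0xdf1cd001)],[(nat_lit 0xe3548001),(nat_lit 0xdea30001),(nat_lit 0xdea2e001),(nat_lit 0xdea2f001),(nat_lit 0xe1d1b001),(nat_lit 0xe10ea001),(nat_lit 0xdea31001)],[(nat_lit 0xb06d7001),(nat_lit 0x3a678001),(nat_lit 0x3ac6d001),(nat_lit 0xb06d9001),(nat_lit 0xb06da001),(nat_lit 0x3a677001),(nat_lit 0xd4916001)],[(nat_lit 0xe067f001),(nat_lit 0xe1c33e0680002),(nat_lit 0xe0682001),(nat_lit 0xe067e001),(nat_lit 0xe0684001),(nat_lit 0xe0681001),(nat_lit 0xe338c001)],[(nat_lit 0xe7278001),(nat_lit 0xecfad001),(nat_lit 0xec92d001),(nat_lit 0xe7277001),(nat_lit 0xe7279001),(nat_lit 0xee8e3001),(nat_lit 0xe7276001)],[(nat_lit 0xee293001),(nat_lit 0xed9ee001),(nat_lit 0xed93c001),(nat_lit 0xed9a9001),(nat_lit 0xea64a001),(nat_lit 0xedcdf001),(nat_lit 0xea64b001)],[(nat_lit 0xe7d77001),(nat_lit 0xe7d78001),(nat_lit 0xe7d76001),(nat_lit 0xe7d7a001),(nat_lit 0xe7d79001),(nat_lit 0xec029001),(nat_lit 0xe7d7b001)],[(nat_lit 0xd7248001),(nat_lit 0xd2c127f38f002),(nat_lit 0xdcf6d001),(nat_lit 0xd6cf9001),(nat_lit 0x7f38e001),(nat_lit 0xed9fe001),(nat_lit 0xd709f001)],[(nat_lit 0xd64c2001),(nat_lit 0x6f285001),(nat_lit 0xdaa6a001),(nat_lit 0x6f284001),(nat_lit 0xcfbbe001),(nat_lit 0xe43f3001),(nat_lit 0xd0993001)],[(nat_lit 0x840e8001),(nat_lit 0xe5556001),(nat_lit 0xc5eb9840e7002),(nat_lit 0xe7fa6001),(nat_lit 0xd4dbc001),(nat_lit 0x840e9001),(nat_lit 0xe70cd001)],[(nat_lit 0xeb870001),(nat_lit 0xe8394001),(nat_lit 0x6483e001),(nat_lit 0xe56e9001),(nat_lit 0xe16036483d002),(nat_lit 0xe7892001),(nat_lit 0xe56eb001)],[(nat_lit 0x74bc8001),(nat_lit 0x7408b001),(nat_lit 0x74bca001),(nat_lit 0x74bcd001),(nat_lit 0x748ac001),(nat_lit 0x7408a001),(nat_lit 0xd7b6a001)],[(nat_lit 0xe8c4b001),(nat_lit 0xe9999001),(nat_lit 0xe8c4c001),(nat_lit 0xe8c4a001),(nat_lit 0xe8ec4001),(nat_lit 0xe8c4d001),(nat_lit 0xe9028001)],[(nat_lit 0xdd446001),(nat_lit 0x8cb00001),(nat_lit 0xca0e78cb01002),(nat_lit 0xd5d08001),(nat_lit 0x8cb02001),(nat_lit 0xe6323001),(nat_lit 0xe4e4f001)],[(nat_lit 0xe44e3001),(nat_lit 0xe6f43001),(nat_lit 0xe44e2001),(nat_lit 0xe7a06001),(nat_lit 0xe44e4001),(nat_lit 0xe44e5001),(nat_lit 0xe44e6001)],[(nat_lit 0x6153d001),(nat_lit 0x6153e001),(nat_lit 0x6153f001),(nat_lit 0x99736001),(nat_lit 0xa7b7361540002),(nat_lit 0x62899001),(nat_lit 0xdc9db001)],[(nat_lit 0x6117a001),(nat_lit 0x6117b001),(nat_lit 0x61231001),(nat_lit 0x6117c001),(nat_lit 0x61290001),(nat_lit 0xcc918619bb002),(nat_lit 0xcc972001)],[(nat_lit 0x6186b001),(nat_lit 0xb78a4001),(nat_lit 0xeb135001),(nat_lit 0xbc4376186a002),(nat_lit 0x6186c001),(nat_lit 0xce8f2001),(nat_lit 0xe1638001)],[(nat_lit 0xef402001),(nat_lit 0xed33c001),(nat_lit 0xe83be001),(nat_lit 0xe83bf001),(nat_lit 0xed4a6001),(nat_lit 0xeec3b001),(nat_lit 0xee491001)],[(nat_lit 0xef41b001),(nat_lit 0xef41c001),(nat_lit 0xef41a001),(nat_lit 0xef41d001),(nat_lit 0xef41e001),(nat_lit 0xef41f001),(nat_lit 0xef420001)],[(nat_lit 0xeb633001),(nat_lit 0xe9350001),(nat_lit 0xe9351001),(nat_lit 0xe934f001),(nat_lit 0xedb15001),(nat_lit 0xe9352001),(nat_lit 0xe9353001)],[(nat_lit 0x63e36001),(nat_lit 0x25f88001),(nat_lit 0x25f89001),(nat_lit 0x73dc3001),(nat_lit 0x25f8a001),(nat_lit 0x25f8b001),(nat_lit 0x74f99001)],[(nat_lit 0xe6a1b001),(nat_lit 0xe6a1d001),(nat_lit 0xe6a1a001),(nat_lit 0xe6b46001),(nat_lit 0xe6a1c001),(nat_lit 0xe6a1e001),(nat_lit 0xe6a19001)],[(nat_lit 0xedfbc001),(nat_lit 0xedfbb001),(nat_lit 0xee03d001),(nat_lit 0xedfbd001),(nat_lit 0xedfbe001),(nat_lit 0xedfbf001),(nat_lit 0xedfc0001)],[(nat_lit 0xe7063001),(nat_lit 0xe7064001),(nat_lit 0xe7062001),(nat_lit 0xe7067001),(nat_lit 0xe7065001),(nat_lit 0xe7066001),(nat_lit 0xef16b001)],[(nat_lit 0x6ed58001),(nat_lit 0xbbe83001),(nat_lit 0xe8409001),(nat_lit 0x6ed57001),(nat_lit 0x6ed59001),(nat_lit 0xd183c001),(nat_lit 0xe71ee001)],[(nat_lit 0xea568001),(nat_lit 0x61872001),(nat_lit 0xe1e9d001),(nat_lit 0x61871001),(nat_lit 0x61873001),(nat_lit 0xe60bf001),(nat_lit 0xea898001)],[(nat_lit 0xea307001),(nat_lit 0xea304001),(nat_lit 0xeb9d1001),(nat_lit 0xea303001),(nat_lit 0xea305001),(nat_lit 0xec329001),(nat_lit 0xea306001)],[(nat_lit 0xeb9b2001),(nat_lit 0xeaf25001),(nat_lit 0xeb041001),(nat_lit 0xeaf24001),(nat_lit 0xeaf26001),(nat_lit 0xeaf27001),(nat_lit 0xeaf28001)],[(nat_lit 0xeec1c001),(nat_lit 0xe5e81001),(nat_lit 0xe5e80001),(nat_lit 0xe5e83001),(nat_lit 0xe5e82001),(nat_lit 0xecc2a001),(nat_lit 0xe5e8b001)],[(nat_lit 0xe9fb8001),(nat_lit 0xe9fb9001),(nat_lit 0xe9fb7001),(nat_lit 0xe9fba001),(nat_lit 0xecc29001),(nat_lit 0xe9fbd001),(nat_lit 0xe9fbc001)],[(nat_lit 0xeb870001),(nat_lit 0xeb873001),(nat_lit 0xeb872001),(nat_lit 0xeb871001),(nat_lit 0xeb874001),(nat_lit 0xecff0001),(nat_lit 0xeb86f001)],[(nat_lit 0x9838f001),(nat_lit 0xd671d001),(nat_lit 0xd787598390002),(nat_lit 0xd9a17001),(nat_lit 0xc43429838e002),(nat_lit 0xe1a08001),(nat_lit 0xe6e2a001)],[(nat_lit 0xeb2ad001),(nat_lit 0xeaf79001),(nat_lit 0xeaf78001),(nat_lit 0xeaf7c001),(nat_lit 0xeaf7a001),(nat_lit 0xeaf7b001),(nat_lit 0xeaf7d001)],[(nat_lit 0x64bc3001),(nat_lit 0x63d2d001),(nat_lit 0x62f34001),(nat_lit 0xc2ff0001),(nat_lit 0x62f33001),(nat_lit 0xe4d05001),(nat_lit 0xe4d06001)],[(nat_lit 0xedae7001),(nat_lit 0xe3841001),(nat_lit 0xe3845001),(nat_lit 0xe3840001),(nat_lit 0xe3842001),(nat_lit 0xe3843001),(nat_lit 0xe3844001)],[(nat_lit 0xe2738001),(nat_lit 0xee3a4001),(nat_lit 0xde58f6ee3d002),(nat_lit 0xe33c1e2711002),(nat_lit 0xde597001),(nat_lit 0x6ee3c001),(nat_lit 0xe1027001)],[(nat_lit 0x81292001),(nat_lit 0x822a8001),(nat_lit 0x822ac001),(nat_lit 0x81293001),(nat_lit 0x82cc4001),(nat_lit 0x81291001),(nat_lit 0xe8693001)],[(nat_lit 0xe334c001),(nat_lit 0xe334d001),(nat_lit 0xe334b001),(nat_lit 0xec7f9001),(nat_lit 0xe334e001),(nat_lit 0xe334f001),(nat_lit 0xe3350001)],[(nat_lit 0xe8a06001),(nat_lit 0xde81c001),(nat_lit 0xdf36f001),(nat_lit 0xde81a001),(nat_lit 0xe5ce7001),(nat_lit 0xdf3eb001),(nat_lit 0xde81b001)],[(nat_lit 0xebd56001),(nat_lit 0x820ee001),(nat_lit 0xdfaad001),(nat_lit 0x820ed001),(nat_lit 0xe0fd2001),(nat_lit 0xd5fc283027002),(nat_lit 0xe0513001)],[(nat_lit 0xe8216001),(nat_lit 0xe4c08001),(nat_lit 0xe4c07001),(nat_lit 0xed455001),(nat_lit 0xe4f71001),(nat_lit 0xe4cd7001),(nat_lit 0xe4c09001)],[(nat_lit 0xe471a001),(nat_lit 0xe4715001),(nat_lit 0xe4716001),(nat_lit 0xe4714001),(nat_lit 0xe4717001),(nat_lit 0xe4718001),(nat_lit 0xe4719001)],[(nat_lit 0xe8e5c001),(nat_lit 0xe8e5d001),(nat_lit 0xe8e5b001),(nat_lit 0xe8e5e001),(nat_lit 0xe9511001),(nat_lit 0xee032001),(nat_lit 0xe8e62001)],[(nat_lit 0x89323001),(nat_lit 0xd78a0001),(nat_lit 0x88774001),(nat_lit 0xd591e001),(nat_lit 0xdbbc589330002),(nat_lit 0x89332001),(nat_lit 0xdfd95001)],[(nat_lit 0xee254001),(nat_lit 0xed571001),(nat_lit 0xed570001),(nat_lit 0xee5e4001),(nat_lit 0xed572001),(nat_lit 0xeeb19001),(nat_lit 0xed783001)],[(nat_lit 0xee4d1001),(nat_lit 0xee4d2001),(nat_lit 0xee53b001),(nat_lit 0xee4d3001),(nat_lit 0xee4d0001),(nat_lit 0xee4d4001),(nat_lit 0xee4d5001)],[(nat_lit 0x67ddb001),(nat_lit 0xd1faa001),(nat_lit 0x67672001),(nat_lit 0xdc036001),(nat_lit 0x67de6001),(nat_lit 0x67de8001),(nat_lit 0xd6056001)],[(nat_lit 0xe46b1001),(nat_lit 0xecd09001),(nat_lit 0xe46b3001),(nat_lit 0xe46b0001),(nat_lit 0xe4b3a001),(nat_lit 0xe46b2001),(nat_lit 0xe4ce4001)],[(nat_lit 0xe88ab001),(nat_lit 0xe88ac001),(nat_lit 0xe88ad001),(nat_lit 0xe8a08001),(nat_lit 0xe88aa001),(nat_lit 0xe88ae001),(nat_lit 0xe88af001)],[(nat_lit 0xee3f8001),(nat_lit 0xed345001),(nat_lit 0xed381001),(nat_lit 0xed344001),(nat_lit 0xee9c7001),(nat_lit 0xed634001),(nat_lit 0xed346001)],[(nat_lit 0xee8e1001),(nat_lit 0xe7a1c001),(nat_lit 0xe964c001),(nat_lit 0xe7a1b001),(nat_lit 0xe7a1d001),(nat_lit 0xe7a1e001),(nat_lit 0xe7a1f001)],[(nat_lit 0xed726001),(nat_lit 0xedf78001),(nat_lit 0xed727001),(nat_lit 0xed725001),(nat_lit 0xed72a001),(nat_lit 0xed728001),(nat_lit 0xed729001)],[(nat_lit 0xeaed8001),(nat_lit 0xeaed9001),(nat_lit 0xeaedd001),(nat_lit 0xeaed7001),(nat_lit 0xeaeda001),(nat_lit 0xeaedb001),(nat_lit 0xeaedc001)],[(nat_lit 0xe198d001),(nat_lit 0xdfa37001),(nat_lit 0xdfa36001),(nat_lit 0xdfa38001),(nat_lit 0xe02b9001),(nat_lit 0xe6dbb001),(nat_lit 0xdfa3b001)],[(nat_lit 0xd5fb0d5a17002),(nat_lit 0xebaa8001),(nat_lit 0xd5fbb001),(nat_lit 0xd5fbc001),(nat_lit 0xd5fbd001),(nat_lit 0xd5a18001),(nat_lit 0x6b2f4001)],[(nat_lit 0xc7d74001),(nat_lit 0xc7d76001),(nat_lit 0xc7d5043645002),(nat_lit 0xc7d77001),(nat_lit 0xc7d78001),(nat_lit 0x43644001),(nat_lit 0xce253001)],[(nat_lit 0x8b822001),(nat_lit 0x8ab70001),(nat_lit 0xe17d68b824002),(nat_lit 0xb542e8b827002),(nat_lit 0x8b3d4001),(nat_lit 0x8ab6f001),(nat_lit 0xc14e2001)],[(nat_lit 0xdcfcb001),(nat_lit 0xdcfca001),(nat_lit 0xe615a001),(nat_lit 0xe6812001),(nat_lit 0xdcfcc001),(nat_lit 0xdcfcd001),(nat_lit 0xe635d001)],[(nat_lit 0xe6359001),(nat_lit 0xd8993001),(nat_lit 0xd8994001),(nat_lit 0xdcfd7001),(nat_lit 0xd8992001),(nat_lit 0xe447f001),(nat_lit 0xed8e6001)],[(nat_lit 0x7c058001),(nat_lit 0xde3d3001),(nat_lit 0x7c057001),(nat_lit 0xe63cb001),(nat_lit 0xcdcb5b52d3002),(nat_lit 0x7c059001),(nat_lit 0xe2ca0001)],[(nat_lit 0xcded2001),(nat_lit 0x800b1001),(nat_lit 0xcd534001),(nat_lit 0xcddb3001),(nat_lit 0xc4e89800b0002),(nat_lit 0xcd4fe001),(nat_lit 0xced45001)],[(nat_lit 0xe9a32001),(nat_lit 0xe9a33001),(nat_lit 0xe9a34001),(nat_lit 0xe9a31001),(nat_lit 0xe9a39001),(nat_lit 0xe9a35001),(nat_lit 0xe9a36001)],[(nat_lit 0x85138001),(nat_lit 0xdb034001),(nat_lit 0xd7af0001),(nat_lit 0xaacff001),(nat_lit 0x85137001),(nat_lit 0xd9032001),(nat_lit 0xe90d2001)],[(nat_lit 0x67f6b001),(nat_lit 0x83a93001),(nat_lit 0xb69e684ca1002),(nat_lit 0x84ca5001),(nat_lit 0x67f6c001),(nat_lit 0x67f6a001),(nat_lit 0xded36001)],[(nat_lit 0xee7f7001),(nat_lit 0xee7f8001),(nat_lit 0xee7f9001),(nat_lit 0xee7f6001),(nat_lit 0xee7fa001),(nat_lit 0xee7fb001),(nat_lit 0xee7fc001)],[(nat_lit 0xee8da001),(nat_lit 0xee8db001),(nat_lit 0xee8d9001),(nat_lit 0xee8dc001),(nat_lit 0xee8dd001),(nat_lit 0xee8de001),(nat_lit 0xee8df001)],[(nat_lit 0xe28a3001),(nat_lit 0xe3103001),(nat_lit 0xe28a2001),(nat_lit 0xe28a4001),(nat_lit 0xe28a5001),(nat_lit 0xe28a7001),(nat_lit 0xe28a6001)],[(nat_lit 0xee340001),(nat_lit 0xea4be001),(nat_lit 0xea639001),(nat_lit 0xea4bd001),(nat_lit 0xea4bf001),(nat_lit 0xea4c0001),(nat_lit 0xea4bc001)],[(nat_lit 0xe66a6001),(nat_lit 0xe66a7001),(nat_lit 0xe66a5001),(nat_lit 0xe685d001),(nat_lit 0xe66a8001),(nat_lit 0xe66a9001),(nat_lit 0xe66aa001)],[(nat_lit 0x7b5e0001),(nat_lit 0x4929a001),(nat_lit 0x489ea001),(nat_lit 0x489eb001),(nat_lit 0x4929d001),(nat_lit 0x489e9001),(nat_lit 0xcd539001)],[(nat_lit 0xeae41001),(nat_lit 0xeb1ba001),(nat_lit 0xeacb5001),(nat_lit 0xeab33001),(nat_lit 0xed2c6001),(nat_lit 0xeab34001),(nat_lit 0xeab32001)],[(nat_lit 0xc7c37001),(nat_lit 0x43d22001),(nat_lit 0xc2b3e001),(nat_lit 0xc2b3f001),(nat_lit 0x43d21001),(nat_lit 0x43d23001),(nat_lit 0xc2b40001)],[(nat_lit 0xed8f6001),(nat_lit 0xed6ac001),(nat_lit 0xed6ad001),(nat_lit 0xeed44001),(nat_lit 0xed6ae001),(nat_lit 0xee4f5001),(nat_lit 0xed6af001)],[(nat_lit 0xd6786001),(nat_lit 0xed676001),(nat_lit 0xe930b001),(nat_lit 0xdf6e7d69ca002),(nat_lit 0xed5cf001),(nat_lit 0xe51bad69cd002),(nat_lit 0x65ae2001)],[(nat_lit 0xbfd7e956ab002),(nat_lit 0xebced001),(nat_lit 0x93ab4001),(nat_lit 0xe92d3001),(nat_lit 0x93ab3001),(nat_lit 0xebc37001),(nat_lit 0xea328001)],[(nat_lit 0xe8d6d001),(nat_lit 0xe749b001),(nat_lit 0xe9b58001),(nat_lit 0xe749a001),(nat_lit 0xe749c001),(nat_lit 0xe749d001),(nat_lit 0xe749e001)],[(nat_lit 0xe9b5e001),(nat_lit 0xe96de001),(nat_lit 0xe4ce7001),(nat_lit 0xe4ce5001),(nat_lit 0xe4ce6001),(nat_lit 0xecaf6001),(nat_lit 0xe4ce8001)],[(nat_lit 0xe72b6001),(nat_lit 0xe4c79001),(nat_lit 0xe4ff1001),(nat_lit 0xe4c77001),(nat_lit 0xe686d001),(nat_lit 0xe4c7a001),(nat_lit 0xe4c76001)],[(nat_lit 0xec440001),(nat_lit 0xec443001),(nat_lit 0xec43f001),(nat_lit 0xec442001),(nat_lit 0xec441001),(nat_lit 0xeded8001),(nat_lit 0xec444001)],[(nat_lit 0xea9d5001),(nat_lit 0xea9d7001),(nat_lit 0xea9d4001),(nat_lit 0xea9d6001),(nat_lit 0xea9d8001),(nat_lit 0xea9d9001),(nat_lit 0xea9d3001)],[(nat_lit 0xec978001),(nat_lit 0xe6913001),(nat_lit 0xe6914001),(nat_lit 0xe8ba0001),(nat_lit 0xe6915001),(nat_lit 0xe6916001),(nat_lit 0xe8957001)],[(nat_lit 0x3ccbf001),(nat_lit 0x3ccc0001),(nat_lit 0x98400001),(nat_lit 0x9637f001),(nat_lit 0x3ccbe001),(nat_lit 0x3ccc1001),(nat_lit 0xcd197001)],[(nat_lit 0xe7278001),(nat_lit 0x85523001),(nat_lit 0xeea9b001),(nat_lit 0xd08e385522002),(nat_lit 0xe19a9001),(nat_lit 0xe7a1e001),(nat_lit 0xe7fb8001)],[(nat_lit 0xd8a10001),(nat_lit 0xe7584001),(nat_lit 0xea0e0001),(nat_lit 0xd8a0f001),(nat_lit 0xd8a11001),(nat_lit 0xea0df001),(nat_lit 0xe71c0001)],[(nat_lit 0xe371b001),(nat_lit 0xe3716001),(nat_lit 0xe3717001),(nat_lit 0xe3715001),(nat_lit 0xe3718001),(nat_lit 0xe3719001),(nat_lit 0xe371a001)],[(nat_lit 0xebd93001),(nat_lit 0xebd94001),(nat_lit 0xebe41001),(nat_lit 0xebd92001),(nat_lit 0xecc9d001),(nat_lit 0xebd95001),(nat_lit 0xebeba001)],[(nat_lit 0x83136001),(nat_lit 0xe358c001),(nat_lit 0xcffd383135002),(nat_lit 0xe28b6001),(nat_lit 0xd83c5001),(nat_lit 0xd2fe1001),(nat_lit 0xced87001)],[(nat_lit 0xee4ef001),(nat_lit 0xee4ea001),(nat_lit 0xee4eb001),(nat_lit 0xee525001),(nat_lit 0xee4ec001),(nat_lit 0xee4ed001),(nat_lit 0xee4ee001)],[(nat_lit 0xe0515001),(nat_lit 0xe0516001),(nat_lit 0xe0a3f001),(nat_lit 0xe0514001),(nat_lit 0xe0517001),(nat_lit 0xe0518001),(nat_lit 0xe0513001)],[(nat_lit 0x759ee001),(nat_lit 0x5969d001),(nat_lit 0xa8c015969e002),(nat_lit 0xdc3e5001),(nat_lit 0xbbd975969f002),(nat_lit 0x6bcd5001),(nat_lit 0xdc3ea001)],[(nat_lit 0xaba1c001),(nat_lit 0x7685d001),(nat_lit 0xc1212aba1e002),(nat_lit 0xaba1f001),(nat_lit 0x7685c001),(nat_lit 0xa9fbb7685e002),(nat_lit 0xee64d001)],[(nat_lit 0xe4fb4001),(nat_lit 0xe4fb6001),(nat_lit 0xe4fb3001),(nat_lit 0xe4fb5001),(nat_lit 0xe4fb7001),(nat_lit 0xe6fa7001),(nat_lit 0xe4fb2001)],[(nat_lit 0xe01ac001),(nat_lit 0xe2542001),(nat_lit 0xe01ad001),(nat_lit 0xe01ab001),(nat_lit 0xeedbc001),(nat_lit 0xea3a7001),(nat_lit 0xe01ae001)],[(nat_lit 0xe13bc001),(nat_lit 0x98432001),(nat_lit 0xd8a4598433002),(nat_lit 0xd8a3e001),(nat_lit 0x98434001),(nat_lit 0xd89f9001),(nat_lit 0xda6b8001)],[(nat_lit 0xeeef2001),(nat_lit 0xe8fa5001),(nat_lit 0xe8fa6001),(nat_lit 0xe8fa4001),(nat_lit 0xef017001),(nat_lit 0xe8fa7001),(nat_lit 0xe8fa3001)],[(nat_lit 0xee649001),(nat_lit 0xed6b8001),(nat_lit 0xef0d8001),(nat_lit 0xed6b7001),(nat_lit 0xed6b9001),(nat_lit 0xee46d001),(nat_lit 0xed6b6001)],[(nat_lit 0xeca25001),(nat_lit 0xeca26001),(nat_lit 0xeca27001),(nat_lit 0xeca24001),(nat_lit 0xef0d9001),(nat_lit 0xeca28001),(nat_lit 0xeca29001)],[(nat_lit 0xe7ad1001),(nat_lit 0xe5304001),(nat_lit 0xed0b8001),(nat_lit 0xe7ac895c20002),(nat_lit 0xe5303001),(nat_lit 0x95c1f001),(nat_lit 0xe9cdf001)],[(nat_lit 0xe52fa001),(nat_lit 0xe7ac895c1a002),(nat_lit 0xe52fb001),(nat_lit 0xe52fc001),(nat_lit 0xe52fd001),(nat_lit 0x95c19001),(nat_lit 0xe52fe001)],[(nat_lit 0xee035001),(nat_lit 0xee039001),(nat_lit 0xee034001),(nat_lit 0xee0e1001),(nat_lit 0xee036001),(nat_lit 0xee037001),(nat_lit 0xee038001)],[(nat_lit 0xe928a001),(nat_lit 0xeeeb1001),(nat_lit 0xe9289001),(nat_lit 0xe939f001),(nat_lit 0xe928b001),(nat_lit 0xed813001),(nat_lit 0xe928c001)],[(nat_lit 0xe2f90001),(nat_lit 0xe262f001),(nat_lit 0xe262c001),(nat_lit 0xe262b001),(nat_lit 0xe9eea001),(nat_lit 0xe262d001),(nat_lit 0xe262e001)],[(nat_lit 0xeb4a9001),(nat_lit 0xe2efe001),(nat_lit 0xe2efd001),(nat_lit 0xe6af8001),(nat_lit 0xe2eff001),(nat_lit 0xe2f00001),(nat_lit 0xe2f01001)],[(nat_lit 0xeea5e001),(nat_lit 0xeea5d001),(nat_lit 0xeea5f001),(nat_lit 0xeeab4001),(nat_lit 0xeea60001),(nat_lit 0xeeb85001),(nat_lit 0xeea61001)],[(nat_lit 0xd7937001),(nat_lit 0xd7938001),(nat_lit 0xd79186482c002),(nat_lit 0xd7939001),(nat_lit 0x6482b001),(nat_lit 0xd793a001),(nat_lit 0xd793b001)],[(nat_lit 0x2f5f7001),(nat_lit 0x2ee3f001),(nat_lit 0x89b50001),(nat_lit 0x2ee3e001),(nat_lit 0x2fd2f001),(nat_lit 0x2f5cc001),(nat_lit 0xb197789b51002)],[(nat_lit 0xb684d8d2aa002),(nat_lit 0x8d2ab001),(nat_lit 0xb68838d2ac002),(nat_lit 0xb684f8d2ad002),(nat_lit 0xb87d28d2ae002),(nat_lit 0xb686d8d2af002),(nat_lit 0x304df001)],[(nat_lit 0xef0b4001),(nat_lit 0xef0b5001),(nat_lit 0xef3f5001),(nat_lit 0xef0b6001),(nat_lit 0xef0b3001),(nat_lit 0xef3ed001),(nat_lit 0xef0b7001)],[(nat_lit 0x7c976001),(nat_lit 0x9e5cd7c977002),(nat_lit 0x7c978001),(nat_lit 0xde81e001),(nat_lit 0x7d307001),(nat_lit 0x7d30c001),(nat_lit 0xe27ad001)],[(nat_lit 0xbb2288916c002),(nat_lit 0xeba01001),(nat_lit 0xbb2228916d002),(nat_lit 0xc886f89df1002),(nat_lit 0xee86b001),(nat_lit 0xbb24b8916b002),(nat_lit 0xe3053001)],[(nat_lit 0xb21ec85d4d002),(nat_lit 0x2daa7001),(nat_lit 0x2daa8001),(nat_lit 0xb2166668cf002),(nat_lit 0x2e28c001),(nat_lit 0x2daa9001),(nat_lit 0x8691c001)],[(nat_lit 0xe5708001),(nat_lit 0xe5709001),(nat_lit 0xe570d001),(nat_lit 0xe5707001),(nat_lit 0xe570a001),(nat_lit 0xe570b001),(nat_lit 0xe570c001)],[(nat_lit 0x5486f001),(nat_lit 0xeb393001),(nat_lit 0x54172001),(nat_lit 0x9feb4001),(nat_lit 0x54881001),(nat_lit 0x54171001),(nat_lit 0xd2f04001)],[(nat_lit 0xeac8f001),(nat_lit 0xead3f001),(nat_lit 0xeac90001),(nat_lit 0xeac8e001),(nat_lit 0xeac91001),(nat_lit 0xeac92001),(nat_lit 0xebc32001)],[(nat_lit 0xee7cb001),(nat_lit 0xee7ca001),(nat_lit 0xee7cc001),(nat_lit 0xeeb78001),(nat_lit 0xee7cd001),(nat_lit 0xee7ce001),(nat_lit 0xee7cf001)],[(nat_lit 0xec1b2001),(nat_lit 0xed17d001),(nat_lit 0xe7cbf001),(nat_lit 0xe7cc0001),(nat_lit 0xe7cc2001),(nat_lit 0xeb655001),(nat_lit 0xe7cc1001)],[(nat_lit 0x842aa001),(nat_lit 0xecdc4001),(nat_lit 0xd63e0842a9002),(nat_lit 0xeba72001),(nat_lit 0xeb7d6001),(nat_lit 0xd7aec001),(nat_lit 0xec309001)],[(nat_lit 0x7a4fe001),(nat_lit 0x7a4ff001),(nat_lit 0x7e3ad001),(nat_lit 0xd00b0001),(nat_lit 0x7f1a0001),(nat_lit 0x7a500001),(nat_lit 0xd5309001)],[(nat_lit 0xe2861001),(nat_lit 0xe2862001),(nat_lit 0xe2860001),(nat_lit 0xe2864001),(nat_lit 0xe2863001),(nat_lit 0xe2ed2001),(nat_lit 0xe2865001)],[(nat_lit 0x48766001),(nat_lit 0x50b06001),(nat_lit 0x48f1d001),(nat_lit 0x48765001),(nat_lit 0x756f4001),(nat_lit 0x50b09001),(nat_lit 0xb3498001)],[(nat_lit 0xdf7e1001),(nat_lit 0xdf7e2001),(nat_lit 0xdf7e0001),(nat_lit 0xdf7e3001),(nat_lit 0xdf7e5001),(nat_lit 0xe13bd001),(nat_lit 0xe3851001)],[(nat_lit 0xedea0001),(nat_lit 0xeeaca001),(nat_lit 0xede9f001),(nat_lit 0xedefb001),(nat_lit 0xedea1001),(nat_lit 0xee090001),(nat_lit 0xedea2001)],[(nat_lit 0x927de001),(nat_lit 0x3a93e001),(nat_lit 0xd65a8001),(nat_lit 0x3a93f001),(nat_lit 0xdd26d001),(nat_lit 0x3a93d001),(nat_lit 0xe349a001)],[(nat_lit 0xebd87001),(nat_lit 0xe7fc6001),(nat_lit 0xe7fc7001),(nat_lit 0xe7fc5001),(nat_lit 0xea53f001),(nat_lit 0xea1a6001),(nat_lit 0xe9f35001)],[(nat_lit 0xe9dba001),(nat_lit 0xe7ff6001),(nat_lit 0xe7ff3001),(nat_lit 0xe7ff2001),(nat_lit 0xe7ff5001),(nat_lit 0xe7ff7001),(nat_lit 0xe7ff8001)],[(nat_lit 0xeda6b001),(nat_lit 0xeda6c001),(nat_lit 0xeda6d001),(nat_lit 0xeda6a001),(nat_lit 0xeda6e001),(nat_lit 0xee3cf001),(nat_lit 0xef640001)],[(nat_lit 0xef52b001),(nat_lit 0xef52c001),(nat_lit 0xef561001),(nat_lit 0xef52d001),(nat_lit 0xef52a001),(nat_lit 0xef52e001),(nat_lit 0xef52f001)],[(nat_lit 0xe2d9c001),(nat_lit 0xe2da0001),(nat_lit 0xe2d9b001),(nat_lit 0xe2d9d001),(nat_lit 0xeb031001),(nat_lit 0xe2d9e001),(nat_lit 0xe2da1001)],[(nat_lit 0xcaf41001),(nat_lit 0x5405a001),(nat_lit 0xd53b5001),(nat_lit 0x54059001),(nat_lit 0xe1ce0001),(nat_lit 0x8abf5001),(nat_lit 0xd64e3001)],[(nat_lit 0xe45b2001),(nat_lit 0xed1aa001),(nat_lit 0xe6d0b001),(nat_lit 0xdcd7d001),(nat_lit 0xdcd7c001),(nat_lit 0xeb220001),(nat_lit 0xdcd7e001)],[(nat_lit 0xd2bd3001),(nat_lit 0xd2bd4001),(nat_lit 0xd2bd5001),(nat_lit 0xd2bd6001),(nat_lit 0xeb24d001),(nat_lit 0xd2bd7001),(nat_lit 0x7bb37001)],[(nat_lit 0xec765001),(nat_lit 0xec766001),(nat_lit 0xec764001),(nat_lit 0xec768001),(nat_lit 0xee94c001),(nat_lit 0xec767001),(nat_lit 0xec769001)],[(nat_lit 0xd8938001),(nat_lit 0xd8939001),(nat_lit 0xd893a001),(nat_lit 0xe5abd001),(nat_lit 0xd893b001),(nat_lit 0xd8937001),(nat_lit 0xe5cba001)],[(nat_lit 0xb234262924002),(nat_lit 0x6b878001),(nat_lit 0xb226e9e01b002),(nat_lit 0x616b3001),(nat_lit 0xb234a616b4002),(nat_lit 0xb226c9e01c002),(nat_lit 0xdeda3001)],[(nat_lit 0xdbe87001),(nat_lit 0xdfc3c001),(nat_lit 0xdbe88001),(nat_lit 0xdbe89001),(nat_lit 0xdbe8a001),(nat_lit 0xdbe86001),(nat_lit 0xdbe93001)],[(nat_lit 0x6150f001),(nat_lit 0x40130001),(nat_lit 0x405fc001),(nat_lit 0x602fa001),(nat_lit 0x45963001),(nat_lit 0x4012f001),(nat_lit 0xdb98a001)],[(nat_lit 0xdeda0001),(nat_lit 0xd8565001),(nat_lit 0xcaa18001),(nat_lit 0xdd989001),(nat_lit 0xd5e60001),(nat_lit 0xcc6d2001),(nat_lit 0x6d414001)],[(nat_lit 0xdb32d001),(nat_lit 0xdf43a001),(nat_lit 0xdb5dbdb32a002),(nat_lit 0xdfca4001),(nat_lit 0xdb32b001),(nat_lit 0xdb32c001),(nat_lit 0xdb329001)],[(nat_lit 0x6af9a001),(nat_lit 0x6b9ca001),(nat_lit 0x6c463001),(nat_lit 0x6c466001),(nat_lit 0x6af99001),(nat_lit 0x6c46a001),(nat_lit 0xce918001)],[(nat_lit 0xb05197acee002),(nat_lit 0x66285001),(nat_lit 0xb07f8001),(nat_lit 0x66286001),(nat_lit 0xe8615001),(nat_lit 0x66284001),(nat_lit 0xddbac001)],[(nat_lit 0xe371b001),(nat_lit 0xe77d2001),(nat_lit 0xde7f9001),(nat_lit 0xe4522001),(nat_lit 0xde7fa001),(nat_lit 0xde7fb001),(nat_lit 0xe7200001)],[(nat_lit 0xba73e001),(nat_lit 0xe8a3f001),(nat_lit 0xba73f001),(nat_lit 0xba740001),(nat_lit 0xba741001),(nat_lit 0xba742001),(nat_lit 0x6d69f001)],[(nat_lit 0xe404f001),(nat_lit 0xdf850001),(nat_lit 0xdf84f001),(nat_lit 0xdf852001),(nat_lit 0xdf854001),(nat_lit 0xdf851001),(nat_lit 0xdf853001)],[(nat_lit 0xe7f28001),(nat_lit 0xe7f29001),(nat_lit 0xe812b001),(nat_lit 0xe7f27001),(nat_lit 0xe7f2a001),(nat_lit 0xe7f2b001),(nat_lit 0xe7f2c001)],[(nat_lit 0xee320001),(nat_lit 0xee321001),(nat_lit 0xee31f001),(nat_lit 0xee3d4001),(nat_lit 0xee530001),(nat_lit 0xeeacc001),(nat_lit 0xee3d7001)],[(nat_lit 0x6de3c001),(nat_lit 0x6de3d001),(nat_lit 0xc883a6de3e002),(nat_lit 0x82c38001),(nat_lit 0x6eda2001),(nat_lit 0x6de3f001),(nat_lit 0xe6aca001)],[(nat_lit 0xe9df0001),(nat_lit 0xdce9c001),(nat_lit 0xe01a9001),(nat_lit 0xe9567001),(nat_lit 0xdce9b001),(nat_lit 0xe2d27001),(nat_lit 0xe01aa001)],[(nat_lit 0xe27af001),(nat_lit 0xe42ba001),(nat_lit 0xe2c38001),(nat_lit 0xe27b0001),(nat_lit 0xe8198001),(nat_lit 0xe27b1001),(nat_lit 0xe27ae001)],[(nat_lit 0xee94b001),(nat_lit 0xee869001),(nat_lit 0xee813001),(nat_lit 0xee814001),(nat_lit 0xee815001),(nat_lit 0xee97b001),(nat_lit 0xee816001)],[(nat_lit 0xee9ec001),(nat_lit 0xee9ed001),(nat_lit 0xee9f0001),(nat_lit 0xee9eb001),(nat_lit 0xee9ee001),(nat_lit 0xee9ef001),(nat_lit 0xee9f1001)],[(nat_lit 0x7cc80001),(nat_lit 0xcf530001),(nat_lit 0x7cc81001),(nat_lit 0xee6b6001),(nat_lit 0xb6f777cc7f002),(nat_lit 0xb52ad7cc82002),(nat_lit 0xee489001)],[(nat_lit 0xc324f001),(nat_lit 0xd324f001),(nat_lit 0xa9e9d72eb5002),(nat_lit 0xc3250001),(nat_lit 0xc3251001),(nat_lit 0x72eb4001),(nat_lit 0xea4b6001)],[(nat_lit 0xead80001),(nat_lit 0xeed43001),(nat_lit 0xebfa2001),(nat_lit 0xeadff001),(nat_lit 0xead7f001),(nat_lit 0xee40b001),(nat_lit 0xead81001)],[(nat_lit 0xd5025001),(nat_lit 0xb52b07cd78002),(nat_lit 0xd14a9001),(nat_lit 0xce3ef001),(nat_lit 0xd365fccf9b002),(nat_lit 0xb32d97cd77002),(nat_lit 0xd587e001)],[(nat_lit 0xec28d001),(nat_lit 0xebb5b001),(nat_lit 0xebbfd001),(nat_lit 0xebb5c001),(nat_lit 0xebb5d001),(nat_lit 0xebb5e001),(nat_lit 0xebb5f001)],[(nat_lit 0xdaf85001),(nat_lit 0xedc99001),(nat_lit 0xdaf86001),(nat_lit 0xec974001),(nat_lit 0xdaf84001),(nat_lit 0xdaf87001),(nat_lit 0xdaf8a001)],[(nat_lit 0xc2ebb001),(nat_lit 0x87502001),(nat_lit 0xc2ebc001),(nat_lit 0x87501001),(nat_lit 0xc2ebd001),(nat_lit 0x8801b001),(nat_lit 0xdeb80001)],[(nat_lit 0x88cd1001),(nat_lit 0x8983a001),(nat_lit 0xaef4f8983d002),(nat_lit 0xaf39089076002),(nat_lit 0x88cd0001),(nat_lit 0xb009aaf391002),(nat_lit 0xc99d1001)],[(nat_lit 0xc9be0001),(nat_lit 0xca762001),(nat_lit 0xb009a97b3b002),(nat_lit 0xc9166001),(nat_lit 0x97b3a001),(nat_lit 0xc9167001),(nat_lit 0xe29f3001)],[(nat_lit 0xdc852001),(nat_lit 0x7074b001),(nat_lit 0xc99fb001),(nat_lit 0xc9a00001),(nat_lit 0x7074a001),(nat_lit 0xc9ce3001),(nat_lit 0xd5b81001)],[(nat_lit 0xde84a001),(nat_lit 0xde84b001),(nat_lit 0xde84c001),(nat_lit 0xde849001),(nat_lit 0xe461c001),(nat_lit 0xe49fd001),(nat_lit 0xe4312001)],[(nat_lit 0x71abd001),(nat_lit 0xc9ce2001),(nat_lit 0x7293b001),(nat_lit 0xe49fa001),(nat_lit 0x71abc001),(nat_lit 0x71abe001),(nat_lit 0xe4831001)],[(nat_lit 0x85c4c001),(nat_lit 0x87e66001),(nat_lit 0x85c4b001),(nat_lit 0xc9bd687473002),(nat_lit 0x8693b001),(nat_lit 0x85c4d001),(nat_lit 0xe4ea5001)],[(nat_lit 0xede79001),(nat_lit 0xede7d001),(nat_lit 0xedeb7001),(nat_lit 0xede7a001),(nat_lit 0xede78001),(nat_lit 0xede7b001),(nat_lit 0xede7c001)],[(nat_lit 0xeef22001),(nat_lit 0xeef23001),(nat_lit 0xeef21001),(nat_lit 0xeef33001),(nat_lit 0xeef24001),(nat_lit 0xeef25001),(nat_lit 0xeef26001)],[(nat_lit 0xe29c2001),(nat_lit 0xe29c4001),(nat_lit 0xe2d9b001),(nat_lit 0xe29c3001),(nat_lit 0xeb19d001),(nat_lit 0xe29c5001),(nat_lit 0xe29c1001)],[(nat_lit 0xe8122001),(nat_lit 0xdc44f001),(nat_lit 0x71d25001),(nat_lit 0xcd71c001),(nat_lit 0x71d24001),(nat_lit 0xe64b1001),(nat_lit 0xd64a9001)],[(nat_lit 0xe445e001),(nat_lit 0xe64af001),(nat_lit 0xe445d001),(nat_lit 0xe445f001),(nat_lit 0xe5a59001),(nat_lit 0xe4460001),(nat_lit 0xe4461001)],[(nat_lit 0x8bd51001),(nat_lit 0x5c290001),(nat_lit 0xdc850001),(nat_lit 0x5c28f001),(nat_lit 0xe62d0001),(nat_lit 0x8e0fc001),(nat_lit 0xe692e001)],[(nat_lit 0xe80ae001),(nat_lit 0xe80af001),(nat_lit 0xe8270001),(nat_lit 0xe80ad001),(nat_lit 0xede9e001),(nat_lit 0xe80b0001),(nat_lit 0xe80b1001)],[(nat_lit 0xedb2a001),(nat_lit 0xedb2b001),(nat_lit 0xedd12001),(nat_lit 0xedb29001),(nat_lit 0xedb2c001),(nat_lit 0xedb2d001),(nat_lit 0xedb2e001)],[(nat_lit 0xe48c9001),(nat_lit 0xe48ca001),(nat_lit 0xe48cd001),(nat_lit 0xe48c8001),(nat_lit 0xe48cb001),(nat_lit 0xe48cc001),(nat_lit 0xe4b2f001)],[(nat_lit 0xec7a2001),(nat_lit 0xe5870001),(nat_lit 0xe4ec8001),(nat_lit 0xe4ec9001),(nat_lit 0xeebcb001),(nat_lit 0xe4ecd001),(nat_lit 0xe4ecb001)],[(nat_lit 0xeef34001),(nat_lit 0xef262001),(nat_lit 0xee203001),(nat_lit 0xee201001),(nat_lit 0xee202001),(nat_lit 0xeede0001),(nat_lit 0xee204001)],[(nat_lit 0xeea8d001),(nat_lit 0xeea8c001),(nat_lit 0xeef7c001),(nat_lit 0xeef68001),(nat_lit 0xeea8e001),(nat_lit 0xeea8f001),(nat_lit 0xeef32001)],[(nat_lit 0xeef65001),(nat_lit 0x6f15a001),(nat_lit 0xe6ce7001),(nat_lit 0x6f159001),(nat_lit 0xea141001),(nat_lit 0x6fedd001),(nat_lit 0xee32c001)],[(nat_lit 0xe2f7d001),(nat_lit 0xe19ba001),(nat_lit 0xe17a7001),(nat_lit 0xe19b7001),(nat_lit 0xe2762001),(nat_lit 0xe1f25001),(nat_lit 0xe17a6001)],[(nat_lit 0xe90da001),(nat_lit 0xe90dd001),(nat_lit 0xe90d9001),(nat_lit 0xe923d001),(nat_lit 0xebc4c001),(nat_lit 0xe90db001),(nat_lit 0xe90dc001)],[(nat_lit 0xe63f7001),(nat_lit 0xe6722001),(nat_lit 0xe63f6001),(nat_lit 0xe63f8001),(nat_lit 0xe63fb001),(nat_lit 0xe63fa001),(nat_lit 0xe63f9001)],[(nat_lit 0xdd98e001),(nat_lit 0xd8515001),(nat_lit 0x97adb001),(nat_lit 0xded9f001),(nat_lit 0xe8276001),(nat_lit 0x97ada001),(nat_lit 0xdeda4001)],[(nat_lit 0xe993e001),(nat_lit 0xe8275001),(nat_lit 0xe10bb001),(nat_lit 0xe10be001),(nat_lit 0xe10bc001),(nat_lit 0xe10bd001),(nat_lit 0xe41bb001)],[(nat_lit 0x7422b001),(nat_lit 0xe322e001),(nat_lit 0xaafa19950c002),(nat_lit 0xaec077422c002),(nat_lit 0xde7fa001),(nat_lit 0xb915d7422a002),(nat_lit 0xb8730001)],[(nat_lit 0x50ce9001),(nat_lit 0xbda18001),(nat_lit 0x48f1d001),(nat_lit 0x48f1e001),(nat_lit 0xba6a5001),(nat_lit 0x50c70001),(nat_lit 0xd166c001)],[(nat_lit 0xe18ec001),(nat_lit 0xca8c8636df002),(nat_lit 0xe936d001),(nat_lit 0xe9ef0001),(nat_lit 0x636de001),(nat_lit 0xca8c4636e0002),(nat_lit 0xdd5d1001)],[(nat_lit 0xee3e7001),(nat_lit 0xee3c5001),(nat_lit 0xee35a001),(nat_lit 0xee3e5001),(nat_lit 0xee35b001),(nat_lit 0xef4a0001),(nat_lit 0xee35c001)],[(nat_lit 0xee3e7001),(nat_lit 0xee415001),(nat_lit 0xee3e4001),(nat_lit 0xee3e5001),(nat_lit 0xee3e6001),(nat_lit 0xef49a001),(nat_lit 0xee3e3001)],[(nat_lit 0xee068001),(nat_lit 0xee067001),(nat_lit 0xee06b001),(nat_lit 0xee069001),(nat_lit 0xee06a001),(nat_lit 0xee137001),(nat_lit 0xee06c001)],[(nat_lit 0xdf95b001),(nat_lit 0xcf3dccd049002),(nat_lit 0xa59908b7ea002),(nat_lit 0xc0f58b8697002),(nat_lit 0xd1b63001),(nat_lit 0x8b7e9001),(nat_lit 0xbbc6d001)],[(nat_lit 0x3b2e5001),(nat_lit 0xe999d001),(nat_lit 0x3ac58001),(nat_lit 0x3ac57001),(nat_lit 0x3ac59001),(nat_lit 0x3b2df001),(nat_lit 0xe0ec5001)],[(nat_lit 0x70255001),(nat_lit 0xe21f3001),(nat_lit 0x70256001),(nat_lit 0xe517b001),(nat_lit 0x70254001),(nat_lit 0xb0c6e001),(nat_lit 0xe3d1f001)],[(nat_lit 0xe2378001),(nat_lit 0xee9f4001),(nat_lit 0xe3457001),(nat_lit 0xe2379001),(nat_lit 0xe237a001),(nat_lit 0xe237b001),(nat_lit 0xe2377001)],[(nat_lit 0xe29ff001),(nat_lit 0xe2a02001),(nat_lit 0xe29fd001),(nat_lit 0xe29fe001),(nat_lit 0xe52e0e5251002),(nat_lit 0xe2a00001),(nat_lit 0xe29fc001)],[(nat_lit 0xd2210001),(nat_lit 0xc8dfd8506f002),(nat_lit 0x85070001),(nat_lit 0xe477d001),(nat_lit 0xd368485071002),(nat_lit 0xea0f8001),(nat_lit 0xed3b6001)],[(nat_lit 0xe898b001),(nat_lit 0xe898c001),(nat_lit 0xe898f001),(nat_lit 0xe898a001),(nat_lit 0xe898d001),(nat_lit 0xe898e001),(nat_lit 0xec456001)],[(nat_lit 0xeeb6e001),(nat_lit 0xe1388001),(nat_lit 0xe1389001),(nat_lit 0xe138a001),(nat_lit 0xe21df001),(nat_lit 0xec540001),(nat_lit 0xec542001)],[(nat_lit 0xe9111001),(nat_lit 0x67de3001),(nat_lit 0xeb86e001),(nat_lit 0xeb9f2001),(nat_lit 0x67de2001),(nat_lit 0xeda89001),(nat_lit 0xecfb2001)],[(nat_lit 0xe9487001),(nat_lit 0xe8913001),(nat_lit 0xe8afb001),(nat_lit 0xe8912001),(nat_lit 0xe8914001),(nat_lit 0xe8915001),(nat_lit 0xe8911001)],[(nat_lit 0xedf0d001),(nat_lit 0xedf0c001),(nat_lit 0xedf0e001),(nat_lit 0xedf54001),(nat_lit 0xedf0f001),(nat_lit 0xedf10001),(nat_lit 0xedfc0001)],[(nat_lit 0x6d441001),(nat_lit 0xc60346b9bb002),(nat_lit 0x6e8dc001),(nat_lit 0x6b9bc001),(nat_lit 0x6b9ba001),(nat_lit 0x6b9bd001),(nat_lit 0xca169001)],[(nat_lit 0xe47c1001),(nat_lit 0xe47c2001),(nat_lit 0xeca27001),(nat_lit 0xe47be001),(nat_lit 0xed6b9001),(nat_lit 0xe47c3001),(nat_lit 0x6f8f9001)],[(nat_lit 0xe9112001),(nat_lit 0xe9113001),(nat_lit 0xe9109700e9002),(nat_lit 0xe9114001),(nat_lit 0xe9115001),(nat_lit 0x700e8001),(nat_lit 0xe9116001)],[(nat_lit 0xed675001),(nat_lit 0xe868f001),(nat_lit 0xe868e001),(nat_lit 0xe8691001),(nat_lit 0xee164001),(nat_lit 0xe8690001),(nat_lit 0xe9316001)],[(nat_lit 0xeaff3001),(nat_lit 0x700e5001),(nat_lit 0xee163001),(nat_lit 0xee087001),(nat_lit 0xe9107700e4002),(nat_lit 0xee18d001),(nat_lit 0xe911f001)],[(nat_lit 0xedb8a001),(nat_lit 0xedb8b001),(nat_lit 0xedc23001),(nat_lit 0xedb8c001),(nat_lit 0xedb89001),(nat_lit 0xeed3a001),(nat_lit 0xeed6a001)],[(nat_lit 0x34f28001),(nat_lit 0xd8fc1001),(nat_lit 0x34f27001),(nat_lit 0xcb312001),(nat_lit 0x34f29001),(nat_lit 0xd8dbd001),(nat_lit 0xbd024001)],[(nat_lit 0xe5a29001),(nat_lit 0xe5a2c001),(nat_lit 0xe5a28001),(nat_lit 0xe5a2a001),(nat_lit 0xe838b001),(nat_lit 0xe5a2d001),(nat_lit 0xe5a27001)],[(nat_lit 0xe2047001),(nat_lit 0xee9e7001),(nat_lit 0xee963001),(nat_lit 0xe2046001),(nat_lit 0xe57f7001),(nat_lit 0xe2048001),(nat_lit 0xe2049001)],[(nat_lit 0xe8098001),(nat_lit 0xe809a001),(nat_lit 0xe8097001),(nat_lit 0xe8099001),(nat_lit 0xe809b001),(nat_lit 0xe809c001),(nat_lit 0xe8096001)],[(nat_lit 0xebe7c001),(nat_lit 0xebf6e001),(nat_lit 0xebe7d001),(nat_lit 0xebe7b001),(nat_lit 0xebe7e001),(nat_lit 0xebe7f001),(nat_lit 0xebe80001)],[(nat_lit 0xd65ea001),(nat_lit 0xd1bb6001),(nat_lit 0xd0acc4365b002),(nat_lit 0xe64f2001),(nat_lit 0xd0ab54365a002),(nat_lit 0xdae75001),(nat_lit 0xdd4ca001)],[(nat_lit 0xe64f1001),(nat_lit 0xe43db001),(nat_lit 0xe471b001),(nat_lit 0xe43da001),(nat_lit 0xe43dc001),(nat_lit 0xe5a31001),(nat_lit 0xe43dd001)],[(nat_lit 0x61a66001),(nat_lit 0x62814001),(nat_lit 0x61a67001),(nat_lit 0xcd4be88826002),(nat_lit 0x61a82001),(nat_lit 0x61a65001),(nat_lit 0xd62df001)],[(nat_lit 0xe4a0e001),(nat_lit 0xe8fa5001),(nat_lit 0xe9051001),(nat_lit 0xbe626001),(nat_lit 0xee2ba001),(nat_lit 0xe89b9001),(nat_lit 0x6f8de001)],[(nat_lit 0x6ef6d001),(nat_lit 0xeca73001),(nat_lit 0xd73f0001),(nat_lit 0xd760c6ef6c002),(nat_lit 0xd73f2001),(nat_lit 0xe9157001),(nat_lit 0xdb264001)],[(nat_lit 0x741d9001),(nat_lit 0x71fcd001),(nat_lit 0xcf3ff001),(nat_lit 0x71fcc001),(nat_lit 0x766bb001),(nat_lit 0x73dc5001),(nat_lit 0xcc8a1001)],[(nat_lit 0xedbc2001),(nat_lit 0xcc7c5001),(nat_lit 0xc01c67b299002),(nat_lit 0xeefd4001),(nat_lit 0xc08d57b298002),(nat_lit 0xecb1d001),(nat_lit 0xeded3001)],[(nat_lit 0xe3b89001),(nat_lit 0xe41ec001),(nat_lit 0xe3b88001),(nat_lit 0xe3b8a001),(nat_lit 0xe3b8b001),(nat_lit 0xe3b8c001),(nat_lit 0xe3b8d001)],[(nat_lit 0xe29f6001),(nat_lit 0xe705d001),(nat_lit 0xe19f4001),(nat_lit 0xdfceb001),(nat_lit 0xdfcec001),(nat_lit 0xdfced001),(nat_lit 0xdfcea001)],[(nat_lit 0xdbe6d001),(nat_lit 0x8e102001),(nat_lit 0xa95f28ea4e002),(nat_lit 0x8e101001),(nat_lit 0xe19f5001),(nat_lit 0x8e103001),(nat_lit 0xc8610001)],[(nat_lit 0xee686001),(nat_lit 0xee687001),(nat_lit 0xee685001),(nat_lit 0xee688001),(nat_lit 0xee689001),(nat_lit 0xee68a001),(nat_lit 0xeeaf2001)],[(nat_lit 0xea6a0001),(nat_lit 0xea6a3001),(nat_lit 0xea7dd001),(nat_lit 0xea6a1001),(nat_lit 0xea6a2001),(nat_lit 0xea6a4001),(nat_lit 0xea69f001)],[(nat_lit 0xef6a4001),(nat_lit 0xef68b001),(nat_lit 0xef68d001),(nat_lit 0xef68a001),(nat_lit 0xef68c001),(nat_lit 0xef6a7001),(nat_lit 0xef6ba001)],[(nat_lit 0xeeb11001),(nat_lit 0xeeb13001),(nat_lit 0xeeb39001),(nat_lit 0xeeb12001),(nat_lit 0xeeb14001),(nat_lit 0xeeb15001),(nat_lit 0xeeb10001)],[(nat_lit 0xebc41001),(nat_lit 0xebc44001),(nat_lit 0xebd28001),(nat_lit 0xebc42001),(nat_lit 0xee169001),(nat_lit 0xebc45001),(nat_lit 0xebc40001)],[(nat_lit 0xedf6f001),(nat_lit 0xedf70001),(nat_lit 0xedf6e001),(nat_lit 0xedf9e001),(nat_lit 0xee0ac001),(nat_lit 0xeef18001),(nat_lit 0xedf9f001)],[(nat_lit 0xee86d001),(nat_lit 0xeea81001),(nat_lit 0x89189001),(nat_lit 0xe96cd001),(nat_lit 0xbb22889188002),(nat_lit 0xe94c6001),(nat_lit 0xee0ae001)],[(nat_lit 0xe9ea9001),(nat_lit 0xe9c62001),(nat_lit 0xe9c5e001),(nat_lit 0xe9c61001),(nat_lit 0xe9c5f001),(nat_lit 0xe9c60001),(nat_lit 0xe9c63001)],[(nat_lit 0x747a9001),(nat_lit 0x747aa001),(nat_lit 0xc5021001),(nat_lit 0x747ab001),(nat_lit 0xc5022001),(nat_lit 0x747ac001),(nat_lit 0xe96d3001)],[(nat_lit 0x74735001),(nat_lit 0x74736001),(nat_lit 0xeea85001),(nat_lit 0xecf14001),(nat_lit 0x74737001),(nat_lit 0x74738001),(nat_lit 0xedf1c001)],[(nat_lit 0xe7bcc001),(nat_lit 0xe29f7001),(nat_lit 0xebc70001),(nat_lit 0xdff32001),(nat_lit 0xebd16001),(nat_lit 0xe704d001),(nat_lit 0xdff33001)],[(nat_lit 0xe1df3001),(nat_lit 0xe98ca001),(nat_lit 0xe1df4001),(nat_lit 0xe1df2001),(nat_lit 0xe1df5001),(nat_lit 0xe1e92001),(nat_lit 0xe1df6001)],[(nat_lit 0xe726d001),(nat_lit 0xe726e001),(nat_lit 0xe726f001),(nat_lit 0xe726c001),(nat_lit 0xe7270001),(nat_lit 0xe7271001),(nat_lit 0xea10f001)],[(nat_lit 0x76d05001),(nat_lit 0xeb4a4001),(nat_lit 0x76d04001),(nat_lit 0xbaa31001),(nat_lit 0xc694c001),(nat_lit 0xba922001),(nat_lit 0xc8183001)],[(nat_lit 0x54384001),(nat_lit 0x45c54001),(nat_lit 0xc3630001),(nat_lit 0x45c53001),(nat_lit 0x8b090001),(nat_lit 0x54386001),(nat_lit 0xeb4a7001)],[(nat_lit 0x8a695001),(nat_lit 0xcce3e001),(nat_lit 0x8a696001),(nat_lit 0xb56c3001),(nat_lit 0xbca2a8a694002),(nat_lit 0x8b7e9001),(nat_lit 0xb56c7001)],[(nat_lit 0xe00e1001),(nat_lit 0xe00e2001),(nat_lit 0xe00e0001),(nat_lit 0xe03e2001),(nat_lit 0xe00e3001),(nat_lit 0xe00e4001),(nat_lit 0xe00df001)],[(nat_lit 0xebd09001),(nat_lit 0xa90596358f002),(nat_lit 0x6224f5eacf002),(nat_lit 0xa905a001),(nat_lit 0x5eace001),(nat_lit 0xa905c001),(nat_lit 0xd7d0d001)],[(nat_lit 0x6926a001),(nat_lit 0x69279001),(nat_lit 0xe77a2001),(nat_lit 0x68cd0001),(nat_lit 0xedd07001),(nat_lit 0x68cd1001),(nat_lit 0x8c29f001)],[(nat_lit 0xee18f001),(nat_lit 0xde127001),(nat_lit 0xee977001),(nat_lit 0xde126001),(nat_lit 0xe25c7001),(nat_lit 0xde128001),(nat_lit 0xde129001)],[(nat_lit 0xee82e001),(nat_lit 0xee82f001),(nat_lit 0xee82d001),(nat_lit 0xee860001),(nat_lit 0xee830001),(nat_lit 0xee831001),(nat_lit 0xef497001)],[(nat_lit 0xe7560001),(nat_lit 0xeed49001),(nat_lit 0xed061001),(nat_lit 0xe755f001),(nat_lit 0xe7561001),(nat_lit 0xe7562001),(nat_lit 0xe755e001)],[(nat_lit 0x916ec001),(nat_lit 0xeee3e001),(nat_lit 0x916ed001),(nat_lit 0x916eb001),(nat_lit 0xef495001),(nat_lit 0x916ee001),(nat_lit 0xc1152001)],[(nat_lit 0x3c0a4001),(nat_lit 0x3c0a5001),(nat_lit 0xc88d0962fa002),(nat_lit 0x3c0a6001),(nat_lit 0x3ccbe001),(nat_lit 0x3c0a3001),(nat_lit 0xe0ed3001)],[(nat_lit 0x82212001),(nat_lit 0x83463001),(nat_lit 0x82213001),(nat_lit 0x82c71001),(nat_lit 0x82211001),(nat_lit 0x8b7c9001),(nat_lit 0xccac9001)],[(nat_lit 0xeefa2001),(nat_lit 0xeefa3001),(nat_lit 0xeefc0001),(nat_lit 0xeefa1001),(nat_lit 0xeefa4001),(nat_lit 0xeefa5001),(nat_lit 0xeefa6001)],[(nat_lit 0xe9731001),(nat_lit 0x6ee08001),(nat_lit 0xdafb9001),(nat_lit 0x6ee07001),(nat_lit 0xe6608001),(nat_lit 0xe9734001),(nat_lit 0xe9737001)],[(nat_lit 0xeb7ba001),(nat_lit 0xeedc0001),(nat_lit 0xed5be001),(nat_lit 0xec9de001),(nat_lit 0xeb7b9001),(nat_lit 0xeeee3001),(nat_lit 0xeb7bb001)],[(nat_lit 0xeed77001),(nat_lit 0xeed79001),(nat_lit 0xeedbe001),(nat_lit 0xeed78001),(nat_lit 0xeed7a001),(nat_lit 0xeed7b001),(nat_lit 0xeed76001)],[(nat_lit 0xeb4e0001),(nat_lit 0xeed58001),(nat_lit 0xeb4e1001),(nat_lit 0xeb4df001),(nat_lit 0xeb4e4001),(nat_lit 0xebd58001),(nat_lit 0xeb4e2001)],[(nat_lit 0xedb97001),(nat_lit 0xedb99001),(nat_lit 0xee751001),(nat_lit 0xedb98001),(nat_lit 0xedb96001),(nat_lit 0xedcbb001),(nat_lit 0xee6ae001)],[(nat_lit 0xed5ea001),(nat_lit 0xed1e4001),(nat_lit 0xed1e5001),(nat_lit 0xed220001),(nat_lit 0xee475001),(nat_lit 0xed25e001),(nat_lit 0xee754001)],[(nat_lit 0xeec78001),(nat_lit 0xeecc1001),(nat_lit 0xeec77001),(nat_lit 0xeeca7001),(nat_lit 0xeec79001),(nat_lit 0xeec7a001),(nat_lit 0xeec7b001)],[(nat_lit 0xed3d7001),(nat_lit 0xe890e001),(nat_lit 0xe890d001),(nat_lit 0xed0f1001),(nat_lit 0xe890f001),(nat_lit 0xe8910001),(nat_lit 0xed028001)],[(nat_lit 0x83d52001),(nat_lit 0x83e7d001),(nat_lit 0xc8080001),(nat_lit 0x82a8f001),(nat_lit 0x82a90001),(nat_lit 0xed0f2001),(nat_lit 0xdd124001)],[(nat_lit 0xed18e001),(nat_lit 0xed18f001),(nat_lit 0xed25b001),(nat_lit 0xed190001),(nat_lit 0xed18d001),(nat_lit 0xed192001),(nat_lit 0xed191001)],[(nat_lit 0xeebf8001),(nat_lit 0xeebf9001),(nat_lit 0xeebf7001),(nat_lit 0xeebf6001),(nat_lit 0xeebfa001),(nat_lit 0xeebfb001),(nat_lit 0xeebf5001)],[(nat_lit 0xdb829001),(nat_lit 0xaa04b8518a002),(nat_lit 0xee0cb001),(nat_lit 0x85189001),(nat_lit 0xeac27001),(nat_lit 0xc5c90001),(nat_lit 0xea1f7001)],[(nat_lit 0xeaeb6001),(nat_lit 0xeaeb7001),(nat_lit 0xeaeb5001),(nat_lit 0xeafa9001),(nat_lit 0xeaeb8001),(nat_lit 0xebd8b001),(nat_lit 0xeb28b001)],[(nat_lit 0xeb811001),(nat_lit 0xeafff001),(nat_lit 0xeaffe001),(nat_lit 0xeb96f001),(nat_lit 0xeb000001),(nat_lit 0xeb57f001),(nat_lit 0xeb001001)],[(nat_lit 0xee628001),(nat_lit 0xee62b001),(nat_lit 0xee627001),(nat_lit 0xee645001),(nat_lit 0xee629001),(nat_lit 0xee62c001),(nat_lit 0xee62a001)],[(nat_lit 0xec544001),(nat_lit 0xeef4b001),(nat_lit 0xec543001),(nat_lit 0xec6d1001),(nat_lit 0xec545001),(nat_lit 0xee647001),(nat_lit 0xec546001)],[(nat_lit 0xe4357001),(nat_lit 0xe4358001),(nat_lit 0xe4356001),(nat_lit 0xe4359001),(nat_lit 0xeef4d001),(nat_lit 0xe435a001),(nat_lit 0xe435e001)],[(nat_lit 0xee47a001),(nat_lit 0xe70f4001),(nat_lit 0xe68fb001),(nat_lit 0xe68fc001),(nat_lit 0xe68fe001),(nat_lit 0xe6902001),(nat_lit 0xe7511001)],[(nat_lit 0xe98d6001),(nat_lit 0xef2e2001),(nat_lit 0xe98d7001),(nat_lit 0xe98d5001),(nat_lit 0xee07c001),(nat_lit 0xe98d8001),(nat_lit 0xe9c6a001)],[(nat_lit 0x59fa7001),(nat_lit 0x5a8ea001),(nat_lit 0x5e589001),(nat_lit 0x5a8c1001),(nat_lit 0x59fa6001),(nat_lit 0x59fa8001),(nat_lit 0xc9a1c001)],[(nat_lit 0xef59c001),(nat_lit 0xef59d001),(nat_lit 0xef59b001),(nat_lit 0xef59e001),(nat_lit 0xef59f001),(nat_lit 0xef5a0001),(nat_lit 0xef5a1001)],[(nat_lit 0xeed5e001),(nat_lit 0xee8be001),(nat_lit 0xee8bd001),(nat_lit 0xee8f2001),(nat_lit 0xee8bf001),(nat_lit 0xee8c0001),(nat_lit 0xee8bc001)],[(nat_lit 0xecb98001),(nat_lit 0xecb97001),(nat_lit 0xecb99001),(nat_lit 0xecbf7001),(nat_lit 0xecb9a001),(nat_lit 0xecb9b001),(nat_lit 0xecb9c001)],[(nat_lit 0x58c13001),(nat_lit 0x59757001),(nat_lit 0x5b107001),(nat_lit 0x58c12001),(nat_lit 0x58c14001),(nat_lit 0x5975d001),(nat_lit 0xc585e001)],[(nat_lit 0xecfb4001),(nat_lit 0xeed60001),(nat_lit 0xecfb3001),(nat_lit 0xed05f001),(nat_lit 0xecfb5001),(nat_lit 0xecfb6001),(nat_lit 0xecfb7001)],[(nat_lit 0xe87fb001),(nat_lit 0xdc8a8001),(nat_lit 0xe70ce001),(nat_lit 0xed22f001),(nat_lit 0xdc8b1001),(nat_lit 0xdc8a9001),(nat_lit 0xec7dd001)],[(nat_lit 0xeed27001),(nat_lit 0xeed28001),(nat_lit 0xeed26001),(nat_lit 0xeed5f001),(nat_lit 0xeed29001),(nat_lit 0xeed2a001),(nat_lit 0xeed25001)],[(nat_lit 0xebab5001),(nat_lit 0xea50d001),(nat_lit 0xe8d78001),(nat_lit 0xe8d76001),(nat_lit 0xe8d77001),(nat_lit 0xec118001),(nat_lit 0xe8f2d001)],[(nat_lit 0xecbf8001),(nat_lit 0xec1f4001),(nat_lit 0xec1f7001),(nat_lit 0xec1f3001),(nat_lit 0xec1f5001),(nat_lit 0xec1f6001),(nat_lit 0xef3f4001)],[(nat_lit 0xa9e6a711fe002),(nat_lit 0x700f7001),(nat_lit 0x926ff71200002),(nat_lit 0x926c0700f8002),(nat_lit 0xab95f70c60002),(nat_lit 0x700f6001),(nat_lit 0xde2c4001)],[(nat_lit 0x73eea001),(nat_lit 0xa31ca73ee9002),(nat_lit 0xc00d273eeb002),(nat_lit 0xc7248001),(nat_lit 0x73eec001),(nat_lit 0xe38af001),(nat_lit 0xe7cc1001)],[(nat_lit 0x4ae27001),(nat_lit 0x4ae28001),(nat_lit 0x926c28a614002),(nat_lit 0x4ae26001),(nat_lit 0x8b2c8001),(nat_lit 0x4bd18001),(nat_lit 0xe80e9001)],[(nat_lit 0xaab7270c5c002),(nat_lit 0xab95f70c61002),(nat_lit 0x9276d001),(nat_lit 0xac659001),(nat_lit 0x6ff3c001),(nat_lit 0x6ff3d001),(nat_lit 0xd7943001)],[(nat_lit 0x9332b001),(nat_lit 0xc701d001),(nat_lit 0x92caf001),(nat_lit 0x92cae001),(nat_lit 0xe389e001),(nat_lit 0xe29de001),(nat_lit 0xd4a22001)],[(nat_lit 0xb0906001),(nat_lit 0x3a674001),(nat_lit 0xb0907001),(nat_lit 0x3a673001),(nat_lit 0xb0908001),(nat_lit 0xb0909001),(nat_lit 0xd6128001)],[(nat_lit 0xd57808b33b002),(nat_lit 0x8a32f001),(nat_lit 0xd34048b33d002),(nat_lit 0x8b340001),(nat_lit 0xd16388b21b002),(nat_lit 0x8a32e001),(nat_lit 0xd3403001)],[(nat_lit 0xe34a2001),(nat_lit 0xe34a0001),(nat_lit 0xe349c001),(nat_lit 0xe349d001),(nat_lit 0xe34a1001),(nat_lit 0xe34a3001),(nat_lit 0xe349b001)],[(nat_lit 0xea744001),(nat_lit 0xea745001),(nat_lit 0xea743001),(nat_lit 0xea9be001),(nat_lit 0xea746001),(nat_lit 0xea747001),(nat_lit 0xea748001)],[(nat_lit 0xe76cc001),(nat_lit 0xecc12001),(nat_lit 0xe76cb001),(nat_lit 0xe76cd001),(nat_lit 0xe87d0001),(nat_lit 0xe76ce001),(nat_lit 0xe76cf001)],[(nat_lit 0xeee0a001),(nat_lit 0xeedd3001),(nat_lit 0xeedd4001),(nat_lit 0xeedd2001),(nat_lit 0xeedd5001),(nat_lit 0xeedd6001),(nat_lit 0xeedd7001)],[(nat_lit 0xe6b7b001),(nat_lit 0xdebd0001),(nat_lit 0xe4328001),(nat_lit 0xdebcf001),(nat_lit 0xdf092001),(nat_lit 0xdebd1001),(nat_lit 0xdebce001)],[(nat_lit 0xec499001),(nat_lit 0xec49a001),(nat_lit 0xec5c5001),(nat_lit 0xec497001),(nat_lit 0xec498001),(nat_lit 0xed63a001),(nat_lit 0xec496001)],[(nat_lit 0xd94bd001),(nat_lit 0xd96d5001),(nat_lit 0xd86d4001),(nat_lit 0xd86d6001),(nat_lit 0xd86d3001),(nat_lit 0xd86d5001),(nat_lit 0xec946001)],[(nat_lit 0xedf5f001),(nat_lit 0xebcc1001),(nat_lit 0xea595001),(nat_lit 0xea494001),(nat_lit 0xea493001),(nat_lit 0xee1ff001),(nat_lit 0xef46d001)],[(nat_lit 0x77507001),(nat_lit 0x77508001),(nat_lit 0x7ed21001),(nat_lit 0xdee96001),(nat_lit 0x77f84001),(nat_lit 0x77509001),(nat_lit 0xd4d9f001)],[(nat_lit 0xe56e3001),(nat_lit 0xe56e6001),(nat_lit 0xe814a001),(nat_lit 0xe56e4001),(nat_lit 0xec158001),(nat_lit 0xe56e5001),(nat_lit 0xe56e2001)],[(nat_lit 0x57956001),(nat_lit 0xe8fcf001),(nat_lit 0x57955001),(nat_lit 0xc1f48001),(nat_lit 0xcd886001),(nat_lit 0x57957001),(nat_lit 0xe0f5d001)],[(nat_lit 0xede1a001),(nat_lit 0xede1b001),(nat_lit 0xede1e001),(nat_lit 0xede19001),(nat_lit 0xede1c001),(nat_lit 0xede1d001),(nat_lit 0xede1f001)],[(nat_lit 0xeed37001),(nat_lit 0xedb14001),(nat_lit 0xeeca0001),(nat_lit 0xeec64001),(nat_lit 0xedb15001),(nat_lit 0xedb16001),(nat_lit 0xedb17001)],[(nat_lit 0xe6b38001),(nat_lit 0xde160001),(nat_lit 0xed9cc001),(nat_lit 0xde15d001),(nat_lit 0xe144b001),(nat_lit 0xe3bcc001),(nat_lit 0xde15c001)],[(nat_lit 0xe6be8001),(nat_lit 0xe6bea001),(nat_lit 0xe6e1d001),(nat_lit 0xe6be9001),(nat_lit 0xe9f51001),(nat_lit 0xe9a20001),(nat_lit 0xe6be7001)],[(nat_lit 0x3d4f2001),(nat_lit 0x3dfb1001),(nat_lit 0x3dee6001),(nat_lit 0x3d4f1001),(nat_lit 0x3d4f3001),(nat_lit 0x3deef001),(nat_lit 0xcd72d001)],[(nat_lit 0xdbe76001),(nat_lit 0xed921001),(nat_lit 0xdbe77001),(nat_lit 0xe6287001),(nat_lit 0xdbe78001),(nat_lit 0xdbe79001),(nat_lit 0xdbe75001)],[(nat_lit 0xedc68001),(nat_lit 0xedc69001),(nat_lit 0xee21f001),(nat_lit 0xedc67001),(nat_lit 0xedc6b001),(nat_lit 0xede1d001),(nat_lit 0xedc6a001)],[(nat_lit 0xee009001),(nat_lit 0xee00b001),(nat_lit 0xee02a001),(nat_lit 0xee00a001),(nat_lit 0xee00c001),(nat_lit 0xef364001),(nat_lit 0xee008001)],[(nat_lit 0xea731001),(nat_lit 0xecf43001),(nat_lit 0xea93f001),(nat_lit 0xec3a1001),(nat_lit 0xe830d001),(nat_lit 0xecf49001),(nat_lit 0xe830e001)],[(nat_lit 0xeb35e001),(nat_lit 0xeb4dd001),(nat_lit 0xeb35d001),(nat_lit 0xeb35f001),(nat_lit 0xeb3b8001),(nat_lit 0xecf48001),(nat_lit 0xeb360001)],[(nat_lit 0x43c4b001),(nat_lit 0x43c4c001),(nat_lit 0xc010a43c4d002),(nat_lit 0x44863001),(nat_lit 0xd5d8e929f1002),(nat_lit 0x43c4e001),(nat_lit 0xdd07b001)],[(nat_lit 0xea2d3001),(nat_lit 0xea4a4001),(nat_lit 0xea2d6001),(nat_lit 0xea2d2001),(nat_lit 0xea2d4001),(nat_lit 0xea2d5001),(nat_lit 0xea2d7001)],[(nat_lit 0xe9f5d001),(nat_lit 0xe8424001),(nat_lit 0xe8421001),(nat_lit 0xe8423001),(nat_lit 0xe8422001),(nat_lit 0xe9ed4001),(nat_lit 0xe8425001)],[(nat_lit 0x8a345001),(nat_lit 0x8ea6b001),(nat_lit 0x8a346001),(nat_lit 0xb5774001),(nat_lit 0xcedf08bcc3002),(nat_lit 0xb57768a344002),(nat_lit 0xdfc12001)],[(nat_lit 0x3a67a001),(nat_lit 0xb06bb001),(nat_lit 0x3abbc001),(nat_lit 0x3a67b001),(nat_lit 0xb06bd001),(nat_lit 0x3a679001),(nat_lit 0xdec91001)],[(nat_lit 0xe4818001),(nat_lit 0x7c3da001),(nat_lit 0xead58001),(nat_lit 0xe8e61001),(nat_lit 0x7c3d9001),(nat_lit 0xee811001),(nat_lit 0xee41e001)],[(nat_lit 0xe999c001),(nat_lit 0xe999d001),(nat_lit 0xe999b001),(nat_lit 0xe9a58001),(nat_lit 0xe999e001),(nat_lit 0xe999f001),(nat_lit 0xe99a0001)],[(nat_lit 0xef217001),(nat_lit 0xef218001),(nat_lit 0xef224001),(nat_lit 0xef216001),(nat_lit 0xef21b001),(nat_lit 0xef219001),(nat_lit 0xef21a001)],[(nat_lit 0xcd31d87e65002),(nat_lit 0x87e66001),(nat_lit 0xb392587e67002),(nat_lit 0xc9166001),(nat_lit 0xbcb3089004002),(nat_lit 0x87e68001),(nat_lit 0xcc2e4001)],[(nat_lit 0xe933e001),(nat_lit 0xed91b001),(nat_lit 0xed9ff001),(nat_lit 0xedb10001),(nat_lit 0xe933f001),(nat_lit 0xe933d001),(nat_lit 0xed71a001)],[(nat_lit 0xeeaaf001),(nat_lit 0xeeaae001),(nat_lit 0xeeab0001),(nat_lit 0xeeab1001),(nat_lit 0xeeab2001),(nat_lit 0xeeab3001),(nat_lit 0xeeb0c001)],[(nat_lit 0xcd7ba7abe6002),(nat_lit 0xb7e577abe7002),(nat_lit 0xb18cf001),(nat_lit 0x7abe8001),(nat_lit 0xcfbbe001),(nat_lit 0x7abe5001),(nat_lit 0xc08c8001)],[(nat_lit 0x8095a001),(nat_lit 0xd512f80b6f002),(nat_lit 0xe597f001),(nat_lit 0xd7e7acd9df002),(nat_lit 0x80959001),(nat_lit 0xcd9d5001),(nat_lit 0xd029e001)],[(nat_lit 0xcd9da001),(nat_lit 0xc0eff91cfd002),(nat_lit 0xb41f893466002),(nat_lit 0xe597c001),(nat_lit 0x91cfc001),(nat_lit 0xe2aa2001),(nat_lit 0xcc649cb0af002)],[(nat_lit 0xbc78b61ab5002),(nat_lit 0x463ee001),(nat_lit 0x463ef001),(nat_lit 0xbc67b9777b002),(nat_lit 0xbc78761271002),(nat_lit 0x463f0001),(nat_lit 0xd3d54001)],[(nat_lit 0x4497a001),(nat_lit 0x4497b001),(nat_lit 0xe4437001),(nat_lit 0x92393001),(nat_lit 0x44979001),(nat_lit 0xe0897001),(nat_lit 0xe265e001)],[(nat_lit 0x25e58001),(nat_lit 0x7100b001),(nat_lit 0x25e59001),(nat_lit 0x71fca001),(nat_lit 0x25e57001),(nat_lit 0x3c9a1001),(nat_lit 0xb684174293002)],[(nat_lit 0xedff6001),(nat_lit 0xee2fd001),(nat_lit 0xedff5001),(nat_lit 0xee011001),(nat_lit 0xedff7001),(nat_lit 0xedff8001),(nat_lit 0xedff9001)],[(nat_lit 0x8d29f001),(nat_lit 0xc567e001),(nat_lit 0x8bc78001),(nat_lit 0xc5677001),(nat_lit 0xdd4a5001),(nat_lit 0x8bc77001),(nat_lit 0xc5679001)],[(nat_lit 0xee639001),(nat_lit 0xee388001),(nat_lit 0xee384001),(nat_lit 0xee387001),(nat_lit 0xee385001),(nat_lit 0xee386001),(nat_lit 0xee3f3001)],[(nat_lit 0xe12bc001),(nat_lit 0xe9ac5001),(nat_lit 0xe12bb001),(nat_lit 0xe12bd001),(nat_lit 0xe856e001),(nat_lit 0xe340c001),(nat_lit 0xe12ba001)],[(nat_lit 0xe2198001),(nat_lit 0xe2199001),(nat_lit 0xe219c001),(nat_lit 0xe2197001),(nat_lit 0xe219f001),(nat_lit 0xe219a001),(nat_lit 0xe219b001)],[(nat_lit 0xee435001),(nat_lit 0xeea92001),(nat_lit 0xee479001),(nat_lit 0xee437001),(nat_lit 0xee434001),(nat_lit 0xee436001),(nat_lit 0xee438001)],[(nat_lit 0xedb0f001),(nat_lit 0xe722f001),(nat_lit 0xe95af001),(nat_lit 0xe722e001),(nat_lit 0xeef8b001),(nat_lit 0xe7230001),(nat_lit 0xe7231001)],[(nat_lit 0xef5b7001),(nat_lit 0xef5b5001),(nat_lit 0xef5b4001),(nat_lit 0xef5c6001),(nat_lit 0xef5b6001),(nat_lit 0xef5b8001),(nat_lit 0xef5b3001)],[(nat_lit 0xe7e1c001),(nat_lit 0xe7e21001),(nat_lit 0xe7e1b001),(nat_lit 0xe7e1d001),(nat_lit 0xe7e1e001),(nat_lit 0xe7e1f001),(nat_lit 0xed689001)],[(nat_lit 0xeea68001),(nat_lit 0xecca6001),(nat_lit 0xed4e1001),(nat_lit 0xecca7001),(nat_lit 0xecca8001),(nat_lit 0xeeaa5001),(nat_lit 0xecca9001)],[(nat_lit 0xeab95001),(nat_lit 0xeab96001),(nat_lit 0xeab94001),(nat_lit 0xeab97001),(nat_lit 0xeab98001),(nat_lit 0xeab99001),(nat_lit 0xead50001)],[(nat_lit 0xe1dc9001),(nat_lit 0xe4f5e001),(nat_lit 0xe1e5b001),(nat_lit 0xdd98f001),(nat_lit 0xedafc001),(nat_lit 0xdd990001),(nat_lit 0xdd991001)],[(nat_lit 0xe4bac001),(nat_lit 0xe4eec001),(nat_lit 0xe4bab001),(nat_lit 0xe4bad001),(nat_lit 0xe4bae001),(nat_lit 0xe53b6001),(nat_lit 0xe4baf001)],[(nat_lit 0xe9308001),(nat_lit 0xe9309001),(nat_lit 0xe930b001),(nat_lit 0xe9307001),(nat_lit 0xed6ae001),(nat_lit 0xe930a001),(nat_lit 0xe930c001)],[(nat_lit 0xe7603001),(nat_lit 0xe7606001),(nat_lit 0xe7602001),(nat_lit 0xe7605001),(nat_lit 0xec2e1001),(nat_lit 0xe7604001),(nat_lit 0xe7607001)],[(nat_lit 0x897fd001),(nat_lit 0xc9cd4001),(nat_lit 0xaeb58897fe002),(nat_lit 0xbb568001),(nat_lit 0xaeb59897fc002),(nat_lit 0xaf236001),(nat_lit 0xe10ec001)],[(nat_lit 0xe128f001),(nat_lit 0x728de001),(nat_lit 0xa039e728df002),(nat_lit 0xce8cc001),(nat_lit 0xc49c07362d002),(nat_lit 0xc2a11728e0002),(nat_lit 0xc2917001)],[(nat_lit 0xe0f22001),(nat_lit 0xe0f23001),(nat_lit 0xe0f21001),(nat_lit 0xe0f25001),(nat_lit 0xe4d0a001),(nat_lit 0xe0f24001),(nat_lit 0xe0f26001)],[(nat_lit 0xe1269001),(nat_lit 0x73af6001),(nat_lit 0xe1a23001),(nat_lit 0x73af7001),(nat_lit 0xde19a001),(nat_lit 0x73af5001),(nat_lit 0xe11d8001)],[(nat_lit 0xeeca3001),(nat_lit 0xee3c5001),(nat_lit 0xee3c3001),(nat_lit 0xee414001),(nat_lit 0xee3c4001),(nat_lit 0xef4ad001),(nat_lit 0xee481001)],[(nat_lit 0xeef3b001),(nat_lit 0xeef54001),(nat_lit 0xeef74001),(nat_lit 0xeef3c001),(nat_lit 0xeef3d001),(nat_lit 0xeef3e001),(nat_lit 0xeef3a001)],[(nat_lit 0xde2fb001),(nat_lit 0xe99dc001),(nat_lit 0xd1c99001),(nat_lit 0xe6698e452d002),(nat_lit 0xdf5b3001),(nat_lit 0xde188001),(nat_lit 0x88626001)],[(nat_lit 0x64824001),(nat_lit 0xd7926001),(nat_lit 0xd791464823002),(nat_lit 0xd7928001),(nat_lit 0xd7929001),(nat_lit 0xd792a001),(nat_lit 0xe7f5c001)],[(nat_lit 0xef422001),(nat_lit 0xef423001),(nat_lit 0xef424001),(nat_lit 0xef42a001),(nat_lit 0xef421001),(nat_lit 0xef425001),(nat_lit 0xef426001)],[(nat_lit 0xee93e001),(nat_lit 0xef0cd001),(nat_lit 0xee942001),(nat_lit 0xee93d001),(nat_lit 0xee93f001),(nat_lit 0xee940001),(nat_lit 0xee941001)],[(nat_lit 0xee999001),(nat_lit 0xee99a001),(nat_lit 0xee99b001),(nat_lit 0xee998001),(nat_lit 0xee99c001),(nat_lit 0xee99d001),(nat_lit 0xee99e001)],[(nat_lit 0xaf623001),(nat_lit 0x8983a001),(nat_lit 0xc99fb001),(nat_lit 0xaf6248a03f002),(nat_lit 0xaf09c89839002),(nat_lit 0xafe1daf625002),(nat_lit 0xe7b72001)],[(nat_lit 0xe4a90001),(nat_lit 0xe0a69001),(nat_lit 0xe0a68001),(nat_lit 0xe0a6a001),(nat_lit 0xe7632001),(nat_lit 0xe316b001),(nat_lit 0xe8b11001)],[(nat_lit 0xdc852001),(nat_lit 0xdc853001),(nat_lit 0xdc854001),(nat_lit 0xdc855001),(nat_lit 0xdc856001),(nat_lit 0xdc857001),(nat_lit 0xdc858001)],[(nat_lit 0x955d8001),(nat_lit 0xe5d16001),(nat_lit 0x93db9001),(nat_lit 0x94847001),(nat_lit 0xde854001),(nat_lit 0x93db8001),(nat_lit 0xd46d8001)],[(nat_lit 0xee6dc001),(nat_lit 0xee6dd001),(nat_lit 0xee703001),(nat_lit 0xee6db001),(nat_lit 0xee6de001),(nat_lit 0xee6df001),(nat_lit 0xee6e0001)],[(nat_lit 0xd8648001),(nat_lit 0xea4a1001),(nat_lit 0xd8649001),(nat_lit 0xd864a001),(nat_lit 0xd864b001),(nat_lit 0xd8647001),(nat_lit 0xe7d74001)],[(nat_lit 0xe6e9b001),(nat_lit 0xe2117001),(nat_lit 0xe9ea2001),(nat_lit 0xe2116001),(nat_lit 0xe530f001),(nat_lit 0xe2118001),(nat_lit 0xe2119001)],[(nat_lit 0xe36c2001),(nat_lit 0xe7435001),(nat_lit 0xe36c0001),(nat_lit 0xe36c1001),(nat_lit 0xe6911001),(nat_lit 0xe3bdc001),(nat_lit 0xe36c3001)],[(nat_lit 0x881fd001),(nat_lit 0x8918f001),(nat_lit 0xcbdf2001),(nat_lit 0x881fc001),(nat_lit 0xc1d2a001),(nat_lit 0x89190001),(nat_lit 0xe46f4001)],[(nat_lit 0xe86f7001),(nat_lit 0xe8d0b001),(nat_lit 0xe86f6001),(nat_lit 0xe883e001),(nat_lit 0xe86f8001),(nat_lit 0xe86f9001),(nat_lit 0xe86f5001)],[(nat_lit 0xe8b7a001),(nat_lit 0x98639001),(nat_lit 0xc9b1d001),(nat_lit 0x9863a001),(nat_lit 0xe129b001),(nat_lit 0x98638001),(nat_lit 0xc74d8001)],[(nat_lit 0xe5247001),(nat_lit 0xe5248001),(nat_lit 0xe887f001),(nat_lit 0xe5243001),(nat_lit 0xe5246001),(nat_lit 0xe5249001),(nat_lit 0xe5242001)],[(nat_lit 0xe6661001),(nat_lit 0xef0c9001),(nat_lit 0xe6660001),(nat_lit 0xe689b001),(nat_lit 0xe6662001),(nat_lit 0xe78a1001),(nat_lit 0xe6663001)],[(nat_lit 0xde7a4001),(nat_lit 0x3c4df001),(nat_lit 0xe2c07001),(nat_lit 0xd3a6f001),(nat_lit 0xd55fb7fb1f002),(nat_lit 0x3c4de001),(nat_lit 0xe65a8001)],[(nat_lit 0x7e9da49919002),(nat_lit 0x7e9ed4991a002),(nat_lit 0xe915c001),(nat_lit 0xbcc3e001),(nat_lit 0xa43eb4991b002),(nat_lit 0xbf490001),(nat_lit 0xe6c8d001)],[(nat_lit 0x7e9d949a46002),(nat_lit 0x7f004001),(nat_lit 0xbf48b001),(nat_lit 0xa3c6a001),(nat_lit 0xa3c6b001),(nat_lit 0x7e9d649a45002),(nat_lit 0xc316d001)],[(nat_lit 0xebf41001),(nat_lit 0xeb142001),(nat_lit 0xeb03a001),(nat_lit 0xebd82001),(nat_lit 0xeb039001),(nat_lit 0xeb03b001),(nat_lit 0xeb03c001)],[(nat_lit 0xe4119001),(nat_lit 0xe9c5b001),(nat_lit 0xe4117001),(nat_lit 0xe4118001),(nat_lit 0xe411a001),(nat_lit 0xeca1f001),(nat_lit 0xe4116001)],[(nat_lit 0x76989001),(nat_lit 0xe33cf001),(nat_lit 0xe33d0001),(nat_lit 0xe33d1001),(nat_lit 0xe33bc76988002),(nat_lit 0xedaeb001),(nat_lit 0xedaec001)],[(nat_lit 0xe915a001),(nat_lit 0xe915b001),(nat_lit 0xe915c001),(nat_lit 0xe915d001),(nat_lit 0xe9159001),(nat_lit 0xe915e001),(nat_lit 0xe915f001)],[(nat_lit 0xec58c001),(nat_lit 0xec588001),(nat_lit 0xec587001),(nat_lit 0xec589001),(nat_lit 0xec58a001),(nat_lit 0xec58b001),(nat_lit 0xec58d001)],[(nat_lit 0xea6e8001),(nat_lit 0xea6e7001),(nat_lit 0xea6e9001),(nat_lit 0xea784001),(nat_lit 0xea6ea001),(nat_lit 0xea6eb001),(nat_lit 0xea937001)],[(nat_lit 0xebcae001),(nat_lit 0xebcaf001),(nat_lit 0xebcad001),(nat_lit 0xebcb0001),(nat_lit 0xebcb1001),(nat_lit 0xebcb3001),(nat_lit 0xebcb2001)],[(nat_lit 0x954c8001),(nat_lit 0xee0fb001),(nat_lit 0xe6f2d954c7002),(nat_lit 0xe6b7d001),(nat_lit 0xe9c3b001),(nat_lit 0xef0f1001),(nat_lit 0xe1d90001)],[(nat_lit 0xeb250001),(nat_lit 0xdc576001),(nat_lit 0xed17a001),(nat_lit 0xed1ad001),(nat_lit 0xdc575001),(nat_lit 0xeb482001),(nat_lit 0xeb5fb001)],[(nat_lit 0xe97b5001),(nat_lit 0xe97b6001),(nat_lit 0xe97b9001),(nat_lit 0xe97b4001),(nat_lit 0xe97b7001),(nat_lit 0xe97b8001),(nat_lit 0xe97ba001)],[(nat_lit 0xe1115001),(nat_lit 0xd92a1001),(nat_lit 0xdb4a3001),(nat_lit 0xd8746001),(nat_lit 0xe566d001),(nat_lit 0xd8745001),(nat_lit 0xe8b0a001)],[(nat_lit 0x8c743001),(nat_lit 0xee559001),(nat_lit 0xeeb01001),(nat_lit 0xe00b0001),(nat_lit 0xe5f12001),(nat_lit 0x8c742001),(nat_lit 0xd02d8001)],[(nat_lit 0xd44e8001),(nat_lit 0xdae7e001),(nat_lit 0xde6ea001),(nat_lit 0xc3a15001),(nat_lit 0xea5ee001),(nat_lit 0xdd3ee001),(nat_lit 0x7e386001)],[(nat_lit 0xe92ac001),(nat_lit 0xe92ad001),(nat_lit 0xe92ab001),(nat_lit 0xe92ae001),(nat_lit 0xe96f5001),(nat_lit 0xe92af001),(nat_lit 0xee768001)],[(nat_lit 0xea8e7001),(nat_lit 0xeabde001),(nat_lit 0xe678f001),(nat_lit 0xe6b55001),(nat_lit 0xe6790001),(nat_lit 0xe6791001),(nat_lit 0xe6b59001)],[(nat_lit 0xcc38d001),(nat_lit 0x6a522001),(nat_lit 0xcf148cc38e002),(nat_lit 0x6a521001),(nat_lit 0xe4f23001),(nat_lit 0x6a523001),(nat_lit 0xe44e6001)],[(nat_lit 0xe4a5e001),(nat_lit 0x6541e001),(nat_lit 0xdce17001),(nat_lit 0x6541d001),(nat_lit 0xef16a001),(nat_lit 0xe0619001),(nat_lit 0xdce3e001)],[(nat_lit 0xe9487001),(nat_lit 0xef168001),(nat_lit 0xe9488001),(nat_lit 0xe9486001),(nat_lit 0xe948b001),(nat_lit 0xe9aae001),(nat_lit 0xe9489001)],[(nat_lit 0xef648001),(nat_lit 0xef649001),(nat_lit 0xef64d001),(nat_lit 0xef64a001),(nat_lit 0xef64b001),(nat_lit 0xef647001),(nat_lit 0xef64c001)],[(nat_lit 0xe0a3b001),(nat_lit 0x8051e001),(nat_lit 0xd66d5001),(nat_lit 0xd65d7001),(nat_lit 0xce5a68051d002),(nat_lit 0xe0518001),(nat_lit 0xd6904001)],[(nat_lit 0xe961f001),(nat_lit 0xe9621001),(nat_lit 0xe961e001),(nat_lit 0xe9620001),(nat_lit 0xeb640001),(nat_lit 0xe9622001),(nat_lit 0xe961d001)],[(nat_lit 0xe359c001),(nat_lit 0xded92001),(nat_lit 0xded90001),(nat_lit 0xdf13d001),(nat_lit 0xe0946001),(nat_lit 0xded91001),(nat_lit 0x864bb001)],[(nat_lit 0xeebea001),(nat_lit 0xed92d001),(nat_lit 0xeea0a001),(nat_lit 0xed92b001),(nat_lit 0xed92e001),(nat_lit 0xed92f001),(nat_lit 0xed92a001)],[(nat_lit 0xe9a76001),(nat_lit 0x5eaed001),(nat_lit 0xec9d1001),(nat_lit 0xec4fd001),(nat_lit 0xaf8a55eaee002),(nat_lit 0x5eaec001),(nat_lit 0xee132001)],[(nat_lit 0xb54716348a002),(nat_lit 0x6348b001),(nat_lit 0xc4a3b001),(nat_lit 0x643f5001),(nat_lit 0x643f8001),(nat_lit 0x6438a001),(nat_lit 0xdc0eb001)],[(nat_lit 0x8e17e001),(nat_lit 0x8e17f001),(nat_lit 0xe9c38001),(nat_lit 0x8e17d001),(nat_lit 0xe6f2dc4add002),(nat_lit 0xe6f83001),(nat_lit 0xdc933001)],[(nat_lit 0xd63e1001),(nat_lit 0xebb4f001),(nat_lit 0xd63e2001),(nat_lit 0xd63e3001),(nat_lit 0xd63e4001),(nat_lit 0xe2854d63e5002),(nat_lit 0x695d9001)],[(nat_lit 0xcf22e8390e002),(nat_lit 0x8390f001),(nat_lit 0xcf23683910002),(nat_lit 0x83911001),(nat_lit 0x83912001),(nat_lit 0xcf22d83913002),(nat_lit 0x2c30f001)],[(nat_lit 0xebf74001),(nat_lit 0xebaca001),(nat_lit 0xe09b5001),(nat_lit 0xe09b3001),(nat_lit 0xe7ee8001),(nat_lit 0xe09b4001),(nat_lit 0xe09b6001)],[(nat_lit 0xe91c8001),(nat_lit 0xecd9d001),(nat_lit 0xe91c7001),(nat_lit 0xe91c9001),(nat_lit 0xea874001),(nat_lit 0xebb5a001),(nat_lit 0xe940e001)],[(nat_lit 0x72678001),(nat_lit 0xc3442001),(nat_lit 0xe1487001),(nat_lit 0x72679001),(nat_lit 0xb9dff001),(nat_lit 0x72677001),(nat_lit 0xdd7cf001)],[(nat_lit 0xec627001),(nat_lit 0xe855c001),(nat_lit 0xe8516001),(nat_lit 0xe8513001),(nat_lit 0xe8514001),(nat_lit 0xe8515001),(nat_lit 0xeb88c001)],[(nat_lit 0xec8af001),(nat_lit 0xe1021001),(nat_lit 0xe1025001),(nat_lit 0xe1020001),(nat_lit 0xe1024001),(nat_lit 0xe1022001),(nat_lit 0xe1023001)],[(nat_lit 0x6438c001),(nat_lit 0x643ee001),(nat_lit 0x643f1001),(nat_lit 0xd0137001),(nat_lit 0x63490001),(nat_lit 0xb544763491002),(nat_lit 0xd5dd9001)],[(nat_lit 0xe9887001),(nat_lit 0xe3ff7001),(nat_lit 0xe566f001),(nat_lit 0xe3ff6001),(nat_lit 0xe3ff8001),(nat_lit 0xe3ff9001),(nat_lit 0xe3ff5001)],[(nat_lit 0x645ef001),(nat_lit 0x63b89001),(nat_lit 0x645f1001),(nat_lit 0x645f4001),(nat_lit 0x643ed001),(nat_lit 0x63b88001),(nat_lit 0xd7cbd001)],[(nat_lit 0x645fd001),(nat_lit 0x645ff001),(nat_lit 0xcdaec001),(nat_lit 0x63e50001),(nat_lit 0xd46fe001),(nat_lit 0x64602001),(nat_lit 0xc7871001)],[(nat_lit 0x645dc001),(nat_lit 0xd810b64601002),(nat_lit 0x63b8b001),(nat_lit 0x64603001),(nat_lit 0x643f0001),(nat_lit 0x63b8a001),(nat_lit 0xea153001)],[(nat_lit 0xdcfe6001),(nat_lit 0xdc3c3001),(nat_lit 0xdc3c2001),(nat_lit 0xe3e36001),(nat_lit 0xdc3c4001),(nat_lit 0xe3a86001),(nat_lit 0xdc3c1001)],[(nat_lit 0xe3f67001),(nat_lit 0xde18a001),(nat_lit 0xde18c001),(nat_lit 0xe1412001),(nat_lit 0xed722001),(nat_lit 0xde18b001),(nat_lit 0xde18d001)],[(nat_lit 0xebf8e001),(nat_lit 0xebf8f001),(nat_lit 0xed53d001),(nat_lit 0xebf8d001),(nat_lit 0xebf90001),(nat_lit 0xecb76001),(nat_lit 0xebf8c001)],[(nat_lit 0x3a03e001),(nat_lit 0xb0ab4001),(nat_lit 0x3a03f001),(nat_lit 0xb0ab5001),(nat_lit 0xb0ab63a641002),(nat_lit 0x3a03d001),(nat_lit 0xdcfe4001)],[(nat_lit 0xec5a9001),(nat_lit 0x84018001),(nat_lit 0x84019001),(nat_lit 0xd7ca3001),(nat_lit 0xe19cd8401a002),(nat_lit 0x84017001),(nat_lit 0xec314001)],[(nat_lit 0xe2c7c001),(nat_lit 0xe2c7d001),(nat_lit 0xe2c7a001),(nat_lit 0xe2c79001),(nat_lit 0xe2c7b001),(nat_lit 0xe67fa001),(nat_lit 0xe2c7e001)],[(nat_lit 0xebf33001),(nat_lit 0xebf34001),(nat_lit 0xebf32001),(nat_lit 0xebf36001),(nat_lit 0xebf35001),(nat_lit 0xec054001),(nat_lit 0xebf37001)],[(nat_lit 0x65580001),(nat_lit 0x654c7001),(nat_lit 0xd7912001),(nat_lit 0x64624001),(nat_lit 0xe83cd001),(nat_lit 0x64623001),(nat_lit 0xedc29001)],[(nat_lit 0xef202001),(nat_lit 0xebfbf001),(nat_lit 0xebfbe001),(nat_lit 0xec0ff001),(nat_lit 0xebfc0001),(nat_lit 0xedc28001),(nat_lit 0xebfc1001)],[(nat_lit 0xe8f5f001),(nat_lit 0xe8f60001),(nat_lit 0xe8f5e001),(nat_lit 0xe8f62001),(nat_lit 0xec028001),(nat_lit 0xe8f61001),(nat_lit 0xeaef9001)],[(nat_lit 0xee886001),(nat_lit 0xee885001),(nat_lit 0xee88b001),(nat_lit 0xee887001),(nat_lit 0xee888001),(nat_lit 0xee889001),(nat_lit 0xee88a001)],[(nat_lit 0xec053001),(nat_lit 0xeb822001),(nat_lit 0xebf2d001),(nat_lit 0xeb821001),(nat_lit 0xeb823001),(nat_lit 0xeb824001),(nat_lit 0xeb825001)],[(nat_lit 0xeb922001),(nat_lit 0xeb925001),(nat_lit 0xec13b001),(nat_lit 0xeb921001),(nat_lit 0xedef6001),(nat_lit 0xeb923001),(nat_lit 0xeb924001)],[(nat_lit 0xe7e79001),(nat_lit 0xe7e7b001),(nat_lit 0xe80ea001),(nat_lit 0xe7e7a001),(nat_lit 0xe7e7c001),(nat_lit 0xe7e7d001),(nat_lit 0xe7e78001)],[(nat_lit 0xef5d8001),(nat_lit 0xef5d9001),(nat_lit 0xef5d7001),(nat_lit 0xef5df001),(nat_lit 0xef5da001),(nat_lit 0xef5db001),(nat_lit 0xef5dc001)],[(nat_lit 0xe79ba001),(nat_lit 0xef5e0001),(nat_lit 0xe789f001),(nat_lit 0xe7a3a001),(nat_lit 0xe78a0001),(nat_lit 0xe78a1001),(nat_lit 0xe78a2001)],[(nat_lit 0xe8622001),(nat_lit 0xe8623001),(nat_lit 0xe8627001),(nat_lit 0xe8621001),(nat_lit 0xe8624001),(nat_lit 0xe8625001),(nat_lit 0xe8626001)],[(nat_lit 0x9843d001),(nat_lit 0xd7528001),(nat_lit 0x9843c001),(nat_lit 0xe5704001),(nat_lit 0xd7dda001),(nat_lit 0xd8a7a001),(nat_lit 0xe7b8f001)],[(nat_lit 0xd7dd9001),(nat_lit 0xd784c001),(nat_lit 0x98352001),(nat_lit 0xe8167001),(nat_lit 0x98353001),(nat_lit 0xd892c001),(nat_lit 0xd87e6001)],[(nat_lit 0xd047693f61002),(nat_lit 0xe3a5e001),(nat_lit 0x93f60001),(nat_lit 0xe09d5001),(nat_lit 0x9576e001),(nat_lit 0x93f62001),(nat_lit 0xd04e8001)],[(nat_lit 0x6feb7001),(nat_lit 0xe2b75001),(nat_lit 0x6feb6001),(nat_lit 0xe56d0001),(nat_lit 0xdde09001),(nat_lit 0xe83dc001),(nat_lit 0xd3eff001)],[(nat_lit 0xeeb57001),(nat_lit 0xdfae9001),(nat_lit 0xe02e9001),(nat_lit 0xdfae8001),(nat_lit 0xdfaea001),(nat_lit 0xe747c001),(nat_lit 0xdfaeb001)],[(nat_lit 0xeef28001),(nat_lit 0xeef27001),(nat_lit 0xeef29001),(nat_lit 0xeef53001),(nat_lit 0xeef2a001),(nat_lit 0xeef2b001),(nat_lit 0xeef2c001)],[(nat_lit 0xead17001),(nat_lit 0xeacb4001),(nat_lit 0xeacb5001),(nat_lit 0xeae25001),(nat_lit 0xed3b3001),(nat_lit 0xece8c001),(nat_lit 0xeacb6001)],[(nat_lit 0xe98d6001),(nat_lit 0xef354001),(nat_lit 0xe6147001),(nat_lit 0xe66d1001),(nat_lit 0xee000001),(nat_lit 0xe6148001),(nat_lit 0xe6146001)],[(nat_lit 0xef5d2001),(nat_lit 0xef154001),(nat_lit 0xef167001),(nat_lit 0xef153001),(nat_lit 0xef155001),(nat_lit 0xef5c3001),(nat_lit 0xef152001)],[(nat_lit 0xecd1c001),(nat_lit 0xec640001),(nat_lit 0xec63e001),(nat_lit 0xec63f001),(nat_lit 0xeeb07001),(nat_lit 0xec641001),(nat_lit 0xec63d001)],[(nat_lit 0xec9ca001),(nat_lit 0xeca1d001),(nat_lit 0xeca46001),(nat_lit 0xec957001),(nat_lit 0xec958001),(nat_lit 0xec959001),(nat_lit 0xec956001)],[(nat_lit 0xe96b0001),(nat_lit 0xed000001),(nat_lit 0xe8390001),(nat_lit 0xe838e001),(nat_lit 0xe8a99001),(nat_lit 0xe838f001),(nat_lit 0xeabf4001)],[(nat_lit 0x8400c001),(nat_lit 0xeef9d001),(nat_lit 0xeb774001),(nat_lit 0xea05c001),(nat_lit 0x8400b001),(nat_lit 0xebd3d001),(nat_lit 0xca374001)],[(nat_lit 0xed605001),(nat_lit 0xed606001),(nat_lit 0xedd56001),(nat_lit 0xed604001),(nat_lit 0xed607001),(nat_lit 0xed608001),(nat_lit 0xed603001)],[(nat_lit 0xeb92c001),(nat_lit 0xeb92b001),(nat_lit 0xeb92d001),(nat_lit 0xeb92e001),(nat_lit 0xeb92f001),(nat_lit 0xeb930001),(nat_lit 0xec62a001)],[(nat_lit 0xeacd8001),(nat_lit 0xeae60001),(nat_lit 0xeacd5001),(nat_lit 0xeacd6001),(nat_lit 0xeacd9001),(nat_lit 0xeb4b6001),(nat_lit 0xeacd4001)],[(nat_lit 0xe9fbf001),(nat_lit 0xeccab001),(nat_lit 0xe91d3001),(nat_lit 0xe91d2001),(nat_lit 0xea0ff001),(nat_lit 0xed255001),(nat_lit 0xe93bb001)],[(nat_lit 0xef381001),(nat_lit 0xee49a001),(nat_lit 0xee7f3001),(nat_lit 0xee499001),(nat_lit 0xee49b001),(nat_lit 0xeeb77001),(nat_lit 0xee498001)],[(nat_lit 0xeef8c001),(nat_lit 0xe90c6001),(nat_lit 0xe919b001),(nat_lit 0xe890b001),(nat_lit 0xedb12001),(nat_lit 0xe890c001),(nat_lit 0xe890a001)],[(nat_lit 0xeeb75001),(nat_lit 0xee3b5001),(nat_lit 0xee3b7001),(nat_lit 0xee3b4001),(nat_lit 0xef2e8001),(nat_lit 0xef384001),(nat_lit 0xee3b6001)],[(nat_lit 0xef367001),(nat_lit 0xef368001),(nat_lit 0xef369001),(nat_lit 0xef366001),(nat_lit 0xef36a001),(nat_lit 0xef36b001),(nat_lit 0xef385001)],[(nat_lit 0xeefbb001),(nat_lit 0xeefbc001),(nat_lit 0xeefbd001),(nat_lit 0xeefba001),(nat_lit 0xeefbf001),(nat_lit 0xeefbe001),(nat_lit 0xeefdc001)],[(nat_lit 0xee5d5001),(nat_lit 0xe9363001),(nat_lit 0xe9364001),(nat_lit 0xeefb2001),(nat_lit 0xe9365001),(nat_lit 0xe9366001),(nat_lit 0xee665001)],[(nat_lit 0xe846d001),(nat_lit 0xe846e001),(nat_lit 0xe846f001),(nat_lit 0xe846c001),(nat_lit 0xe8470001),(nat_lit 0xe8471001),(nat_lit 0xe8472001)],[(nat_lit 0xe1e0d001),(nat_lit 0x5dd8d5112b002),(nat_lit 0xe8081001),(nat_lit 0x5de965112c002),(nat_lit 0xc8745001),(nat_lit 0x5dd8c5112a002),(nat_lit 0xd2f16001)],[(nat_lit 0xeea20001),(nat_lit 0xede14001),(nat_lit 0xede15001),(nat_lit 0xede62001),(nat_lit 0xede16001),(nat_lit 0xede17001),(nat_lit 0xede18001)],[(nat_lit 0xeea6d001),(nat_lit 0xeea6e001),(nat_lit 0xeea6f001),(nat_lit 0xeea6c001),(nat_lit 0xeea70001),(nat_lit 0xeea71001),(nat_lit 0xeea72001)],[(nat_lit 0xeeac9001),(nat_lit 0xeeaca001),(nat_lit 0xeeac8001),(nat_lit 0xeeaf4001),(nat_lit 0xeeacb001),(nat_lit 0xeeacc001),(nat_lit 0xeeacd001)],[(nat_lit 0xede0d001),(nat_lit 0xee62b001),(nat_lit 0x74ae2001),(nat_lit 0xee6d2001),(nat_lit 0x74ae1001),(nat_lit 0xef004001),(nat_lit 0xed34a001)],[(nat_lit 0xe40d9001),(nat_lit 0xedc44001),(nat_lit 0xeee5c001),(nat_lit 0xeefde001),(nat_lit 0xdcc64001),(nat_lit 0xe40d8001),(nat_lit 0xeee5f001)],[(nat_lit 0xeefb0001),(nat_lit 0xee5fd001),(nat_lit 0xee5fc001),(nat_lit 0xee5fe001),(nat_lit 0xeed33001),(nat_lit 0xeee24001),(nat_lit 0xee63e001)],[(nat_lit 0x55d39001),(nat_lit 0xad0fd55d3a002),(nat_lit 0xc80e17b193002),(nat_lit 0x55d3b001),(nat_lit 0x7b06f001),(nat_lit 0x55d3c001),(nat_lit 0xded36001)],[(nat_lit 0xc5ea4655d4002),(nat_lit 0xc5ecd001),(nat_lit 0xc5ece001),(nat_lit 0xc5ecf001),(nat_lit 0xc5ed0001),(nat_lit 0x655d3001),(nat_lit 0xd67c2001)],[(nat_lit 0xe7fa9001),(nat_lit 0xe7fa5001),(nat_lit 0xe7fa4001),(nat_lit 0xe7fa6001),(nat_lit 0xe7fa7001),(nat_lit 0xe7fa8001),(nat_lit 0xe7faa001)],[(nat_lit 0x83f0f001),(nat_lit 0xdbf0f83f14002),(nat_lit 0xdc581001),(nat_lit 0xc5ea782aaa002),(nat_lit 0x82aab001),(nat_lit 0xe17f8001),(nat_lit 0xd031f001)],[(nat_lit 0xef571001),(nat_lit 0xef4ed001),(nat_lit 0xef4e3001),(nat_lit 0xef4e2001),(nat_lit 0xef4e4001),(nat_lit 0xef574001),(nat_lit 0xef575001)],[(nat_lit 0xe7aa2001),(nat_lit 0xe7aa3001),(nat_lit 0xe7aa1001),(nat_lit 0xe8cca001),(nat_lit 0xe97d4001),(nat_lit 0xec16b001),(nat_lit 0xe7aa4001)],[(nat_lit 0xecd1c001),(nat_lit 0xecd1d001),(nat_lit 0xecd1b001),(nat_lit 0xecdb9001),(nat_lit 0xee3be001),(nat_lit 0xecd1e001),(nat_lit 0xecd1f001)],[(nat_lit 0xdd11cc7c6b002),(nat_lit 0xc7c6c001),(nat_lit 0xc7c69687d3002),(nat_lit 0xe8413001),(nat_lit 0xc7c61687d2002),(nat_lit 0xc7c6d001),(nat_lit 0xd9b9b001)],[(nat_lit 0xef5e4001),(nat_lit 0xee623001),(nat_lit 0xe9673001),(nat_lit 0xe9674001),(nat_lit 0xe9eb0001),(nat_lit 0xef5ab001),(nat_lit 0xedfc1001)],[(nat_lit 0xde503001),(nat_lit 0xde504001),(nat_lit 0xde505001),(nat_lit 0xde506001),(nat_lit 0xde502001),(nat_lit 0xde507001),(nat_lit 0xde508001)],[(nat_lit 0xedebc001),(nat_lit 0xedebd001),(nat_lit 0xedebe001),(nat_lit 0xedebb001),(nat_lit 0xedebf001),(nat_lit 0xedec0001),(nat_lit 0xedec1001)],[(nat_lit 0xe6159001),(nat_lit 0xed5b9001),(nat_lit 0xe615a001),(nat_lit 0xe6816e6481002),(nat_lit 0xe6158001),(nat_lit 0xe615b001),(nat_lit 0xe615c001)],[(nat_lit 0x68639001),(nat_lit 0xdc145001),(nat_lit 0x6863a001),(nat_lit 0xd6998001),(nat_lit 0x68638001),(nat_lit 0xe767c001),(nat_lit 0xe9e4e001)],[(nat_lit 0xef43a001),(nat_lit 0xef43b001),(nat_lit 0xef439001),(nat_lit 0xef442001),(nat_lit 0xef43c001),(nat_lit 0xef43d001),(nat_lit 0xef43e001)],[(nat_lit 0xedd5b001),(nat_lit 0xed2a0001),(nat_lit 0xed29f001),(nat_lit 0xed460001),(nat_lit 0xed2a1001),(nat_lit 0xed2a2001),(nat_lit 0xed2a3001)],[(nat_lit 0xee6f8001),(nat_lit 0xee6f9001),(nat_lit 0xee6fa001),(nat_lit 0xee6f7001),(nat_lit 0xee6fb001),(nat_lit 0xee6fc001),(nat_lit 0xee759001)],[(nat_lit 0xe8654001),(nat_lit 0xec6f2001),(nat_lit 0xe8651001),(nat_lit 0xe8796001),(nat_lit 0xe8652001),(nat_lit 0xeb584001),(nat_lit 0xe8653001)],[(nat_lit 0xeb320001),(nat_lit 0xeb31c001),(nat_lit 0xeb580001),(nat_lit 0xeb31b001),(nat_lit 0xeb31d001),(nat_lit 0xeb31e001),(nat_lit 0xeb31f001)],[(nat_lit 0x5223a001),(nat_lit 0xa8e136f622002),(nat_lit 0xa8e3c70e31002),(nat_lit 0x5223b001),(nat_lit 0xa8e3c70e2f002),(nat_lit 0x52239001),(nat_lit 0xedfcc001)],[(nat_lit 0xef212001),(nat_lit 0xee4a6001),(nat_lit 0xee501001),(nat_lit 0xee4a5001),(nat_lit 0xee4a7001),(nat_lit 0xef431001),(nat_lit 0xee4f9001)],[(nat_lit 0xef5a8001),(nat_lit 0xef0ea001),(nat_lit 0xef0e9001),(nat_lit 0xef0fb001),(nat_lit 0xef0eb001),(nat_lit 0xef5e7001),(nat_lit 0xef0ec001)],[(nat_lit 0xe9b8a001),(nat_lit 0xef5e5001),(nat_lit 0xe6fc6001),(nat_lit 0xe7146001),(nat_lit 0xe6fc7001),(nat_lit 0xec012001),(nat_lit 0xe6fc5001)],[(nat_lit 0xef5de001),(nat_lit 0xef5e0001),(nat_lit 0xef5e3001),(nat_lit 0xef5df001),(nat_lit 0xef5e1001),(nat_lit 0xef5e2001),(nat_lit 0xef5dd001)],[(nat_lit 0xef5ea001),(nat_lit 0xef5ec001),(nat_lit 0xef5f1001),(nat_lit 0xef5eb001),(nat_lit 0xef5ed001),(nat_lit 0xef5ee001),(nat_lit 0xef5e9001)],[(nat_lit 0xd3ac8001),(nat_lit 0x70c31001),(nat_lit 0x70c32001),(nat_lit 0xc7226001),(nat_lit 0x70c33001),(nat_lit 0x70c34001),(nat_lit 0xd793c001)],[(nat_lit 0xeec03001),(nat_lit 0xeec2b001),(nat_lit 0xeec02001),(nat_lit 0xeec05001),(nat_lit 0xeec04001),(nat_lit 0xef646001),(nat_lit 0xeec06001)],[(nat_lit 0xd6a83001),(nat_lit 0x7bf90001),(nat_lit 0x7bf91001),(nat_lit 0xdc56f001),(nat_lit 0x7bf92001),(nat_lit 0xddf3f001),(nat_lit 0xddfbf001)],[(nat_lit 0xdb065001),(nat_lit 0xdae7e001),(nat_lit 0xdae7b001),(nat_lit 0xdae7c001),(nat_lit 0xea45d001),(nat_lit 0xdd4c1001),(nat_lit 0xdae7a001)],[(nat_lit 0xef5fc001),(nat_lit 0xef066001),(nat_lit 0xef067001),(nat_lit 0xef0aa001),(nat_lit 0xef068001),(nat_lit 0xef5cf001),(nat_lit 0xef069001)],[(nat_lit 0x65296001),(nat_lit 0x6432a001),(nat_lit 0xe4d01001),(nat_lit 0xbe6dd001),(nat_lit 0xd7dc264329002),(nat_lit 0x6432b001),(nat_lit 0xd4d4b001)],[(nat_lit 0xeea1c001),(nat_lit 0xece25001),(nat_lit 0xece24001),(nat_lit 0xecec6001),(nat_lit 0xeeaf0001),(nat_lit 0xece27001),(nat_lit 0xece26001)],[(nat_lit 0xe9155001),(nat_lit 0xef40f001),(nat_lit 0xee3eb001),(nat_lit 0xe9154001),(nat_lit 0xe9156001),(nat_lit 0xe9157001),(nat_lit 0xe9158001)],[(nat_lit 0xe412f001),(nat_lit 0xe4a03001),(nat_lit 0xe412d001),(nat_lit 0xe412e001),(nat_lit 0xee3ea001),(nat_lit 0xe4130001),(nat_lit 0xe412c001)],[(nat_lit 0xeeb17001),(nat_lit 0xeeb18001),(nat_lit 0xeeb1a001),(nat_lit 0xeeb16001),(nat_lit 0xef257001),(nat_lit 0xeeb19001),(nat_lit 0xeeb1b001)],[(nat_lit 0x4626e001),(nat_lit 0x4626f001),(nat_lit 0x75573754c4002),(nat_lit 0xc9c9b001),(nat_lit 0x7556246270002),(nat_lit 0xed84d001),(nat_lit 0xec003001)],[(nat_lit 0xed22e001),(nat_lit 0xed230001),(nat_lit 0xed2ef001),(nat_lit 0xed22f001),(nat_lit 0xeed29001),(nat_lit 0xed231001),(nat_lit 0xed22d001)],[(nat_lit 0x6153d001),(nat_lit 0x41744001),(nat_lit 0x41745001),(nat_lit 0x997465f86b002),(nat_lit 0x41746001),(nat_lit 0x4617d001),(nat_lit 0xd84f2001)],[(nat_lit 0x63129001),(nat_lit 0x7ab37001),(nat_lit 0x6312a001),(nat_lit 0x6312b001),(nat_lit 0x63128001),(nat_lit 0x81d28001),(nat_lit 0xd0bc8001)],[(nat_lit 0xe4e83001),(nat_lit 0xe9b9e001),(nat_lit 0xe4e7f001),(nat_lit 0xe4e82001),(nat_lit 0xe4e80001),(nat_lit 0xe4e81001),(nat_lit 0xe4e84001)],[(nat_lit 0x8400c001),(nat_lit 0x83090001),(nat_lit 0xcb8c48400e002),(nat_lit 0x83e7c001),(nat_lit 0x8308f001),(nat_lit 0xe0fc1001),(nat_lit 0xd5634001)],[(nat_lit 0xec4f6001),(nat_lit 0xec6a7001),(nat_lit 0xec4f3001),(nat_lit 0xec4f4001),(nat_lit 0xec4f5001),(nat_lit 0xec4f7001),(nat_lit 0xec4f2001)],[(nat_lit 0xecb08001),(nat_lit 0x83083001),(nat_lit 0xeb112001),(nat_lit 0x83084001),(nat_lit 0xeb9d6001),(nat_lit 0x83082001),(nat_lit 0xdb191001)],[(nat_lit 0xe3c2b001),(nat_lit 0xe9d2b001),(nat_lit 0xe3c2a001),(nat_lit 0xe3c2c001),(nat_lit 0xea11c001),(nat_lit 0xe3c2d001),(nat_lit 0xe3c2e001)],[(nat_lit 0xed9f5001),(nat_lit 0xec5eb001),(nat_lit 0xec6a6001),(nat_lit 0xec5ec001),(nat_lit 0xec5ed001),(nat_lit 0xec5ee001),(nat_lit 0xec5ef001)],[(nat_lit 0xef5ea001),(nat_lit 0xee668001),(nat_lit 0xeefc6001),(nat_lit 0xe9674001),(nat_lit 0xead45001),(nat_lit 0xef5a5001),(nat_lit 0x83628001)],[(nat_lit 0xe3efb001),(nat_lit 0xe1fad001),(nat_lit 0xe1ebe001),(nat_lit 0xe1ec1001),(nat_lit 0xe1ebf001),(nat_lit 0xe1ec0001),(nat_lit 0xe2615001)],[(nat_lit 0x7c9ec001),(nat_lit 0xde3f2001),(nat_lit 0x7c9ed001),(nat_lit 0xdf233001),(nat_lit 0x7c9eb001),(nat_lit 0xe5c0a001),(nat_lit 0xb0f28001)],[(nat_lit 0x83e7f001),(nat_lit 0x83e80001),(nat_lit 0xec323001),(nat_lit 0x83e81001),(nat_lit 0xeef9e001),(nat_lit 0xd346683e82002),(nat_lit 0xd345f001)],[(nat_lit 0xd3133b94b1002),(nat_lit 0xb94a85f3a7002),(nat_lit 0xb94b2001),(nat_lit 0xb94a65f3a6002),(nat_lit 0xb94b3001),(nat_lit 0xb94b4001),(nat_lit 0xcd026001)],[(nat_lit 0xcaf41001),(nat_lit 0x95e58001),(nat_lit 0xe846f001),(nat_lit 0xe4693001),(nat_lit 0x95e57001),(nat_lit 0xe5acb001),(nat_lit 0xe435e001)],[(nat_lit 0xe5dcc001),(nat_lit 0xe5dc4001),(nat_lit 0xe5dc5001),(nat_lit 0xe5dc6001),(nat_lit 0xe5dc7001),(nat_lit 0xe5dc8001),(nat_lit 0xe5dc9001)],[(nat_lit 0xe7c26001),(nat_lit 0xe1a24001),(nat_lit 0xe1a23001),(nat_lit 0xe1a25001),(nat_lit 0xe1a26001),(nat_lit 0xe1a27001),(nat_lit 0xe1a28001)],[(nat_lit 0xe7fff001),(nat_lit 0x9a6fb7a4df002),(nat_lit 0xe4e7f001),(nat_lit 0x7a4de001),(nat_lit 0x7a4e0001),(nat_lit 0xe02a3001),(nat_lit 0xd7a82001)],[(nat_lit 0x92394001),(nat_lit 0x92395001),(nat_lit 0xe7820001),(nat_lit 0x92393001),(nat_lit 0x92396001),(nat_lit 0xe7230001),(nat_lit 0xecfb8001)],[(nat_lit 0x8b667001),(nat_lit 0xe15ae001),(nat_lit 0x8a386001),(nat_lit 0xcc649c5681002),(nat_lit 0x8a385001),(nat_lit 0x8bc77001),(nat_lit 0xcbdd5001)],[(nat_lit 0xdb861001),(nat_lit 0xee3bf001),(nat_lit 0xdb85a001),(nat_lit 0xe8356001),(nat_lit 0xecc00001),(nat_lit 0xebdfc001),(nat_lit 0x94475001)],[(nat_lit 0x3ae47001),(nat_lit 0xd38ad001),(nat_lit 0x3b2d1001),(nat_lit 0x3ae48001),(nat_lit 0xe1e22001),(nat_lit 0x3ae46001),(nat_lit 0xe6318001)],[(nat_lit 0xec5d1001),(nat_lit 0xebe06001),(nat_lit 0xebe09001),(nat_lit 0xebe05001),(nat_lit 0xee654001),(nat_lit 0xebe07001),(nat_lit 0xebe08001)],[(nat_lit 0xee64f001),(nat_lit 0xed5a0001),(nat_lit 0xed59e001),(nat_lit 0xed59f001),(nat_lit 0xed5a1001),(nat_lit 0xed5a2001),(nat_lit 0xed59d001)],[(nat_lit 0xe6492001),(nat_lit 0x59757001),(nat_lit 0xd6a7f001),(nat_lit 0x59756001),(nat_lit 0x59758001),(nat_lit 0x5b102001),(nat_lit 0xeafcb001)],[(nat_lit 0xec000001),(nat_lit 0xebfff001),(nat_lit 0xec002001),(nat_lit 0xecba6001),(nat_lit 0xecc10001),(nat_lit 0xec001001),(nat_lit 0xec003001)],[(nat_lit 0xed406001),(nat_lit 0xed407001),(nat_lit 0xed405001),(nat_lit 0xed40a001),(nat_lit 0xed408001),(nat_lit 0xed409001),(nat_lit 0xed45f001)],[(nat_lit 0xed215001),(nat_lit 0xeb5b8001),(nat_lit 0xeb71e001),(nat_lit 0xeb5b6001),(nat_lit 0xeb5b9001),(nat_lit 0xed951001),(nat_lit 0xeb5b5001)],[(nat_lit 0xe5400001),(nat_lit 0xe8452001),(nat_lit 0xe592c001),(nat_lit 0xe53ff001),(nat_lit 0xe5401001),(nat_lit 0xe5402001),(nat_lit 0xe5403001)],[(nat_lit 0xdaf85001),(nat_lit 0xe5314001),(nat_lit 0xca2d6001),(nat_lit 0xe80cd001),(nat_lit 0xda039001),(nat_lit 0xd7f87001),(nat_lit 0x98445001)],[(nat_lit 0xeef09001),(nat_lit 0xeb820001),(nat_lit 0xe94d0001),(nat_lit 0xe92c9001),(nat_lit 0x97814001),(nat_lit 0x97813001),(nat_lit 0xee9d6001)],[(nat_lit 0x958ff001),(nat_lit 0xd3709001),(nat_lit 0xeeef5001),(nat_lit 0xc1066958fe002),(nat_lit 0xee2f7001),(nat_lit 0xd370a001),(nat_lit 0xde0ec001)],[(nat_lit 0xece3e001),(nat_lit 0xe777d001),(nat_lit 0xe777e001),(nat_lit 0xe777f001),(nat_lit 0xe777c001),(nat_lit 0xe8506001),(nat_lit 0xe7780001)],[(nat_lit 0x875d3001),(nat_lit 0xcdae0875d2002),(nat_lit 0x875d4001),(nat_lit 0xea21b001),(nat_lit 0x875d5001),(nat_lit 0xebe24001),(nat_lit 0xea220001)],[(nat_lit 0x6d359001),(nat_lit 0xe14b0001),(nat_lit 0xec29e001),(nat_lit 0x6d358001),(nat_lit 0xce9de001),(nat_lit 0xea84d001),(nat_lit 0xebb5f001)],[(nat_lit 0xee449001),(nat_lit 0xed140001),(nat_lit 0xed143001),(nat_lit 0xed13f001),(nat_lit 0xed141001),(nat_lit 0xed142001),(nat_lit 0xee67e001)],[(nat_lit 0x91b2c001),(nat_lit 0xc1c77001),(nat_lit 0xa513091b2d002),(nat_lit 0xbe4c6001),(nat_lit 0xa66a691b2b002),(nat_lit 0xe4f32001),(nat_lit 0xe366b001)],[(nat_lit 0xd7436001),(nat_lit 0x95901001),(nat_lit 0xe78f7001),(nat_lit 0x95900001),(nat_lit 0xed9a4001),(nat_lit 0xd7b60001),(nat_lit 0xedcbe001)],[(nat_lit 0xeea0f001),(nat_lit 0xeea10001),(nat_lit 0xeea0e001),(nat_lit 0xeea12001),(nat_lit 0xeea14001),(nat_lit 0xeea11001),(nat_lit 0xeea13001)],[(nat_lit 0x9300b001),(nat_lit 0x9300162cce002),(nat_lit 0x9300c001),(nat_lit 0xe2e9f001),(nat_lit 0x62ccd001),(nat_lit 0x9300d001),(nat_lit 0xeee66001)],[(nat_lit 0xecd6b001),(nat_lit 0xecd6d001),(nat_lit 0xece3d001),(nat_lit 0xecd6c001),(nat_lit 0xecd6e001),(nat_lit 0xecd6f001),(nat_lit 0xecd6a001)],[(nat_lit 0xe125f001),(nat_lit 0xbdf765c4c2002),(nat_lit 0xdf07b001),(nat_lit 0xbdf955c4c1002),(nat_lit 0xee39f001),(nat_lit 0xd2481001),(nat_lit 0xe486e001)],[(nat_lit 0xef08b001),(nat_lit 0xe94ed001),(nat_lit 0xec793001),(nat_lit 0xe781e001),(nat_lit 0xe14a3001),(nat_lit 0xe95b1001),(nat_lit 0x60ed7001)],[(nat_lit 0x80d9a001),(nat_lit 0xcc687001),(nat_lit 0xc2d72001),(nat_lit 0x80d9b001),(nat_lit 0xe706b001),(nat_lit 0x80d99001),(nat_lit 0xec797001)],[(nat_lit 0x9011d001),(nat_lit 0x9011e001),(nat_lit 0xe01ad001),(nat_lit 0xcc1b69011f002),(nat_lit 0xeedd5001),(nat_lit 0x90120001),(nat_lit 0xcdc08001)],[(nat_lit 0xe6f7c001),(nat_lit 0xe70b2001),(nat_lit 0xe6f7b001),(nat_lit 0xe6f7d001),(nat_lit 0xe752f001),(nat_lit 0xe6f7e001),(nat_lit 0xedc50001)],[(nat_lit 0x81aa7001),(nat_lit 0xb01e781ad1002),(nat_lit 0xb94b680bc3002),(nat_lit 0x81d29001),(nat_lit 0x80bc2001),(nat_lit 0x80bc4001),(nat_lit 0xe0e8c001)],[(nat_lit 0xed4d8001),(nat_lit 0xeea51001),(nat_lit 0xed4d9001),(nat_lit 0xed543001),(nat_lit 0xed4d7001),(nat_lit 0xee9d4001),(nat_lit 0xed4da001)],[(nat_lit 0xed453001),(nat_lit 0xed454001),(nat_lit 0xed452001),(nat_lit 0xed455001),(nat_lit 0xed456001),(nat_lit 0xed457001),(nat_lit 0xed458001)],[(nat_lit 0xead89001),(nat_lit 0xe902a001),(nat_lit 0xe9029001),(nat_lit 0xe902b001),(nat_lit 0xe902c001),(nat_lit 0xe902d001),(nat_lit 0xef65a001)],[(nat_lit 0xe9984001),(nat_lit 0xecf51001),(nat_lit 0xe5edd001),(nat_lit 0xe5ede001),(nat_lit 0xe5edf001),(nat_lit 0xe5ee0001),(nat_lit 0xe9776001)],[(nat_lit 0x778a3001),(nat_lit 0xd1f17001),(nat_lit 0xe32c4001),(nat_lit 0xcb1e6001),(nat_lit 0x778a2001),(nat_lit 0xecde1001),(nat_lit 0xe32cc001)],[(nat_lit 0x65f4a001),(nat_lit 0x750d7001),(nat_lit 0x662d9001),(nat_lit 0x80d2c001),(nat_lit 0x65f49001),(nat_lit 0x65f4b001),(nat_lit 0xe05cf001)],[(nat_lit 0xe1f64001),(nat_lit 0xe971ce42d1002),(nat_lit 0xe3f01001),(nat_lit 0xe1f65001),(nat_lit 0xeaa68001),(nat_lit 0xe3f04001),(nat_lit 0xe1f63001)],[(nat_lit 0xe9872001),(nat_lit 0xe9873001),(nat_lit 0xe99f1001),(nat_lit 0xe9871001),(nat_lit 0xef0eb001),(nat_lit 0xe9874001),(nat_lit 0xe9875001)],[(nat_lit 0xef5a8001),(nat_lit 0xef5a9001),(nat_lit 0xef5af001),(nat_lit 0xef5a7001),(nat_lit 0xef5aa001),(nat_lit 0xef5ab001),(nat_lit 0xef5ac001)],[(nat_lit 0xe9547001),(nat_lit 0xec1a7001),(nat_lit 0xe3f00001),(nat_lit 0xe4162001),(nat_lit 0xeecdc001),(nat_lit 0xe3f9c001),(nat_lit 0xe3eff001)],[(nat_lit 0xeb969001),(nat_lit 0xeb349001),(nat_lit 0xeb47b001),(nat_lit 0xeb34a001),(nat_lit 0xeb34b001),(nat_lit 0xeb34c001),(nat_lit 0xeb34d001)],[(nat_lit 0xeb48a001),(nat_lit 0xe6efd001),(nat_lit 0xe6efc001),(nat_lit 0xe6efe001),(nat_lit 0xe6eff001),(nat_lit 0xe9c9c001),(nat_lit 0xee9df001)],[(nat_lit 0x4a823001),(nat_lit 0x85717001),(nat_lit 0xebafe001),(nat_lit 0xc4f0a001),(nat_lit 0x54354001),(nat_lit 0x4a822001),(nat_lit 0xe723c001)],[(nat_lit 0xed060001),(nat_lit 0xeed28001),(nat_lit 0xed061001),(nat_lit 0xed05f001),(nat_lit 0xed062001),(nat_lit 0xed063001),(nat_lit 0xed064001)],[(nat_lit 0xec8b9001),(nat_lit 0xea56e001),(nat_lit 0xea56d001),(nat_lit 0xea570001),(nat_lit 0xea56f001),(nat_lit 0xeba96001),(nat_lit 0xeb6b8001)],[(nat_lit 0xe6905001),(nat_lit 0xe74bf001),(nat_lit 0xe731a001),(nat_lit 0xe6904001),(nat_lit 0xe6906001),(nat_lit 0xe6907001),(nat_lit 0xe6908001)],[(nat_lit 0xe4be2001),(nat_lit 0xec8bb001),(nat_lit 0xe72c8001),(nat_lit 0xe450f001),(nat_lit 0xe9eb2001),(nat_lit 0xee0e5001),(nat_lit 0xe4510001)],[(nat_lit 0xe920f001),(nat_lit 0xe948c001),(nat_lit 0xe920e001),(nat_lit 0xe9486001),(nat_lit 0xec8bc001),(nat_lit 0xe9210001),(nat_lit 0xe920d001)],[(nat_lit 0xe0edb001),(nat_lit 0xcb663840cc002),(nat_lit 0xd4ffb001),(nat_lit 0xce2b9840cb002),(nat_lit 0xdece7001),(nat_lit 0xe4d43001),(nat_lit 0xd666a001)],[(nat_lit 0xeef34001),(nat_lit 0xeef35001),(nat_lit 0xeef36001),(nat_lit 0xeef33001),(nat_lit 0xeef37001),(nat_lit 0xeef38001),(nat_lit 0xeef39001)],[(nat_lit 0xee36d001),(nat_lit 0xee36c001),(nat_lit 0xee36e001),(nat_lit 0xee3b8001),(nat_lit 0xee36f001),(nat_lit 0xee370001),(nat_lit 0xee371001)],[(nat_lit 0xe5f10001),(nat_lit 0xbccea8c64f002),(nat_lit 0xe15de001),(nat_lit 0xd1c4f001),(nat_lit 0x8c64e001),(nat_lit 0xbccdc8c650002),(nat_lit 0xd4636001)],[(nat_lit 0xef330001),(nat_lit 0xef331001),(nat_lit 0xef332001),(nat_lit 0xef32f001),(nat_lit 0xef333001),(nat_lit 0xef334001),(nat_lit 0xef336001)],[(nat_lit 0xe7de0001),(nat_lit 0xe7de1001),(nat_lit 0xeb536001),(nat_lit 0xe7ddf001),(nat_lit 0xee55b001),(nat_lit 0xe7de2001),(nat_lit 0xe7dde001)],[(nat_lit 0xeb537001),(nat_lit 0xe04fc001),(nat_lit 0xe6d84001),(nat_lit 0xe6f9e001),(nat_lit 0xe04f8001),(nat_lit 0xeaff9001),(nat_lit 0xd8fbf001)],[(nat_lit 0xe7ad4001),(nat_lit 0xe6ec1001),(nat_lit 0xe6ec3001),(nat_lit 0xe6ec0001),(nat_lit 0xe6ec2001),(nat_lit 0xeb0da001),(nat_lit 0xe738b001)],[(nat_lit 0xeb302001),(nat_lit 0xeb182001),(nat_lit 0xeae29001),(nat_lit 0xeae28001),(nat_lit 0xeae2a001),(nat_lit 0xec5db001),(nat_lit 0xeae2b001)],[(nat_lit 0x851c2001),(nat_lit 0xe4ea2001),(nat_lit 0xd00d1001),(nat_lit 0x851c1001),(nat_lit 0xeb301001),(nat_lit 0xd3d2e001),(nat_lit 0xec714001)],[(nat_lit 0xeaff6001),(nat_lit 0xebbfb001),(nat_lit 0xe253c001),(nat_lit 0xe253b001),(nat_lit 0xe5ca7001),(nat_lit 0xeb53b001),(nat_lit 0xe253a001)],[(nat_lit 0xe9ea9001),(nat_lit 0xef2de001),(nat_lit 0xe9ea8001),(nat_lit 0xe9eaa001),(nat_lit 0xee3ac001),(nat_lit 0xea4d6001),(nat_lit 0xe9eab001)],[(nat_lit 0xe0121001),(nat_lit 0xde7fd001),(nat_lit 0xde7fe001),(nat_lit 0xde7ff001),(nat_lit 0xde7fc001),(nat_lit 0xe02f9001),(nat_lit 0xde800001)],[(nat_lit 0xd1b4e001),(nat_lit 0xbcd607f3fe002),(nat_lit 0xd29a1001),(nat_lit 0xdb120001),(nat_lit 0xea467001),(nat_lit 0xbed887f3fd002),(nat_lit 0xeede2001)],[(nat_lit 0xbf465001),(nat_lit 0xdb11f001),(nat_lit 0xbcd66001),(nat_lit 0xbcd607f404002),(nat_lit 0xce0a3c79cd002),(nat_lit 0xb6d5c7f403002),(nat_lit 0xdc43a001)],[(nat_lit 0xe3bd4001),(nat_lit 0xb6d5c7f3fa002),(nat_lit 0xdb25e001),(nat_lit 0xbed887f3f9002),(nat_lit 0xdbb2a001),(nat_lit 0xdb121001),(nat_lit 0xed10b001)],[(nat_lit 0xee26f001),(nat_lit 0xebaca001),(nat_lit 0xebc77001),(nat_lit 0xebac9001),(nat_lit 0xebacc001),(nat_lit 0xebacb001),(nat_lit 0xebac8001)],[(nat_lit 0xebd6a001),(nat_lit 0xebd6b001),(nat_lit 0xebd69001),(nat_lit 0xebd6c001),(nat_lit 0xecb79001),(nat_lit 0xebd6d001),(nat_lit 0xebe53001)],[(nat_lit 0xd63cd001),(nat_lit 0x6e8f0001),(nat_lit 0xccfef6e8f1002),(nat_lit 0xe43f2001),(nat_lit 0xccfee95ef2002),(nat_lit 0x6e8ef001),(nat_lit 0xe4bb9001)],[(nat_lit 0xe03e0001),(nat_lit 0xd15508007f002),(nat_lit 0xd1ba4001),(nat_lit 0xddda2001),(nat_lit 0xd1bfd001),(nat_lit 0xd15468007e002),(nat_lit 0xd1ec2001)],[(nat_lit 0xeeacf001),(nat_lit 0xea50d001),(nat_lit 0xea50f001),(nat_lit 0xea50c001),(nat_lit 0xebc78001),(nat_lit 0xea50e001),(nat_lit 0xef438001)],[(nat_lit 0xd85ae001),(nat_lit 0xd85ad001),(nat_lit 0xd85af001),(nat_lit 0xeb2c2001),(nat_lit 0xde010d8a63002),(nat_lit 0xd85b0001),(nat_lit 0xeef4a001)],[(nat_lit 0xeeaf3001),(nat_lit 0xd89e5001),(nat_lit 0xeb422001),(nat_lit 0xd89e4001),(nat_lit 0xd89e7001),(nat_lit 0xd89e6001),(nat_lit 0xee2bc001)],[(nat_lit 0xce507001),(nat_lit 0xcb6e49356e002),(nat_lit 0xec216001),(nat_lit 0xc2db8001),(nat_lit 0xa66949356d002),(nat_lit 0xe8be7001),(nat_lit 0xd6c19001)],[(nat_lit 0xe75e1001),(nat_lit 0xe118e001),(nat_lit 0xe118c001),(nat_lit 0xe5659001),(nat_lit 0xe565d001),(nat_lit 0xe118d001),(nat_lit 0xe565c001)],[(nat_lit 0xb3a8b001),(nat_lit 0xb3a617e2a0002),(nat_lit 0xb3a8c001),(nat_lit 0xb3a5a7e2a1002),(nat_lit 0xca6a0bb9da002),(nat_lit 0xbe3817e29f002),(nat_lit 0xbc6b9001)],[(nat_lit 0xe97d1001),(nat_lit 0xe97d2001),(nat_lit 0xe97d0001),(nat_lit 0xe97d3001),(nat_lit 0xe97d4001),(nat_lit 0xeb684001),(nat_lit 0xe97d6001)],[(nat_lit 0xeaaea001),(nat_lit 0xeaaeb001),(nat_lit 0xeaaec001),(nat_lit 0xeaae9001),(nat_lit 0xeaaed001),(nat_lit 0xeaaee001),(nat_lit 0xeaaef001)],[(nat_lit 0x96059001),(nat_lit 0x97848001),(nat_lit 0x96058001),(nat_lit 0xca7d4001),(nat_lit 0x97ad8001),(nat_lit 0x97ada001),(nat_lit 0xe2e6d001)],[(nat_lit 0xedd4a001),(nat_lit 0xed6f9001),(nat_lit 0xed7a0001),(nat_lit 0xed6f8001),(nat_lit 0xed6fa001),(nat_lit 0xed6fb001),(nat_lit 0xed6fc001)],[(nat_lit 0xe447c001),(nat_lit 0xdcfd8001),(nat_lit 0xed8e0001),(nat_lit 0xdcfd7001),(nat_lit 0xe7c18001),(nat_lit 0xe635c001),(nat_lit 0xdcfd6001)],[(nat_lit 0xed134001),(nat_lit 0xed135001),(nat_lit 0xed136001),(nat_lit 0xed133001),(nat_lit 0xeeed9001),(nat_lit 0xed137001),(nat_lit 0xed138001)],[(nat_lit 0x80d2b001),(nat_lit 0xc0c0880d2f002),(nat_lit 0xc6992001),(nat_lit 0x802ff001),(nat_lit 0xbd965001),(nat_lit 0x802fe001),(nat_lit 0xd7d0d001)],[(nat_lit 0xec7a7001),(nat_lit 0xec7aa001),(nat_lit 0xec7a6001),(nat_lit 0xec7a8001),(nat_lit 0xede49001),(nat_lit 0xec7a9001),(nat_lit 0xec7a5001)],[(nat_lit 0xed279001),(nat_lit 0xed2d3001),(nat_lit 0xed27a001),(nat_lit 0xed2d1001),(nat_lit 0xed278001),(nat_lit 0xed27b001),(nat_lit 0xed27c001)],[(nat_lit 0xa79bb7d309002),(nat_lit 0x9cf2f7d30a002),(nat_lit 0x7d30b001),(nat_lit 0xb867d001),(nat_lit 0xa8d377e3b9002),(nat_lit 0x7d30c001),(nat_lit 0xe2786001)],[(nat_lit 0xe0e33dc9f5002),(nat_lit 0xdc576001),(nat_lit 0xe8d04001),(nat_lit 0xdcd7d001),(nat_lit 0xd9b85001),(nat_lit 0xeb32a001),(nat_lit 0xe2e84001)],[(nat_lit 0xe734e001),(nat_lit 0xe7353001),(nat_lit 0xe734d001),(nat_lit 0xe734f001),(nat_lit 0xe7350001),(nat_lit 0xe7351001),(nat_lit 0xe7352001)],[(nat_lit 0xe0389001),(nat_lit 0xe0944001),(nat_lit 0xe038a001),(nat_lit 0xe0388001),(nat_lit 0xe038c001),(nat_lit 0xe41c3001),(nat_lit 0xe038b001)],[(nat_lit 0xef244001),(nat_lit 0xef246001),(nat_lit 0xef243001),(nat_lit 0xef245001),(nat_lit 0xef247001),(nat_lit 0xef248001),(nat_lit 0xef242001)],[(nat_lit 0xe2d9c001),(nat_lit 0xe4841001),(nat_lit 0xdc6d5001),(nat_lit 0xdc6d4001),(nat_lit 0xeb17d001),(nat_lit 0xde862001),(nat_lit 0xdc6d3001)],[(nat_lit 0xc37a181d49002),(nat_lit 0xdad6f001),(nat_lit 0x81078001),(nat_lit 0x819f6001),(nat_lit 0x81d4b001),(nat_lit 0x81077001),(nat_lit 0xbb20a001)],[(nat_lit 0xeeb4b001),(nat_lit 0xed3bd001),(nat_lit 0xed3bc001),(nat_lit 0xeefd7001),(nat_lit 0xed3be001),(nat_lit 0xed3bf001),(nat_lit 0xeecbb001)],[(nat_lit 0xcee498707f002),(nat_lit 0xcee4b87085002),(nat_lit 0xecd9c001),(nat_lit 0xcee5086b97002),(nat_lit 0xcee4186b98002),(nat_lit 0xeec96001),(nat_lit 0xe83c0001)],[(nat_lit 0xee244001),(nat_lit 0xee245001),(nat_lit 0xee243001),(nat_lit 0xee271001),(nat_lit 0xee246001),(nat_lit 0xee247001),(nat_lit 0xee248001)],[(nat_lit 0xee90a001),(nat_lit 0xee90b001),(nat_lit 0xee930001),(nat_lit 0xee909001),(nat_lit 0xee90c001),(nat_lit 0xee90d001),(nat_lit 0xee908001)],[(nat_lit 0xeea9c001),(nat_lit 0xed6c7001),(nat_lit 0xec92d001),(nat_lit 0xec92c001),(nat_lit 0xec92e001),(nat_lit 0xee8d2001),(nat_lit 0xec92f001)],[(nat_lit 0xeea98001),(nat_lit 0xeeaa8001),(nat_lit 0xeea97001),(nat_lit 0xeea9d001),(nat_lit 0xeea99001),(nat_lit 0xeea9a001),(nat_lit 0xeea96001)],[(nat_lit 0xef2cb001),(nat_lit 0xef2cd001),(nat_lit 0xef2e0001),(nat_lit 0xef2cc001),(nat_lit 0xef2ce001),(nat_lit 0xef2cf001),(nat_lit 0xef2ca001)],[(nat_lit 0xcff8f88ffd002),(nat_lit 0x88ffe001),(nat_lit 0xadb5e88fff002),(nat_lit 0xdb321001),(nat_lit 0xbad94ae88a002),(nat_lit 0x89000001),(nat_lit 0xdb323001)],[(nat_lit 0xe2c71001),(nat_lit 0xe9563001),(nat_lit 0xe67bb001),(nat_lit 0xe6232001),(nat_lit 0xe2963001),(nat_lit 0xe2964001),(nat_lit 0x4ada4001)],[(nat_lit 0xeb84c001),(nat_lit 0xef4cb001),(nat_lit 0xeb84d001),(nat_lit 0xeb84b001),(nat_lit 0xeb84e001),(nat_lit 0xeb84f001),(nat_lit 0xeb850001)],[(nat_lit 0x76ec9001),(nat_lit 0xd01b07855f002),(nat_lit 0xddf41001),(nat_lit 0x76eca001),(nat_lit 0x7fea4001),(nat_lit 0x76ec8001),(nat_lit 0xe7c5a001)],[(nat_lit 0xeec0f001),(nat_lit 0xeec0e001),(nat_lit 0xeec11001),(nat_lit 0xeec34001),(nat_lit 0xeec10001),(nat_lit 0xeee0d001),(nat_lit 0xeec2f001)],[(nat_lit 0x64ca7001),(nat_lit 0xe8746001),(nat_lit 0x63cb0001),(nat_lit 0xcc723001),(nat_lit 0x63cb1001),(nat_lit 0x63caf001),(nat_lit 0xc95b3001)],[(nat_lit 0xa61e397598002),(nat_lit 0x97599001),(nat_lit 0xdb6bf001),(nat_lit 0x9759a001),(nat_lit 0xa61e39759b002),(nat_lit 0xe7114001),(nat_lit 0xe2290001)],[(nat_lit 0x7d555001),(nat_lit 0x7d559001),(nat_lit 0xd096e001),(nat_lit 0x76888001),(nat_lit 0xdacde001),(nat_lit 0x76887001),(nat_lit 0xd096f001)],[(nat_lit 0x241d0001),(nat_lit 0x2522d001),(nat_lit 0x3dbe3001),(nat_lit 0x241d1001),(nat_lit 0x241cf001),(nat_lit 0x241d2001),(nat_lit 0x70456001)],[(nat_lit 0xe3171001),(nat_lit 0xdd445001),(nat_lit 0xed52a001),(nat_lit 0xed438001),(nat_lit 0xdd444001),(nat_lit 0xe5660001),(nat_lit 0x3dbe0001)],[(nat_lit 0xd31a7001),(nat_lit 0xd32e7001),(nat_lit 0xce905001),(nat_lit 0xcd947001),(nat_lit 0xe1bc7001),(nat_lit 0xd3d3f001),(nat_lit 0x8133f001)],[(nat_lit 0xe775c001),(nat_lit 0xe7757001),(nat_lit 0xe7759001),(nat_lit 0xe7756001),(nat_lit 0xe7758001),(nat_lit 0xe7f54001),(nat_lit 0xe7755001)],[(nat_lit 0xdc946001),(nat_lit 0xdc94c001),(nat_lit 0xdc521001),(nat_lit 0xdc674001),(nat_lit 0xdc522001),(nat_lit 0xdc520001),(nat_lit 0xee7a7001)],[(nat_lit 0xeec5c001),(nat_lit 0xeec5d001),(nat_lit 0xeec86001),(nat_lit 0xeec5b001),(nat_lit 0xeec60001),(nat_lit 0xeec5e001),(nat_lit 0xeec5f001)],[(nat_lit 0x93f1b001),(nat_lit 0x93f1c001),(nat_lit 0xc18e0001),(nat_lit 0xabc6693f1a002),(nat_lit 0x93f1d001),(nat_lit 0x93f1e001),(nat_lit 0xe127d001)],[(nat_lit 0xee80e001),(nat_lit 0xee80d001),(nat_lit 0xee80f001),(nat_lit 0xee85a001),(nat_lit 0xee810001),(nat_lit 0xee811001),(nat_lit 0xee812001)],[(nat_lit 0xee9ca001),(nat_lit 0xe94c9001),(nat_lit 0xe94c5001),(nat_lit 0xe94c7001),(nat_lit 0xe96c9001),(nat_lit 0xe94c6001),(nat_lit 0xee214001)],[(nat_lit 0x58182001),(nat_lit 0x5781c001),(nat_lit 0x5817f001),(nat_lit 0xecef6001),(nat_lit 0x5781d001),(nat_lit 0x5781b001),(nat_lit 0xe326e001)],[(nat_lit 0xed9f5001),(nat_lit 0xed9f6001),(nat_lit 0xed9f4001),(nat_lit 0xedc3a001),(nat_lit 0xed9f7001),(nat_lit 0xed9f8001),(nat_lit 0xed9f9001)],[(nat_lit 0xed5ab001),(nat_lit 0xeb805001),(nat_lit 0xeb804001),(nat_lit 0xeb806001),(nat_lit 0xeb807001),(nat_lit 0xeb808001),(nat_lit 0xeb9f8001)],[(nat_lit 0xee504001),(nat_lit 0xeab6e001),(nat_lit 0xedcdd001),(nat_lit 0xeab6f001),(nat_lit 0xeddf2001),(nat_lit 0xed93b001),(nat_lit 0xeab70001)],[(nat_lit 0xeec25001),(nat_lit 0xef35d001),(nat_lit 0xee782001),(nat_lit 0xee783001),(nat_lit 0xeebc0001),(nat_lit 0xee784001),(nat_lit 0xee785001)],[(nat_lit 0x74f9b001),(nat_lit 0xea872001),(nat_lit 0xcdfe8001),(nat_lit 0x74f9a001),(nat_lit 0xecd9e001),(nat_lit 0x74f9c001),(nat_lit 0xc95b3001)],[(nat_lit 0xedb2a001),(nat_lit 0xecc77001),(nat_lit 0xedf2a001),(nat_lit 0xecc78001),(nat_lit 0xecc79001),(nat_lit 0xecc7a001),(nat_lit 0xecc7b001)],[(nat_lit 0xeda9c001),(nat_lit 0xeda9d001),(nat_lit 0xeda9b001),(nat_lit 0xedad0001),(nat_lit 0xeda9e001),(nat_lit 0xedf2f001),(nat_lit 0xeda9f001)],[(nat_lit 0xeeac2001),(nat_lit 0xeeac3001),(nat_lit 0xeeac6001),(nat_lit 0xeeac1001),(nat_lit 0xeeac4001),(nat_lit 0xeeac5001),(nat_lit 0xeeac7001)],[(nat_lit 0xec440001),(nat_lit 0xec287001),(nat_lit 0xec125001),(nat_lit 0xec23c001),(nat_lit 0xec126001),(nat_lit 0xec127001),(nat_lit 0xec128001)],[(nat_lit 0xebc29001),(nat_lit 0xdc2ad001),(nat_lit 0xe802f001),(nat_lit 0xdc2ae001),(nat_lit 0xedd8e001),(nat_lit 0xeb6c2001),(nat_lit 0xdc2af001)],[(nat_lit 0xe914c001),(nat_lit 0xec156001),(nat_lit 0x7dfe3001),(nat_lit 0xe3d5e001),(nat_lit 0x7dfe2001),(nat_lit 0xed4eb001),(nat_lit 0xe914f001)],[(nat_lit 0xed819001),(nat_lit 0xed80c001),(nat_lit 0xec84d001),(nat_lit 0xec71f001),(nat_lit 0xec720001),(nat_lit 0xec721001),(nat_lit 0xec722001)],[(nat_lit 0xe9c3e001),(nat_lit 0xe264e001),(nat_lit 0xe2650001),(nat_lit 0xec3ef001),(nat_lit 0xe9ad1001),(nat_lit 0xe264f001),(nat_lit 0xe6097001)],[(nat_lit 0xd6d7f001),(nat_lit 0xeb6a0001),(nat_lit 0x747e3001),(nat_lit 0xeb33f001),(nat_lit 0x747e2001),(nat_lit 0xeeaec001),(nat_lit 0xcaf8d001)],[(nat_lit 0xe45b2001),(nat_lit 0xe45ac001),(nat_lit 0xe45ad001),(nat_lit 0xe45ae001),(nat_lit 0xe45af001),(nat_lit 0xee896001),(nat_lit 0xe45b0001)],[(nat_lit 0xeae74001),(nat_lit 0xeae73001),(nat_lit 0xeaf5c001),(nat_lit 0xeae72001),(nat_lit 0xee9f6001),(nat_lit 0xeddd5001),(nat_lit 0xeae71001)],[(nat_lit 0xef4bb001),(nat_lit 0xef4ba001),(nat_lit 0xef4bc001),(nat_lit 0xef4c0001),(nat_lit 0xef4bd001),(nat_lit 0xef4be001),(nat_lit 0xef4bf001)],[(nat_lit 0x8a384001),(nat_lit 0xe48e5001),(nat_lit 0x8a383001),(nat_lit 0xbbc88001),(nat_lit 0x8b666001),(nat_lit 0x8b5e8001),(nat_lit 0xe2288001)],[(nat_lit 0x7e0e3001),(nat_lit 0xe3a37001),(nat_lit 0xe3a1d7e0e2002),(nat_lit 0xe7427001),(nat_lit 0xe3a38001),(nat_lit 0xe3a39001),(nat_lit 0xe7126001)],[(nat_lit 0xed7fc001),(nat_lit 0xebc34001),(nat_lit 0xebc35001),(nat_lit 0xebc33001),(nat_lit 0xebc36001),(nat_lit 0xebc37001),(nat_lit 0xebc38001)],[(nat_lit 0xe618f001),(nat_lit 0xe9636001),(nat_lit 0xe6190001),(nat_lit 0xe618e001),(nat_lit 0xe6193001),(nat_lit 0xe6191001),(nat_lit 0xe6192001)]]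

theorem rows30_1_ok : okRows data table 980686 121000 rows30_1 = true := by decide +kernel

theorem rows30_1_len : rows30_1.length = 1000 := by decide +kernel

/-- Completion of the rows from 122000. -/
noncomputable def rows30_2 : List (List ℕ) := [[(nat_lit 0xe4c98001),(nat_lit 0xecf11001),(nat_lit 0xe4c99001),(nat_lit 0xe4c97001),(nat_lit 0xe4c9a001),(nat_lit 0xe4c9b001),(nat_lit 0xe4c9c001)],[(nat_lit 0x92394001),(nat_lit 0x44842001),(nat_lit 0xef0a4001),(nat_lit 0x44841001),(nat_lit 0x44843001),(nat_lit 0xedb13001),(nat_lit 0xe8e2a001)],[(nat_lit 0xe9341001),(nat_lit 0xedb11001),(nat_lit 0xe9342001),(nat_lit 0xed91d001),(nat_lit 0xe9343001),(nat_lit 0xe9340001),(nat_lit 0xe9a37001)],[(nat_lit 0xedfeb001),(nat_lit 0xe72c5001),(nat_lit 0xe72c3001),(nat_lit 0xe72c4001),(nat_lit 0xea4a6001),(nat_lit 0xe993c001),(nat_lit 0xe72c6001)],[(nat_lit 0xe9ace001),(nat_lit 0xee6ed001),(nat_lit 0xee034001),(nat_lit 0xedfef001),(nat_lit 0xe9ad2001),(nat_lit 0xe9ad3001),(nat_lit 0xdc897001)],[(nat_lit 0xd944f001),(nat_lit 0x39d4d001),(nat_lit 0xdccce001),(nat_lit 0x39d4c001),(nat_lit 0x39d4e001),(nat_lit 0xdccd6001),(nat_lit 0xc99d1001)],[(nat_lit 0xed987001),(nat_lit 0xeda2c001),(nat_lit 0xed986001),(nat_lit 0xed988001),(nat_lit 0xed989001),(nat_lit 0xedaaf001),(nat_lit 0xed985001)],[(nat_lit 0xa83ab001),(nat_lit 0xa6e3b73820002),(nat_lit 0xa83ac001),(nat_lit 0x7381f001),(nat_lit 0xa977673821002),(nat_lit 0xa83ae001),(nat_lit 0xe779e001)],[(nat_lit 0xe690f001),(nat_lit 0xe6910001),(nat_lit 0xe6b08001),(nat_lit 0xe690e001),(nat_lit 0xe6911001),(nat_lit 0xe779d001),(nat_lit 0xe6912001)],[(nat_lit 0xed45d001),(nat_lit 0xed526001),(nat_lit 0xed45a001),(nat_lit 0xed45b001),(nat_lit 0xed45c001),(nat_lit 0xed688001),(nat_lit 0xed459001)],[(nat_lit 0xe3b41001),(nat_lit 0xe5018001),(nat_lit 0xe3b40001),(nat_lit 0xe3b42001),(nat_lit 0xe3b44001),(nat_lit 0xe6907001),(nat_lit 0xe3b43001)],[(nat_lit 0xe6c3b001),(nat_lit 0xe6c237dfb0002),(nat_lit 0xe6c41001),(nat_lit 0xe6c3d001),(nat_lit 0xe6c3e001),(nat_lit 0x7dfaf001),(nat_lit 0xef6ae001)],[(nat_lit 0xef03a001),(nat_lit 0xef03b001),(nat_lit 0xef039001),(nat_lit 0xef61f001),(nat_lit 0xef03c001),(nat_lit 0xef03d001),(nat_lit 0xef680001)],[(nat_lit 0xef6aa001),(nat_lit 0xef68e001),(nat_lit 0xef68d001),(nat_lit 0xef698001),(nat_lit 0xef68f001),(nat_lit 0xef6ad001),(nat_lit 0xef690001)],[(nat_lit 0xe4523001),(nat_lit 0xe7559001),(nat_lit 0xe71fd001),(nat_lit 0xe4522001),(nat_lit 0xe4524001),(nat_lit 0xe4525001),(nat_lit 0xe698c001)],[(nat_lit 0xbb4435e5a7002),(nat_lit 0x5e5a8001),(nat_lit 0xe608f001),(nat_lit 0x5eb0c001),(nat_lit 0xca4b75e5a6002),(nat_lit 0x5eb0b001),(nat_lit 0xe2651001)],[(nat_lit 0x7f0b7001),(nat_lit 0xbfd197dd6c002),(nat_lit 0xd7c97001),(nat_lit 0xbfd3d7dd6d002),(nat_lit 0xd303a001),(nat_lit 0xbfd177dd6b002),(nat_lit 0xe619f001)],[(nat_lit 0xd139c7dda7002),(nat_lit 0xd6b77001),(nat_lit 0xdbb89001),(nat_lit 0xd6e2f001),(nat_lit 0xbfd197dda6002),(nat_lit 0xd99e0001),(nat_lit 0xd9f86001)],[(nat_lit 0xbfd727dd9f002),(nat_lit 0xbfd76001),(nat_lit 0xeaec6001),(nat_lit 0xbfd407dd9e002),(nat_lit 0xbfd77001),(nat_lit 0xece31001),(nat_lit 0xd0cba001)],[(nat_lit 0xe97a5001),(nat_lit 0xda430001),(nat_lit 0xda431001),(nat_lit 0xe5448001),(nat_lit 0xda432001),(nat_lit 0xeb6bf001),(nat_lit 0xeb238001)],[(nat_lit 0xeb560001),(nat_lit 0xeb561001),(nat_lit 0xeb6bd001),(nat_lit 0xeb55f001),(nat_lit 0xed031001),(nat_lit 0xeb562001),(nat_lit 0xeb563001)],[(nat_lit 0x79683001),(nat_lit 0xcc0eeb87d5002),(nat_lit 0x79682001),(nat_lit 0x79684001),(nat_lit 0xb87d6001),(nat_lit 0xbaf08001),(nat_lit 0xce43e001)],[(nat_lit 0xe560b001),(nat_lit 0xe560c001),(nat_lit 0xe560a001),(nat_lit 0xe585c001),(nat_lit 0xe560d001),(nat_lit 0xe560e001),(nat_lit 0xe560f001)],[(nat_lit 0xee5ca001),(nat_lit 0xee5cb001),(nat_lit 0xee608001),(nat_lit 0xee5c9001),(nat_lit 0xee5cc001),(nat_lit 0xee5cd001),(nat_lit 0xee5ce001)],[(nat_lit 0xccf65001),(nat_lit 0x8d2ab001),(nat_lit 0xcc0eac7200002),(nat_lit 0xb68538deeb002),(nat_lit 0xcc0ee8deed002),(nat_lit 0xb68548deef002),(nat_lit 0xd84d3001)],[(nat_lit 0xef457001),(nat_lit 0xee828001),(nat_lit 0xee7e7001),(nat_lit 0xee882001),(nat_lit 0xee7e8001),(nat_lit 0xeec7a001),(nat_lit 0xee7e6001)],[(nat_lit 0xd1d4b001),(nat_lit 0xd1d4c001),(nat_lit 0xd1d4d001),(nat_lit 0xcbef64712b002),(nat_lit 0xd1d4e001),(nat_lit 0xcbef74712a002),(nat_lit 0xd6c6f001)],[(nat_lit 0xebc64001),(nat_lit 0xec151001),(nat_lit 0xebc63001),(nat_lit 0xebc65001),(nat_lit 0xee2f1001),(nat_lit 0xeed00001),(nat_lit 0xebc66001)],[(nat_lit 0xecc7d001),(nat_lit 0xee734001),(nat_lit 0xecc7f001),(nat_lit 0xecc7c001),(nat_lit 0xef443001),(nat_lit 0xecc7e001),(nat_lit 0xed6bf001)],[(nat_lit 0xef434001),(nat_lit 0xef441001),(nat_lit 0xef433001),(nat_lit 0xef435001),(nat_lit 0xef436001),(nat_lit 0xef437001),(nat_lit 0xef438001)],[(nat_lit 0xece00001),(nat_lit 0xece01001),(nat_lit 0xecebe001),(nat_lit 0xece02001),(nat_lit 0xecdff001),(nat_lit 0xece03001),(nat_lit 0xee732001)],[(nat_lit 0xe00b1001),(nat_lit 0xee4da001),(nat_lit 0xe00b3001),(nat_lit 0xe00b0001),(nat_lit 0xe00b4001),(nat_lit 0xe00b2001),(nat_lit 0xe3132001)],[(nat_lit 0x97823001),(nat_lit 0xdffca001),(nat_lit 0xbfb51001),(nat_lit 0xcc13a001),(nat_lit 0xa59fd97822002),(nat_lit 0xbf1c197824002),(nat_lit 0xe16c1001)],[(nat_lit 0x92029001),(nat_lit 0xbf1c4001),(nat_lit 0xd58fbbf1c5002),(nat_lit 0xec2a7001),(nat_lit 0xbf1ba92028002),(nat_lit 0xdffcc001),(nat_lit 0xd5902001)],[(nat_lit 0xe28f4001),(nat_lit 0xe28f3001),(nat_lit 0xe28f7001),(nat_lit 0xee43b001),(nat_lit 0xe28f8001),(nat_lit 0xe28f5001),(nat_lit 0xe28f6001)],[(nat_lit 0xd717f001),(nat_lit 0xed4ea001),(nat_lit 0xd6d288728f002),(nat_lit 0xebf36001),(nat_lit 0xd6d2f8728e002),(nat_lit 0xec159001),(nat_lit 0xebd45001)],[(nat_lit 0xe3a3e001),(nat_lit 0xe3a3f001),(nat_lit 0xe3a40001),(nat_lit 0xe3a3d001),(nat_lit 0xe3a43001),(nat_lit 0xe3a41001),(nat_lit 0xe3a42001)],[(nat_lit 0xd90ae001),(nat_lit 0xed1d4001),(nat_lit 0x7764c001),(nat_lit 0xcf18d001),(nat_lit 0x7764b001),(nat_lit 0xbc397001),(nat_lit 0xe0ce5001)],[(nat_lit 0xe1aff001),(nat_lit 0xeb2f8001),(nat_lit 0xe1afe001),(nat_lit 0xe1b00001),(nat_lit 0xea22b001),(nat_lit 0xe1fda001),(nat_lit 0xe1b01001)],[(nat_lit 0xee9e3001),(nat_lit 0xedea4001),(nat_lit 0xedea5001),(nat_lit 0xedea3001),(nat_lit 0xee56b001),(nat_lit 0xef44d001),(nat_lit 0xedea6001)],[(nat_lit 0xeeca8001),(nat_lit 0xed79e001),(nat_lit 0xed882001),(nat_lit 0xed79b001),(nat_lit 0xed79c001),(nat_lit 0xef453001),(nat_lit 0xed79d001)],[(nat_lit 0xd7e59001),(nat_lit 0x4b661001),(nat_lit 0x4b662001),(nat_lit 0xd7344001),(nat_lit 0x4b663001),(nat_lit 0xea4a3001),(nat_lit 0xd7ca4001)],[(nat_lit 0xd87d4001),(nat_lit 0xdd0db001),(nat_lit 0xe81c7001),(nat_lit 0xe387f001),(nat_lit 0xed014001),(nat_lit 0xd87d5001),(nat_lit 0x7e401001)],[(nat_lit 0xebfcd001),(nat_lit 0xebfd2001),(nat_lit 0xebfcc001),(nat_lit 0xebfd0001),(nat_lit 0xebfce001),(nat_lit 0xebfcf001),(nat_lit 0xebfd1001)],[(nat_lit 0x71fcb001),(nat_lit 0x71fcd001),(nat_lit 0xde526001),(nat_lit 0x7169f001),(nat_lit 0x75685001),(nat_lit 0x71fce001),(nat_lit 0xcd5a4001)],[(nat_lit 0xe13c9001),(nat_lit 0xda6bb001),(nat_lit 0xda6ba001),(nat_lit 0xda6b7001),(nat_lit 0xe96ec001),(nat_lit 0xde660de00e002),(nat_lit 0xda6b6001)],[(nat_lit 0xd8743001),(nat_lit 0x9882c001),(nat_lit 0xe3e30001),(nat_lit 0xd92a3001),(nat_lit 0xef106001),(nat_lit 0xd8124001),(nat_lit 0xda8d2001)],[(nat_lit 0x399f9001),(nat_lit 0x3934c001),(nat_lit 0x3934d001),(nat_lit 0x3a93f001),(nat_lit 0x39c37001),(nat_lit 0x3934e001),(nat_lit 0xd58c3001)],[(nat_lit 0xdfa20001),(nat_lit 0xe4ad1001),(nat_lit 0xdfa118dec4002),(nat_lit 0xec61c001),(nat_lit 0xdfa0a8dec3002),(nat_lit 0xea76e001),(nat_lit 0xe499d001)],[(nat_lit 0xef60f001),(nat_lit 0xedd3d001),(nat_lit 0xedd3e001),(nat_lit 0xedd3f001),(nat_lit 0xedd40001),(nat_lit 0xedd41001),(nat_lit 0xedd42001)],[(nat_lit 0xeedc5001),(nat_lit 0xeec6e001),(nat_lit 0xeec6d001),(nat_lit 0xeecae001),(nat_lit 0xeec6f001),(nat_lit 0xeef25001),(nat_lit 0xeec70001)],[(nat_lit 0xd46f5001),(nat_lit 0x81a13001),(nat_lit 0x810f4001),(nat_lit 0xd46f6001),(nat_lit 0xc4061810f3002),(nat_lit 0xe98e2001),(nat_lit 0xe63af001)],[(nat_lit 0xed33d001),(nat_lit 0xed33c001),(nat_lit 0xed3a1001),(nat_lit 0xed33b001),(nat_lit 0xed3a2001),(nat_lit 0xeebcc001),(nat_lit 0xed33a001)],[(nat_lit 0xeb186001),(nat_lit 0xeb187001),(nat_lit 0xeb185001),(nat_lit 0xeb2ee001),(nat_lit 0xeb188001),(nat_lit 0xeb189001),(nat_lit 0xeb184001)],[(nat_lit 0xec949001),(nat_lit 0xe7a16001),(nat_lit 0xe7a17001),(nat_lit 0xe7a18001),(nat_lit 0xe7a19001),(nat_lit 0xe9bff001),(nat_lit 0xe7b5b001)],[(nat_lit 0xd50b2001),(nat_lit 0xb87ea001),(nat_lit 0x87b16001),(nat_lit 0xcee7487b17002),(nat_lit 0xed527001),(nat_lit 0xd007c001),(nat_lit 0xe43eb001)],[(nat_lit 0xe44e3001),(nat_lit 0xe67a6001),(nat_lit 0xa820e89a2f002),(nat_lit 0xbfe74001),(nat_lit 0x89a2e001),(nat_lit 0xce92b001),(nat_lit 0xdf1b0001)],[(nat_lit 0xe9ed8001),(nat_lit 0xd294648867002),(nat_lit 0xec5e4001),(nat_lit 0xd375a48866002),(nat_lit 0xe882c001),(nat_lit 0xd71a0001),(nat_lit 0xed670001)],[(nat_lit 0xe453b001),(nat_lit 0xc6d399948c002),(nat_lit 0x9948d001),(nat_lit 0xc66fd001),(nat_lit 0xe8470001),(nat_lit 0xe0e5e001),(nat_lit 0xe8b54001)],[(nat_lit 0xebadb001),(nat_lit 0xebada001),(nat_lit 0xebb53001),(nat_lit 0xebb47001),(nat_lit 0xebadc001),(nat_lit 0xebadd001),(nat_lit 0xebade001)],[(nat_lit 0x6591a001),(nat_lit 0x6591b001),(nat_lit 0x665b9001),(nat_lit 0x65c45001),(nat_lit 0x65919001),(nat_lit 0x67858001),(nat_lit 0xef5d6001)],[(nat_lit 0xe38ff001),(nat_lit 0xe3900001),(nat_lit 0xe3901001),(nat_lit 0xe38fe001),(nat_lit 0xe3db8001),(nat_lit 0xe3902001),(nat_lit 0xe3903001)],[(nat_lit 0xcbe8847123002),(nat_lit 0xd612c001),(nat_lit 0xeb30e001),(nat_lit 0xda2d2001),(nat_lit 0xcbe8347122002),(nat_lit 0xe8acd001),(nat_lit 0xeec00001)],[(nat_lit 0xee340001),(nat_lit 0xee345001),(nat_lit 0xee33f001),(nat_lit 0xee341001),(nat_lit 0xee342001),(nat_lit 0xee343001),(nat_lit 0xee344001)],[(nat_lit 0x39a15001),(nat_lit 0xdc2b8001),(nat_lit 0x39a16001),(nat_lit 0xdca43001),(nat_lit 0x39a14001),(nat_lit 0x39a17001),(nat_lit 0xcdab3001)],[(nat_lit 0xef596001),(nat_lit 0xeb23c001),(nat_lit 0xece69001),(nat_lit 0xeb239001),(nat_lit 0xeb5d0001),(nat_lit 0xeb87e001),(nat_lit 0xeb238001)],[(nat_lit 0xef415001),(nat_lit 0xee1e0001),(nat_lit 0xee1e1001),(nat_lit 0xee2ac001),(nat_lit 0xee1e2001),(nat_lit 0xeef05001),(nat_lit 0xee1e3001)],[(nat_lit 0xe9ccb001),(nat_lit 0xeacac001),(nat_lit 0xe38c2001),(nat_lit 0xe38c3001),(nat_lit 0xe5fa5001),(nat_lit 0xeb78a001),(nat_lit 0xe38c4001)],[(nat_lit 0xd67ac001),(nat_lit 0x873af001),(nat_lit 0xecaa2001),(nat_lit 0x873ae001),(nat_lit 0xeab4a001),(nat_lit 0xef219001),(nat_lit 0xeecd7001)],[(nat_lit 0x82a07001),(nat_lit 0xee687001),(nat_lit 0x82a08001),(nat_lit 0xc37a182a06002),(nat_lit 0xef087001),(nat_lit 0x82a09001),(nat_lit 0xbfa0c001)],[(nat_lit 0xee38a001),(nat_lit 0xee38b001),(nat_lit 0xee38c001),(nat_lit 0xee389001),(nat_lit 0xee38d001),(nat_lit 0xee68a001),(nat_lit 0xee3d1001)],[(nat_lit 0x4446c001),(nat_lit 0x67fc2001),(nat_lit 0x81906001),(nat_lit 0x3cce9001),(nat_lit 0xee230001),(nat_lit 0x3cce8001),(nat_lit 0xdcf08001)],[(nat_lit 0x6712f001),(nat_lit 0xe26f7001),(nat_lit 0xe4716001),(nat_lit 0xe26e86712e002),(nat_lit 0xe26f8001),(nat_lit 0xe26f9001),(nat_lit 0xe59d1001)],[(nat_lit 0xe84d4001),(nat_lit 0xe9ab4001),(nat_lit 0xe84d7001),(nat_lit 0xe84d3001),(nat_lit 0xe84d5001),(nat_lit 0xe84d6001),(nat_lit 0xedf67001)],[(nat_lit 0x934ab001),(nat_lit 0x3a664001),(nat_lit 0xdc21e001),(nat_lit 0x3ac6f001),(nat_lit 0x3a663001),(nat_lit 0x3ac88001),(nat_lit 0xee2ec001)],[(nat_lit 0xe85b3001),(nat_lit 0xe85b4001),(nat_lit 0xe85b5001),(nat_lit 0xe85b2001),(nat_lit 0xe85b6001),(nat_lit 0xea423001),(nat_lit 0xe85b7001)],[(nat_lit 0xddb94001),(nat_lit 0xddb95001),(nat_lit 0xddb96001),(nat_lit 0xddb93001),(nat_lit 0xec2b3001),(nat_lit 0xddb97001),(nat_lit 0xddb99001)],[(nat_lit 0xec339001),(nat_lit 0xec338001),(nat_lit 0xec33a001),(nat_lit 0xec33b001),(nat_lit 0xec33c001),(nat_lit 0xec33d001),(nat_lit 0xeeaff001)],[(nat_lit 0xe99ab001),(nat_lit 0xe9152001),(nat_lit 0xe93c5001),(nat_lit 0xe9151001),(nat_lit 0xe9153001),(nat_lit 0xe9c7f001),(nat_lit 0xe9150001)],[(nat_lit 0xcd502001),(nat_lit 0x8ab1f001),(nat_lit 0x87598001),(nat_lit 0xe931e001),(nat_lit 0x87597001),(nat_lit 0xe999a001),(nat_lit 0xe41e0001)],[(nat_lit 0xed756001),(nat_lit 0xeb202001),(nat_lit 0xeb203001),(nat_lit 0xeb2fb001),(nat_lit 0xeb204001),(nat_lit 0xef26b001),(nat_lit 0xee941001)],[(nat_lit 0xe94a8001),(nat_lit 0xe94aa001),(nat_lit 0xe962a001),(nat_lit 0xe94a9001),(nat_lit 0xed758001),(nat_lit 0xede4d001),(nat_lit 0xe94a7001)],[(nat_lit 0xeeb81001),(nat_lit 0xeeb83001),(nat_lit 0xeebda001),(nat_lit 0xeeb82001),(nat_lit 0xeeb84001),(nat_lit 0xeeb85001),(nat_lit 0xeeb80001)],[(nat_lit 0xd9e6f001),(nat_lit 0xda693001),(nat_lit 0xdb85a001),(nat_lit 0xd9e6e001),(nat_lit 0xd9e70001),(nat_lit 0xed7f3001),(nat_lit 0xd9e71001)],[(nat_lit 0xe104c001),(nat_lit 0xe1047001),(nat_lit 0xe1048001),(nat_lit 0xe1046001),(nat_lit 0xe104b001),(nat_lit 0xe1049001),(nat_lit 0xe104a001)],[(nat_lit 0xe68b6001),(nat_lit 0xe68bb001),(nat_lit 0xe68b5001),(nat_lit 0xe68bde68b7002),(nat_lit 0xe68ba001),(nat_lit 0xe68bc001),(nat_lit 0xe68b4001)],[(nat_lit 0xe1c5b001),(nat_lit 0xe1fa3001),(nat_lit 0xe1c5c001),(nat_lit 0xe1c5a001),(nat_lit 0xe1c5d001),(nat_lit 0xe1c5e001),(nat_lit 0xe5eb2001)],[(nat_lit 0xef1bd001),(nat_lit 0xef127001),(nat_lit 0xef126001),(nat_lit 0xef129001),(nat_lit 0xef128001),(nat_lit 0xef1ff001),(nat_lit 0xef135001)],[(nat_lit 0x6a768001),(nat_lit 0x6d349001),(nat_lit 0x6a769001),(nat_lit 0x6dd6c001),(nat_lit 0x6a767001),(nat_lit 0xcc822001),(nat_lit 0xed121001)],[(nat_lit 0xef5ae001),(nat_lit 0xef0c9001),(nat_lit 0xef0e9001),(nat_lit 0xef0c8001),(nat_lit 0xef0ca001),(nat_lit 0xef5e2001),(nat_lit 0xef0c7001)],[(nat_lit 0xef447001),(nat_lit 0xef450001),(nat_lit 0xef446001),(nat_lit 0xef44a001),(nat_lit 0xef5ff001),(nat_lit 0xef448001),(nat_lit 0xef449001)],[(nat_lit 0xeee6d001),(nat_lit 0xed68c001),(nat_lit 0xed713001),(nat_lit 0xed68b001),(nat_lit 0xed68d001),(nat_lit 0xed68e001),(nat_lit 0xed68a001)],[(nat_lit 0xeeff2001),(nat_lit 0xeeff3001),(nat_lit 0xeeff4001),(nat_lit 0xeeff5001),(nat_lit 0xeeff1001),(nat_lit 0xeeff6001),(nat_lit 0xeeff7001)],[(nat_lit 0xdcf05001),(nat_lit 0xe35d1001),(nat_lit 0xdcf09001),(nat_lit 0xdcf06001),(nat_lit 0xe8525001),(nat_lit 0xdcf07001),(nat_lit 0xdcf08001)],[(nat_lit 0x447e8001),(nat_lit 0x447e0001),(nat_lit 0x93ab4001),(nat_lit 0x43b8e001),(nat_lit 0x43b8f001),(nat_lit 0xeb81f001),(nat_lit 0xea963001)],[(nat_lit 0xcf87a001),(nat_lit 0xea9d0001),(nat_lit 0xcf87b001),(nat_lit 0xe51bacf87c002),(nat_lit 0xcf87d001),(nat_lit 0xdf6e7cf87e002),(nat_lit 0x41bdd001)],[(nat_lit 0x43ee7001),(nat_lit 0x44981001),(nat_lit 0x4496f001),(nat_lit 0x447e7001),(nat_lit 0x43ee6001),(nat_lit 0xed865001),(nat_lit 0xc7253001)],[(nat_lit 0x842fa001),(nat_lit 0x6bd4c001),(nat_lit 0xeb87c001),(nat_lit 0x6ace6001),(nat_lit 0x6ace7001),(nat_lit 0xece68001),(nat_lit 0xcfa16001)],[(nat_lit 0xc40da001),(nat_lit 0xa121c83eaf002),(nat_lit 0xc40db001),(nat_lit 0xea2d8001),(nat_lit 0x83eae001),(nat_lit 0x83eb0001),(nat_lit 0xea089001)],[(nat_lit 0xe54d0001),(nat_lit 0xd8e89001),(nat_lit 0xedf5d001),(nat_lit 0xee0ed001),(nat_lit 0xd8e88001),(nat_lit 0xee597001),(nat_lit 0xeb9af001)],[(nat_lit 0xe7303001),(nat_lit 0xe7304001),(nat_lit 0xe92c5001),(nat_lit 0xe797a001),(nat_lit 0xe7302001),(nat_lit 0xe7305001),(nat_lit 0xe7306001)],[(nat_lit 0xee552001),(nat_lit 0xee554001),(nat_lit 0xee621001),(nat_lit 0xee553001),(nat_lit 0xee555001),(nat_lit 0xee556001),(nat_lit 0xee551001)],[(nat_lit 0xdceb4001),(nat_lit 0xdceb6001),(nat_lit 0xe1167001),(nat_lit 0xdceb3001),(nat_lit 0xe8be6001),(nat_lit 0xdceb5001),(nat_lit 0xdceb2001)],[(nat_lit 0xe77cb001),(nat_lit 0xe77cc001),(nat_lit 0xe77ca001),(nat_lit 0xe77cd001),(nat_lit 0xe77ce001),(nat_lit 0xe77cf001),(nat_lit 0xea199001)],[(nat_lit 0x8df4a001),(nat_lit 0x8df4e001),(nat_lit 0xd7c928df52002),(nat_lit 0xe6efe001),(nat_lit 0x8d309001),(nat_lit 0xe9ac2001),(nat_lit 0xe6d8b001)],[(nat_lit 0xe9c9a001),(nat_lit 0xe9c9b001),(nat_lit 0xe9c99001),(nat_lit 0xe9c9d001),(nat_lit 0xeaff8001),(nat_lit 0xe9c9c001),(nat_lit 0xeb79d001)],[(nat_lit 0xed621001),(nat_lit 0xe9b81001),(nat_lit 0xe9b84001),(nat_lit 0xe9b80001),(nat_lit 0xe9b82001),(nat_lit 0xe9b83001),(nat_lit 0xe9b7f001)],[(nat_lit 0xe6961001),(nat_lit 0xedbc1001),(nat_lit 0xe6960001),(nat_lit 0xe6962001),(nat_lit 0xe6965001),(nat_lit 0xeb1ca001),(nat_lit 0xe695f001)],[(nat_lit 0xeefd0001),(nat_lit 0xee7bc001),(nat_lit 0xee7bb001),(nat_lit 0xee7bd001),(nat_lit 0xee7be001),(nat_lit 0xef037001),(nat_lit 0xee7bf001)],[(nat_lit 0xe5b03001),(nat_lit 0xe5b04001),(nat_lit 0xe5b05001),(nat_lit 0xe5c7a001),(nat_lit 0xe5b02001),(nat_lit 0xe5b06001),(nat_lit 0xe5b07001)],[(nat_lit 0xebe36001),(nat_lit 0xebe37001),(nat_lit 0xebefc001),(nat_lit 0xebe35001),(nat_lit 0xebe3a001),(nat_lit 0xebe38001),(nat_lit 0xebe39001)],[(nat_lit 0xeefca001),(nat_lit 0xeefcb001),(nat_lit 0xeefcf001),(nat_lit 0xeefc9001),(nat_lit 0xeefcc001),(nat_lit 0xeefcd001),(nat_lit 0xeefce001)],[(nat_lit 0xee609001),(nat_lit 0xed4f0001),(nat_lit 0xed4ef001),(nat_lit 0xed59f001),(nat_lit 0xed4f1001),(nat_lit 0xed4f2001),(nat_lit 0xed4f3001)],[(nat_lit 0xeefbb001),(nat_lit 0xe919a001),(nat_lit 0xe919b001),(nat_lit 0xee5bd001),(nat_lit 0xef663001),(nat_lit 0xe9366001),(nat_lit 0xecdc2001)],[(nat_lit 0xed3d7001),(nat_lit 0xed3db001),(nat_lit 0xed3d6001),(nat_lit 0xed3da001),(nat_lit 0xed3d8001),(nat_lit 0xed3d9001),(nat_lit 0xee662001)],[(nat_lit 0xa3d1380120002),(nat_lit 0xe3ee2001),(nat_lit 0x80121001),(nat_lit 0xba3f7001),(nat_lit 0x8011f001),(nat_lit 0xd68f3001),(nat_lit 0xed35b001)],[(nat_lit 0xebd7f001),(nat_lit 0xebd7c001),(nat_lit 0xebd7b001),(nat_lit 0xec38e001),(nat_lit 0xebd7d001),(nat_lit 0xebd7e001),(nat_lit 0xebd80001)],[(nat_lit 0xedacb001),(nat_lit 0xedacc001),(nat_lit 0xedacf001),(nat_lit 0xedaca001),(nat_lit 0xedacd001),(nat_lit 0xedace001),(nat_lit 0xedac9001)],[(nat_lit 0xde53c74ada002),(nat_lit 0x74ade001),(nat_lit 0x74ae2001),(nat_lit 0xed347001),(nat_lit 0x73f3c001),(nat_lit 0xeea42001),(nat_lit 0xed290001)],[(nat_lit 0xeefda001),(nat_lit 0xeeaef001),(nat_lit 0xeeaee001),(nat_lit 0xeeb4d001),(nat_lit 0xeeaf0001),(nat_lit 0xef018001),(nat_lit 0xeeaf1001)],[(nat_lit 0xcc686001),(nat_lit 0xb23b788046002),(nat_lit 0xb23b8001),(nat_lit 0x88047001),(nat_lit 0xb22e888045002),(nat_lit 0x8b1c7001),(nat_lit 0xea892001)],[(nat_lit 0xa8de0001),(nat_lit 0x45635001),(nat_lit 0xda8a7001),(nat_lit 0x4864945634002),(nat_lit 0xa8de1001),(nat_lit 0xa8de2001),(nat_lit 0xef569001)],[(nat_lit 0xe764c001),(nat_lit 0xdeeb5001),(nat_lit 0xe6765001),(nat_lit 0xe6424001),(nat_lit 0xe5b88001),(nat_lit 0xe9570001),(nat_lit 0x713fd001)],[(nat_lit 0xeb236001),(nat_lit 0xeb235001),(nat_lit 0xeb374001),(nat_lit 0xeb237001),(nat_lit 0xee06a001),(nat_lit 0xebf1f001),(nat_lit 0xef490001)],[(nat_lit 0xb84e989f60002),(nat_lit 0x8b1c6001),(nat_lit 0xcc7b1001),(nat_lit 0xcc9348b1b2002),(nat_lit 0x89f5f001),(nat_lit 0xb23b789f61002),(nat_lit 0xea9b2001)],[(nat_lit 0xdd1b4001),(nat_lit 0xdd1b5001),(nat_lit 0xdd1b3001),(nat_lit 0xe396f001),(nat_lit 0xdd1b6001),(nat_lit 0xe5669001),(nat_lit 0xdd1b7001)],[(nat_lit 0x8b327001),(nat_lit 0xdf6c6001),(nat_lit 0xe9460001),(nat_lit 0x8b328001),(nat_lit 0xd75ae001),(nat_lit 0x8b326001),(nat_lit 0xef58d001)],[(nat_lit 0xed1d3001),(nat_lit 0xed1d4001),(nat_lit 0xed26e001),(nat_lit 0xed1d5001),(nat_lit 0xed1d2001),(nat_lit 0xee5cd001),(nat_lit 0xed5d2001)],[(nat_lit 0xedf53001),(nat_lit 0xedf58001),(nat_lit 0xedf52001),(nat_lit 0xedf54001),(nat_lit 0xedf56001),(nat_lit 0xedf55001),(nat_lit 0xedf57001)],[(nat_lit 0xe6a16001),(nat_lit 0xed824001),(nat_lit 0xe6a15001),(nat_lit 0xe922d001),(nat_lit 0xef0fd001),(nat_lit 0xe6a17001),(nat_lit 0xe6a18001)],[(nat_lit 0xebbb3001),(nat_lit 0xebc34001),(nat_lit 0xe9603001),(nat_lit 0xe947a001),(nat_lit 0xe947b001),(nat_lit 0xebcf0001),(nat_lit 0xe947c001)],[(nat_lit 0xe2f81001),(nat_lit 0xe3e0e001),(nat_lit 0xe3600001),(nat_lit 0xe2f82001),(nat_lit 0xe2f83001),(nat_lit 0xe7080001),(nat_lit 0xe2f80001)],[(nat_lit 0xda8a6001),(nat_lit 0x8be6b001),(nat_lit 0x8be6c001),(nat_lit 0xeed2b001),(nat_lit 0x8be6d001),(nat_lit 0xda8a8001),(nat_lit 0xef4ca001)],[(nat_lit 0xe84e9001),(nat_lit 0xe84ea001),(nat_lit 0xef4c3001),(nat_lit 0xe84eb001),(nat_lit 0xe84ec001),(nat_lit 0xea9e5001),(nat_lit 0xec9d5001)],[(nat_lit 0xee1db001),(nat_lit 0xee1dd001),(nat_lit 0xee1fb001),(nat_lit 0xee1dc001),(nat_lit 0xee1de001),(nat_lit 0xee1df001),(nat_lit 0xee1da001)],[(nat_lit 0xee3f8001),(nat_lit 0xee3f7001),(nat_lit 0xee3f9001),(nat_lit 0xee426001),(nat_lit 0xee3fa001),(nat_lit 0xee3fb001),(nat_lit 0xee3fc001)],[(nat_lit 0xed2bf001),(nat_lit 0xed2be001),(nat_lit 0xed2c0001),(nat_lit 0xed38d001),(nat_lit 0xeea99001),(nat_lit 0xed2c1001),(nat_lit 0xed2c2001)],[(nat_lit 0xed2c4001),(nat_lit 0xed38f001),(nat_lit 0xed3b2001),(nat_lit 0xed2c5001),(nat_lit 0xed2c6001),(nat_lit 0xed2c7001),(nat_lit 0xed2c3001)],[(nat_lit 0xeeaa9001),(nat_lit 0xeeaa8001),(nat_lit 0xeeaaa001),(nat_lit 0xeeae4001),(nat_lit 0xeeaab001),(nat_lit 0xeeaac001),(nat_lit 0xeeaad001)],[(nat_lit 0xe3f7d001),(nat_lit 0xd9bc7001),(nat_lit 0xe5e51d9bc8002),(nat_lit 0xe8dc6001),(nat_lit 0xd9bc9001),(nat_lit 0xe6952dc251002),(nat_lit 0xe91b9001)],[(nat_lit 0x631ef001),(nat_lit 0xd7b3869b71002),(nat_lit 0x631ee001),(nat_lit 0x68e65001),(nat_lit 0x84ab0001),(nat_lit 0x631f0001),(nat_lit 0xd8eda001)],[(nat_lit 0xe40f5001),(nat_lit 0xd8666001),(nat_lit 0xe2ae7001),(nat_lit 0xd8665001),(nat_lit 0xe5668001),(nat_lit 0xd8667001),(nat_lit 0xee8eb001)],[(nat_lit 0xef367001),(nat_lit 0xed489001),(nat_lit 0xed486001),(nat_lit 0xed488001),(nat_lit 0xef2ce001),(nat_lit 0xed487001),(nat_lit 0xee498001)],[(nat_lit 0xe512c001),(nat_lit 0xe512d001),(nat_lit 0xe512f001),(nat_lit 0xe512b001),(nat_lit 0xe512e001),(nat_lit 0xed448001),(nat_lit 0xed449001)],[(nat_lit 0xe032e001),(nat_lit 0xebc55001),(nat_lit 0xe032d001),(nat_lit 0xe032c001),(nat_lit 0xe76ba001),(nat_lit 0xe032f001),(nat_lit 0xeafdf001)],[(nat_lit 0x83b24001),(nat_lit 0xec76d001),(nat_lit 0x83b23001),(nat_lit 0x83b25001),(nat_lit 0xe994e001),(nat_lit 0x83b26001),(nat_lit 0x83b27001)],[(nat_lit 0xef015001),(nat_lit 0xee641001),(nat_lit 0xee6d7001),(nat_lit 0xee63f001),(nat_lit 0xeeef3001),(nat_lit 0xeefdb001),(nat_lit 0xee63e001)],[(nat_lit 0x84794001),(nat_lit 0xe400c001),(nat_lit 0x83951001),(nat_lit 0xbcd92001),(nat_lit 0x83950001),(nat_lit 0x83952001),(nat_lit 0xef2d5001)],[(nat_lit 0xef343001),(nat_lit 0xef2ed001),(nat_lit 0xef2d9001),(nat_lit 0xef2e7001),(nat_lit 0xeed90001),(nat_lit 0xef2da001),(nat_lit 0xeed91001)],[(nat_lit 0xe1b96001),(nat_lit 0xde1e7001),(nat_lit 0xe744f001),(nat_lit 0xde1e6001),(nat_lit 0xe4a2b001),(nat_lit 0xde1e8001),(nat_lit 0xde1e5001)],[(nat_lit 0xee2ef001),(nat_lit 0xee0df001),(nat_lit 0xee11e001),(nat_lit 0xee0de001),(nat_lit 0xee0e0001),(nat_lit 0xee386001),(nat_lit 0xeebdf001)],[(nat_lit 0xee8d1001),(nat_lit 0xee8cf001),(nat_lit 0xee8e0001),(nat_lit 0xee8ce001),(nat_lit 0xee8d0001),(nat_lit 0xee8d2001),(nat_lit 0xee8cd001)],[(nat_lit 0xec973001),(nat_lit 0xedc26001),(nat_lit 0xec972001),(nat_lit 0xec974001),(nat_lit 0xec975001),(nat_lit 0xec976001),(nat_lit 0xee592001)],[(nat_lit 0xd7f86001),(nat_lit 0xec100001),(nat_lit 0x81157001),(nat_lit 0xe9aa1001),(nat_lit 0x81156001),(nat_lit 0xdaf87001),(nat_lit 0xd8238001)],[(nat_lit 0xdd446001),(nat_lit 0xd87b3001),(nat_lit 0xe24ff001),(nat_lit 0xdd42cd87b2002),(nat_lit 0xddc26001),(nat_lit 0xe67f1001),(nat_lit 0xdf8ee001)],[(nat_lit 0xe8849001),(nat_lit 0xe884b001),(nat_lit 0xe8848001),(nat_lit 0xe884a001),(nat_lit 0xec71c001),(nat_lit 0xe9f7a001),(nat_lit 0xe884c001)],[(nat_lit 0xdaa6e001),(nat_lit 0xdcb6e001),(nat_lit 0xdaa6a001),(nat_lit 0xdaa6b001),(nat_lit 0xdaa6d001),(nat_lit 0xddecbdaa6f002),(nat_lit 0xd97b9001)],[(nat_lit 0xed3b8001),(nat_lit 0xed3b9001),(nat_lit 0xeec37001),(nat_lit 0xed3b7001),(nat_lit 0xed3ba001),(nat_lit 0xed3bb001),(nat_lit 0xed3b6001)],[(nat_lit 0xe1f53001),(nat_lit 0xe4f41001),(nat_lit 0xe1f54001),(nat_lit 0xe1f52001),(nat_lit 0xe1f55001),(nat_lit 0xe1f56001),(nat_lit 0xe1f51001)],[(nat_lit 0xee622001),(nat_lit 0xeab9e001),(nat_lit 0xeab9d001),(nat_lit 0xed029001),(nat_lit 0xeab9f001),(nat_lit 0xeaba0001),(nat_lit 0xed02e001)],[(nat_lit 0xe842f001),(nat_lit 0xe7987001),(nat_lit 0xec075001),(nat_lit 0xe7986001),(nat_lit 0xecfae001),(nat_lit 0xe9b33001),(nat_lit 0xe7988001)],[(nat_lit 0xe54d3001),(nat_lit 0xe54d7001),(nat_lit 0xe54d2001),(nat_lit 0xe54d5001),(nat_lit 0xe54d4001),(nat_lit 0xe54d8001),(nat_lit 0xe54d6001)],[(nat_lit 0xe84c5001),(nat_lit 0xe7d11001),(nat_lit 0xe5341001),(nat_lit 0xe13a5001),(nat_lit 0xe88f2001),(nat_lit 0xee7d3001),(nat_lit 0x7266b001)],[(nat_lit 0xe7e26001),(nat_lit 0xef213001),(nat_lit 0xec849001),(nat_lit 0xe7e24001),(nat_lit 0xedfca001),(nat_lit 0xe920c001),(nat_lit 0x8865c001)],[(nat_lit 0x97b35001),(nat_lit 0xc9ce2001),(nat_lit 0xafe1d97a70002),(nat_lit 0xde852001),(nat_lit 0xaf09997a6f002),(nat_lit 0xc9ce3001),(nat_lit 0xde1ee001)],[(nat_lit 0xed436001),(nat_lit 0xed437001),(nat_lit 0xed44c001),(nat_lit 0xed438001),(nat_lit 0xed435001),(nat_lit 0xed439001),(nat_lit 0xed43a001)],[(nat_lit 0xea9a8001),(nat_lit 0xea9a9001),(nat_lit 0xea9a7001),(nat_lit 0xea9a6001),(nat_lit 0xea9aa001),(nat_lit 0xed88b001),(nat_lit 0xea9a5001)],[(nat_lit 0xe3c70001),(nat_lit 0xe3c71001),(nat_lit 0xe3c73001),(nat_lit 0xe3c6f001),(nat_lit 0xe3c72001),(nat_lit 0xe4718001),(nat_lit 0xe3c74001)],[(nat_lit 0xee33a001),(nat_lit 0xee339001),(nat_lit 0xee33b001),(nat_lit 0xee39e001),(nat_lit 0xee33c001),(nat_lit 0xee33d001),(nat_lit 0xee33e001)],[(nat_lit 0xec874001),(nat_lit 0xec873001),(nat_lit 0xec875001),(nat_lit 0xee8ce001),(nat_lit 0xec876001),(nat_lit 0xec877001),(nat_lit 0xec878001)],[(nat_lit 0xeb8db001),(nat_lit 0xeb8dc001),(nat_lit 0xeb8da001),(nat_lit 0xeb9bb001),(nat_lit 0xeb8dd001),(nat_lit 0xeb8de001),(nat_lit 0xeb8df001)],[(nat_lit 0xea80e001),(nat_lit 0xea80a001),(nat_lit 0xea809001),(nat_lit 0xea80b001),(nat_lit 0xea80c001),(nat_lit 0xea80d001),(nat_lit 0xea80f001)],[(nat_lit 0xeebf2001),(nat_lit 0xeebf3001),(nat_lit 0xef214001),(nat_lit 0xeebf1001),(nat_lit 0xeebf4001),(nat_lit 0xef1f6001),(nat_lit 0xef147001)],[(nat_lit 0xef0b9001),(nat_lit 0xef0ba001),(nat_lit 0xef0b8001),(nat_lit 0xef1c0001),(nat_lit 0xef0bb001),(nat_lit 0xef389001),(nat_lit 0xef215001)],[(nat_lit 0xe1d4b001),(nat_lit 0xea60f001),(nat_lit 0xe1d4a001),(nat_lit 0xe1d4d001),(nat_lit 0xe1d4c001),(nat_lit 0xe51e8001),(nat_lit 0xe90d3001)],[(nat_lit 0xef38c001),(nat_lit 0xef39e001),(nat_lit 0xef38b001),(nat_lit 0xef38d001),(nat_lit 0xef38e001),(nat_lit 0xef38f001),(nat_lit 0xef390001)],[(nat_lit 0xee07a001),(nat_lit 0xee07b001),(nat_lit 0xee0bc001),(nat_lit 0xee079001),(nat_lit 0xee07c001),(nat_lit 0xee07d001),(nat_lit 0xee07e001)],[(nat_lit 0xb93bf9783a002),(nat_lit 0xef621001),(nat_lit 0xd0641001),(nat_lit 0xe9330001),(nat_lit 0x97839001),(nat_lit 0xb93ea9783b002),(nat_lit 0xecfc2001)],[(nat_lit 0x803b9001),(nat_lit 0x80d98001),(nat_lit 0xc25b2001),(nat_lit 0x803b8001),(nat_lit 0x80b2b001),(nat_lit 0x80d99001),(nat_lit 0xe82e0001)],[(nat_lit 0xebd9a001),(nat_lit 0xebd96001),(nat_lit 0xebd97001),(nat_lit 0xebe8d001),(nat_lit 0xebd98001),(nat_lit 0xeecb6001),(nat_lit 0xebd99001)],[(nat_lit 0xd11118ccc5002),(nat_lit 0xd6dbf001),(nat_lit 0xebc90001),(nat_lit 0xe3641001),(nat_lit 0xd110d8ccc4002),(nat_lit 0xe7305001),(nat_lit 0xe0a7e001)],[(nat_lit 0xd110f8ccc3002),(nat_lit 0xebd4d001),(nat_lit 0xd110d8ccc2002),(nat_lit 0xea762001),(nat_lit 0xebc8e001),(nat_lit 0xd6dbe001),(nat_lit 0xe4ecc001)],[(nat_lit 0xec6cc001),(nat_lit 0xd54f5575bf002),(nat_lit 0x575c0001),(nat_lit 0xeb04f001),(nat_lit 0x575c1001),(nat_lit 0x58181001),(nat_lit 0xea3f3001)],[(nat_lit 0xed03b001),(nat_lit 0xecb2d001),(nat_lit 0xec3b2001),(nat_lit 0xec236001),(nat_lit 0xec237001),(nat_lit 0xedc94001),(nat_lit 0xec238001)],[(nat_lit 0xa4bee642a5002),(nat_lit 0xea60c001),(nat_lit 0xe9fa1001),(nat_lit 0xea80b001),(nat_lit 0xa4be7642a4002),(nat_lit 0x642a6001),(nat_lit 0xe1c8f001)],[(nat_lit 0xd20b5001),(nat_lit 0xd0c5f44c6b002),(nat_lit 0xd20b6001),(nat_lit 0x44c6a001),(nat_lit 0xe3e66001),(nat_lit 0xdb257001),(nat_lit 0xecb72001)],[(nat_lit 0x8b327001),(nat_lit 0x8b33f001),(nat_lit 0x99592001),(nat_lit 0x8a333001),(nat_lit 0xd68e1001),(nat_lit 0x8a332001),(nat_lit 0xec09d001)],[(nat_lit 0x84b76001),(nat_lit 0x65573001),(nat_lit 0x65574001),(nat_lit 0xe4939001),(nat_lit 0xc2d9667a30002),(nat_lit 0x65575001),(nat_lit 0xe4c0a001)],[(nat_lit 0x5aec5001),(nat_lit 0x5aec6001),(nat_lit 0x5aec7001),(nat_lit 0xc2d94001),(nat_lit 0x5bd10001),(nat_lit 0x5aec8001),(nat_lit 0xe7ee5001)],[(nat_lit 0xed44d001),(nat_lit 0xed450001),(nat_lit 0xed44c001),(nat_lit 0xed44f001),(nat_lit 0xed44e001),(nat_lit 0xee71c001),(nat_lit 0xed451001)],[(nat_lit 0xeef93001),(nat_lit 0xeef91001),(nat_lit 0xeefb1001),(nat_lit 0xeef8f001),(nat_lit 0xeef92001),(nat_lit 0xeef94001),(nat_lit 0xeef8e001)],[(nat_lit 0xe159d001),(nat_lit 0xe630a001),(nat_lit 0xe15a0001),(nat_lit 0xe159c001),(nat_lit 0xe159e001),(nat_lit 0xe1656001),(nat_lit 0xe159f001)],[(nat_lit 0xe5d24001),(nat_lit 0x7c108001),(nat_lit 0x9e7d07c109002),(nat_lit 0xe2cdc001),(nat_lit 0xddf3e001),(nat_lit 0x7c107001),(nat_lit 0xc92b5001)],[(nat_lit 0xee72d001),(nat_lit 0xed515001),(nat_lit 0xed514001),(nat_lit 0xed517001),(nat_lit 0xed516001),(nat_lit 0xed83a001),(nat_lit 0xed518001)],[(nat_lit 0xe1f4b001),(nat_lit 0xe0cfd001),(nat_lit 0xe0cfb001),(nat_lit 0xe0cfc001),(nat_lit 0xe18da001),(nat_lit 0xe0cfe001),(nat_lit 0xe1c75001)],[(nat_lit 0x80c0a001),(nat_lit 0x7ff62001),(nat_lit 0x80f3d001),(nat_lit 0x7ff61001),(nat_lit 0x7ff63001),(nat_lit 0xe7a05001),(nat_lit 0xdce99001)],[(nat_lit 0xed4af001),(nat_lit 0xed50d001),(nat_lit 0xed4b0001),(nat_lit 0xed4b1001),(nat_lit 0xed4ae001),(nat_lit 0xee44c001),(nat_lit 0xed54a001)],[(nat_lit 0x93ab8001),(nat_lit 0xee44a001),(nat_lit 0xcf87993ab7002),(nat_lit 0xe547a001),(nat_lit 0xe28f8001),(nat_lit 0xed50b001),(nat_lit 0xe242c001)],[(nat_lit 0xe41b6001),(nat_lit 0xed454001),(nat_lit 0x8055d001),(nat_lit 0xd4ee2c5955002),(nat_lit 0xd2bf78055c002),(nat_lit 0xe10bd001),(nat_lit 0xe9942001)],[(nat_lit 0xec65e001),(nat_lit 0xec65d001),(nat_lit 0xec65f001),(nat_lit 0xec660001),(nat_lit 0xec661001),(nat_lit 0xee636001),(nat_lit 0xec789001)],[(nat_lit 0xeccaf001),(nat_lit 0xe661b001),(nat_lit 0xe661c001),(nat_lit 0xe661a001),(nat_lit 0xe661d001),(nat_lit 0xea2cf001),(nat_lit 0xe661e001)],[(nat_lit 0xed453001),(nat_lit 0xe832a001),(nat_lit 0xec121001),(nat_lit 0xe8329001),(nat_lit 0xecd86001),(nat_lit 0xe832b001),(nat_lit 0xe832c001)],[(nat_lit 0xe5b85001),(nat_lit 0xe2cdd001),(nat_lit 0xe2cdf001),(nat_lit 0xe2cdc001),(nat_lit 0xe764b001),(nat_lit 0xe2cde001),(nat_lit 0xe334a001)],[(nat_lit 0xe67e3001),(nat_lit 0xe54be001),(nat_lit 0xe1d19001),(nat_lit 0xe0774001),(nat_lit 0xe0775001),(nat_lit 0xe68f9001),(nat_lit 0xe0776001)],[(nat_lit 0xe4383001),(nat_lit 0xe1044001),(nat_lit 0xdee6b001),(nat_lit 0xdee6d001),(nat_lit 0xdee6c001),(nat_lit 0xdee6e001),(nat_lit 0xdee6f001)],[(nat_lit 0xd0de9001),(nat_lit 0xe9bab001),(nat_lit 0xcb3de001),(nat_lit 0xd1f21001),(nat_lit 0xba6a5001),(nat_lit 0xeb122001),(nat_lit 0x8ad46001)],[(nat_lit 0xe1a02001),(nat_lit 0xe1a03001),(nat_lit 0xe43a2001),(nat_lit 0xe8224001),(nat_lit 0xe1a01001),(nat_lit 0xe404c001),(nat_lit 0xe1a04001)],[(nat_lit 0xd39c9001),(nat_lit 0xd5ef1001),(nat_lit 0xd52c58cc7a002),(nat_lit 0xd4c04001),(nat_lit 0xe7695001),(nat_lit 0x8cc79001),(nat_lit 0xdfdf7001)],[(nat_lit 0x33a70001),(nat_lit 0x3cfe3001),(nat_lit 0x95c0e001),(nat_lit 0x33a71001),(nat_lit 0x81b46001),(nat_lit 0x33a6f001),(nat_lit 0xcf462960b9002)],[(nat_lit 0xe52e495c12002),(nat_lit 0x95c16001),(nat_lit 0xecf17001),(nat_lit 0x9446e001),(nat_lit 0xe52ee001),(nat_lit 0x95c1f001),(nat_lit 0xed011001)],[(nat_lit 0xea19e001),(nat_lit 0xea19b001),(nat_lit 0xec4a4001),(nat_lit 0xec511001),(nat_lit 0xea19c001),(nat_lit 0xee6e9001),(nat_lit 0xea19d001)],[(nat_lit 0x6df31001),(nat_lit 0x6df33001),(nat_lit 0xd743d001),(nat_lit 0x6d531001),(nat_lit 0x9335b001),(nat_lit 0x6df34001),(nat_lit 0xd5a84001)],[(nat_lit 0xde218d3715002),(nat_lit 0x3c4b8001),(nat_lit 0x3cce7001),(nat_lit 0x6731c001),(nat_lit 0x3c7e6001),(nat_lit 0x3c4b7001),(nat_lit 0xd71a3001)],[(nat_lit 0xd6159001),(nat_lit 0x56aee001),(nat_lit 0xd615c001),(nat_lit 0x56aed001),(nat_lit 0xd6f6c001),(nat_lit 0x56aef001),(nat_lit 0xe4ecc001)],[(nat_lit 0xe6f07001),(nat_lit 0xe6f09001),(nat_lit 0xe7138001),(nat_lit 0xe6f08001),(nat_lit 0xebe4a001),(nat_lit 0xe6f0a001),(nat_lit 0xe6f06001)],[(nat_lit 0xdd4be001),(nat_lit 0xde93f001),(nat_lit 0xdb36a001),(nat_lit 0xdb369001),(nat_lit 0xee1de001),(nat_lit 0xdb36b001),(nat_lit 0xdb36c001)],[(nat_lit 0xed432001),(nat_lit 0xe9ac5001),(nat_lit 0xedd4f001),(nat_lit 0xe9ac4001),(nat_lit 0xe9ac7001),(nat_lit 0xe9c87001),(nat_lit 0xe9ac6001)],[(nat_lit 0xebf74001),(nat_lit 0xedc74001),(nat_lit 0xebf73001),(nat_lit 0xebf75001),(nat_lit 0xebf76001),(nat_lit 0xebf77001),(nat_lit 0xebf78001)],[(nat_lit 0x9541b001),(nat_lit 0x9781e001),(nat_lit 0xef4ab001),(nat_lit 0xbc2869541a002),(nat_lit 0x9541c001),(nat_lit 0xdcd4e001),(nat_lit 0xe590c001)],[(nat_lit 0xd85ff001),(nat_lit 0xef60e001),(nat_lit 0xd8600001),(nat_lit 0xd8601001),(nat_lit 0xd85fe001),(nat_lit 0xe00bb001),(nat_lit 0xd8602001)],[(nat_lit 0x832bc001),(nat_lit 0xe5b7a001),(nat_lit 0x832bb001),(nat_lit 0xd6537001),(nat_lit 0x8409b001),(nat_lit 0x840a7001),(nat_lit 0xdafeb001)],[(nat_lit 0x8807d001),(nat_lit 0xa9b17891a1002),(nat_lit 0xe4488001),(nat_lit 0x8807e001),(nat_lit 0xd7144001),(nat_lit 0x8807c001),(nat_lit 0xe4446001)],[(nat_lit 0xd3934001),(nat_lit 0xd85d8001),(nat_lit 0x7cbec001),(nat_lit 0x7cbeb001),(nat_lit 0xe2dbc001),(nat_lit 0xd3de4001),(nat_lit 0xc4574001)],[(nat_lit 0xe2909001),(nat_lit 0xe35e6001),(nat_lit 0xe290b001),(nat_lit 0xe2908001),(nat_lit 0xe290d001),(nat_lit 0xe290a001),(nat_lit 0xe290c001)],[(nat_lit 0xdf75b001),(nat_lit 0xdf75a001),(nat_lit 0xdf758001),(nat_lit 0xdf759001),(nat_lit 0xe1b2e001),(nat_lit 0xdf75c001),(nat_lit 0xdf757001)],[(nat_lit 0xedc2f001),(nat_lit 0xedd5c001),(nat_lit 0xedc2e001),(nat_lit 0xedcc5001),(nat_lit 0xedc30001),(nat_lit 0xedc31001),(nat_lit 0xedc32001)],[(nat_lit 0xea761001),(nat_lit 0xea75e001),(nat_lit 0xea75f001),(nat_lit 0xea762001),(nat_lit 0xedba1001),(nat_lit 0xea760001),(nat_lit 0xea763001)],[(nat_lit 0xe67fb001),(nat_lit 0xe67fd001),(nat_lit 0xe67f8001),(nat_lit 0xe67f9001),(nat_lit 0xe6b03001),(nat_lit 0xe67fa001),(nat_lit 0xe67fc001)],[(nat_lit 0xdcdc3001),(nat_lit 0xd9472001),(nat_lit 0xd9474001),(nat_lit 0xd9471001),(nat_lit 0xe9cd9001),(nat_lit 0xd9473001),(nat_lit 0xdcdb3001)],[(nat_lit 0xdcdaf001),(nat_lit 0x39e4e001),(nat_lit 0xd65a8001),(nat_lit 0x39e4d001),(nat_lit 0xdcdb9001),(nat_lit 0xd9473001),(nat_lit 0xdcdc1001)],[(nat_lit 0xef5f6001),(nat_lit 0xef5f8001),(nat_lit 0xef5fe001),(nat_lit 0xef5f7001),(nat_lit 0xef5f9001),(nat_lit 0xef5fa001),(nat_lit 0xef5f5001)],[(nat_lit 0xed7fc001),(nat_lit 0xed7fd001),(nat_lit 0xed7fb001),(nat_lit 0xed800001),(nat_lit 0xed7fe001),(nat_lit 0xed7ff001),(nat_lit 0xed801001)],[(nat_lit 0xeedfb001),(nat_lit 0xeee10001),(nat_lit 0xeedfa001),(nat_lit 0xeedfe001),(nat_lit 0xeedfc001),(nat_lit 0xeedfd001),(nat_lit 0xeee00001)],[(nat_lit 0xed544001),(nat_lit 0xeea59001),(nat_lit 0xed545001),(nat_lit 0xed543001),(nat_lit 0xef585001),(nat_lit 0xee9b0001),(nat_lit 0xeedd1001)],[(nat_lit 0x6ed58001),(nat_lit 0x6f23a001),(nat_lit 0xe706a001),(nat_lit 0x6dd6c001),(nat_lit 0x6dd6d001),(nat_lit 0xedfbf001),(nat_lit 0xeb723001)],[(nat_lit 0xee594001),(nat_lit 0xee595001),(nat_lit 0xef416001),(nat_lit 0xee596001),(nat_lit 0xee593001),(nat_lit 0xee597001),(nat_lit 0xee598001)],[(nat_lit 0x6281b001),(nat_lit 0x6281c001),(nat_lit 0x62897001),(nat_lit 0xdc93c001),(nat_lit 0x6281d001),(nat_lit 0x6281e001),(nat_lit 0xde29b001)],[(nat_lit 0x62813001),(nat_lit 0x62814001),(nat_lit 0x62815001),(nat_lit 0x996f595115002),(nat_lit 0x62898001),(nat_lit 0x62816001),(nat_lit 0xeba37001)],[(nat_lit 0xeb537001),(nat_lit 0xeb53a001),(nat_lit 0xeb536001),(nat_lit 0xeb538001),(nat_lit 0xeb539001),(nat_lit 0xeb53b001),(nat_lit 0xeb535001)],[(nat_lit 0xbb240001),(nat_lit 0xec868001),(nat_lit 0xbb21b87b79002),(nat_lit 0xbcd8187b78002),(nat_lit 0xbb242001),(nat_lit 0xbb243001),(nat_lit 0xe3052001)],[(nat_lit 0xeabf2001),(nat_lit 0xee7dc001),(nat_lit 0xec189001),(nat_lit 0xeabf1001),(nat_lit 0xeabf3001),(nat_lit 0xeabf5001),(nat_lit 0xeabf4001)],[(nat_lit 0xecec1001),(nat_lit 0xecec2001),(nat_lit 0xecec5001),(nat_lit 0xecec0001),(nat_lit 0xecec3001),(nat_lit 0xecec4001),(nat_lit 0xed9b6001)],[(nat_lit 0xe2909001),(nat_lit 0xe2be9001),(nat_lit 0xe0359001),(nat_lit 0xe0358001),(nat_lit 0xe4bbe001),(nat_lit 0xe3eb6001),(nat_lit 0xe3eb7001)],[(nat_lit 0xe98e6001),(nat_lit 0xe98e7001),(nat_lit 0xe98ea001),(nat_lit 0xe98e5001),(nat_lit 0xe98e8001),(nat_lit 0xe98e9001),(nat_lit 0xec94e001)],[(nat_lit 0xee107001),(nat_lit 0xee108001),(nat_lit 0xee109001),(nat_lit 0xee106001),(nat_lit 0xee10a001),(nat_lit 0xeeb66001),(nat_lit 0xee620001)],[(nat_lit 0xc1441001),(nat_lit 0x6ed93001),(nat_lit 0x6ed94001),(nat_lit 0xcb2a4001),(nat_lit 0x6ed95001),(nat_lit 0x6ed96001),(nat_lit 0xdc38a001)],[(nat_lit 0xe988b001),(nat_lit 0xe988a001),(nat_lit 0xe988c001),(nat_lit 0xecf50001),(nat_lit 0xe988d001),(nat_lit 0xe988e001),(nat_lit 0xe988f001)],[(nat_lit 0xee7fe001),(nat_lit 0xee1f7001),(nat_lit 0xe7557001),(nat_lit 0xe7246001),(nat_lit 0xee800001),(nat_lit 0xe8b62001),(nat_lit 0xe7245001)],[(nat_lit 0x465b9001),(nat_lit 0xcb1c17f7b6002),(nat_lit 0x465b8001),(nat_lit 0xd5f20001),(nat_lit 0xdb67d001),(nat_lit 0x465ba001),(nat_lit 0xe17f9001)],[(nat_lit 0x89ede001),(nat_lit 0xc9390001),(nat_lit 0x88f0c001),(nat_lit 0xce5c488f0d002),(nat_lit 0xe3899001),(nat_lit 0x88f0f001),(nat_lit 0xe0ca7001)],[(nat_lit 0xef5c0001),(nat_lit 0xef0a8001),(nat_lit 0xef0a7001),(nat_lit 0xef0aa001),(nat_lit 0xef0a9001),(nat_lit 0xef5d5001),(nat_lit 0xef0ab001)],[(nat_lit 0xd9b72001),(nat_lit 0xd9b73001),(nat_lit 0xd9b75001),(nat_lit 0xd9b71001),(nat_lit 0xd9b76001),(nat_lit 0xd9b74001),(nat_lit 0xdb437001)],[(nat_lit 0xe4115001),(nat_lit 0xe410f001),(nat_lit 0xe4110001),(nat_lit 0xe4111001),(nat_lit 0xe4112001),(nat_lit 0xe4113001),(nat_lit 0xe4114001)],[(nat_lit 0xe8f27001),(nat_lit 0xe7299001),(nat_lit 0xe6fba001),(nat_lit 0xe6fbc001),(nat_lit 0xe6fbe001),(nat_lit 0xe6fbb001),(nat_lit 0xeb2cf001)],[(nat_lit 0xe4e79001),(nat_lit 0xe4e7a001),(nat_lit 0xe4e78001),(nat_lit 0xe4e7d001),(nat_lit 0xe4e7b001),(nat_lit 0xe4e7c001),(nat_lit 0xe4e7e001)],[(nat_lit 0x74b8b001),(nat_lit 0xddea1001),(nat_lit 0x74b8c001),(nat_lit 0x74b8d001),(nat_lit 0x75801001),(nat_lit 0x74b8a001),(nat_lit 0xd62a3001)],[(nat_lit 0xe3bdd001),(nat_lit 0xcbe9147001002),(nat_lit 0xe5c47001),(nat_lit 0xcbe8a47000002),(nat_lit 0xcbeed47002002),(nat_lit 0xdeb36001),(nat_lit 0xcead4001)],[(nat_lit 0x4446c001),(nat_lit 0xd3709001),(nat_lit 0x80a7b001),(nat_lit 0x4446d001),(nat_lit 0xee29a001),(nat_lit 0x4446b001),(nat_lit 0xcc3c1001)],[(nat_lit 0x82a07001),(nat_lit 0xee641001),(nat_lit 0x819f7001),(nat_lit 0x819f6001),(nat_lit 0xeef17001),(nat_lit 0x819f8001),(nat_lit 0xc10c6001)],[(nat_lit 0xe8b61001),(nat_lit 0xe7007001),(nat_lit 0xe7009001),(nat_lit 0xe7006001),(nat_lit 0xe7008001),(nat_lit 0xee801001),(nat_lit 0xe700a001)],[(nat_lit 0xed0f5001),(nat_lit 0xed0f6001),(nat_lit 0xed0f4001),(nat_lit 0xed0f9001),(nat_lit 0xed0f7001),(nat_lit 0xed0f8001),(nat_lit 0xed0fa001)],[(nat_lit 0xb0dc5001),(nat_lit 0xe898c001),(nat_lit 0x778b3001),(nat_lit 0xb0dc6001),(nat_lit 0xc011f001),(nat_lit 0x778b2001),(nat_lit 0xd6898001)],[(nat_lit 0xef08b001),(nat_lit 0xef6c9001),(nat_lit 0xef08c001),(nat_lit 0xef0a3001),(nat_lit 0xef08a001),(nat_lit 0xef65f001),(nat_lit 0xef08d001)],[(nat_lit 0xed851001),(nat_lit 0xed853001),(nat_lit 0xef65c001),(nat_lit 0xed852001),(nat_lit 0xef00f001),(nat_lit 0xed854001),(nat_lit 0xed850001)],[(nat_lit 0xef415001),(nat_lit 0xef414001),(nat_lit 0xef416001),(nat_lit 0xef41d001),(nat_lit 0xef417001),(nat_lit 0xef418001),(nat_lit 0xef419001)],[(nat_lit 0xef049001),(nat_lit 0xef08e001),(nat_lit 0xef048001),(nat_lit 0xef04a001),(nat_lit 0xef04b001),(nat_lit 0xef04c001),(nat_lit 0xef047001)],[(nat_lit 0xef44b001),(nat_lit 0xef458001),(nat_lit 0xef44c001),(nat_lit 0xef44a001),(nat_lit 0xef44f001),(nat_lit 0xef44d001),(nat_lit 0xef44e001)],[(nat_lit 0xea581001),(nat_lit 0xeafd7001),(nat_lit 0xea582001),(nat_lit 0xea580001),(nat_lit 0xea583001),(nat_lit 0xea584001),(nat_lit 0xea585001)],[(nat_lit 0x84422001),(nat_lit 0x84428001),(nat_lit 0x8442c001),(nat_lit 0xdd7ec001),(nat_lit 0x83912001),(nat_lit 0xdc77c001),(nat_lit 0xdd52f001)],[(nat_lit 0xcf233001),(nat_lit 0xe2a53001),(nat_lit 0x3b3bf001),(nat_lit 0xcf234001),(nat_lit 0xcf235001),(nat_lit 0x3b3be001),(nat_lit 0xcf26c001)],[(nat_lit 0xde893001),(nat_lit 0xde894001),(nat_lit 0xde895001),(nat_lit 0xde892001),(nat_lit 0xde896001),(nat_lit 0xde897001),(nat_lit 0xde891001)],[(nat_lit 0xe9d5e001),(nat_lit 0xeee01001),(nat_lit 0xe9bae001),(nat_lit 0xe9bb1001),(nat_lit 0xe9baf001),(nat_lit 0xe9bb0001),(nat_lit 0xef3ec001)],[(nat_lit 0xba5527b057002),(nat_lit 0xe1c1f001),(nat_lit 0xba54c7a55e002),(nat_lit 0xe1ec1001),(nat_lit 0xba54b7a55d002),(nat_lit 0x7a55f001),(nat_lit 0xe3f98001)],[(nat_lit 0xe3f9b001),(nat_lit 0x766ba001),(nat_lit 0xd68e0001),(nat_lit 0x766b9001),(nat_lit 0x766bb001),(nat_lit 0xe9548001),(nat_lit 0xe06f3001)],[(nat_lit 0x46552001),(nat_lit 0x63b11001),(nat_lit 0x46551001),(nat_lit 0x63e32001),(nat_lit 0x63e35001),(nat_lit 0x63069001),(nat_lit 0xe2403001)],[(nat_lit 0x35ac9001),(nat_lit 0x35aca001),(nat_lit 0x35acb001),(nat_lit 0xb6a0497f38002),(nat_lit 0x35ac8001),(nat_lit 0x3976e001),(nat_lit 0xd998b001)],[(nat_lit 0xdc38f001),(nat_lit 0xdc38e001),(nat_lit 0xe58ec001),(nat_lit 0xdc390001),(nat_lit 0xdc391001),(nat_lit 0xe6e22001),(nat_lit 0xe89cf001)],[(nat_lit 0xaeab3860c8002),(nat_lit 0x7b5d6001),(nat_lit 0x7c026001),(nat_lit 0xe7354e61c8002),(nat_lit 0x7b5d5001),(nat_lit 0x8665f001),(nat_lit 0xec35a001)],[(nat_lit 0xeebdb001),(nat_lit 0xeebdc001),(nat_lit 0xeebda001),(nat_lit 0xeebe9001),(nat_lit 0xeebdd001),(nat_lit 0xeebde001),(nat_lit 0xeebdf001)],[(nat_lit 0x8b2c9001),(nat_lit 0x8a2b7001),(nat_lit 0xab93d8b2f7002),(nat_lit 0x8b089001),(nat_lit 0x8a2b6001),(nat_lit 0x9276e001),(nat_lit 0xd4f8e001)],[(nat_lit 0xdaea1001),(nat_lit 0xdae9f001),(nat_lit 0xdae9e001),(nat_lit 0xe2927001),(nat_lit 0xdaea0001),(nat_lit 0xdb199001),(nat_lit 0xdae9d001)],[(nat_lit 0xea96e001),(nat_lit 0xea970001),(nat_lit 0xea96d001),(nat_lit 0xea96f001),(nat_lit 0xea971001),(nat_lit 0xea972001),(nat_lit 0xea96c001)],[(nat_lit 0xef4dd001),(nat_lit 0xef4de001),(nat_lit 0xef4dc001),(nat_lit 0xef4e1001),(nat_lit 0xef4df001),(nat_lit 0xef4e0001),(nat_lit 0xef513001)],[(nat_lit 0xe5a2f001),(nat_lit 0xe5108001),(nat_lit 0xe5105001),(nat_lit 0xe4d45001),(nat_lit 0xeab9b001),(nat_lit 0xe64f5001),(nat_lit 0xe4d44001)],[(nat_lit 0x8114b001),(nat_lit 0xd771a001),(nat_lit 0xdfa36001),(nat_lit 0xd77068114a002),(nat_lit 0xe3c89001),(nat_lit 0xd771b001),(nat_lit 0xd7835001)],[(nat_lit 0xea6ff001),(nat_lit 0xe47c9001),(nat_lit 0xe47c8001),(nat_lit 0xe47cb001),(nat_lit 0xe47ca001),(nat_lit 0xe5a44001),(nat_lit 0xe47cc001)],[(nat_lit 0xed299001),(nat_lit 0xed29a001),(nat_lit 0xed298001),(nat_lit 0xed29d001),(nat_lit 0xed29b001),(nat_lit 0xed29c001),(nat_lit 0xed29e001)],[(nat_lit 0xe775e001),(nat_lit 0xe775d001),(nat_lit 0xe7b48001),(nat_lit 0xe775f001),(nat_lit 0xe7760001),(nat_lit 0xe7762001),(nat_lit 0xe7761001)],[(nat_lit 0xef56b001),(nat_lit 0xef56c001),(nat_lit 0xef570001),(nat_lit 0xef56a001),(nat_lit 0xef56d001),(nat_lit 0xef56e001),(nat_lit 0xef56f001)],[(nat_lit 0xef550001),(nat_lit 0xef551001),(nat_lit 0xef555001),(nat_lit 0xef552001),(nat_lit 0xef54f001),(nat_lit 0xef553001),(nat_lit 0xef554001)],[(nat_lit 0xd0c9795f1a002),(nat_lit 0xed734001),(nat_lit 0x9238b001),(nat_lit 0xe3f9d001),(nat_lit 0x9238a001),(nat_lit 0xd9a75001),(nat_lit 0xea220001)],[(nat_lit 0x6e8e3001),(nat_lit 0x6e8e4001),(nat_lit 0xd908c001),(nat_lit 0xc68e4001),(nat_lit 0x6e8e2001),(nat_lit 0xdf88d001),(nat_lit 0xdb8f3001)],[(nat_lit 0xef40e001),(nat_lit 0xef40f001),(nat_lit 0xef40d001),(nat_lit 0xef410001),(nat_lit 0xef411001),(nat_lit 0xef412001),(nat_lit 0xef413001)],[(nat_lit 0xcc5b9001),(nat_lit 0x80d98001),(nat_lit 0xcc5a9001),(nat_lit 0x80d97001),(nat_lit 0xdec72001),(nat_lit 0xcc5ac001),(nat_lit 0xde5d9001)],[(nat_lit 0xec53d001),(nat_lit 0xec53e001),(nat_lit 0xec541001),(nat_lit 0xec53c001),(nat_lit 0xec53f001),(nat_lit 0xec540001),(nat_lit 0xec542001)],[(nat_lit 0xef330001),(nat_lit 0xe4521001),(nat_lit 0xdce59001),(nat_lit 0xedff2001),(nat_lit 0xdce58001),(nat_lit 0xdce5a001),(nat_lit 0xee05c001)],[(nat_lit 0xdf1d2001),(nat_lit 0xe3d1b001),(nat_lit 0xe79b9001),(nat_lit 0xe65ba001),(nat_lit 0xda2c3001),(nat_lit 0xdc541001),(nat_lit 0xd9b8b001)],[(nat_lit 0x56d00001),(nat_lit 0x56d01001),(nat_lit 0xd95b3001),(nat_lit 0x56cff001),(nat_lit 0xd95ad001),(nat_lit 0x58189001),(nat_lit 0xe4520001)],[(nat_lit 0xdc73d001),(nat_lit 0xdc73e001),(nat_lit 0xdf73b001),(nat_lit 0xdc73f001),(nat_lit 0xed898001),(nat_lit 0xdc740001),(nat_lit 0xdc741001)],[(nat_lit 0x5782f001),(nat_lit 0xd95ae001),(nat_lit 0xe7bca001),(nat_lit 0x57830001),(nat_lit 0x5782e001),(nat_lit 0xc6f2b001),(nat_lit 0xe12a6001)],[(nat_lit 0x56cf8001),(nat_lit 0x56cf9001),(nat_lit 0xc5a698b965002),(nat_lit 0xd95a3001),(nat_lit 0x56cf7001),(nat_lit 0xc524d001),(nat_lit 0xe7738001)],[(nat_lit 0x3a93b001),(nat_lit 0x399c7001),(nat_lit 0xd9474001),(nat_lit 0x399c6001),(nat_lit 0x9914c001),(nat_lit 0x3a93d001),(nat_lit 0xdc9ed001)],[(nat_lit 0xe023f001),(nat_lit 0xde582001),(nat_lit 0xdc9e9001),(nat_lit 0xe1768001),(nat_lit 0xde597001),(nat_lit 0xe4129001),(nat_lit 0xe5615001)],[(nat_lit 0xe09ad001),(nat_lit 0xe09ae001),(nat_lit 0xe09af001),(nat_lit 0xe09b0001),(nat_lit 0xe09b1001),(nat_lit 0xe09b2001),(nat_lit 0x7f65b001)],[(nat_lit 0xdc4cc001),(nat_lit 0xef162001),(nat_lit 0xdc4cd001),(nat_lit 0xdc4ce001),(nat_lit 0xdc4cb001),(nat_lit 0xe7f0b001),(nat_lit 0xe21f9001)],[(nat_lit 0xe72c7001),(nat_lit 0xec7f7001),(nat_lit 0xe72c8001),(nat_lit 0xe9d10001),(nat_lit 0xe9eb0001),(nat_lit 0xee11d001),(nat_lit 0xdc906001)],[(nat_lit 0xe4be2001),(nat_lit 0xe0268001),(nat_lit 0xe0269001),(nat_lit 0xe4be1001),(nat_lit 0xef5e1001),(nat_lit 0xe6bc0001),(nat_lit 0xe10ec001)],[(nat_lit 0xc86a8001),(nat_lit 0xc731b8da94002),(nat_lit 0xdc249001),(nat_lit 0xc83c6001),(nat_lit 0xd96cf001),(nat_lit 0xae1058da93002),(nat_lit 0xee1e3001)],[(nat_lit 0xeef04001),(nat_lit 0xeef02001),(nat_lit 0xeef06001),(nat_lit 0xeef01001),(nat_lit 0xeef03001),(nat_lit 0xeef05001),(nat_lit 0xeef00001)],[(nat_lit 0xef1d8001),(nat_lit 0xef1d9001),(nat_lit 0xef1dc001),(nat_lit 0xef1d7001),(nat_lit 0xef1da001),(nat_lit 0xef1db001),(nat_lit 0xef1de001)],[(nat_lit 0xe2982001),(nat_lit 0xe85d8001),(nat_lit 0xe8450001),(nat_lit 0xe85aa001),(nat_lit 0xe2980001),(nat_lit 0xe882a001),(nat_lit 0x6a6f0001)],[(nat_lit 0xe79bf001),(nat_lit 0xe79c0001),(nat_lit 0xeaea5001),(nat_lit 0xeaf0a001),(nat_lit 0xe79be001),(nat_lit 0xe79c1001),(nat_lit 0xea657001)],[(nat_lit 0xee614001),(nat_lit 0xe4aef001),(nat_lit 0xe6c52001),(nat_lit 0xe4aee001),(nat_lit 0xeefa4001),(nat_lit 0xeb217001),(nat_lit 0xe4aed001)],[(nat_lit 0xe6b94001),(nat_lit 0xeefa3001),(nat_lit 0xed32f001),(nat_lit 0xdb654001),(nat_lit 0xdb655001),(nat_lit 0xe6be5001),(nat_lit 0xdf03e001)],[(nat_lit 0xe649e001),(nat_lit 0xe64a3001),(nat_lit 0xe649d001),(nat_lit 0xe649f001),(nat_lit 0xe64a0001),(nat_lit 0xe64a1001),(nat_lit 0xe64a2001)],[(nat_lit 0xeef58001),(nat_lit 0xeef59001),(nat_lit 0xeef5a001),(nat_lit 0xeef5b001),(nat_lit 0xeef57001),(nat_lit 0xeef5c001),(nat_lit 0xeef5d001)],[(nat_lit 0xdcb21001),(nat_lit 0xe7694001),(nat_lit 0xdc21e001),(nat_lit 0xe96a1001),(nat_lit 0xdc21d001),(nat_lit 0xdc21f001),(nat_lit 0xe88d5001)],[(nat_lit 0xeda00001),(nat_lit 0xedad5001),(nat_lit 0xed9ff001),(nat_lit 0xeda38001),(nat_lit 0xeda01001),(nat_lit 0xeda02001),(nat_lit 0xeda03001)],[(nat_lit 0xe9443001),(nat_lit 0xe9444001),(nat_lit 0xe9442001),(nat_lit 0xe9620001),(nat_lit 0xebcda001),(nat_lit 0xe9445001),(nat_lit 0xe9446001)],[(nat_lit 0x891ec001),(nat_lit 0x89810001),(nat_lit 0xd4f46001),(nat_lit 0x891ed001),(nat_lit 0x891eb001),(nat_lit 0xe6048001),(nat_lit 0xe48fe001)],[(nat_lit 0xeb3a6001),(nat_lit 0xe98b4001),(nat_lit 0xe98b3001),(nat_lit 0xe98b6001),(nat_lit 0xeb9f7001),(nat_lit 0xe98b5001),(nat_lit 0xe98b7001)],[(nat_lit 0xe4449001),(nat_lit 0xdb4a2001),(nat_lit 0xdb4a3001),(nat_lit 0xe3b49001),(nat_lit 0xe3ff8001),(nat_lit 0xdb4a1001),(nat_lit 0xe3c8f001)],[(nat_lit 0xd8738001),(nat_lit 0xe9b27001),(nat_lit 0xe8645001),(nat_lit 0xd8737001),(nat_lit 0xda596001),(nat_lit 0xe1116001),(nat_lit 0xe1117001)],[(nat_lit 0x74c6a001),(nat_lit 0xe80c9001),(nat_lit 0xa779074c6b002),(nat_lit 0xe7c83001),(nat_lit 0x7581a001),(nat_lit 0xa5a6e74c69002),(nat_lit 0xec602001)],[(nat_lit 0xeea43001),(nat_lit 0xeea8c001),(nat_lit 0xef002001),(nat_lit 0xeeff5001),(nat_lit 0xeea44001),(nat_lit 0xeea42001),(nat_lit 0xef089001)],[(nat_lit 0xee378001),(nat_lit 0xee379001),(nat_lit 0xee37a001),(nat_lit 0xee377001),(nat_lit 0xee47c001),(nat_lit 0xee37b001),(nat_lit 0xee37c001)],[(nat_lit 0xea5cd001),(nat_lit 0xea5cc001),(nat_lit 0xea5ce001),(nat_lit 0xea74e001),(nat_lit 0xea5cf001),(nat_lit 0xebc45001),(nat_lit 0xea95b001)],[(nat_lit 0xec1cb001),(nat_lit 0xeb91a001),(nat_lit 0xeb919001),(nat_lit 0xeb91d001),(nat_lit 0xeb91b001),(nat_lit 0xeb91c001),(nat_lit 0xeb91e001)],[(nat_lit 0xaf38b001),(nat_lit 0x71d14001),(nat_lit 0xaf38c001),(nat_lit 0xaf38d001),(nat_lit 0xaf38e001),(nat_lit 0x71d13001),(nat_lit 0xe5a54001)],[(nat_lit 0xe9e8d001),(nat_lit 0xe4131001),(nat_lit 0xe4132001),(nat_lit 0xe5517001),(nat_lit 0xee7c8001),(nat_lit 0xe5a53001),(nat_lit 0xe524d001)],[(nat_lit 0x5975a001),(nat_lit 0xca347001),(nat_lit 0x5975b001),(nat_lit 0xaf89859d96002),(nat_lit 0x5b105001),(nat_lit 0x59759001),(nat_lit 0xe9c59001)],[(nat_lit 0xed78c001),(nat_lit 0xec4bc001),(nat_lit 0xec4bd001),(nat_lit 0xec743001),(nat_lit 0xec4be001),(nat_lit 0xef1d0001),(nat_lit 0xed73b001)],[(nat_lit 0xee2a2001),(nat_lit 0xef1cc001),(nat_lit 0xee2dd001),(nat_lit 0xee2a3001),(nat_lit 0xeeea6001),(nat_lit 0xee2a4001),(nat_lit 0xee2a1001)],[(nat_lit 0xe7f11001),(nat_lit 0xeb479001),(nat_lit 0xe80ba001),(nat_lit 0xe7f10001),(nat_lit 0xe7f12001),(nat_lit 0xe7f13001),(nat_lit 0xe7f0f001)],[(nat_lit 0xead40001),(nat_lit 0xead3f001),(nat_lit 0xedaab001),(nat_lit 0xead3e001),(nat_lit 0xeb3d2001),(nat_lit 0xeb1ab001),(nat_lit 0xead3d001)],[(nat_lit 0xe6cb7001),(nat_lit 0xeb812001),(nat_lit 0xe6cb6001),(nat_lit 0xe6cb8001),(nat_lit 0xe6cb9001),(nat_lit 0xe6cba001),(nat_lit 0xe6cbb001)],[(nat_lit 0xef5f6001),(nat_lit 0xef02f001),(nat_lit 0xef067001),(nat_lit 0xef02e001),(nat_lit 0xef030001),(nat_lit 0xef5ca001),(nat_lit 0xef031001)],[(nat_lit 0x86424001),(nat_lit 0xc9297001),(nat_lit 0x86423001),(nat_lit 0xe02bb001),(nat_lit 0x87505001),(nat_lit 0x87657001),(nat_lit 0xe3c90001)],[(nat_lit 0xd807597db6002),(nat_lit 0xd8239001),(nat_lit 0xdaf86001),(nat_lit 0xd807297db5002),(nat_lit 0xd82a2001),(nat_lit 0xd81ec001),(nat_lit 0xe3c49001)],[(nat_lit 0xeea7a001),(nat_lit 0xeea7b001),(nat_lit 0xeea79001),(nat_lit 0xeeabc001),(nat_lit 0xeea7c001),(nat_lit 0xeea7d001),(nat_lit 0xeea7e001)],[(nat_lit 0xe3dfa001),(nat_lit 0xe3b12001),(nat_lit 0xe3b14001),(nat_lit 0xe3b11001),(nat_lit 0xed777001),(nat_lit 0xe3b13001),(nat_lit 0xe3b15001)],[(nat_lit 0xe3dfa001),(nat_lit 0xe3df9001),(nat_lit 0xe3dfd001),(nat_lit 0xe42b8001),(nat_lit 0xe3dfb001),(nat_lit 0xe3dfc001),(nat_lit 0xe3dfe001)],[(nat_lit 0xed018001),(nat_lit 0xe473c001),(nat_lit 0xe473b001),(nat_lit 0xe4aa1001),(nat_lit 0xee241001),(nat_lit 0xe473d001),(nat_lit 0x45a7a001)],[(nat_lit 0x89b0a001),(nat_lit 0x89b0b001),(nat_lit 0xcedf08bcc5002),(nat_lit 0x8a1c9001),(nat_lit 0x89b09001),(nat_lit 0x8a34a001),(nat_lit 0xc9ae6001)],[(nat_lit 0xebb84001),(nat_lit 0xebb85001),(nat_lit 0xebb83001),(nat_lit 0xebc2e001),(nat_lit 0xebb86001),(nat_lit 0xed596001),(nat_lit 0xebd17001)],[(nat_lit 0xef62d001),(nat_lit 0x6627f001),(nat_lit 0xef6bb001),(nat_lit 0xef6a3001),(nat_lit 0x6627e001),(nat_lit 0xef62f001),(nat_lit 0xef682001)],[(nat_lit 0xd788d001),(nat_lit 0x75b25001),(nat_lit 0xd57cd001),(nat_lit 0xe2df8001),(nat_lit 0x75b24001),(nat_lit 0xeb262001),(nat_lit 0xe8fa3001)],[(nat_lit 0xee797001),(nat_lit 0xee799001),(nat_lit 0xeee62001),(nat_lit 0xee798001),(nat_lit 0xee79a001),(nat_lit 0xee79b001),(nat_lit 0xee796001)],[(nat_lit 0xee54d001),(nat_lit 0xee76d001),(nat_lit 0xee54e001),(nat_lit 0xee54c001),(nat_lit 0xee54f001),(nat_lit 0xeee64001),(nat_lit 0xee550001)],[(nat_lit 0xd0de9001),(nat_lit 0xdc110001),(nat_lit 0xc6b35001),(nat_lit 0xcae56001),(nat_lit 0xc487d001),(nat_lit 0xd229f001),(nat_lit 0x8a617001)],[(nat_lit 0xecfba001),(nat_lit 0xecfbb001),(nat_lit 0xed068001),(nat_lit 0xecfb9001),(nat_lit 0xed736001),(nat_lit 0xecfbc001),(nat_lit 0xecfb8001)],[(nat_lit 0xee675001),(nat_lit 0xd05c1861ca002),(nat_lit 0xed828001),(nat_lit 0x861c9001),(nat_lit 0xebe3a001),(nat_lit 0xd05d8001),(nat_lit 0xecce8001)],[(nat_lit 0xed84a001),(nat_lit 0xed84b001),(nat_lit 0xed84f001),(nat_lit 0xed849001),(nat_lit 0xed84c001),(nat_lit 0xed84d001),(nat_lit 0xed84e001)],[(nat_lit 0xe6ce9001),(nat_lit 0xe5b1f001),(nat_lit 0xdc8bc001),(nat_lit 0xdc8be001),(nat_lit 0xe72dd001),(nat_lit 0xdc8bd001),(nat_lit 0xe7085001)],[(nat_lit 0xdc499001),(nat_lit 0xed230001),(nat_lit 0xe6cea001),(nat_lit 0xdc49a001),(nat_lit 0xed062001),(nat_lit 0xdc498001),(nat_lit 0xdc8c0001)],[(nat_lit 0xeb48a001),(nat_lit 0xeb48b001),(nat_lit 0xeb48c001),(nat_lit 0xeb489001),(nat_lit 0xeb48d001),(nat_lit 0xeb48e001),(nat_lit 0xedea6001)],[(nat_lit 0xbeae58c654002),(nat_lit 0x8c655001),(nat_lit 0xeb29e001),(nat_lit 0xeb193001),(nat_lit 0x8c656001),(nat_lit 0xee55c001),(nat_lit 0xdbd09001)],[(nat_lit 0xd9fa4001),(nat_lit 0xe22eb001),(nat_lit 0xd61c1001),(nat_lit 0xd57c3001),(nat_lit 0xd5890001),(nat_lit 0xd5ed9001),(nat_lit 0x87abc001)],[(nat_lit 0xef324001),(nat_lit 0xedff3001),(nat_lit 0xee059001),(nat_lit 0xedff2001),(nat_lit 0xedff4001),(nat_lit 0xee4bd001),(nat_lit 0xedff1001)],[(nat_lit 0xef2e1001),(nat_lit 0xef0bd001),(nat_lit 0xef0be001),(nat_lit 0xef0bc001),(nat_lit 0xef35e001),(nat_lit 0xef0bf001),(nat_lit 0xef0c0001)],[(nat_lit 0xeee7a001),(nat_lit 0xeee7b001),(nat_lit 0xeee79001),(nat_lit 0xeee7d001),(nat_lit 0xeee7c001),(nat_lit 0xef2e5001),(nat_lit 0xeeeae001)],[(nat_lit 0xdba83001),(nat_lit 0xe3ec8001),(nat_lit 0xdf839001),(nat_lit 0xe5e7d001),(nat_lit 0xd599c001),(nat_lit 0xe5e24001),(nat_lit 0x82330001)],[(nat_lit 0xed7df001),(nat_lit 0xee2ab001),(nat_lit 0xed7de001),(nat_lit 0xee437001),(nat_lit 0xee830001),(nat_lit 0xed7e1001),(nat_lit 0xed7e0001)],[(nat_lit 0x5a931001),(nat_lit 0x5a932001),(nat_lit 0xd83d3001),(nat_lit 0x5a933001),(nat_lit 0xed1fd001),(nat_lit 0x5a934001),(nat_lit 0xe489b001)],[(nat_lit 0xe5178001),(nat_lit 0xe5179001),(nat_lit 0xe5177001),(nat_lit 0xe517b001),(nat_lit 0xe517a001),(nat_lit 0xea13d001),(nat_lit 0xed8f5001)],[(nat_lit 0xee6aa001),(nat_lit 0xee6ab001),(nat_lit 0xee6ac001),(nat_lit 0xee6a9001),(nat_lit 0xee6ad001),(nat_lit 0xef586001),(nat_lit 0xee6ae001)],[(nat_lit 0xc7870001),(nat_lit 0x6aeed001),(nat_lit 0xc6f77001),(nat_lit 0xb5ddf6bdab002),(nat_lit 0x6aeec001),(nat_lit 0xb5de06bdaa002),(nat_lit 0xdf54d001)],[(nat_lit 0x6281b001),(nat_lit 0x45962001),(nat_lit 0x4617b001),(nat_lit 0x60edf001),(nat_lit 0x45963001),(nat_lit 0x45961001),(nat_lit 0xef5c5001)],[(nat_lit 0xea65f001),(nat_lit 0xea660001),(nat_lit 0xea65e001),(nat_lit 0xec292001),(nat_lit 0xebfce001),(nat_lit 0xea661001),(nat_lit 0xea662001)],[(nat_lit 0xe6e9b001),(nat_lit 0xe6e99001),(nat_lit 0xe6e97001),(nat_lit 0xe6e98001),(nat_lit 0xe8fdc001),(nat_lit 0xe6e9a001),(nat_lit 0xe6e96001)],[(nat_lit 0xe2159001),(nat_lit 0xe55db001),(nat_lit 0xea1b9001),(nat_lit 0xeaae9001),(nat_lit 0xe37bb001),(nat_lit 0xe215b001),(nat_lit 0x69622001)],[(nat_lit 0xee770001),(nat_lit 0xee1dd001),(nat_lit 0xeeccd001),(nat_lit 0xecdae001),(nat_lit 0xecdaf001),(nat_lit 0xecdb0001),(nat_lit 0xecdad001)],[(nat_lit 0xe7b47001),(nat_lit 0xe46f2001),(nat_lit 0xe46f3001),(nat_lit 0xe46f1001),(nat_lit 0xe46f8001),(nat_lit 0xe8f61001),(nat_lit 0xe8928001)],[(nat_lit 0xe5f01001),(nat_lit 0xdcead001),(nat_lit 0xe5942dceae002),(nat_lit 0xdceaf001),(nat_lit 0xdceac001),(nat_lit 0xe0681001),(nat_lit 0xdceb1001)],[(nat_lit 0xd6b3c001),(nat_lit 0xd05cd861ce002),(nat_lit 0xed78b001),(nat_lit 0xd05d2001),(nat_lit 0xd6242001),(nat_lit 0x861cd001),(nat_lit 0xeb97e001)],[(nat_lit 0xdd161001),(nat_lit 0xedc4c001),(nat_lit 0xdd160001),(nat_lit 0xe6558001),(nat_lit 0xef0f0001),(nat_lit 0xea0a2001),(nat_lit 0xdd162001)],[(nat_lit 0xdce89001),(nat_lit 0xdce8a001),(nat_lit 0xea743001),(nat_lit 0xea52f001),(nat_lit 0xdce88001),(nat_lit 0xdce8b001),(nat_lit 0xdd7cf001)],[(nat_lit 0xeacd8001),(nat_lit 0xe2bc2001),(nat_lit 0xe2bc3001),(nat_lit 0xe2bc1001),(nat_lit 0xe705f001),(nat_lit 0xe6d3b001),(nat_lit 0xe9306001)],[(nat_lit 0xecb6e001),(nat_lit 0xecb6f001),(nat_lit 0xecb6d001),(nat_lit 0xecc1f001),(nat_lit 0xecb70001),(nat_lit 0xecb71001),(nat_lit 0xecb72001)],[(nat_lit 0x3a429001),(nat_lit 0xb06bf001),(nat_lit 0x3a428001),(nat_lit 0x3a42a001),(nat_lit 0xb06c0001),(nat_lit 0x3abbd001),(nat_lit 0xe65af001)],[(nat_lit 0xe79ba001),(nat_lit 0xe7e63001),(nat_lit 0xe79b9001),(nat_lit 0xe7b00001),(nat_lit 0xe79bb001),(nat_lit 0xe79bc001),(nat_lit 0xe79bd001)],[(nat_lit 0x47154001),(nat_lit 0xbc4b8001),(nat_lit 0x47153001),(nat_lit 0x48f3a001),(nat_lit 0x50af2001),(nat_lit 0x50af5001),(nat_lit 0x96be9001)],[(nat_lit 0x50ce9001),(nat_lit 0xe36ac001),(nat_lit 0x50cea001),(nat_lit 0x50ce8001),(nat_lit 0xc487d001),(nat_lit 0x50ceb001),(nat_lit 0xddd9b001)],[(nat_lit 0xeb74f001),(nat_lit 0xee0d8001),(nat_lit 0xeb752001),(nat_lit 0xeb74e001),(nat_lit 0xeb750001),(nat_lit 0xeb751001),(nat_lit 0xeb753001)],[(nat_lit 0xef5b7001),(nat_lit 0xef121001),(nat_lit 0xef122001),(nat_lit 0xef123001),(nat_lit 0xef124001),(nat_lit 0xef5f3001),(nat_lit 0xef125001)],[(nat_lit 0xe734c001),(nat_lit 0xdfdd4001),(nat_lit 0xec40f001),(nat_lit 0xec359001),(nat_lit 0xdccb0001),(nat_lit 0xe70d6001),(nat_lit 0xdccaf001)],[(nat_lit 0xee66a001),(nat_lit 0xe11b4001),(nat_lit 0xe11b5001),(nat_lit 0xe6fff001),(nat_lit 0xe42fd001),(nat_lit 0xeabef001),(nat_lit 0xe4627001)],[(nat_lit 0x61529001),(nat_lit 0x6152a001),(nat_lit 0x6153f001),(nat_lit 0x9749a001),(nat_lit 0x6152b001),(nat_lit 0x6281e001),(nat_lit 0xef5f5001)],[(nat_lit 0xeee8b001),(nat_lit 0xeee8c001),(nat_lit 0xeee8f001),(nat_lit 0xeee8a001),(nat_lit 0xeee8d001),(nat_lit 0xeee8e001),(nat_lit 0xef0c0001)],[(nat_lit 0x7e9ef49a80002),(nat_lit 0xbf48e001),(nat_lit 0xee159001),(nat_lit 0xbcc3f001),(nat_lit 0x7f005001),(nat_lit 0x7e9ed49a7f002),(nat_lit 0xe0bf6001)],[(nat_lit 0xea0dd001),(nat_lit 0xea9ae001),(nat_lit 0xea0e0001),(nat_lit 0xea0dc001),(nat_lit 0xea0de001),(nat_lit 0xea0df001),(nat_lit 0xea0e1001)],[(nat_lit 0xedcc6001),(nat_lit 0xedd9a001),(nat_lit 0xee3bb001),(nat_lit 0xedcc5001),(nat_lit 0xef233001),(nat_lit 0xedcc7001),(nat_lit 0xedcc8001)],[(nat_lit 0xebd77001),(nat_lit 0xebf09001),(nat_lit 0xebd76001),(nat_lit 0xebd78001),(nat_lit 0xebd79001),(nat_lit 0xebd7a001),(nat_lit 0xebd75001)],[(nat_lit 0xe58ba001),(nat_lit 0xed594001),(nat_lit 0xe16c8001),(nat_lit 0xe16c7001),(nat_lit 0xe1867001),(nat_lit 0xe16c9001),(nat_lit 0xe16ca001)],[(nat_lit 0xe4757001),(nat_lit 0xe02ba001),(nat_lit 0xe3c8c001),(nat_lit 0xe02bb001),(nat_lit 0xe02b9001),(nat_lit 0xe444d001),(nat_lit 0xe02bc001)],[(nat_lit 0xdd03c001),(nat_lit 0xdd03d001),(nat_lit 0xdd03e001),(nat_lit 0xdd03f001),(nat_lit 0xdd040001),(nat_lit 0xdd041001),(nat_lit 0xdc24e001)],[(nat_lit 0xe83cb001),(nat_lit 0xe83ca001),(nat_lit 0xe83cc001),(nat_lit 0xe8647001),(nat_lit 0xe83cd001),(nat_lit 0xe83ce001),(nat_lit 0xe83cf001)],[(nat_lit 0xeb9b2001),(nat_lit 0xeb9b4001),(nat_lit 0xeb9b1001),(nat_lit 0xeb9b3001),(nat_lit 0xeb9b5001),(nat_lit 0xecee4001),(nat_lit 0xeb9b0001)],[(nat_lit 0xd892d001),(nat_lit 0x707c8001),(nat_lit 0xd7ddb001),(nat_lit 0x711a5001),(nat_lit 0x711a7001),(nat_lit 0x711a9001),(nat_lit 0xd87e7001)],[(nat_lit 0xea93e001),(nat_lit 0xed0e1001),(nat_lit 0xea93f001),(nat_lit 0xeac58001),(nat_lit 0xea93d001),(nat_lit 0xee7a0001),(nat_lit 0xea940001)],[(nat_lit 0xd98b6001),(nat_lit 0xcb0ba001),(nat_lit 0xe1b53001),(nat_lit 0x3a694001),(nat_lit 0xe5fdf001),(nat_lit 0x3a693001),(nat_lit 0xe4020001)],[(nat_lit 0xe80b8001),(nat_lit 0xe80b9001),(nat_lit 0xe80ba001),(nat_lit 0xe80b7001),(nat_lit 0xe80bb001),(nat_lit 0xe8a52001),(nat_lit 0xe83f3001)],[(nat_lit 0xe8a4f001),(nat_lit 0xe8e12001),(nat_lit 0xe804b001),(nat_lit 0xe804d001),(nat_lit 0xeb65c001),(nat_lit 0xe804c001),(nat_lit 0xeba4e001)],[(nat_lit 0xecfc4001),(nat_lit 0xecfc5001),(nat_lit 0xed0bf001),(nat_lit 0xecfc3001),(nat_lit 0xecfc6001),(nat_lit 0xecfc7001),(nat_lit 0xecfc8001)],[(nat_lit 0xee030001),(nat_lit 0xee85b001),(nat_lit 0xee02f001),(nat_lit 0xee0a0001),(nat_lit 0xee031001),(nat_lit 0xee032001),(nat_lit 0xee033001)],[(nat_lit 0xe9e78001),(nat_lit 0xe2e24001),(nat_lit 0xab6da8a4f9002),(nat_lit 0xe3ff6001),(nat_lit 0x8a4f8001),(nat_lit 0xc701e001),(nat_lit 0xe5a5b001)],[(nat_lit 0xe1837001),(nat_lit 0xeb3c7001),(nat_lit 0xe7f33001),(nat_lit 0xdd2d9001),(nat_lit 0xe535e001),(nat_lit 0xe0b1d001),(nat_lit 0x8999a001)],[(nat_lit 0xe9edf001),(nat_lit 0xeacaa001),(nat_lit 0xe8f9f001),(nat_lit 0xe38c3001),(nat_lit 0xe38c6001),(nat_lit 0xeb7f1001),(nat_lit 0x740fc001)],[(nat_lit 0xe6df6001),(nat_lit 0xdf5b5001),(nat_lit 0xdd1e9001),(nat_lit 0xe3e54001),(nat_lit 0xe99db001),(nat_lit 0xe401f001),(nat_lit 0xdd1e8001)],[(nat_lit 0xee69d001),(nat_lit 0xee6a0001),(nat_lit 0xef1ce001),(nat_lit 0xee69e001),(nat_lit 0xeec10001),(nat_lit 0xee6a1001),(nat_lit 0xee69c001)],[(nat_lit 0xec1b7001),(nat_lit 0xe79b7001),(nat_lit 0xef209001),(nat_lit 0xe79b8001),(nat_lit 0xe79b6001),(nat_lit 0xef613001),(nat_lit 0xedb60001)],[(nat_lit 0xef609001),(nat_lit 0xef60b001),(nat_lit 0xef610001),(nat_lit 0xef60a001),(nat_lit 0xef60c001),(nat_lit 0xef60d001),(nat_lit 0xef608001)],[(nat_lit 0x74bc3001),(nat_lit 0x74bcc001),(nat_lit 0xe0a7d001),(nat_lit 0x748ba001),(nat_lit 0xe3d12001),(nat_lit 0xa8ba2748b9002),(nat_lit 0xe0635001)],[(nat_lit 0xeb4a9001),(nat_lit 0xeb4aa001),(nat_lit 0xeb4a8001),(nat_lit 0xeb4ab001),(nat_lit 0xecad4001),(nat_lit 0xeb4ac001),(nat_lit 0xeb4ad001)],[(nat_lit 0xec69c001),(nat_lit 0x548bb001),(nat_lit 0xee813001),(nat_lit 0x548ba001),(nat_lit 0xeb858001),(nat_lit 0xde128001),(nat_lit 0xc5a9d001)],[(nat_lit 0xef5f0001),(nat_lit 0xeefc5001),(nat_lit 0xeefc6001),(nat_lit 0xef02e001),(nat_lit 0xeefc7001),(nat_lit 0xef5b8001),(nat_lit 0xeefc8001)],[(nat_lit 0xed6c6001),(nat_lit 0xe727b001),(nat_lit 0xe727a001),(nat_lit 0xe727c001),(nat_lit 0xe92e6001),(nat_lit 0xe77b4001),(nat_lit 0xe727d001)],[(nat_lit 0xee0bb001),(nat_lit 0xedf96001),(nat_lit 0xedfff001),(nat_lit 0xedf95001),(nat_lit 0xedf97001),(nat_lit 0xedf98001),(nat_lit 0xedf99001)],[(nat_lit 0xee791001),(nat_lit 0xee792001),(nat_lit 0xee790001),(nat_lit 0xee7b1001),(nat_lit 0xee793001),(nat_lit 0xee794001),(nat_lit 0xee795001)],[(nat_lit 0xe6ede001),(nat_lit 0xec84b001),(nat_lit 0xe4242001),(nat_lit 0xed6c8001),(nat_lit 0xe8146001),(nat_lit 0xea5f3001),(nat_lit 0xe4241001)],[(nat_lit 0xe7b4e001),(nat_lit 0xe44e1001),(nat_lit 0xe44e0001),(nat_lit 0xe46f1001),(nat_lit 0xec86f001),(nat_lit 0xe8f64001),(nat_lit 0x8a8c6001)],[(nat_lit 0x97e04001),(nat_lit 0xecb3d001),(nat_lit 0x97e05001),(nat_lit 0xdb473001),(nat_lit 0xd9a80001),(nat_lit 0x97e03001),(nat_lit 0xecd0d001)],[(nat_lit 0xeb5d4001),(nat_lit 0xee615001),(nat_lit 0xeb5d6001),(nat_lit 0xee466001),(nat_lit 0xef598001),(nat_lit 0xeb5d5001),(nat_lit 0x8e242001)],[(nat_lit 0xef620001),(nat_lit 0xef616001),(nat_lit 0xef674001),(nat_lit 0xef615001),(nat_lit 0xef617001),(nat_lit 0xef623001),(nat_lit 0xef69e001)],[(nat_lit 0xd8dbe001),(nat_lit 0xeb561001),(nat_lit 0xd8dbf001),(nat_lit 0xd8dc0001),(nat_lit 0xd8fc5001),(nat_lit 0xd8dbd001),(nat_lit 0xd8dc1001)],[(nat_lit 0xe723e001),(nat_lit 0xe723d001),(nat_lit 0xe723f001),(nat_lit 0xe74e2001),(nat_lit 0xe7240001),(nat_lit 0xe8b71001),(nat_lit 0xe86f5001)],[(nat_lit 0xedf53001),(nat_lit 0xe39e2001),(nat_lit 0xe39df001),(nat_lit 0xe39e0001),(nat_lit 0xea63b001),(nat_lit 0xe7088001),(nat_lit 0xe39e1001)],[(nat_lit 0x45029001),(nat_lit 0xd728f001),(nat_lit 0xe4132001),(nat_lit 0x4502a001),(nat_lit 0xef602001),(nat_lit 0x45028001),(nat_lit 0xe3e16001)],[(nat_lit 0xe5247001),(nat_lit 0xdd18b001),(nat_lit 0xe6bfe001),(nat_lit 0xdd18c001),(nat_lit 0xdd18a001),(nat_lit 0xe6027001),(nat_lit 0xe02bc001)],[(nat_lit 0xec2ff001),(nat_lit 0xeb1ba001),(nat_lit 0xeb1b9001),(nat_lit 0xeb2a4001),(nat_lit 0xed393001),(nat_lit 0xec5bf001),(nat_lit 0xeb1bb001)],[(nat_lit 0x5c295001),(nat_lit 0xe28b0001),(nat_lit 0xecb1f001),(nat_lit 0x5c294001),(nat_lit 0xead1c001),(nat_lit 0xec03f001),(nat_lit 0xddf61001)],[(nat_lit 0xed949001),(nat_lit 0xe9313001),(nat_lit 0xe9314001),(nat_lit 0xed446001),(nat_lit 0xec9bd001),(nat_lit 0xe9315001),(nat_lit 0xe9316001)],[(nat_lit 0xea047001),(nat_lit 0xea227001),(nat_lit 0xea049001),(nat_lit 0xea046001),(nat_lit 0xeb2f7001),(nat_lit 0xea048001),(nat_lit 0xea04a001)],[(nat_lit 0xeefb0001),(nat_lit 0xeefaf001),(nat_lit 0xeefb1001),(nat_lit 0xeefb2001),(nat_lit 0xef4a5001),(nat_lit 0xeefb3001),(nat_lit 0xef019001)],[(nat_lit 0xdfb02001),(nat_lit 0xe9363001),(nat_lit 0xdb6bf001),(nat_lit 0xe260d001),(nat_lit 0xdfb04001),(nat_lit 0xe5c36001),(nat_lit 0x88ad2001)],[(nat_lit 0xe9a19001),(nat_lit 0xe9a11001),(nat_lit 0xe9a15e9a14002),(nat_lit 0xe9a10001),(nat_lit 0xe9a18001),(nat_lit 0xe9a12001),(nat_lit 0xe9a13001)],[(nat_lit 0xdf230001),(nat_lit 0xdf231001),(nat_lit 0xdf22f001),(nat_lit 0xdf233001),(nat_lit 0xdf232001),(nat_lit 0xe37ba001),(nat_lit 0xe5be8001)],[(nat_lit 0x69c02001),(nat_lit 0x69c03001),(nat_lit 0x69c04001),(nat_lit 0x69c01001),(nat_lit 0x82660001),(nat_lit 0x69c05001),(nat_lit 0xcd060001)],[(nat_lit 0xeb7d2001),(nat_lit 0xeb7d3001),(nat_lit 0xeb7d1001),(nat_lit 0xeb7d0001),(nat_lit 0xeb7d6001),(nat_lit 0xeb7d4001),(nat_lit 0xeb7cf001)],[(nat_lit 0xed965001),(nat_lit 0xec20b001),(nat_lit 0xec20d001),(nat_lit 0xec20a001),(nat_lit 0xec20f001),(nat_lit 0xec20c001),(nat_lit 0xec20e001)],[(nat_lit 0xb3b098b8ed002),(nat_lit 0x89f52001),(nat_lit 0x8b259001),(nat_lit 0x8b7d2001),(nat_lit 0x89f53001),(nat_lit 0x89f51001),(nat_lit 0xe3da4001)],[(nat_lit 0x73694001),(nat_lit 0x7100b001),(nat_lit 0x7100c001),(nat_lit 0x74294001),(nat_lit 0x7100d001),(nat_lit 0x736b4001),(nat_lit 0xe1023001)],[(nat_lit 0xd8a99001),(nat_lit 0xd8a9a001),(nat_lit 0xd8a9b001),(nat_lit 0xdd423001),(nat_lit 0xd8a98001),(nat_lit 0xe4a6c001),(nat_lit 0xd8a9c001)],[(nat_lit 0xec13c001),(nat_lit 0xcf22d8442a002),(nat_lit 0xd528e001),(nat_lit 0xeb91d001),(nat_lit 0xed871e7338002),(nat_lit 0x84429001),(nat_lit 0xeb91f001)],[(nat_lit 0xec155001),(nat_lit 0xec156001),(nat_lit 0xec154001),(nat_lit 0xec157001),(nat_lit 0xec158001),(nat_lit 0xec159001),(nat_lit 0xec15b001)],[(nat_lit 0xe4757001),(nat_lit 0xe4758001),(nat_lit 0xe4756001),(nat_lit 0xe4759001),(nat_lit 0xe475a001),(nat_lit 0xe475b001),(nat_lit 0xe5242001)],[(nat_lit 0xd892d001),(nat_lit 0xe56cf001),(nat_lit 0xd892e001),(nat_lit 0xe2b70001),(nat_lit 0xe4a6e001),(nat_lit 0xd892c001),(nat_lit 0xe1ba9001)],[(nat_lit 0xe09f6001),(nat_lit 0x8e27c001),(nat_lit 0x8e27d001),(nat_lit 0xc9d42001),(nat_lit 0xd9542001),(nat_lit 0x8e27b001),(nat_lit 0xcffbc001)],[(nat_lit 0xeb034001),(nat_lit 0xedc61001),(nat_lit 0xeb033001),(nat_lit 0xeb035001),(nat_lit 0xeb036001),(nat_lit 0xeb037001),(nat_lit 0xeb038001)],[(nat_lit 0xe61f9001),(nat_lit 0xe61fa001),(nat_lit 0xe862d001),(nat_lit 0xe73e1001),(nat_lit 0xec720001),(nat_lit 0xe61fb001),(nat_lit 0x98573001)],[(nat_lit 0xebd8e001),(nat_lit 0xebd8f001),(nat_lit 0xebe4d001),(nat_lit 0xebd8d001),(nat_lit 0xebd90001),(nat_lit 0xebd91001),(nat_lit 0xebea3001)],[(nat_lit 0xe98bb001),(nat_lit 0xe0dc9001),(nat_lit 0xe8390001),(nat_lit 0xd1a22001),(nat_lit 0xd6f12001),(nat_lit 0xe3b09001),(nat_lit 0x828c3001)],[(nat_lit 0xe96b0001),(nat_lit 0xe96b1001),(nat_lit 0xe98bd001),(nat_lit 0xe96af001),(nat_lit 0xe96b3001),(nat_lit 0xe96b2001),(nat_lit 0xe989e001)],[(nat_lit 0x56d26001),(nat_lit 0xe2854df3c0002),(nat_lit 0xe26aa56d25002),(nat_lit 0xebde0001),(nat_lit 0xdf3be001),(nat_lit 0xebb4e001),(nat_lit 0xec055001)],[(nat_lit 0xe9c0a001),(nat_lit 0xe8302001),(nat_lit 0xe8301001),(nat_lit 0xe8303001),(nat_lit 0xe8304001),(nat_lit 0xe8305001),(nat_lit 0xe8306001)],[(nat_lit 0xee2cf001),(nat_lit 0xee2d0001),(nat_lit 0xee33b001),(nat_lit 0xee2ce001),(nat_lit 0xee2d1001),(nat_lit 0xee2d2001),(nat_lit 0xee2d3001)],[(nat_lit 0xeddc6001),(nat_lit 0xeddc7001),(nat_lit 0xeddc8001),(nat_lit 0xede54001),(nat_lit 0xeddc5001),(nat_lit 0xeddc9001),(nat_lit 0xeddca001)],[(nat_lit 0x5d178001),(nat_lit 0x5e581001),(nat_lit 0xe032d001),(nat_lit 0x5d177001),(nat_lit 0xe77bc001),(nat_lit 0x5d179001),(nat_lit 0xeaa47001)],[(nat_lit 0xe8168001),(nat_lit 0xe1f58001),(nat_lit 0xe1f57001),(nat_lit 0xe1f59001),(nat_lit 0xe53d0001),(nat_lit 0xe1f5a001),(nat_lit 0xe7eeb001)],[(nat_lit 0x56ac1001),(nat_lit 0xe1893001),(nat_lit 0x56ac0001),(nat_lit 0xe55b8001),(nat_lit 0x56ac2001),(nat_lit 0xe6971001),(nat_lit 0xd2ac2001)],[(nat_lit 0x2bc13001),(nat_lit 0x4442b001),(nat_lit 0x2bc14001),(nat_lit 0x3dee8001),(nat_lit 0x2bc15001),(nat_lit 0x2bc12001),(nat_lit 0x82764001)],[(nat_lit 0xee6dc001),(nat_lit 0xec026001),(nat_lit 0xec027001),(nat_lit 0xec131001),(nat_lit 0xec028001),(nat_lit 0xec029001),(nat_lit 0xec02a001)],[(nat_lit 0xec7e6001),(nat_lit 0xeec3f001),(nat_lit 0xec7e5001),(nat_lit 0xec880001),(nat_lit 0xee003001),(nat_lit 0xec7e7001),(nat_lit 0xec7e8001)],[(nat_lit 0xad88e8e578002),(nat_lit 0xae142001),(nat_lit 0x3d96c001),(nat_lit 0xbf99a001),(nat_lit 0x3d96b001),(nat_lit 0xc867e001),(nat_lit 0xd5a78001)],[(nat_lit 0xeeaa9001),(nat_lit 0xe71bb001),(nat_lit 0xe71bd001),(nat_lit 0xe71be001),(nat_lit 0xe71bc001),(nat_lit 0xe71bf001),(nat_lit 0xe9f54001)],[(nat_lit 0xef2dc001),(nat_lit 0xef2de001),(nat_lit 0xef342001),(nat_lit 0xef2dd001),(nat_lit 0xef2df001),(nat_lit 0xef347001),(nat_lit 0xef2db001)],[(nat_lit 0xe42fb001),(nat_lit 0xe42fc001),(nat_lit 0xe42fa001),(nat_lit 0xe4624001),(nat_lit 0xe42fd001),(nat_lit 0xe42fe001),(nat_lit 0xe42ff001)],[(nat_lit 0xede92001),(nat_lit 0xebe66001),(nat_lit 0xebff8001),(nat_lit 0xebef8001),(nat_lit 0xebe67001),(nat_lit 0xec23b001),(nat_lit 0xebe68001)],[(nat_lit 0xe3346001),(nat_lit 0xe3347001),(nat_lit 0xe3348001),(nat_lit 0xe412a001),(nat_lit 0xe3345001),(nat_lit 0xe3349001),(nat_lit 0xe334a001)],[(nat_lit 0xe5b03001),(nat_lit 0x82d55001),(nat_lit 0xa96fc82d56002),(nat_lit 0xd183e001),(nat_lit 0xbbe8782d57002),(nat_lit 0xe09f1001),(nat_lit 0xd99a7001)],[(nat_lit 0xeece1001),(nat_lit 0xeece2001),(nat_lit 0xeece3001),(nat_lit 0xeece0001),(nat_lit 0xeece4001),(nat_lit 0xeece5001),(nat_lit 0xeece6001)],[(nat_lit 0xec398001),(nat_lit 0xec397001),(nat_lit 0xec39b001),(nat_lit 0xec53c001),(nat_lit 0xec399001),(nat_lit 0xec39a001),(nat_lit 0xec456001)],[(nat_lit 0xef6bc001),(nat_lit 0xef6bd001),(nat_lit 0xef6bb001),(nat_lit 0xef6c7001),(nat_lit 0xef6be001),(nat_lit 0xef6bf001),(nat_lit 0xef6c0001)],[(nat_lit 0x67e17001),(nat_lit 0x67e18001),(nat_lit 0xdeda1001),(nat_lit 0xd33ce67e19002),(nat_lit 0x67e1a001),(nat_lit 0x67e16001),(nat_lit 0xca7d0001)],[(nat_lit 0xec73e001),(nat_lit 0xedba0001),(nat_lit 0xec449001),(nat_lit 0xec445001),(nat_lit 0xec446001),(nat_lit 0xec447001),(nat_lit 0xec448001)],[(nat_lit 0xeca66001),(nat_lit 0xecbd7001),(nat_lit 0xecbe5001),(nat_lit 0xeca67001),(nat_lit 0xeca65001),(nat_lit 0xeca68001),(nat_lit 0xeca69001)],[(nat_lit 0xef65d001),(nat_lit 0xe94ed001),(nat_lit 0xe94ee001),(nat_lit 0xe95ad001),(nat_lit 0xed1d8001),(nat_lit 0xe95b1001),(nat_lit 0x61278001)],[(nat_lit 0xef661001),(nat_lit 0xef687001),(nat_lit 0xef662001),(nat_lit 0xef660001),(nat_lit 0xef663001),(nat_lit 0xef664001),(nat_lit 0xef665001)],[(nat_lit 0x60693001),(nat_lit 0x60694001),(nat_lit 0xa7b736072b002),(nat_lit 0x61577001),(nat_lit 0x6152b001),(nat_lit 0x60695001),(nat_lit 0xef65b001)],[(nat_lit 0xe0850001),(nat_lit 0xe4c68001),(nat_lit 0xe084f001),(nat_lit 0xe0851001),(nat_lit 0xe0852001),(nat_lit 0xe0853001),(nat_lit 0xe4899001)],[(nat_lit 0xeec01001),(nat_lit 0xef350001),(nat_lit 0xe994d001),(nat_lit 0xee783001),(nat_lit 0xe994e001),(nat_lit 0xeebe8001),(nat_lit 0xe994f001)],[(nat_lit 0xecfed001),(nat_lit 0xecfee001),(nat_lit 0xecfec001),(nat_lit 0xed0e7001),(nat_lit 0xecfef001),(nat_lit 0xecff0001),(nat_lit 0xecff1001)],[(nat_lit 0xe70ba001),(nat_lit 0xec056001),(nat_lit 0xec340001),(nat_lit 0xe3d5e001),(nat_lit 0xdfd56001),(nat_lit 0xe70bb001),(nat_lit 0xdcfe4001)],[(nat_lit 0xe9cb2001),(nat_lit 0xe9cb3001),(nat_lit 0xe9cb1001),(nat_lit 0xe9cb4001),(nat_lit 0xe9cb6001),(nat_lit 0xe9cb5001),(nat_lit 0xe9cb7001)],[(nat_lit 0xe920f001),(nat_lit 0xe7e63001),(nat_lit 0xe80b2001),(nat_lit 0xe8912001),(nat_lit 0xea56f001),(nat_lit 0xe7e64001),(nat_lit 0xe7e65001)],[(nat_lit 0x43dd4001),(nat_lit 0x43dd5001),(nat_lit 0xdea60001),(nat_lit 0xd99e2001),(nat_lit 0xdbac5001),(nat_lit 0x43dd6001),(nat_lit 0xd99e3001)],[(nat_lit 0xe9200001),(nat_lit 0xe9201001),(nat_lit 0xe91ff001),(nat_lit 0xe9418001),(nat_lit 0xe9202001),(nat_lit 0xe9203001),(nat_lit 0xe9204001)],[(nat_lit 0xeeb57001),(nat_lit 0xeeb58001),(nat_lit 0xeeb98001),(nat_lit 0xeeb56001),(nat_lit 0xeeb59001),(nat_lit 0xeeb5a001),(nat_lit 0xeeb5b001)],[(nat_lit 0xe9c1f001),(nat_lit 0xebaeb001),(nat_lit 0xe9c1e001),(nat_lit 0xe9c20001),(nat_lit 0xe9c21001),(nat_lit 0xe9c22001),(nat_lit 0xe9c23001)],[(nat_lit 0xef550001),(nat_lit 0xef510001),(nat_lit 0xef511001),(nat_lit 0xef516001),(nat_lit 0xef512001),(nat_lit 0xef553001),(nat_lit 0xef513001)],[(nat_lit 0xa24e3976a0002),(nat_lit 0xbf48e001),(nat_lit 0x976a2001),(nat_lit 0x976a1001),(nat_lit 0xa24d69769f002),(nat_lit 0xbf490001),(nat_lit 0xeb03c001)],[(nat_lit 0xe9edf001),(nat_lit 0xe9ede001),(nat_lit 0xea049001),(nat_lit 0xe9edd001),(nat_lit 0xeb493001),(nat_lit 0xe9ee0001),(nat_lit 0xe9edc001)],[(nat_lit 0xeeca8001),(nat_lit 0xeece2001),(nat_lit 0xeecab001),(nat_lit 0xeeca7001),(nat_lit 0xeeca9001),(nat_lit 0xeecaa001),(nat_lit 0xeecac001)],[(nat_lit 0xe1744001),(nat_lit 0xe5c3d001),(nat_lit 0xe0de5001),(nat_lit 0xe0de4001),(nat_lit 0xe0de8001),(nat_lit 0xe7a9f001),(nat_lit 0xe0de6001)],[(nat_lit 0xec6b6001),(nat_lit 0x74295001),(nat_lit 0xdf54c001),(nat_lit 0x74294001),(nat_lit 0x76a43001),(nat_lit 0xdf544001),(nat_lit 0xeb4d1001)],[(nat_lit 0x757ba001),(nat_lit 0x76a42001),(nat_lit 0xe3b04001),(nat_lit 0x757b9001),(nat_lit 0x757bb001),(nat_lit 0xe838f001),(nat_lit 0xd7be3001)],[(nat_lit 0xe65a9001),(nat_lit 0xe65ab001),(nat_lit 0xebe49001),(nat_lit 0xe65aa001),(nat_lit 0xe7139001),(nat_lit 0xe7e7d001),(nat_lit 0xe65a8001)],[(nat_lit 0xeed42001),(nat_lit 0xed8a7001),(nat_lit 0xed8a8001),(nat_lit 0xed8f2001),(nat_lit 0xed8a9001),(nat_lit 0xedd52001),(nat_lit 0xeed4d001)],[(nat_lit 0x9feb58993e002),(nat_lit 0xe6409001),(nat_lit 0x9ce3386f37002),(nat_lit 0xe62ea001),(nat_lit 0x9ce3286f36002),(nat_lit 0xe0a80001),(nat_lit 0xe7306001)],[(nat_lit 0xeaf0b001),(nat_lit 0xeaf0c001),(nat_lit 0xeaf0f001),(nat_lit 0xeaf0a001),(nat_lit 0xeaf0d001),(nat_lit 0xeaf0e001),(nat_lit 0xeaf10001)],[(nat_lit 0xedd92001),(nat_lit 0xedd93001),(nat_lit 0xedd94001),(nat_lit 0xedd91001),(nat_lit 0xedd95001),(nat_lit 0xedd96001),(nat_lit 0xedd97001)],[(nat_lit 0xecf70001),(nat_lit 0xecf73001),(nat_lit 0xecf72001),(nat_lit 0xecf71001),(nat_lit 0xecf74001),(nat_lit 0xecf75001),(nat_lit 0xecf6f001)],[(nat_lit 0xe9c39001),(nat_lit 0xebdd6001),(nat_lit 0xe9c38001),(nat_lit 0xe9c3a001),(nat_lit 0xe9c3b001),(nat_lit 0xe9c3c001),(nat_lit 0xe9c37001)],[(nat_lit 0xebc29001),(nat_lit 0xebc2b001),(nat_lit 0xebdd7001),(nat_lit 0xebc2a001),(nat_lit 0xec761001),(nat_lit 0xebde4001),(nat_lit 0xebc28001)],[(nat_lit 0xebd87001),(nat_lit 0xebd88001),(nat_lit 0xebd86001),(nat_lit 0xebd89001),(nat_lit 0xebd8a001),(nat_lit 0xebd8b001),(nat_lit 0xebd8c001)],[(nat_lit 0xebde1001),(nat_lit 0xeb6c1001),(nat_lit 0xeb6c0001),(nat_lit 0xeb6c3001),(nat_lit 0xee02d001),(nat_lit 0xeb6c2001),(nat_lit 0xeb6c4001)],[(nat_lit 0xee02b001),(nat_lit 0xea2a4001),(nat_lit 0xea2a3001),(nat_lit 0xea550001),(nat_lit 0xebde3001),(nat_lit 0xec7bc001),(nat_lit 0xea2a5001)],[(nat_lit 0xe787c001),(nat_lit 0xeb07e001),(nat_lit 0xe787b001),(nat_lit 0xe787d001),(nat_lit 0xe787e001),(nat_lit 0xe787f001),(nat_lit 0xe9bd5001)],[(nat_lit 0xec155001),(nat_lit 0xeaf18001),(nat_lit 0xeaf17001),(nat_lit 0xeb821001),(nat_lit 0xeaf19001),(nat_lit 0xeaf1a001),(nat_lit 0xeb91f001)],[(nat_lit 0xec89b001),(nat_lit 0xe555f001),(nat_lit 0xd5e49001),(nat_lit 0xd6e8c894dc002),(nat_lit 0xd6eb0001),(nat_lit 0x894db001),(nat_lit 0xded67001)],[(nat_lit 0x842fd001),(nat_lit 0xdbbec001),(nat_lit 0x82e29001),(nat_lit 0x83ac3001),(nat_lit 0x842ff001),(nat_lit 0x82e28001),(nat_lit 0xeae64001)],[(nat_lit 0xec00f001),(nat_lit 0xef0ea001),(nat_lit 0xec00e001),(nat_lit 0xec010001),(nat_lit 0xec011001),(nat_lit 0xec012001),(nat_lit 0xec00d001)],[(nat_lit 0xed9cd001),(nat_lit 0xed9ce001),(nat_lit 0xed9cc001),(nat_lit 0xeda2b001),(nat_lit 0xed9cf001),(nat_lit 0xed9d0001),(nat_lit 0xee222001)],[(nat_lit 0xe80f0001),(nat_lit 0xe92d5001),(nat_lit 0xe3364001),(nat_lit 0xe3363001),(nat_lit 0xec52f001),(nat_lit 0xe746f001),(nat_lit 0xe3365001)],[(nat_lit 0xeaa84001),(nat_lit 0xeaa85001),(nat_lit 0xeaa83001),(nat_lit 0xeaa86001),(nat_lit 0xeaa87001),(nat_lit 0xeaa88001),(nat_lit 0xec840001)],[(nat_lit 0xece55001),(nat_lit 0xeab69001),(nat_lit 0xeab68001),(nat_lit 0xeab6a001),(nat_lit 0xeab6b001),(nat_lit 0xeab6c001),(nat_lit 0xeab6d001)],[(nat_lit 0xef603001),(nat_lit 0xedc26001),(nat_lit 0xedc25001),(nat_lit 0xedc98001),(nat_lit 0xedc27001),(nat_lit 0xedc28001),(nat_lit 0xedc29001)],[(nat_lit 0x65580001),(nat_lit 0xd5b82001),(nat_lit 0xd5a63001),(nat_lit 0x65581001),(nat_lit 0xe4458001),(nat_lit 0x6557f001),(nat_lit 0xef607001)],[(nat_lit 0xec29d001),(nat_lit 0xea70d001),(nat_lit 0xea70c001),(nat_lit 0xea70f001),(nat_lit 0xea70e001),(nat_lit 0xecf3a001),(nat_lit 0xed43b001)],[(nat_lit 0xedaac001),(nat_lit 0xedaad001),(nat_lit 0xedaab001),(nat_lit 0xedb44001),(nat_lit 0xedaae001),(nat_lit 0xedaaf001),(nat_lit 0xedab0001)],[(nat_lit 0xee7b0001),(nat_lit 0x8cf64001),(nat_lit 0xd8f19001),(nat_lit 0x8cf63001),(nat_lit 0x8cf65001),(nat_lit 0xda1d7001),(nat_lit 0xd053a001)],[(nat_lit 0xef542001),(nat_lit 0xef541001),(nat_lit 0xef543001),(nat_lit 0xef544001),(nat_lit 0xef545001),(nat_lit 0xef546001),(nat_lit 0xef547001)],[(nat_lit 0xec73e001),(nat_lit 0xec73f001),(nat_lit 0xec73d001),(nat_lit 0xec835001),(nat_lit 0xec740001),(nat_lit 0xec741001),(nat_lit 0xed985001)],[(nat_lit 0x84034001),(nat_lit 0xed450001),(nat_lit 0xeee79001),(nat_lit 0x84033001),(nat_lit 0xe652f001),(nat_lit 0xef2cf001),(nat_lit 0xef2f6001)],[(nat_lit 0xe62d6001),(nat_lit 0xd7a42001),(nat_lit 0x8a217001),(nat_lit 0xd7eb7001),(nat_lit 0x8a216001),(nat_lit 0xd8088001),(nat_lit 0xd7acb001)],[(nat_lit 0xecf2e001),(nat_lit 0xecf2f001),(nat_lit 0xecf2d001),(nat_lit 0xecf30001),(nat_lit 0xecf31001),(nat_lit 0xecf32001),(nat_lit 0xecf34001)],[(nat_lit 0xe48c9001),(nat_lit 0xeb349001),(nat_lit 0xe00bc001),(nat_lit 0xe00be001),(nat_lit 0xe00bd001),(nat_lit 0xe8561001),(nat_lit 0xec7a5001)],[(nat_lit 0xec711001),(nat_lit 0xec712001),(nat_lit 0xec710001),(nat_lit 0xec7a3001),(nat_lit 0xec713001),(nat_lit 0xec719001),(nat_lit 0xec70f001)],[(nat_lit 0xe4e0a001),(nat_lit 0xeb6d4001),(nat_lit 0xe4e09001),(nat_lit 0xe4e08001),(nat_lit 0xe4e0b001),(nat_lit 0xe4e0c001),(nat_lit 0xe4e07001)],[(nat_lit 0x50b0a001),(nat_lit 0x74303001),(nat_lit 0x50c6e001),(nat_lit 0x50b0b001),(nat_lit 0xda688001),(nat_lit 0x50b09001),(nat_lit 0xb4ffd001)],[(nat_lit 0xe4475001),(nat_lit 0x8e23b001),(nat_lit 0xce15c001),(nat_lit 0xb4df28e23a002),(nat_lit 0xd6627001),(nat_lit 0xce15b001),(nat_lit 0xd0a4f001)],[(nat_lit 0xe714a001),(nat_lit 0xef5ec001),(nat_lit 0xe7149001),(nat_lit 0xe7146001),(nat_lit 0xe7147001),(nat_lit 0xebefe001),(nat_lit 0xe7148001)],[(nat_lit 0xb5de169ff7002),(nat_lit 0x69ff8001),(nat_lit 0xe6047001),(nat_lit 0xb5dd669ff6002),(nat_lit 0x69ff9001),(nat_lit 0xc65b1001),(nat_lit 0xe5dc9001)],[(nat_lit 0xe13a9001),(nat_lit 0xd606b001),(nat_lit 0x75bb9001),(nat_lit 0xe4f5c001),(nat_lit 0xe3aaa001),(nat_lit 0x75bb8001),(nat_lit 0xd2604001)],[(nat_lit 0xc33b1001),(nat_lit 0xa6fe47586f002),(nat_lit 0xe3aa7001),(nat_lit 0xbcc3e001),(nat_lit 0x7586e001),(nat_lit 0x75870001),(nat_lit 0xea508001)],[(nat_lit 0xe7c91001),(nat_lit 0xe76f6001),(nat_lit 0xe7767001),(nat_lit 0xe76f5001),(nat_lit 0xe76f8001),(nat_lit 0xe76f7001),(nat_lit 0xe76f4001)],[(nat_lit 0xdbbdd001),(nat_lit 0x8502f001),(nat_lit 0x85030001),(nat_lit 0xee887001),(nat_lit 0xc894585e4b002),(nat_lit 0x85e4e001),(nat_lit 0xe3c0b001)],[(nat_lit 0x5a8bd001),(nat_lit 0x5a14e001),(nat_lit 0x5a14f001),(nat_lit 0xe28af001),(nat_lit 0x5a150001),(nat_lit 0x5ec97001),(nat_lit 0xdfaeb001)],[(nat_lit 0xe67bd001),(nat_lit 0xe67fd001),(nat_lit 0xe67bb001),(nat_lit 0xe67bc001),(nat_lit 0xe6b3a001),(nat_lit 0xe67be001),(nat_lit 0xe67ba001)],[(nat_lit 0xe6a82001),(nat_lit 0xeb0de001),(nat_lit 0xe67f8001),(nat_lit 0xe3313001),(nat_lit 0xe6f66001),(nat_lit 0xe3314001),(nat_lit 0xe3312001)],[(nat_lit 0xeb059001),(nat_lit 0xeb095001),(nat_lit 0xec049001),(nat_lit 0xead9e001),(nat_lit 0xead9f001),(nat_lit 0xeadaa001),(nat_lit 0xeada0001)],[(nat_lit 0xeaa04001),(nat_lit 0xeafe1001),(nat_lit 0xeaa02001),(nat_lit 0xeada7001),(nat_lit 0xedb5b001),(nat_lit 0xeaa06001),(nat_lit 0x8a613001)],[(nat_lit 0x61274001),(nat_lit 0x61275001),(nat_lit 0x6152e001),(nat_lit 0x61796001),(nat_lit 0x61276001),(nat_lit 0x61511001),(nat_lit 0xcad54001)],[(nat_lit 0xebb7f001),(nat_lit 0xebb7e001),(nat_lit 0xebb80001),(nat_lit 0xebbee001),(nat_lit 0xebb81001),(nat_lit 0xebb82001),(nat_lit 0xec1d5001)],[(nat_lit 0xd6b12001),(nat_lit 0x71ca5001),(nat_lit 0xd7912001),(nat_lit 0xd8041001),(nat_lit 0xd596871ca4002),(nat_lit 0xe1713001),(nat_lit 0xdc858001)],[(nat_lit 0xe55b6001),(nat_lit 0xe55b7001),(nat_lit 0xe55b5001),(nat_lit 0xe55b8001),(nat_lit 0xeef03001),(nat_lit 0xe55b9001),(nat_lit 0xe55ba001)],[(nat_lit 0xeef04001),(nat_lit 0xedf5a001),(nat_lit 0xedf5d001),(nat_lit 0xedf59001),(nat_lit 0xedf5b001),(nat_lit 0xef418001),(nat_lit 0xedf5c001)],[(nat_lit 0xea76c001),(nat_lit 0xea76b001),(nat_lit 0xed27a001),(nat_lit 0xeb080001),(nat_lit 0xea76d001),(nat_lit 0xea76e001),(nat_lit 0xea76f001)],[(nat_lit 0xeeb95001),(nat_lit 0xeee60001),(nat_lit 0xeeb94001),(nat_lit 0xeebb4001),(nat_lit 0xeeb96001),(nat_lit 0xeeb97001),(nat_lit 0xeec2e001)],[(nat_lit 0xeb07d001),(nat_lit 0xea7b9001),(nat_lit 0xea995001),(nat_lit 0xea7b8001),(nat_lit 0xea7ba001),(nat_lit 0xebbf7001),(nat_lit 0xed2a3001)],[(nat_lit 0xeee67001),(nat_lit 0xeee69001),(nat_lit 0xeeea3001),(nat_lit 0xeee68001),(nat_lit 0xeee6a001),(nat_lit 0xeee6b001),(nat_lit 0xeee66001)],[(nat_lit 0xd2ea0c40b8002),(nat_lit 0x8a186001),(nat_lit 0xc6c46c40b9002),(nat_lit 0xe7bcd001),(nat_lit 0xc40918a185002),(nat_lit 0xc40d4c40ba002),(nat_lit 0xe5d1c001)],[(nat_lit 0xe54d0001),(nat_lit 0xeef27001),(nat_lit 0xeef06001),(nat_lit 0xeef3c001),(nat_lit 0xe54cf001),(nat_lit 0xe54d1001),(nat_lit 0x8ceb6001)],[(nat_lit 0xe85d9001),(nat_lit 0xde27e001),(nat_lit 0x8e3fd001),(nat_lit 0xe8377001),(nat_lit 0xe61f5001),(nat_lit 0x8e3fc001),(nat_lit 0xe44ce001)],[(nat_lit 0xe9e8d001),(nat_lit 0xe9e8e001),(nat_lit 0xe9e8c001),(nat_lit 0xea03f001),(nat_lit 0xedb9d001),(nat_lit 0xec5a6001),(nat_lit 0xe9e8b001)],[(nat_lit 0xee756001),(nat_lit 0xee757001),(nat_lit 0xee755001),(nat_lit 0xee7c5001),(nat_lit 0xee758001),(nat_lit 0xef1d5001),(nat_lit 0xee759001)],[(nat_lit 0xedf72001),(nat_lit 0xef1d3001),(nat_lit 0xef0dc001),(nat_lit 0xedf73001),(nat_lit 0xedf71001),(nat_lit 0xedf74001),(nat_lit 0xedf75001)],[(nat_lit 0xed52b001),(nat_lit 0xed52c001),(nat_lit 0xed52a001),(nat_lit 0xed5cb001),(nat_lit 0xed52d001),(nat_lit 0xedb58001),(nat_lit 0xed52e001)],[(nat_lit 0x81d43001),(nat_lit 0xe8930001),(nat_lit 0xef1d1001),(nat_lit 0x82cae001),(nat_lit 0x81d42001),(nat_lit 0xecd83001),(nat_lit 0xed451001)],[(nat_lit 0xd8010001),(nat_lit 0x3dfb1001),(nat_lit 0xe61f3001),(nat_lit 0x3dfb0001),(nat_lit 0x3dfb2001),(nat_lit 0x7f937001),(nat_lit 0xde11a001)],[(nat_lit 0xedf4b001),(nat_lit 0xea4be001),(nat_lit 0xe9e4d001),(nat_lit 0xe9e4c001),(nat_lit 0xeb424001),(nat_lit 0xee794001),(nat_lit 0xe9e4e001)],[(nat_lit 0xe34a2001),(nat_lit 0xdfbea001),(nat_lit 0xdfbe9001),(nat_lit 0xdfbeb001),(nat_lit 0xdfbec001),(nat_lit 0xe389f001),(nat_lit 0xe38a0001)],[(nat_lit 0xeaa9c001),(nat_lit 0x639e5001),(nat_lit 0xe92fe001),(nat_lit 0xeac13001),(nat_lit 0x639e4001),(nat_lit 0xe92ff001),(nat_lit 0xe9306001)],[(nat_lit 0xeac11001),(nat_lit 0xea8fa001),(nat_lit 0xea8fb001),(nat_lit 0xeaa97001),(nat_lit 0xece2a001),(nat_lit 0xea8fc001),(nat_lit 0xea8fd001)],[(nat_lit 0xea731001),(nat_lit 0xea732001),(nat_lit 0xea733001),(nat_lit 0xed085001),(nat_lit 0xea730001),(nat_lit 0xed2f7001),(nat_lit 0xea734001)],[(nat_lit 0xeccdd001),(nat_lit 0xeccde001),(nat_lit 0xeccdf001),(nat_lit 0xeccdc001),(nat_lit 0xecce0001),(nat_lit 0xecce1001),(nat_lit 0xecdc9001)],[(nat_lit 0xe9d00001),(nat_lit 0xe33c87776c002),(nat_lit 0xe4ce7001),(nat_lit 0xd8083001),(nat_lit 0x7776b001),(nat_lit 0xecc1a001),(nat_lit 0xdabc7001)],[(nat_lit 0xea3f1001),(nat_lit 0xee3ba001),(nat_lit 0xea3f0001),(nat_lit 0xea3f2001),(nat_lit 0xee6c3001),(nat_lit 0xea3f4001),(nat_lit 0xea662001)],[(nat_lit 0xeb11f001),(nat_lit 0xeb124001),(nat_lit 0xeb11e001),(nat_lit 0xeb120001),(nat_lit 0xeb121001),(nat_lit 0xeb122001),(nat_lit 0xeb123001)],[(nat_lit 0x686dc001),(nat_lit 0xbb7c7001),(nat_lit 0xd68cd001),(nat_lit 0xed44f001),(nat_lit 0x686db001),(nat_lit 0xee6f5001),(nat_lit 0xdf2b0001)],[(nat_lit 0xeda4f001),(nat_lit 0xe7ebd001),(nat_lit 0xee6f3001),(nat_lit 0xe7ebc001),(nat_lit 0xe7ebe001),(nat_lit 0xe7ec0001),(nat_lit 0xe7ebf001)],[(nat_lit 0xeb3b7001),(nat_lit 0xea854001),(nat_lit 0xe641d001),(nat_lit 0xde857001),(nat_lit 0xe2abc001),(nat_lit 0xe7ec1001),(nat_lit 0x886a6001)],[(nat_lit 0xd8ed7001),(nat_lit 0xd8ed8001),(nat_lit 0xea8fb001),(nat_lit 0xd8ed6001),(nat_lit 0xdc768001),(nat_lit 0xd8ed9001),(nat_lit 0xd8eda001)],[(nat_lit 0xea9e1001),(nat_lit 0xd2b6b44c6f002),(nat_lit 0xe6109001),(nat_lit 0xdb258001),(nat_lit 0xe2c8c001),(nat_lit 0x44c6e001),(nat_lit 0xeccee001)],[(nat_lit 0xeb550001),(nat_lit 0xe7087001),(nat_lit 0xe7086001),(nat_lit 0xe71ea001),(nat_lit 0xeb141001),(nat_lit 0xe7088001),(nat_lit 0xe7089001)],[(nat_lit 0xedb3d001),(nat_lit 0xedb3c001),(nat_lit 0xedb3e001),(nat_lit 0xedb54001),(nat_lit 0xedb3f001),(nat_lit 0xedb40001),(nat_lit 0xef608001)],[(nat_lit 0xe6067001),(nat_lit 0xe81fa001),(nat_lit 0xe6068001),(nat_lit 0xe6066001),(nat_lit 0xeba05001),(nat_lit 0xec80a001),(nat_lit 0xeadbe001)],[(nat_lit 0xe3f9b001),(nat_lit 0xed006001),(nat_lit 0xe3f99001),(nat_lit 0xe41a4001),(nat_lit 0xe3f9a001),(nat_lit 0xe3f9c001),(nat_lit 0xe3f98001)],[(nat_lit 0xee0e2001),(nat_lit 0xee0e3001),(nat_lit 0xee119001),(nat_lit 0xee0e1001),(nat_lit 0xee0e4001),(nat_lit 0xee0e5001),(nat_lit 0xee0e6001)],[(nat_lit 0xecf36001),(nat_lit 0xecf37001),(nat_lit 0xecf35001),(nat_lit 0xecf38001),(nat_lit 0xecf39001),(nat_lit 0xecf3a001),(nat_lit 0xed128001)],[(nat_lit 0x3dbe2001),(nat_lit 0x713b7001),(nat_lit 0x3dbe3001),(nat_lit 0xd791a71a8a002),(nat_lit 0x3dbe4001),(nat_lit 0x3dbe1001),(nat_lit 0xee7d4001)],[(nat_lit 0xece1f001),(nat_lit 0xe3398001),(nat_lit 0xe3397001),(nat_lit 0xe339a001),(nat_lit 0xe3399001),(nat_lit 0xeb044001),(nat_lit 0xe339b001)],[(nat_lit 0xe9ed2001),(nat_lit 0xe8b07001),(nat_lit 0xe8b06001),(nat_lit 0xe8b08001),(nat_lit 0xe8b09001),(nat_lit 0xe9f61001),(nat_lit 0xe9be3001)],[(nat_lit 0xed57b001),(nat_lit 0xecd81001),(nat_lit 0xee755001),(nat_lit 0xecd80001),(nat_lit 0xecd82001),(nat_lit 0xecd83001),(nat_lit 0xee71d001)],[(nat_lit 0xef609001),(nat_lit 0xedc99001),(nat_lit 0xedd3e001),(nat_lit 0xedc98001),(nat_lit 0xedc9a001),(nat_lit 0xedc9b001),(nat_lit 0xedc97001)],[(nat_lit 0x45029001),(nat_lit 0xcf3c4001),(nat_lit 0xe9e8c001),(nat_lit 0x3c4e1001),(nat_lit 0xedc27001),(nat_lit 0x3c4e0001),(nat_lit 0xd0d92001)],[(nat_lit 0xe68bddd1eb002),(nat_lit 0xdcddd7776e002),(nat_lit 0xdcb54001),(nat_lit 0xdcddc001),(nat_lit 0xebf90001),(nat_lit 0x7776d001),(nat_lit 0xdcde9001)],[(nat_lit 0xe92eb001),(nat_lit 0xe92ea001),(nat_lit 0xe92ec001),(nat_lit 0xe97b4001),(nat_lit 0xe92ed001),(nat_lit 0xe92ee001),(nat_lit 0xebb4a001)],[(nat_lit 0xec716001),(nat_lit 0xec717001),(nat_lit 0xec715001),(nat_lit 0xec7a8001),(nat_lit 0xec718001),(nat_lit 0xec719001),(nat_lit 0xec714001)],[(nat_lit 0xed748001),(nat_lit 0xec5dd001),(nat_lit 0xec64f001),(nat_lit 0xec5dc001),(nat_lit 0xedc24001),(nat_lit 0xec5ee001),(nat_lit 0xec5de001)],[(nat_lit 0xed9dd001),(nat_lit 0xecb91001),(nat_lit 0xecc50001),(nat_lit 0xecb90001),(nat_lit 0xecb92001),(nat_lit 0xecb93001),(nat_lit 0xecb8f001)],[(nat_lit 0xe8f5f001),(nat_lit 0xe5daf001),(nat_lit 0xe5db0001),(nat_lit 0xeb4d5001),(nat_lit 0xee6de001),(nat_lit 0xe7b4a001),(nat_lit 0xec791001)],[(nat_lit 0xe978f001),(nat_lit 0xeb4d6001),(nat_lit 0xe6147001),(nat_lit 0xe5ddf001),(nat_lit 0xedf97001),(nat_lit 0xe5de0001),(nat_lit 0xe5dde001)],[(nat_lit 0xe01feda6b3002),(nat_lit 0xea810001),(nat_lit 0xda6b2001),(nat_lit 0xdc7e7001),(nat_lit 0xda6b4001),(nat_lit 0xda6b5001),(nat_lit 0xde65c001)],[(nat_lit 0xef4a3001),(nat_lit 0xeed51001),(nat_lit 0xeed32001),(nat_lit 0xeed4f001),(nat_lit 0xeed33001),(nat_lit 0xeed34001),(nat_lit 0xeed35001)],[(nat_lit 0xef5a3001),(nat_lit 0xef0fc001),(nat_lit 0xef122001),(nat_lit 0xef0fb001),(nat_lit 0xef0fd001),(nat_lit 0xef5ee001),(nat_lit 0xef0fa001)],[(nat_lit 0xe9af5001),(nat_lit 0xe9af7001),(nat_lit 0xe9c3d001),(nat_lit 0xe9af6001),(nat_lit 0xe9b3a001),(nat_lit 0xece9d001),(nat_lit 0xe9af4001)],[(nat_lit 0xee609001),(nat_lit 0xee60a001),(nat_lit 0xee608001),(nat_lit 0xee64e001),(nat_lit 0xee743001),(nat_lit 0xee60b001),(nat_lit 0xee607001)],[(nat_lit 0xee663001),(nat_lit 0xed02a001),(nat_lit 0xed02d001),(nat_lit 0xed029001),(nat_lit 0xed02b001),(nat_lit 0xed02c001),(nat_lit 0xed028001)],[(nat_lit 0xec604001),(nat_lit 0xec605001),(nat_lit 0xec603001),(nat_lit 0xede80001),(nat_lit 0xec606001),(nat_lit 0xedbd6001),(nat_lit 0xec602001)],[(nat_lit 0xe9c54001),(nat_lit 0xe9c55001),(nat_lit 0xe9c58001),(nat_lit 0xe9c53001),(nat_lit 0xe9c56001),(nat_lit 0xe9c57001),(nat_lit 0xe9c59001)],[(nat_lit 0xea50a001),(nat_lit 0xea5fb001),(nat_lit 0xea507001),(nat_lit 0xea506001),(nat_lit 0xea50b001),(nat_lit 0xea509001),(nat_lit 0xdbe5a001)],[(nat_lit 0xec427001),(nat_lit 0xeb0b6001),(nat_lit 0xeb0b7001),(nat_lit 0xed57d001),(nat_lit 0xeb0b8001),(nat_lit 0xeb0b9001),(nat_lit 0xeb0ba001)],[(nat_lit 0xedce1001),(nat_lit 0xe60b8001),(nat_lit 0xe60ba001),(nat_lit 0xe60b7001),(nat_lit 0xe60b9001),(nat_lit 0xe84d6001),(nat_lit 0xedb07001)],[(nat_lit 0xe198d001),(nat_lit 0xe198e001),(nat_lit 0xe198c001),(nat_lit 0xe1990001),(nat_lit 0xe475a001),(nat_lit 0xe198f001),(nat_lit 0xe199a001)],[(nat_lit 0xe4449001),(nat_lit 0xe653a001),(nat_lit 0xe4448001),(nat_lit 0xe4640001),(nat_lit 0xe9888001),(nat_lit 0xe8649001),(nat_lit 0xe4447001)],[(nat_lit 0x8e3a9001),(nat_lit 0x3d2cc001),(nat_lit 0x3be54001),(nat_lit 0x904bf001),(nat_lit 0x3be55001),(nat_lit 0x3be53001),(nat_lit 0xe12b8001)],[(nat_lit 0xeeae3001),(nat_lit 0xe727b001),(nat_lit 0xd8a01001),(nat_lit 0xe71be001),(nat_lit 0xd8a02001),(nat_lit 0xd8a00001),(nat_lit 0xe74a6001)],[(nat_lit 0xea401001),(nat_lit 0xec464001),(nat_lit 0xea400001),(nat_lit 0xe2d44001),(nat_lit 0xec211001),(nat_lit 0xe74a5001),(nat_lit 0xe2d45001)],[(nat_lit 0xeec21001),(nat_lit 0xeec22001),(nat_lit 0xef232001),(nat_lit 0xeee34eec20002),(nat_lit 0xeec23001),(nat_lit 0xeecd8001),(nat_lit 0xef21a001)],[(nat_lit 0x93fc8001),(nat_lit 0xe82f6001),(nat_lit 0x93fc9001),(nat_lit 0xdc855001),(nat_lit 0x93fc7001),(nat_lit 0xe1f56001),(nat_lit 0xe5a50001)],[(nat_lit 0xe980c001),(nat_lit 0xe980a001),(nat_lit 0xebdbc001),(nat_lit 0xe9801001),(nat_lit 0xe980b001),(nat_lit 0xe980d001),(nat_lit 0xe9800001)],[(nat_lit 0xecfe6001),(nat_lit 0xecfe4001),(nat_lit 0xed09a001),(nat_lit 0xecfe3001),(nat_lit 0xecfe5001),(nat_lit 0xed18a001),(nat_lit 0xecfe2001)],[(nat_lit 0xd50b4001),(nat_lit 0xee595001),(nat_lit 0xc6d5286f67002),(nat_lit 0xe8e3a001),(nat_lit 0xc6d5186f66002),(nat_lit 0xd50b3001),(nat_lit 0xee16e001)],[(nat_lit 0xee162001),(nat_lit 0xee161001),(nat_lit 0xee163001),(nat_lit 0xee1ad001),(nat_lit 0xee164001),(nat_lit 0xee16f001),(nat_lit 0xee165001)],[(nat_lit 0xede79001),(nat_lit 0xeb04e001),(nat_lit 0xeb115001),(nat_lit 0xeb04f001),(nat_lit 0xed687001),(nat_lit 0xeb34c001),(nat_lit 0xeb050001)],[(nat_lit 0xe562a001),(nat_lit 0xe565f001),(nat_lit 0xedb59001),(nat_lit 0xe5334001),(nat_lit 0xe565d001),(nat_lit 0xe5660001),(nat_lit 0x70456001)],[(nat_lit 0xaf889001),(nat_lit 0xeccde001),(nat_lit 0xaf3b57dc9a002),(nat_lit 0xe76cd001),(nat_lit 0x7dc99001),(nat_lit 0xaf88a001),(nat_lit 0xe6e77001)],[(nat_lit 0xeecc6001),(nat_lit 0xeed38001),(nat_lit 0xeecc5001),(nat_lit 0xeecee001),(nat_lit 0xeecc7001),(nat_lit 0xeecc8001),(nat_lit 0xeecc9001)],[(nat_lit 0xedd8c001),(nat_lit 0xec762001),(nat_lit 0xee0f9001),(nat_lit 0xec760001),(nat_lit 0xec761001),(nat_lit 0xec763001),(nat_lit 0xec75f001)],[(nat_lit 0x5e580001),(nat_lit 0x6228e5c73d002),(nat_lit 0xe7bd9001),(nat_lit 0xaf2d55c73c002),(nat_lit 0x622905df86002),(nat_lit 0x622675c73e002),(nat_lit 0xe2c8e001)],[(nat_lit 0xeb8d6001),(nat_lit 0xe97c9001),(nat_lit 0xe97c8001),(nat_lit 0xe9937001),(nat_lit 0xec411001),(nat_lit 0xea2b4001),(nat_lit 0xe9b53001)],[(nat_lit 0x87658001),(nat_lit 0xc8861001),(nat_lit 0x87659001),(nat_lit 0xe444a001),(nat_lit 0xe97ac001),(nat_lit 0x87657001),(nat_lit 0xdd424001)],[(nat_lit 0xebac6001),(nat_lit 0xeb476001),(nat_lit 0xeb475001),(nat_lit 0xeb478001),(nat_lit 0xedf4e001),(nat_lit 0xeb477001),(nat_lit 0xeb5b5001)],[(nat_lit 0xbb46f5eb09002),(nat_lit 0x5eb0a001),(nat_lit 0xc524f001),(nat_lit 0xbb465001),(nat_lit 0x5eb08001),(nat_lit 0x5eb0b001),(nat_lit 0xd1287001)],[(nat_lit 0xe7e2a001),(nat_lit 0xed8f9001),(nat_lit 0xe7530001),(nat_lit 0xe723a001),(nat_lit 0xe723b001),(nat_lit 0xed063001),(nat_lit 0xe723c001)],[(nat_lit 0xebd41001),(nat_lit 0x8390f001),(nat_lit 0xd528c001),(nat_lit 0x84425001),(nat_lit 0x84427001),(nat_lit 0x84429001),(nat_lit 0xe78b6001)],[(nat_lit 0xec053001),(nat_lit 0xec056001),(nat_lit 0xec052001),(nat_lit 0xec157001),(nat_lit 0xecfef001),(nat_lit 0xec054001),(nat_lit 0xec055001)],[(nat_lit 0xebb4c001),(nat_lit 0xebb4f001),(nat_lit 0xebb4b001),(nat_lit 0xebc2a001),(nat_lit 0xebb4d001),(nat_lit 0xebb4e001),(nat_lit 0xebf37001)],[(nat_lit 0xe5bd9001),(nat_lit 0xdf533001),(nat_lit 0xdf531001),(nat_lit 0xdf532001),(nat_lit 0xe86f8001),(nat_lit 0xe1308001),(nat_lit 0xe6636001)],[(nat_lit 0xeefa2001),(nat_lit 0xef597001),(nat_lit 0xee2b5001),(nat_lit 0xee2b4001),(nat_lit 0xee611001),(nat_lit 0xee2b8001),(nat_lit 0xee2b6001)],[(nat_lit 0xee865001),(nat_lit 0xee883001),(nat_lit 0xee866001),(nat_lit 0xee864001),(nat_lit 0xee867001),(nat_lit 0xeece5001),(nat_lit 0xee868001)],[(nat_lit 0xebd4b001),(nat_lit 0xebd4d001),(nat_lit 0xecf2d001),(nat_lit 0xebd4c001),(nat_lit 0xebd98001),(nat_lit 0xec290001),(nat_lit 0xebd4a001)],[(nat_lit 0xea84c001),(nat_lit 0xeab96001),(nat_lit 0xea849001),(nat_lit 0xea84b001),(nat_lit 0xea84a001),(nat_lit 0xea84d001),(nat_lit 0xeaad3001)],[(nat_lit 0x50af6001),(nat_lit 0xc18ad8c489002),(nat_lit 0x47158001),(nat_lit 0x48f1e001),(nat_lit 0x50afc001),(nat_lit 0x47157001),(nat_lit 0x96be7001)],[(nat_lit 0xe88a1001),(nat_lit 0xe88a2001),(nat_lit 0xe88a6001),(nat_lit 0xe88a0001),(nat_lit 0xe88a3001),(nat_lit 0xe88a4001),(nat_lit 0xe88a5001)],[(nat_lit 0xeaa08001),(nat_lit 0xe78c6001),(nat_lit 0xe78c5001),(nat_lit 0xe78c8001),(nat_lit 0xec80e001),(nat_lit 0xe78c7001),(nat_lit 0xe78c9001)],[(nat_lit 0xeee61001),(nat_lit 0xedf4d001),(nat_lit 0xedf51001),(nat_lit 0xedfc2001),(nat_lit 0xedf4e001),(nat_lit 0xedf4f001),(nat_lit 0xedf50001)],[(nat_lit 0xe4f2e001),(nat_lit 0xdceb6001),(nat_lit 0x5f39a001),(nat_lit 0xddf5e001),(nat_lit 0x5f399001),(nat_lit 0xd600f001),(nat_lit 0xe7c9f001)],[(nat_lit 0xe880b001),(nat_lit 0xe880c001),(nat_lit 0xeb6ad001),(nat_lit 0xe880a001),(nat_lit 0xea00e001),(nat_lit 0xe880d001),(nat_lit 0xe880e001)],[(nat_lit 0x304d7001),(nat_lit 0x304d8001),(nat_lit 0x8b668001),(nat_lit 0x304d6001),(nat_lit 0x304d9001),(nat_lit 0x654a3001),(nat_lit 0x8d29d001)],[(nat_lit 0xee5eb001),(nat_lit 0xee5ec001),(nat_lit 0xee5ea001),(nat_lit 0xee648001),(nat_lit 0xee5ed001),(nat_lit 0xee5ee001),(nat_lit 0xee5ef001)],[(nat_lit 0xb3ada87592002),(nat_lit 0x84c36001),(nat_lit 0x87598001),(nat_lit 0x84c35001),(nat_lit 0x84c37001),(nat_lit 0x8b7d0001),(nat_lit 0xe9446001)],[(nat_lit 0xe9755001),(nat_lit 0xe9756001),(nat_lit 0xe9754001),(nat_lit 0xec408001),(nat_lit 0xe9757001),(nat_lit 0xe9758001),(nat_lit 0xe9759001)],[(nat_lit 0xe7a04001),(nat_lit 0xedacc001),(nat_lit 0xe7a03001),(nat_lit 0xe7a06001),(nat_lit 0xeaa87001),(nat_lit 0xe7a05001),(nat_lit 0xe7a07001)],[(nat_lit 0xaa72e84edf002),(nat_lit 0xa9cb067333002),(nat_lit 0xc2d9667a2f002),(nat_lit 0xb2f53ab6e0002),(nat_lit 0x67332001),(nat_lit 0xab6e1001),(nat_lit 0xc64e0001)],[(nat_lit 0xee012001),(nat_lit 0xee388001),(nat_lit 0xee013001),(nat_lit 0xee011001),(nat_lit 0xee014001),(nat_lit 0xee015001),(nat_lit 0xee016001)],[(nat_lit 0x89185001),(nat_lit 0x89187001),(nat_lit 0x89189001),(nat_lit 0xe95f4001),(nat_lit 0x88627001),(nat_lit 0xe9186001),(nat_lit 0xe93b3001)],[(nat_lit 0xef343001),(nat_lit 0xef345001),(nat_lit 0xef342001),(nat_lit 0xef344001),(nat_lit 0xef346001),(nat_lit 0xef347001),(nat_lit 0xef341001)],[(nat_lit 0x89c45001),(nat_lit 0x89c46001),(nat_lit 0x8bc78001),(nat_lit 0x89c47001),(nat_lit 0x8a389001),(nat_lit 0x89c44001),(nat_lit 0xdfdc5001)],[(nat_lit 0xe0899001),(nat_lit 0xe068e001),(nat_lit 0xe068f001),(nat_lit 0xe0691001),(nat_lit 0xe1a26001),(nat_lit 0xe0690001),(nat_lit 0xe0a83001)],[(nat_lit 0xe92ac001),(nat_lit 0xe4fdd001),(nat_lit 0xe4fdc001),(nat_lit 0xe4fe0001),(nat_lit 0xe4fde001),(nat_lit 0xe4fdf001),(nat_lit 0xeefce001)],[(nat_lit 0xe9c9a001),(nat_lit 0xec51e001),(nat_lit 0xe5ca8001),(nat_lit 0xe5ca6001),(nat_lit 0xe5ca7001),(nat_lit 0xeb48e001),(nat_lit 0xef44e001)],[(nat_lit 0xeab58001),(nat_lit 0xeab59001),(nat_lit 0xeab5a001),(nat_lit 0xeab57001),(nat_lit 0xeab5b001),(nat_lit 0xeb145001),(nat_lit 0xeab5c001)],[(nat_lit 0x56a74001),(nat_lit 0xc65af001),(nat_lit 0xd4f46001),(nat_lit 0xaa9e256a73002),(nat_lit 0xc65b0001),(nat_lit 0xc65b1001),(nat_lit 0xce511001)],[(nat_lit 0xec66c001),(nat_lit 0xe962d001),(nat_lit 0xe962e001),(nat_lit 0xebe05001),(nat_lit 0xee76a001),(nat_lit 0xea269001),(nat_lit 0xef3c6001)],[(nat_lit 0xe7a5e001),(nat_lit 0x58cb3001),(nat_lit 0x58cb4001),(nat_lit 0xe9656001),(nat_lit 0x58cb5001),(nat_lit 0xe0b4e001),(nat_lit 0xe987f001)],[(nat_lit 0xee1a8001),(nat_lit 0xee1a9001),(nat_lit 0xee218001),(nat_lit 0xee1a7001),(nat_lit 0xee1aa001),(nat_lit 0xee1ab001),(nat_lit 0xee1ac001)],[(nat_lit 0xeddd4001),(nat_lit 0xecd2e001),(nat_lit 0xef424001),(nat_lit 0xecd2d001),(nat_lit 0xeec60001),(nat_lit 0xecd2f001),(nat_lit 0xecd2c001)],[(nat_lit 0xee2e8001),(nat_lit 0xee2e7001),(nat_lit 0xee2e9001),(nat_lit 0xee341001),(nat_lit 0xee2ea001),(nat_lit 0xee2eb001),(nat_lit 0xee2ec001)],[(nat_lit 0xef2a6001),(nat_lit 0xef145001),(nat_lit 0xef144001),(nat_lit 0xef148001),(nat_lit 0xef146001),(nat_lit 0xef1e2001),(nat_lit 0xef147001)],[(nat_lit 0xe8274001),(nat_lit 0xe8275001),(nat_lit 0xe8273001),(nat_lit 0xe8277001),(nat_lit 0xe8276001),(nat_lit 0xed457001),(nat_lit 0xe8278001)],[(nat_lit 0xee7b0001),(nat_lit 0xee7b2001),(nat_lit 0xee7f9001),(nat_lit 0xee7b1001),(nat_lit 0xee7b3001),(nat_lit 0xee7b4001),(nat_lit 0xee7af001)],[(nat_lit 0xe9c3e001),(nat_lit 0xe9c3f001),(nat_lit 0xe9c3d001),(nat_lit 0xead42001),(nat_lit 0xe9d0f001),(nat_lit 0xece0e001),(nat_lit 0xe9c40001)],[(nat_lit 0xe8509001),(nat_lit 0xe7d1a001),(nat_lit 0xe7d18001),(nat_lit 0xe7d19001),(nat_lit 0xe7d1b001),(nat_lit 0xe7d1c001),(nat_lit 0xe7d17001)],[(nat_lit 0xec78e001),(nat_lit 0xec78f001),(nat_lit 0xec790001),(nat_lit 0xec78d001),(nat_lit 0xec792001),(nat_lit 0xed29c001),(nat_lit 0xec791001)],[(nat_lit 0xef24a001),(nat_lit 0xef24b001),(nat_lit 0xef3a5001),(nat_lit 0xef249001),(nat_lit 0xef24c001),(nat_lit 0xef24d001),(nat_lit 0xef259001)],[(nat_lit 0xe8a8c001),(nat_lit 0xe8a89001),(nat_lit 0xe8a8a001),(nat_lit 0xe8c6e001),(nat_lit 0xee0a3001),(nat_lit 0xe8a8b001),(nat_lit 0xe8c73001)],[(nat_lit 0x6150f001),(nat_lit 0x61510001),(nat_lit 0x62815001),(nat_lit 0x62930001),(nat_lit 0x6281d001),(nat_lit 0x61511001),(nat_lit 0xdbe93001)],[(nat_lit 0xedfd2001),(nat_lit 0xee01b001),(nat_lit 0xedfd1001),(nat_lit 0xedfd5001),(nat_lit 0xedfd3001),(nat_lit 0xedfd4001),(nat_lit 0xee033001)],[(nat_lit 0xef542001),(nat_lit 0xef4cb001),(nat_lit 0xef4cc001),(nat_lit 0xef4ce001),(nat_lit 0xef4cd001),(nat_lit 0xef546001),(nat_lit 0xef4d2001)],[(nat_lit 0x896a7001),(nat_lit 0xc6b828a02f002),(nat_lit 0x896a8001),(nat_lit 0xe9432001),(nat_lit 0xd4b928a482002),(nat_lit 0xb3e03896a6002),(nat_lit 0xeca77001)],[(nat_lit 0xecf16001),(nat_lit 0xea7cb001),(nat_lit 0xea7cd001),(nat_lit 0xea7ca001),(nat_lit 0xea7cc001),(nat_lit 0xed24a001),(nat_lit 0xed635001)],[(nat_lit 0xd8fc4001),(nat_lit 0xed030001),(nat_lit 0xd8fc3001),(nat_lit 0xd8fc7001),(nat_lit 0xd8fc5001),(nat_lit 0xd8fc6001),(nat_lit 0xeb327001)],[(nat_lit 0x854cc001),(nat_lit 0xea3c8001),(nat_lit 0xea3c9001),(nat_lit 0xea3ca001),(nat_lit 0xec8db854cb002),(nat_lit 0xea3cb001),(nat_lit 0xee111001)],[(nat_lit 0xbf1c7001),(nat_lit 0xbf1be939e5002),(nat_lit 0xe3ca6001),(nat_lit 0xd50bcbf1c8002),(nat_lit 0xbf1bc939e4002),(nat_lit 0xbf1c9001),(nat_lit 0xe3c84001)],[(nat_lit 0x927de001),(nat_lit 0xd2bd2927df002),(nat_lit 0xdcdb1001),(nat_lit 0x927e0001),(nat_lit 0xdd896001),(nat_lit 0x927dd001),(nat_lit 0xdad3b001)],[(nat_lit 0xeed37001),(nat_lit 0xeed38001),(nat_lit 0xeed5a001),(nat_lit 0xeed39001),(nat_lit 0xeed36001),(nat_lit 0xeed3a001),(nat_lit 0xeed3b001)],[(nat_lit 0xd54f956d10002),(nat_lit 0x5817e001),(nat_lit 0xe00c156d0f002),(nat_lit 0xe00be001),(nat_lit 0x56d11001),(nat_lit 0xd54f556d12002),(nat_lit 0xdeb9f001)],[(nat_lit 0xeec38001),(nat_lit 0xeec39001),(nat_lit 0xeec37001),(nat_lit 0xeec4b001),(nat_lit 0xeec3a001),(nat_lit 0xeec3b001),(nat_lit 0xeec3c001)],[(nat_lit 0x56a22001),(nat_lit 0x56a23001),(nat_lit 0xe696c001),(nat_lit 0x575ca001),(nat_lit 0x56d05001),(nat_lit 0x56a24001),(nat_lit 0xc9fca001)],[(nat_lit 0xef4a9001),(nat_lit 0xeed51001),(nat_lit 0xeed4e001),(nat_lit 0xeed4f001),(nat_lit 0xeed50001),(nat_lit 0xeed52001),(nat_lit 0xeed4d001)],[(nat_lit 0xec071001),(nat_lit 0xef230001),(nat_lit 0xea19a001),(nat_lit 0xea7bb001),(nat_lit 0xedd9c001),(nat_lit 0xed6a4001),(nat_lit 0xea199001)],[(nat_lit 0x561ab001),(nat_lit 0x56cf9001),(nat_lit 0x561ac001),(nat_lit 0x57830001),(nat_lit 0x561aa001),(nat_lit 0xab4d78b967002),(nat_lit 0xee4ee001)],[(nat_lit 0xef6b5001),(nat_lit 0xef699001),(nat_lit 0xef69c001),(nat_lit 0xef698001),(nat_lit 0xef69a001),(nat_lit 0xef6b8001),(nat_lit 0xef6a8001)],[(nat_lit 0xed574001),(nat_lit 0xed575001),(nat_lit 0xed573001),(nat_lit 0xed7eb001),(nat_lit 0xed731001),(nat_lit 0xed576001),(nat_lit 0xed7ee001)],[(nat_lit 0xe09cc001),(nat_lit 0xe4fb6001),(nat_lit 0xe09cf001),(nat_lit 0xe09cd001),(nat_lit 0xea7cc001),(nat_lit 0xe09ce001),(nat_lit 0xe09cb001)],[(nat_lit 0xdbe69001),(nat_lit 0xdbe68001),(nat_lit 0xdbe6a001),(nat_lit 0xeb7e3001),(nat_lit 0xde55c001),(nat_lit 0xdbe6b001),(nat_lit 0xe7f39001)],[(nat_lit 0xebd09001),(nat_lit 0xebd0a001),(nat_lit 0xebd08001),(nat_lit 0xebd4e001),(nat_lit 0xebd0b001),(nat_lit 0xebd0c001),(nat_lit 0xebd0d001)],[(nat_lit 0x67856001),(nat_lit 0x67857001),(nat_lit 0xdc93f001),(nat_lit 0x683f6001),(nat_lit 0x67855001),(nat_lit 0x67858001),(nat_lit 0xef0ab001)],[(nat_lit 0x56d03001),(nat_lit 0x56d04001),(nat_lit 0xd7832001),(nat_lit 0x58188001),(nat_lit 0x56d05001),(nat_lit 0x56d02001),(nat_lit 0xe720c001)],[(nat_lit 0xeeef2001),(nat_lit 0xeef16001),(nat_lit 0xeeef1001),(nat_lit 0xeeefa001),(nat_lit 0xeeef3001),(nat_lit 0xeeef4001),(nat_lit 0xeeef0001)],[(nat_lit 0xee1db001),(nat_lit 0xed7da001),(nat_lit 0xed7db001),(nat_lit 0xed86c001),(nat_lit 0xed7dc001),(nat_lit 0xedee4001),(nat_lit 0xed7dd001)],[(nat_lit 0xee628001),(nat_lit 0xee59f001),(nat_lit 0xee5a0001),(nat_lit 0xee5a1001),(nat_lit 0xee5a2001),(nat_lit 0xee5a3001),(nat_lit 0xee617001)],[(nat_lit 0xee663001),(nat_lit 0xee668001),(nat_lit 0xee6b4001),(nat_lit 0xee664001),(nat_lit 0xee666001),(nat_lit 0xee667001),(nat_lit 0xee662001)],[(nat_lit 0xec747001),(nat_lit 0xef50d001),(nat_lit 0xe54c3001),(nat_lit 0xe54c1001),(nat_lit 0xe54c2001),(nat_lit 0xedf40001),(nat_lit 0xed5fc001)],[(nat_lit 0xee0c9001),(nat_lit 0xee3d5001),(nat_lit 0xee0c5001),(nat_lit 0xee0c6001),(nat_lit 0xee0c7001),(nat_lit 0xee0c8001),(nat_lit 0xee0ca001)],[(nat_lit 0xec69c001),(nat_lit 0xec6b2001),(nat_lit 0xee94a001),(nat_lit 0xee069001),(nat_lit 0xec69b001),(nat_lit 0xee192001),(nat_lit 0x7c691001)],[(nat_lit 0xed6b1001),(nat_lit 0xed6b2001),(nat_lit 0xed6b0001),(nat_lit 0xed72b001),(nat_lit 0xed6b3001),(nat_lit 0xed6b4001),(nat_lit 0xed6b5001)],[(nat_lit 0xe34b7001),(nat_lit 0xcbe7c82bb1002),(nat_lit 0xce3c3001),(nat_lit 0xd1d6b001),(nat_lit 0xe3399001),(nat_lit 0xd08c9001),(nat_lit 0x82bb2001)],[(nat_lit 0xea217001),(nat_lit 0xea21a001),(nat_lit 0xea216001),(nat_lit 0xea402001),(nat_lit 0xeb188001),(nat_lit 0xea218001),(nat_lit 0xea219001)],[(nat_lit 0xef56b001),(nat_lit 0xef4d9001),(nat_lit 0xef4e3001),(nat_lit 0xef4e1001),(nat_lit 0xef4da001),(nat_lit 0xef56e001),(nat_lit 0xef4db001)],[(nat_lit 0xea211001),(nat_lit 0xef4de001),(nat_lit 0xe0c09001),(nat_lit 0xe0c0a001),(nat_lit 0xe719b001),(nat_lit 0xe9bb0001),(nat_lit 0xef0b7001)],[(nat_lit 0xe67bd001),(nat_lit 0xea76b001),(nat_lit 0xe4ad7001),(nat_lit 0xe787d001),(nat_lit 0xe144b001),(nat_lit 0xe4ad5001),(nat_lit 0xe144c001)],[(nat_lit 0xe1c7e001),(nat_lit 0xe0fd3001),(nat_lit 0xe0fd0001),(nat_lit 0xe0fd1001),(nat_lit 0xe0fd2001),(nat_lit 0xe0fd4001),(nat_lit 0xe0fcf001)],[(nat_lit 0xef661001),(nat_lit 0xe95ae001),(nat_lit 0xe95af001),(nat_lit 0xe95ad001),(nat_lit 0xeefbf001),(nat_lit 0xe95b0001),(nat_lit 0xed56b001)],[(nat_lit 0xebbef001),(nat_lit 0xebbf0001),(nat_lit 0xebbf1001),(nat_lit 0xebbee001),(nat_lit 0xebbf2001),(nat_lit 0xebbf3001),(nat_lit 0xebbed001)],[(nat_lit 0xe067f001),(nat_lit 0xdda1d001),(nat_lit 0xdd7ed001),(nat_lit 0xdd7ec001),(nat_lit 0xe6eaf001),(nat_lit 0xe5f05001),(nat_lit 0xe8ce8001)],[(nat_lit 0xe562a001),(nat_lit 0xe8f60001),(nat_lit 0xe5c4e001),(nat_lit 0xe5629001),(nat_lit 0xe75e2001),(nat_lit 0xe5662001),(nat_lit 0x6f55f001)],[(nat_lit 0x842fd001),(nat_lit 0xee00b001),(nat_lit 0x842fc001),(nat_lit 0xebd78001),(nat_lit 0xea3ee001),(nat_lit 0x842fe001),(nat_lit 0xeb2dd001)],[(nat_lit 0xeb07d001),(nat_lit 0xeb07e001),(nat_lit 0xeb07c001),(nat_lit 0xeb080001),(nat_lit 0xeb07f001),(nat_lit 0xec61e001),(nat_lit 0xedd5f001)],[(nat_lit 0xedc2b001),(nat_lit 0xef001001),(nat_lit 0xeef0f001),(nat_lit 0xec6d1001),(nat_lit 0xec6d0001),(nat_lit 0xee62c001),(nat_lit 0xed5e8001)],[(nat_lit 0xed4af001),(nat_lit 0xc7cdb001),(nat_lit 0xad090691e5002),(nat_lit 0xcedc0001),(nat_lit 0x691e4001),(nat_lit 0xed142001),(nat_lit 0xef581001)],[(nat_lit 0xe1744001),(nat_lit 0xe1745001),(nat_lit 0xe3117001),(nat_lit 0xe1743001),(nat_lit 0xe1746001),(nat_lit 0xe1747001),(nat_lit 0xe1748001)],[(nat_lit 0xe7631001),(nat_lit 0xe7d78001),(nat_lit 0xe7630001),(nat_lit 0xe762f001),(nat_lit 0xe7632001),(nat_lit 0xe7633001),(nat_lit 0x8ad19001)],[(nat_lit 0xde2fb001),(nat_lit 0xe686e001),(nat_lit 0xde2fa001),(nat_lit 0xe475f001),(nat_lit 0xdf7ee001),(nat_lit 0xde2fc001),(nat_lit 0xde2f9001)],[(nat_lit 0xeeed8001),(nat_lit 0xedf1a001),(nat_lit 0xedf19001),(nat_lit 0xedf59001),(nat_lit 0xedf1b001),(nat_lit 0xef41f001),(nat_lit 0xedf1c001)],[(nat_lit 0xe6899001),(nat_lit 0xe6d30001),(nat_lit 0xe3898001),(nat_lit 0xe389a001),(nat_lit 0xe3899001),(nat_lit 0xe7b02001),(nat_lit 0xebe4c001)],[(nat_lit 0xef1cd001),(nat_lit 0xef1cc001),(nat_lit 0xef1ce001),(nat_lit 0xef1e7001),(nat_lit 0xef1cf001),(nat_lit 0xef1d0001),(nat_lit 0xef1ea001)],[(nat_lit 0xeca95001),(nat_lit 0xeca96001),(nat_lit 0xecb54001),(nat_lit 0xeca94001),(nat_lit 0xeca97001),(nat_lit 0xeca98001),(nat_lit 0xeca99001)],[(nat_lit 0xe9169001),(nat_lit 0xe916a001),(nat_lit 0xe916d001),(nat_lit 0xe9168001),(nat_lit 0xe916b001),(nat_lit 0xea24f001),(nat_lit 0xe916c001)],[(nat_lit 0xea871001),(nat_lit 0xea872001),(nat_lit 0xea873001),(nat_lit 0xea870001),(nat_lit 0xea874001),(nat_lit 0xec6b7001),(nat_lit 0xea875001)],[(nat_lit 0xe8164001),(nat_lit 0xe8163001),(nat_lit 0xe8165001),(nat_lit 0xe842e001),(nat_lit 0xe8166001),(nat_lit 0xec468001),(nat_lit 0xebcd7001)],[(nat_lit 0xe85d3001),(nat_lit 0xe85d4001),(nat_lit 0xe85d2001),(nat_lit 0xe85d5001),(nat_lit 0xe85d6001),(nat_lit 0xe9027001),(nat_lit 0xe85d7001)],[(nat_lit 0xef5c9001),(nat_lit 0xef5c7001),(nat_lit 0xef5cd001),(nat_lit 0xef5c6001),(nat_lit 0xef5c8001),(nat_lit 0xef5ca001),(nat_lit 0xef5c5001)],[(nat_lit 0xee216001),(nat_lit 0xee217001),(nat_lit 0xee218001),(nat_lit 0xee215001),(nat_lit 0xee219001),(nat_lit 0xee21a001),(nat_lit 0xee21b001)],[(nat_lit 0xef0a5001),(nat_lit 0xe95ae001),(nat_lit 0xe7820001),(nat_lit 0xe781e001),(nat_lit 0xe781f001),(nat_lit 0xe95b0001),(nat_lit 0xedb81001)],[(nat_lit 0xaf09995c0d002),(nat_lit 0xd2cd7c9cd6002),(nat_lit 0x95c0e001),(nat_lit 0xd2cd497048002),(nat_lit 0x97b34001),(nat_lit 0xd2d0f95c0c002),(nat_lit 0xec5a7001)],[(nat_lit 0x645f6001),(nat_lit 0xe8505001),(nat_lit 0x645f5001),(nat_lit 0xe078f001),(nat_lit 0xd6d8a001),(nat_lit 0x645f7001),(nat_lit 0xea600001)],[(nat_lit 0xee3d3001),(nat_lit 0x97d8a001),(nat_lit 0xdcd04001),(nat_lit 0x97d89001),(nat_lit 0xedf3f001),(nat_lit 0xd89e6001),(nat_lit 0xee120001)],[(nat_lit 0xe4ace001),(nat_lit 0xe4ad1001),(nat_lit 0xe4ad2001),(nat_lit 0xe4acd001),(nat_lit 0xe4acf001),(nat_lit 0xe4ad5001),(nat_lit 0xe4ad0001)],[(nat_lit 0xee573001),(nat_lit 0xec771001),(nat_lit 0xec86c001),(nat_lit 0xec770001),(nat_lit 0xec772001),(nat_lit 0xec773001),(nat_lit 0xec76f001)],[(nat_lit 0xea5fc001),(nat_lit 0xea5fb001),(nat_lit 0xea5ff001),(nat_lit 0xea61b001),(nat_lit 0xea5fd001),(nat_lit 0xea5fe001),(nat_lit 0xea600001)],[(nat_lit 0xe7ad1001),(nat_lit 0xecd2e001),(nat_lit 0xed246001),(nat_lit 0xec884959c1002),(nat_lit 0xec883001),(nat_lit 0x959c0001),(nat_lit 0xed011001)],[(nat_lit 0xeef93001),(nat_lit 0xe90ce001),(nat_lit 0xee5fc001),(nat_lit 0xe90cd001),(nat_lit 0xe90cf001),(nat_lit 0xe90d0001),(nat_lit 0xe90d1001)],[(nat_lit 0xec818001),(nat_lit 0xeb48b001),(nat_lit 0xe72d7001),(nat_lit 0xe72d6001),(nat_lit 0xeb126001),(nat_lit 0xec520001),(nat_lit 0xe72d8001)],[(nat_lit 0x645dc001),(nat_lit 0xe1a24001),(nat_lit 0xa8f1e645dd002),(nat_lit 0xe5dc6001),(nat_lit 0x652ec001),(nat_lit 0xb5480645db002),(nat_lit 0xea49e001)],[(nat_lit 0xee686001),(nat_lit 0xef016001),(nat_lit 0xee384001),(nat_lit 0xee2b9001),(nat_lit 0xee2ba001),(nat_lit 0xee2bb001),(nat_lit 0xee2bc001)],[(nat_lit 0xee4e6001),(nat_lit 0x81608001),(nat_lit 0xe98df001),(nat_lit 0x822a9001),(nat_lit 0x81b6e001),(nat_lit 0x81607001),(nat_lit 0xe7511001)],[(nat_lit 0xed12b001),(nat_lit 0xed153001),(nat_lit 0xeac5a001),(nat_lit 0xeac58001),(nat_lit 0xeac59001),(nat_lit 0xee7ad001),(nat_lit 0xeac5b001)],[(nat_lit 0xe1978001),(nat_lit 0xda4ee001),(nat_lit 0xdfca3001),(nat_lit 0xda4cd67027002),(nat_lit 0xda4ef001),(nat_lit 0x67026001),(nat_lit 0xda4f0001)],[(nat_lit 0xe81f9001),(nat_lit 0xe81fa001),(nat_lit 0xe81fb001),(nat_lit 0xe81f8001),(nat_lit 0xe81fc001),(nat_lit 0xe81fd001),(nat_lit 0xeccd0001)],[(nat_lit 0xef4a3001),(nat_lit 0xef4a4001),(nat_lit 0xef4a2001),(nat_lit 0xef4a8001),(nat_lit 0xef4a5001),(nat_lit 0xef4a6001),(nat_lit 0xef4a7001)],[(nat_lit 0xecccc001),(nat_lit 0xe8ad4001),(nat_lit 0xe8863001),(nat_lit 0xe8862001),(nat_lit 0xe8864001),(nat_lit 0xe8f50001),(nat_lit 0xe8865001)],[(nat_lit 0xef4a9001),(nat_lit 0xef4aa001),(nat_lit 0xef4ab001),(nat_lit 0xef4a8001),(nat_lit 0xef4ac001),(nat_lit 0xef4ad001),(nat_lit 0xef4ae001)],[(nat_lit 0xcbf2981dc0002),(nat_lit 0x82cd6001),(nat_lit 0xd22dc001),(nat_lit 0x81dc1001),(nat_lit 0xd6f6c001),(nat_lit 0x81dbf001),(nat_lit 0xea51c001)],[(nat_lit 0xee2ef001),(nat_lit 0xee2f0001),(nat_lit 0xee38c001),(nat_lit 0xee2ee001),(nat_lit 0xee2f1001),(nat_lit 0xee63c001),(nat_lit 0xee2ed001)],[(nat_lit 0xee7f7001),(nat_lit 0xd8f17001),(nat_lit 0xd8f19001),(nat_lit 0xd8f16001),(nat_lit 0xe4e7b001),(nat_lit 0xd8f18001),(nat_lit 0xd8f1a001)],[(nat_lit 0xe389c001),(nat_lit 0xe389b001),(nat_lit 0xe389d001),(nat_lit 0xe5d00001),(nat_lit 0xe389e001),(nat_lit 0xe389f001),(nat_lit 0xe38a0001)],[(nat_lit 0xef49d001),(nat_lit 0xef4aa001),(nat_lit 0xef49c001),(nat_lit 0xef49e001),(nat_lit 0xef49f001),(nat_lit 0xef4a0001),(nat_lit 0xef4a1001)],[(nat_lit 0xef6aa001),(nat_lit 0xef6a9001),(nat_lit 0xef6ab001),(nat_lit 0xef6b9001),(nat_lit 0xef6ac001),(nat_lit 0xef6ad001),(nat_lit 0xef6ae001)],[(nat_lit 0xee38a001),(nat_lit 0xeeaef001),(nat_lit 0xee11e001),(nat_lit 0xee1c9001),(nat_lit 0xee11f001),(nat_lit 0xee2bb001),(nat_lit 0xee120001)],[(nat_lit 0xed0f5001),(nat_lit 0xecf51001),(nat_lit 0xecf9e001),(nat_lit 0xecf50001),(nat_lit 0xecf52001),(nat_lit 0xed0f8001),(nat_lit 0xecfa2001)],[(nat_lit 0xee86d001),(nat_lit 0xee869001),(nat_lit 0xee86a001),(nat_lit 0xee8a7001),(nat_lit 0xee86b001),(nat_lit 0xee9ce001),(nat_lit 0xee86c001)],[(nat_lit 0xdeda0001),(nat_lit 0xe0a0e001),(nat_lit 0xdeda1001),(nat_lit 0xded9f001),(nat_lit 0xe88aa001),(nat_lit 0xdeda2001),(nat_lit 0xdeda3001)],[(nat_lit 0xe8405001),(nat_lit 0xe8406001),(nat_lit 0xe8409001),(nat_lit 0xe8404001),(nat_lit 0xe8407001),(nat_lit 0xe8408001),(nat_lit 0xef134001)],[(nat_lit 0xeefda001),(nat_lit 0xeefd8001),(nat_lit 0xef00b001),(nat_lit 0xeefd7001),(nat_lit 0xeefd9001),(nat_lit 0xeefdb001),(nat_lit 0xeefd6001)],[(nat_lit 0xee2e8001),(nat_lit 0xe9cd8001),(nat_lit 0xdf592001),(nat_lit 0xea4bd001),(nat_lit 0xdcdcf001),(nat_lit 0xecb57001),(nat_lit 0xea63f001)],[(nat_lit 0xef620001),(nat_lit 0xef621001),(nat_lit 0xef624001),(nat_lit 0xef61f001),(nat_lit 0xef622001),(nat_lit 0xef623001),(nat_lit 0xef6b3001)],[(nat_lit 0xee3b9001),(nat_lit 0xee3ba001),(nat_lit 0xee3bb001),(nat_lit 0xee3b8001),(nat_lit 0xeec23001),(nat_lit 0xee3bc001),(nat_lit 0xee3bd001)]]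

theorem rows30_2_ok : okRows data table 980686 122000 rows30_2 = true := by decide +kernel

theorem rows30_2_len : rows30_2.length = 760 := by decide +kernel


end CfsgLib.CosetEnum.ON122760
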