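/-
Certificate data of a coset enumeration.
-/
import Cfsg.Agent.Lib.CosetEnum.Cox
import Cfsg.Agent.Lib.CosetEnum.PresON
import Cfsg.Agent.Lib.CosetEnum.ON122760.Facts0
import Cfsg.Agent.Lib.CosetEnum.ON122760.Facts1
import Cfsg.Agent.Lib.CosetEnum.ON122760.Facts2
import Cfsg.Agent.Lib.CosetEnum.ON122760.Facts3
import Cfsg.Agent.Lib.CosetEnum.ON122760.Facts4
import Cfsg.Agent.Lib.CosetEnum.ON122760.Facts5
import Cfsg.Agent.Lib.CosetEnum.ON122760.Facts6
import Cfsg.Agent.Lib.CosetEnum.ON122760.Facts7
import Cfsg.Agent.Lib.CosetEnum.ON122760.Facts8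
import Cfsg.Agent.Lib.CosetEnum.ON122760.Facts9
import Cfsg.Agent.Lib.CosetEnum.ON122760.Facts10
import Cfsg.Agent.Lib.CosetEnum.ON122760.Facts11
import Cfsg.Agent.Lib.CosetEnum.ON122760.Facts12
import Cfsg.Agent.Lib.CosetEnum.ON122760.Facts13
import Cfsg.Agent.Lib.CosetEnum.ON122760.Facts14
import Cfsg.Agent.Lib.CosetEnum.ON122760.Facts15
import Cfsg.Agent.Lib.CosetEnum.ON122760.Facts16
import Cfsg.Agent.Lib.CosetEnum.ON122760.Facts17
import Cfsg.Agent.Lib.CosetEnum.ON122760.Facts18
import Cfsg.Agent.Lib.CosetEnum.ON122760.Facts19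
import Cfsg.Agent.Lib.CosetEnum.ON122760.Facts20
import Cfsg.Agent.Lib.CosetEnum.ON122760.Facts21
import Cfsg.Agent.Lib.CosetEnum.ON122760.Facts22
import Cfsg.Agent.Lib.CosetEnum.ON122760.Facts23
import Cfsg.Agent.Lib.CosetEnum.ON122760.Facts24
import Cfsg.Agent.Lib.CosetEnum.ON122760.Facts25
import Cfsg.Agent.Lib.CosetEnum.ON122760.Facts26
import Cfsg.Agent.Lib.CosetEnum.ON122760.Facts27
import Cfsg.Agent.Lib.CosetEnum.ON122760.Facts28
import Cfsg.Agent.Lib.CosetEnum.ON122760.Facts29
import Cfsg.Agent.Lib.CosetEnum.ON122760.Facts30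
import Cfsg.Agent.Lib.CosetEnum.ON122760.Facts31
import Cfsg.Agent.Lib.CosetEnum.ON122760.Facts32
import Cfsg.Agent.Lib.CosetEnum.ON122760.Facts33
import Cfsg.Agent.Lib.CosetEnum.ON122760.Facts34
import Cfsg.Agent.Lib.CosetEnum.ON122760.Facts35
import Cfsg.Agent.Lib.CosetEnum.ON122760.Facts36
import Cfsg.Agent.Lib.CosetEnum.ON122760.Facts37
import Cfsg.Agent.Lib.CosetEnum.ON122760.Facts38
import Cfsg.Agent.Lib.CosetEnum.ON122760.Facts39
import Cfsg.Agent.Lib.CosetEnum.ON122760.Facts40
import Cfsg.Agent.Lib.CosetEnum.ON122760.Facts41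
import Cfsg.Agent.Lib.CosetEnum.ON122760.Facts42
import Cfsg.Agent.Lib.CosetEnum.ON122760.Facts43
import Cfsg.Agent.Lib.CosetEnum.ON122760.Facts44
import Cfsg.Agent.Lib.CosetEnum.ON122760.Facts45
import Cfsg.Agent.Lib.CosetEnum.ON122760.Facts46
import Cfsg.Agent.Lib.CosetEnum.ON122760.Facts47
import Cfsg.Agent.Lib.CosetEnum.ON122760.Facts48
import Cfsg.Agent.Lib.CosetEnum.ON122760.Facts49
import Cfsg.Agent.Lib.CosetEnum.ON122760.Facts50
import Cfsg.Agent.Lib.CosetEnum.ON122760.Facts51
import Cfsg.Agent.Lib.CosetEnum.ON122760.Facts52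
import Cfsg.Agent.Lib.CosetEnum.ON122760.Facts53
import Cfsg.Agent.Lib.CosetEnum.ON122760.Facts54
import Cfsg.Agent.Lib.CosetEnum.ON122760.Facts55
import Cfsg.Agent.Lib.CosetEnum.ON122760.Facts56
import Cfsg.Agent.Lib.CosetEnum.ON122760.Facts57
import Cfsg.Agent.Lib.CosetEnum.ON122760.Facts58
import Cfsg.Agent.Lib.CosetEnum.ON122760.Facts59
import Cfsg.Agent.Lib.CosetEnum.ON122760.Facts60
import Cfsg.Agent.Lib.CosetEnum.ON122760.Facts61
import Cfsg.Agent.Lib.CosetEnum.ON122760.Facts62
import Cfsg.Agent.Lib.CosetEnum.ON122760.Facts63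
import Cfsg.Agent.Lib.CosetEnum.ON122760.Facts64
import Cfsg.Agent.Lib.CosetEnum.ON122760.Facts65
import Cfsg.Agent.Lib.CosetEnum.ON122760.Facts66
import Cfsg.Agent.Lib.CosetEnum.ON122760.Facts67
import Cfsg.Agent.Lib.CosetEnum.ON122760.Facts68
import Cfsg.Agent.Lib.CosetEnum.ON122760.Facts69
import Cfsg.Agent.Lib.CosetEnum.ON122760.Facts70
import Cfsg.Agent.Lib.CosetEnum.ON122760.Facts71
import Cfsg.Agent.Lib.CosetEnum.ON122760.Facts72
import Cfsg.Agent.Lib.CosetEnum.ON122760.Facts73
import Cfsg.Agent.Lib.CosetEnum.ON122760.Facts74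
import Cfsg.Agent.Lib.CosetEnum.ON122760.Facts75
import Cfsg.Agent.Lib.CosetEnum.ON122760.Facts76
import Cfsg.Agent.Lib.CosetEnum.ON122760.Facts77
import Cfsg.Agent.Lib.CosetEnum.ON122760.Facts78
import Cfsg.Agent.Lib.CosetEnum.ON122760.Facts79
import Cfsg.Agent.Lib.CosetEnum.ON122760.Facts80
import Cfsg.Agent.Lib.CosetEnum.ON122760.Facts81
import Cfsg.Agent.Lib.CosetEnum.ON122760.Facts82
import Cfsg.Agent.Lib.CosetEnum.ON122760.Facts83
import Cfsg.Agent.Lib.CosetEnum.ON122760.Facts84
import Cfsg.Agent.Lib.CosetEnum.ON122760.Facts85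
import Cfsg.Agent.Lib.CosetEnum.ON122760.Facts86
import Cfsg.Agent.Lib.CosetEnum.ON122760.Facts87
import Cfsg.Agent.Lib.CosetEnum.ON122760.Facts88
import Cfsg.Agent.Lib.CosetEnum.ON122760.Facts89
import Cfsg.Agent.Lib.CosetEnum.ON122760.Facts90
import Cfsg.Agent.Lib.CosetEnum.ON122760.Facts91
import Cfsg.Agent.Lib.CosetEnum.ON122760.Facts92
import Cfsg.Agent.Lib.CosetEnum.ON122760.Facts93
import Cfsg.Agent.Lib.CosetEnum.ON122760.Facts94
import Cfsg.Agent.Lib.CosetEnum.ON122760.Facts95
import Cfsg.Agent.Lib.CosetEnum.ON122760.Facts96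
import Cfsg.Agent.Lib.CosetEnum.ON122760.Facts97
import Cfsg.Agent.Lib.CosetEnum.ON122760.Facts98
import Cfsg.Agent.Lib.CosetEnum.ON122760.Facts99
import Cfsg.Agent.Lib.CosetEnum.ON122760.Facts100
import Cfsg.Agent.Lib.CosetEnum.ON122760.Facts101
import Cfsg.Agent.Lib.CosetEnum.ON122760.Facts102
import Cfsg.Agent.Lib.CosetEnum.ON122760.Facts103
import Cfsg.Agent.Lib.CosetEnum.ON122760.Facts104
import Cfsg.Agent.Lib.CosetEnum.ON122760.Facts105
import Cfsg.Agent.Lib.CosetEnum.ON122760.Facts106
import Cfsg.Agent.Lib.CosetEnum.ON122760.Facts107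
import Cfsg.Agent.Lib.CosetEnum.ON122760.Facts108
import Cfsg.Agent.Lib.CosetEnum.ON122760.Facts109
import Cfsg.Agent.Lib.CosetEnum.ON122760.Facts110
import Cfsg.Agent.Lib.CosetEnum.ON122760.Facts111
import Cfsg.Agent.Lib.CosetEnum.ON122760.Facts112
import Cfsg.Agent.Lib.CosetEnum.ON122760.Facts113
import Cfsg.Agent.Lib.CosetEnum.ON122760.Facts114
import Cfsg.Agent.Lib.CosetEnum.ON122760.Facts115
import Cfsg.Agent.Lib.CosetEnum.ON122760.Facts116
import Cfsg.Agent.Lib.CosetEnum.ON122760.Facts117
import Cfsg.Agent.Lib.CosetEnum.ON122760.Facts118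
import Cfsg.Agent.Lib.CosetEnum.ON122760.Facts119
import Cfsg.Agent.Lib.CosetEnum.ON122760.Facts120
import Cfsg.Agent.Lib.CosetEnum.ON122760.Facts121
import Cfsg.Agent.Lib.CosetEnum.ON122760.Facts122
import Cfsg.Agent.Lib.CosetEnum.ON122760.Rows0
import Cfsg.Agent.Lib.CosetEnum.ON122760.Rows1
import Cfsg.Agent.Lib.CosetEnum.ON122760.Rows2
import Cfsg.Agent.Lib.CosetEnum.ON122760.Rows3
import Cfsg.Agent.Lib.CosetEnum.ON122760.Rows4
import Cfsg.Agent.Lib.CosetEnum.ON122760.Rows5
import Cfsg.Agent.Lib.CosetEnum.ON122760.Rows6
import Cfsg.Agent.Lib.CosetEnum.ON122760.Rows7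
import Cfsg.Agent.Lib.CosetEnum.ON122760.Rows8
import Cfsg.Agent.Lib.CosetEnum.ON122760.Rows9
import Cfsg.Agent.Lib.CosetEnum.ON122760.Rows10
import Cfsg.Agent.Lib.CosetEnum.ON122760.Rows11
import Cfsg.Agent.Lib.CosetEnum.ON122760.Rows12
import Cfsg.Agent.Lib.CosetEnum.ON122760.Rows13
import Cfsg.Agent.Lib.CosetEnum.ON122760.Rows14
import Cfsg.Agent.Lib.CosetEnum.ON122760.Rows15
import Cfsg.Agent.Lib.CosetEnum.ON122760.Rows16
import Cfsg.Agent.Lib.CosetEnum.ON122760.Rows17
import Cfsg.Agent.Lib.CosetEnum.ON122760.Rows18
import Cfsg.Agent.Lib.CosetEnum.ON122760.Rows19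
import Cfsg.Agent.Lib.CosetEnum.ON122760.Rows20
import Cfsg.Agent.Lib.CosetEnum.ON122760.Rows21
import Cfsg.Agent.Lib.CosetEnum.ON122760.Rows22
import Cfsg.Agent.Lib.CosetEnum.ON122760.Rows23
import Cfsg.Agent.Lib.CosetEnum.ON122760.Rows24
import Cfsg.Agent.Lib.CosetEnum.ON122760.Rows25
import Cfsg.Agent.Lib.CosetEnum.ON122760.Rows26
import Cfsg.Agent.Lib.CosetEnum.ON122760.Rows27
import Cfsg.Agent.Lib.CosetEnum.ON122760.Rows28
import Cfsg.Agent.Lib.CosetEnum.ON122760.Rows29
import Cfsg.Agent.Lib.CosetEnum.ON122760.Rows30
import Cfsg.Agent.Lib.CosetEnum.ON122760.Points0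
import Cfsg.Agent.Lib.CosetEnum.ON122760.Points1
import Cfsg.Agent.Lib.CosetEnum.ON122760.Points2
import Cfsg.Agent.Lib.CosetEnum.ON122760.Points3
import Cfsg.Agent.Lib.CosetEnum.ON122760.Points4
import Cfsg.Agent.Lib.CosetEnum.ON122760.Points5
import Cfsg.Agent.Lib.CosetEnum.ON122760.Points6
import Cfsg.Agent.Lib.CosetEnum.ON122760.Points7
import Cfsg.Agent.Lib.CosetEnum.ON122760.Points8
import Cfsg.Agent.Lib.CosetEnum.ON122760.Points9
import Cfsg.Agent.Lib.CosetEnum.ON122760.Points10
import Cfsg.Agent.Lib.CosetEnum.ON122760.Points11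
import Cfsg.Agent.Lib.CosetEnum.ON122760.Points12
import Cfsg.Agent.Lib.CosetEnum.ON122760.Points13
import Cfsg.Agent.Lib.CosetEnum.ON122760.Points14
import Cfsg.Agent.Lib.CosetEnum.ON122760.Points15
import Cfsg.Agent.Lib.CosetEnum.ON122760.Points16
import Cfsg.Agent.Lib.CosetEnum.ON122760.Points17
import Cfsg.Agent.Lib.CosetEnum.ON122760.Points18
import Cfsg.Agent.Lib.CosetEnum.ON122760.Points19
import Cfsg.Agent.Lib.CosetEnum.ON122760.Points20
import Cfsg.Agent.Lib.CosetEnum.ON122760.Points21
import Cfsg.Agent.Lib.CosetEnum.ON122760.Points22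
import Cfsg.Agent.Lib.CosetEnum.ON122760.Points23
import Cfsg.Agent.Lib.CosetEnum.ON122760.Points24
import Cfsg.Agent.Lib.CosetEnum.ON122760.Points25
import Cfsg.Agent.Lib.CosetEnum.ON122760.Points26
import Cfsg.Agent.Lib.CosetEnum.ON122760.Points27
import Cfsg.Agent.Lib.CosetEnum.ON122760.Points28
import Cfsg.Agent.Lib.CosetEnum.ON122760.Points29
import Cfsg.Agent.Lib.CosetEnum.ON122760.Points30

set_option autoImplicit false
set_option maxRecDepth 1000000

namespace CfsgLib.CosetEnum.ON122760

open CfsgLib.CosetEnum

theorem rels_eq : presON.rels = rels := by decide +kernel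

theorem holds0 {Ω : Type} (base : Ω) (s : ℕ → Ω → Ω) (hinv : ∀ x v, s x (s x v) = v) (hk : ∀ v, s data.k v = v)
    (hwh : ∀ w < data.nh, run s (wordOf (data.words.get w)) base = base)
    (hwr : ∀ w, data.nh ≤ w → w < data.nw → ∀ v, run s (wordOf (data.words.get w)) v = v)
    (h0 : ∀ i < 0, data.Holds base s i) : ∀ i < 50000, data.Holds base s i := by
  have k0 : ∀ i < 2000, data.Holds base s i := fun i hi =>
    Data.okChunk_sound hinv hk hwh hwr just0_0 0 just0_0_ok h0 i (by rw [just0_0_len]; exact hi)
  have k1 : ∀ i < 4000, data.Holds base s i := fun i hi =>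
    Data.okChunk_sound hinv hk hwh hwr just0_1 2000 just0_1_ok k0 i (by rw [just0_1_len]; exact hi)
  have k2 : ∀ i < 6000, data.Holds base s i := fun i hi =>
    Data.okChunk_sound hinv hk hwh hwr just0_2 4000 just0_2_ok k1 i (by rw [just0_2_len]; exact hi)
  have k3 : ∀ i < 8000, data.Holds base s i := fun i hi =>
    Data.okChunk_sound hinv hk hwh hwr just0_3 6000 just0_3_ok k2 i (by rw [just0_3_len]; exact hi)
  have k4 : ∀ i < 10000, data.Holds base s i := fun i hi =>
    Data.okChunk_sound hinv hk hwh hwr just1_0 8000 just1_0_ok k3 i (by rw [just1_0_len]; exact hi)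
  have k5 : ∀ i < 12000, data.Holds base s i := fun i hi =>
    Data.okChunk_sound hinv hk hwh hwr just1_1 10000 just1_1_ok k4 i (by rw [just1_1_len]; exact hi)
  have k6 : ∀ i < 14000, data.Holds base s i := fun i hi =>
    Data.okChunk_sound hinv hk hwh hwr just1_2 12000 just1_2_ok k5 i (by rw [just1_2_len]; exact hi)
  have k7 : ∀ i < 16000, data.Holds base s i := fun i hi =>
    Data.okChunk_sound hinv hk hwh hwr just1_3 14000 just1_3_ok k6 i (by rw [just1_3_len]; exact hi)
  have k8 : ∀ i < 18000, data.Holds base s i := fun i hi =>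
    Data.okChunk_sound hinv hk hwh hwr just2_0 16000 just2_0_ok k7 i (by rw [just2_0_len]; exact hi)
  have k9 : ∀ i < 20000, data.Holds base s i := fun i hi =>
    Data.okChunk_sound hinv hk hwh hwr just2_1 18000 just2_1_ok k8 i (by rw [just2_1_len]; exact hi)
  have k10 : ∀ i < 22000, data.Holds base s i := fun i hi =>
    Data.okChunk_sound hinv hk hwh hwr just2_2 20000 just2_2_ok k9 i (by rw [just2_2_len]; exact hi)
  have k11 : ∀ i < 24000, data.Holds base s i := fun i hi =>
    Data.okChunk_sound hinv hk hwh hwr just2_3 22000 just2_3_ok k10 i (by rw [just2_3_len]; exact hi)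
  have k12 : ∀ i < 26000, data.Holds base s i := fun i hi =>
    Data.okChunk_sound hinv hk hwh hwr just3_0 24000 just3_0_ok k11 i (by rw [just3_0_len]; exact hi)
  have k13 : ∀ i < 28000, data.Holds base s i := fun i hi =>
    Data.okChunk_sound hinv hk hwh hwr just3_1 26000 just3_1_ok k12 i (by rw [just3_1_len]; exact hi)
  have k14 : ∀ i < 30000, data.Holds base s i := fun i hi =>
    Data.okChunk_sound hinv hk hwh hwr just3_2 28000 just3_2_ok k13 i (by rw [just3_2_len]; exact hi)
  have k15 : ∀ i < 32000, data.Holds base s i := fun i hi =>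
    Data.okChunk_sound hinv hk hwh hwr just3_3 30000 just3_3_ok k14 i (by rw [just3_3_len]; exact hi)
  have k16 : ∀ i < 34000, data.Holds base s i := fun i hi =>
    Data.okChunk_sound hinv hk hwh hwr just4_0 32000 just4_0_ok k15 i (by rw [just4_0_len]; exact hi)
  have k17 : ∀ i < 36000, data.Holds base s i := fun i hi =>
    Data.okChunk_sound hinv hk hwh hwr just4_1 34000 just4_1_ok k16 i (by rw [just4_1_len]; exact hi)
  have k18 : ∀ i < 38000, data.Holds base s i := fun i hi =>
    Data.okChunk_sound hinv hk hwh hwr just4_2 36000 just4_2_ok k17 i (by rw [just4_2_len]; exact hi)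
  have k19 : ∀ i < 40000, data.Holds base s i := fun i hi =>
    Data.okChunk_sound hinv hk hwh hwr just4_3 38000 just4_3_ok k18 i (by rw [just4_3_len]; exact hi)
  have k20 : ∀ i < 42000, data.Holds base s i := fun i hi =>
    Data.okChunk_sound hinv hk hwh hwr just5_0 40000 just5_0_ok k19 i (by rw [just5_0_len]; exact hi)
  have k21 : ∀ i < 44000, data.Holds base s i := fun i hi =>
    Data.okChunk_sound hinv hk hwh hwr just5_1 42000 just5_1_ok k20 i (by rw [just5_1_len]; exact hi)
  have k22 : ∀ i < 46000, data.Holds base s i := fun i hi =>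
    Data.okChunk_sound hinv hk hwh hwr just5_2 44000 just5_2_ok k21 i (by rw [just5_2_len]; exact hi)
  have k23 : ∀ i < 48000, data.Holds base s i := fun i hi =>
    Data.okChunk_sound hinv hk hwh hwr just5_3 46000 just5_3_ok k22 i (by rw [just5_3_len]; exact hi)
  have k24 : ∀ i < 50000, data.Holds base s i := fun i hi =>
    Data.okChunk_sound hinv hk hwh hwr just6_0 48000 just6_0_ok k23 i (by rw [just6_0_len]; exact hi)
  exact k24

theorem holds1 {Ω : Type} (base : Ω) (s : ℕ → Ω → Ω) (hinv : ∀ x v, s x (s x v) = v) (hk : ∀ v, s data.k v = v)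
    (hwh : ∀ w < data.nh, run s (wordOf (data.words.get w)) base = base)
    (hwr : ∀ w, data.nh ≤ w → w < data.nw → ∀ v, run s (wordOf (data.words.get w)) v = v)
    (h0 : ∀ i < 50000, data.Holds base s i) : ∀ i < 100000, data.Holds base s i := by
  have k0 : ∀ i < 52000, data.Holds base s i := fun i hi =>
    Data.okChunk_sound hinv hk hwh hwr just6_1 50000 just6_1_ok h0 i (by rw [just6_1_len]; exact hi)
  have k1 : ∀ i < 54000, data.Holds base s i := fun i hi =>
    Data.okChunk_sound hinv hk hwh hwr just6_2 52000 just6_2_ok k0 i (by rw [just6_2_len]; exact hi)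
  have k2 : ∀ i < 56000, data.Holds base s i := fun i hi =>
    Data.okChunk_sound hinv hk hwh hwr just6_3 54000 just6_3_ok k1 i (by rw [just6_3_len]; exact hi)
  have k3 : ∀ i < 58000, data.Holds base s i := fun i hi =>
    Data.okChunk_sound hinv hk hwh hwr just7_0 56000 just7_0_ok k2 i (by rw [just7_0_len]; exact hi)
  have k4 : ∀ i < 60000, data.Holds base s i := fun i hi =>
    Data.okChunk_sound hinv hk hwh hwr just7_1 58000 just7_1_ok k3 i (by rw [just7_1_len]; exact hi)
  have k5 : ∀ i < 62000, data.Holds base s i := fun i hi =>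
    Data.okChunk_sound hinv hk hwh hwr just7_2 60000 just7_2_ok k4 i (by rw [just7_2_len]; exact hi)
  have k6 : ∀ i < 64000, data.Holds base s i := fun i hi =>
    Data.okChunk_sound hinv hk hwh hwr just7_3 62000 just7_3_ok k5 i (by rw [just7_3_len]; exact hi)
  have k7 : ∀ i < 66000, data.Holds base s i := fun i hi =>
    Data.okChunk_sound hinv hk hwh hwr just8_0 64000 just8_0_ok k6 i (by rw [just8_0_len]; exact hi)
  have k8 : ∀ i < 68000, data.Holds base s i := fun i hi =>
    Data.okChunk_sound hinv hk hwh hwr just8_1 66000 just8_1_ok k7 i (by rw [just8_1_len]; exact hi)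
  have k9 : ∀ i < 70000, data.Holds base s i := fun i hi =>
    Data.okChunk_sound hinv hk hwh hwr just8_2 68000 just8_2_ok k8 i (by rw [just8_2_len]; exact hi)
  have k10 : ∀ i < 72000, data.Holds base s i := fun i hi =>
    Data.okChunk_sound hinv hk hwh hwr just8_3 70000 just8_3_ok k9 i (by rw [just8_3_len]; exact hi)
  have k11 : ∀ i < 74000, data.Holds base s i := fun i hi =>
    Data.okChunk_sound hinv hk hwh hwr just9_0 72000 just9_0_ok k10 i (by rw [just9_0_len]; exact hi)
  have k12 : ∀ i < 76000, data.Holds base s i := fun i hi =>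
    Data.okChunk_sound hinv hk hwh hwr just9_1 74000 just9_1_ok k11 i (by rw [just9_1_len]; exact hi)
  have k13 : ∀ i < 78000, data.Holds base s i := fun i hi =>
    Data.okChunk_sound hinv hk hwh hwr just9_2 76000 just9_2_ok k12 i (by rw [just9_2_len]; exact hi)
  have k14 : ∀ i < 80000, data.Holds base s i := fun i hi =>
    Data.okChunk_sound hinv hk hwh hwr just9_3 78000 just9_3_ok k13 i (by rw [just9_3_len]; exact hi)
  have k15 : ∀ i < 82000, data.Holds base s i := fun i hi =>
    Data.okChunk_sound hinv hk hwh hwr just10_0 80000 just10_0_ok k14 i (by rw [just10_0_len]; exact hi)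
  have k16 : ∀ i < 84000, data.Holds base s i := fun i hi =>
    Data.okChunk_sound hinv hk hwh hwr just10_1 82000 just10_1_ok k15 i (by rw [just10_1_len]; exact hi)
  have k17 : ∀ i < 86000, data.Holds base s i := fun i hi =>
    Data.okChunk_sound hinv hk hwh hwr just10_2 84000 just10_2_ok k16 i (by rw [just10_2_len]; exact hi)
  have k18 : ∀ i < 88000, data.Holds base s i := fun i hi =>
    Data.okChunk_sound hinv hk hwh hwr just10_3 86000 just10_3_ok k17 i (by rw [just10_3_len]; exact hi)
  have k19 : ∀ i < 90000, data.Holds base s i := fun i hi =>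
    Data.okChunk_sound hinv hk hwh hwr just11_0 88000 just11_0_ok k18 i (by rw [just11_0_len]; exact hi)
  have k20 : ∀ i < 92000, data.Holds base s i := fun i hi =>
    Data.okChunk_sound hinv hk hwh hwr just11_1 90000 just11_1_ok k19 i (by rw [just11_1_len]; exact hi)
  have k21 : ∀ i < 94000, data.Holds base s i := fun i hi =>
    Data.okChunk_sound hinv hk hwh hwr just11_2 92000 just11_2_ok k20 i (by rw [just11_2_len]; exact hi)
  have k22 : ∀ i < 96000, data.Holds base s i := fun i hi =>
    Data.okChunk_sound hinv hk hwh hwr just11_3 94000 just11_3_ok k21 i (by rw [just11_3_len]; exact hi)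
  have k23 : ∀ i < 98000, data.Holds base s i := fun i hi =>
    Data.okChunk_sound hinv hk hwh hwr just12_0 96000 just12_0_ok k22 i (by rw [just12_0_len]; exact hi)
  have k24 : ∀ i < 100000, data.Holds base s i := fun i hi =>
    Data.okChunk_sound hinv hk hwh hwr just12_1 98000 just12_1_ok k23 i (by rw [just12_1_len]; exact hi)
  exact k24

theorem holds2 {Ω : Type} (base : Ω) (s : ℕ → Ω → Ω) (hinv : ∀ x v, s x (s x v) = v) (hk : ∀ v, s data.k v = v)
    (hwh : ∀ w < data.nh, run s (wordOf (data.words.get w)) base = base)
    (hwr : ∀ w, data.nh ≤ w → w < data.nw → ∀ v, run s (wordOf (data.words.get w)) v = v)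
    (h0 : ∀ i < 100000, data.Holds base s i) : ∀ i < 150000, data.Holds base s i := by
  have k0 : ∀ i < 102000, data.Holds base s i := fun i hi =>
    Data.okChunk_sound hinv hk hwh hwr just12_2 100000 just12_2_ok h0 i (by rw [just12_2_len]; exact hi)
  have k1 : ∀ i < 104000, data.Holds base s i := fun i hi =>
    Data.okChunk_sound hinv hk hwh hwr just12_3 102000 just12_3_ok k0 i (by rw [just12_3_len]; exact hi)
  have k2 : ∀ i < 106000, data.Holds base s i := fun i hi =>
    Data.okChunk_sound hinv hk hwh hwr just13_0 104000 just13_0_ok k1 i (by rw [just13_0_len]; exact hi)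
  have k3 : ∀ i < 108000, data.Holds base s i := fun i hi =>
    Data.okChunk_sound hinv hk hwh hwr just13_1 106000 just13_1_ok k2 i (by rw [just13_1_len]; exact hi)
  have k4 : ∀ i < 110000, data.Holds base s i := fun i hi =>
    Data.okChunk_sound hinv hk hwh hwr just13_2 108000 just13_2_ok k3 i (by rw [just13_2_len]; exact hi)
  have k5 : ∀ i < 112000, data.Holds base s i := fun i hi =>
    Data.okChunk_sound hinv hk hwh hwr just13_3 110000 just13_3_ok k4 i (by rw [just13_3_len]; exact hi)
  have k6 : ∀ i < 114000, data.Holds base s i := fun i hi =>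
    Data.okChunk_sound hinv hk hwh hwr just14_0 112000 just14_0_ok k5 i (by rw [just14_0_len]; exact hi)
  have k7 : ∀ i < 116000, data.Holds base s i := fun i hi =>
    Data.okChunk_sound hinv hk hwh hwr just14_1 114000 just14_1_ok k6 i (by rw [just14_1_len]; exact hi)
  have k8 : ∀ i < 118000, data.Holds base s i := fun i hi =>
    Data.okChunk_sound hinv hk hwh hwr just14_2 116000 just14_2_ok k7 i (by rw [just14_2_len]; exact hi)
  have k9 : ∀ i < 120000, data.Holds base s i := fun i hi =>
    Data.okChunk_sound hinv hk hwh hwr just14_3 118000 just14_3_ok k8 i (by rw [just14_3_len]; exact hi)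
  have k10 : ∀ i < 122000, data.Holds base s i := fun i hi =>
    Data.okChunk_sound hinv hk hwh hwr just15_0 120000 just15_0_ok k9 i (by rw [just15_0_len]; exact hi)
  have k11 : ∀ i < 124000, data.Holds base s i := fun i hi =>
    Data.okChunk_sound hinv hk hwh hwr just15_1 122000 just15_1_ok k10 i (by rw [just15_1_len]; exact hi)
  have k12 : ∀ i < 126000, data.Holds base s i := fun i hi =>
    Data.okChunk_sound hinv hk hwh hwr just15_2 124000 just15_2_ok k11 i (by rw [just15_2_len]; exact hi)
  have k13 : ∀ i < 128000, data.Holds base s i := fun i hi =>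
    Data.okChunk_sound hinv hk hwh hwr just15_3 126000 just15_3_ok k12 i (by rw [just15_3_len]; exact hi)
  have k14 : ∀ i < 130000, data.Holds base s i := fun i hi =>
    Data.okChunk_sound hinv hk hwh hwr just16_0 128000 just16_0_ok k13 i (by rw [just16_0_len]; exact hi)
  have k15 : ∀ i < 132000, data.Holds base s i := fun i hi =>
    Data.okChunk_sound hinv hk hwh hwr just16_1 130000 just16_1_ok k14 i (by rw [just16_1_len]; exact hi)
  have k16 : ∀ i < 134000, data.Holds base s i := fun i hi =>
    Data.okChunk_sound hinv hk hwh hwr just16_2 132000 just16_2_ok k15 i (by rw [just16_2_len]; exact hi)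
  have k17 : ∀ i < 136000, data.Holds base s i := fun i hi =>
    Data.okChunk_sound hinv hk hwh hwr just16_3 134000 just16_3_ok k16 i (by rw [just16_3_len]; exact hi)
  have k18 : ∀ i < 138000, data.Holds base s i := fun i hi =>
    Data.okChunk_sound hinv hk hwh hwr just17_0 136000 just17_0_ok k17 i (by rw [just17_0_len]; exact hi)
  have k19 : ∀ i < 140000, data.Holds base s i := fun i hi =>
    Data.okChunk_sound hinv hk hwh hwr just17_1 138000 just17_1_ok k18 i (by rw [just17_1_len]; exact hi)
  have k20 : ∀ i < 142000, data.Holds base s i := fun i hi =>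
    Data.okChunk_sound hinv hk hwh hwr just17_2 140000 just17_2_ok k19 i (by rw [just17_2_len]; exact hi)
  have k21 : ∀ i < 144000, data.Holds base s i := fun i hi =>
    Data.okChunk_sound hinv hk hwh hwr just17_3 142000 just17_3_ok k20 i (by rw [just17_3_len]; exact hi)
  have k22 : ∀ i < 146000, data.Holds base s i := fun i hi =>
    Data.okChunk_sound hinv hk hwh hwr just18_0 144000 just18_0_ok k21 i (by rw [just18_0_len]; exact hi)
  have k23 : ∀ i < 148000, data.Holds base s i := fun i hi =>
    Data.okChunk_sound hinv hk hwh hwr just18_1 146000 just18_1_ok k22 i (by rw [just18_1_len]; exact hi)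
  have k24 : ∀ i < 150000, data.Holds base s i := fun i hi =>
    Data.okChunk_sound hinv hk hwh hwr just18_2 148000 just18_2_ok k23 i (by rw [just18_2_len]; exact hi)
  exact k24

theorem holds3 {Ω : Type} (base : Ω) (s : ℕ → Ω → Ω) (hinv : ∀ x v, s x (s x v) = v) (hk : ∀ v, s data.k v = v)
    (hwh : ∀ w < data.nh, run s (wordOf (data.words.get w)) base = base)
    (hwr : ∀ w, data.nh ≤ w → w < data.nw → ∀ v, run s (wordOf (data.words.get w)) v = v)
    (h0 : ∀ i < 150000, data.Holds base s i) : ∀ i < 200000, data.Holds base s i := by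
  have k0 : ∀ i < 152000, data.Holds base s i := fun i hi =>
    Data.okChunk_sound hinv hk hwh hwr just18_3 150000 just18_3_ok h0 i (by rw [just18_3_len]; exact hi)
  have k1 : ∀ i < 154000, data.Holds base s i := fun i hi =>
    Data.okChunk_sound hinv hk hwh hwr just19_0 152000 just19_0_ok k0 i (by rw [just19_0_len]; exact hi)
  have k2 : ∀ i < 156000, data.Holds base s i := fun i hi =>
    Data.okChunk_sound hinv hk hwh hwr just19_1 154000 just19_1_ok k1 i (by rw [just19_1_len]; exact hi)
  have k3 : ∀ i < 158000, data.Holds base s i := fun i hi =>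
    Data.okChunk_sound hinv hk hwh hwr just19_2 156000 just19_2_ok k2 i (by rw [just19_2_len]; exact hi)
  have k4 : ∀ i < 160000, data.Holds base s i := fun i hi =>
    Data.okChunk_sound hinv hk hwh hwr just19_3 158000 just19_3_ok k3 i (by rw [just19_3_len]; exact hi)
  have k5 : ∀ i < 162000, data.Holds base s i := fun i hi =>
    Data.okChunk_sound hinv hk hwh hwr just20_0 160000 just20_0_ok k4 i (by rw [just20_0_len]; exact hi)
  have k6 : ∀ i < 164000, data.Holds base s i := fun i hi =>
    Data.okChunk_sound hinv hk hwh hwr just20_1 162000 just20_1_ok k5 i (by rw [just20_1_len]; exact hi)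
  have k7 : ∀ i < 166000, data.Holds base s i := fun i hi =>
    Data.okChunk_sound hinv hk hwh hwr just20_2 164000 just20_2_ok k6 i (by rw [just20_2_len]; exact hi)
  have k8 : ∀ i < 168000, data.Holds base s i := fun i hi =>
    Data.okChunk_sound hinv hk hwh hwr just20_3 166000 just20_3_ok k7 i (by rw [just20_3_len]; exact hi)
  have k9 : ∀ i < 170000, data.Holds base s i := fun i hi =>
    Data.okChunk_sound hinv hk hwh hwr just21_0 168000 just21_0_ok k8 i (by rw [just21_0_len]; exact hi)
  have k10 : ∀ i < 172000, data.Holds base s i := fun i hi =>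
    Data.okChunk_sound hinv hk hwh hwr just21_1 170000 just21_1_ok k9 i (by rw [just21_1_len]; exact hi)
  have k11 : ∀ i < 174000, data.Holds base s i := fun i hi =>
    Data.okChunk_sound hinv hk hwh hwr just21_2 172000 just21_2_ok k10 i (by rw [just21_2_len]; exact hi)
  have k12 : ∀ i < 176000, data.Holds base s i := fun i hi =>
    Data.okChunk_sound hinv hk hwh hwr just21_3 174000 just21_3_ok k11 i (by rw [just21_3_len]; exact hi)
  have k13 : ∀ i < 178000, data.Holds base s i := fun i hi =>
    Data.okChunk_sound hinv hk hwh hwr just22_0 176000 just22_0_ok k12 i (by rw [just22_0_len]; exact hi)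
  have k14 : ∀ i < 180000, data.Holds base s i := fun i hi =>
    Data.okChunk_sound hinv hk hwh hwr just22_1 178000 just22_1_ok k13 i (by rw [just22_1_len]; exact hi)
  have k15 : ∀ i < 182000, data.Holds base s i := fun i hi =>
    Data.okChunk_sound hinv hk hwh hwr just22_2 180000 just22_2_ok k14 i (by rw [just22_2_len]; exact hi)
  have k16 : ∀ i < 184000, data.Holds base s i := fun i hi =>
    Data.okChunk_sound hinv hk hwh hwr just22_3 182000 just22_3_ok k15 i (by rw [just22_3_len]; exact hi)
  have k17 : ∀ i < 186000, data.Holds base s i := fun i hi =>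
    Data.okChunk_sound hinv hk hwh hwr just23_0 184000 just23_0_ok k16 i (by rw [just23_0_len]; exact hi)
  have k18 : ∀ i < 188000, data.Holds base s i := fun i hi =>
    Data.okChunk_sound hinv hk hwh hwr just23_1 186000 just23_1_ok k17 i (by rw [just23_1_len]; exact hi)
  have k19 : ∀ i < 190000, data.Holds base s i := fun i hi =>
    Data.okChunk_sound hinv hk hwh hwr just23_2 188000 just23_2_ok k18 i (by rw [just23_2_len]; exact hi)
  have k20 : ∀ i < 192000, data.Holds base s i := fun i hi =>
    Data.okChunk_sound hinv hk hwh hwr just23_3 190000 just23_3_ok k19 i (by rw [just23_3_len]; exact hi)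
  have k21 : ∀ i < 194000, data.Holds base s i := fun i hi =>
    Data.okChunk_sound hinv hk hwh hwr just24_0 192000 just24_0_ok k20 i (by rw [just24_0_len]; exact hi)
  have k22 : ∀ i < 196000, data.Holds base s i := fun i hi =>
    Data.okChunk_sound hinv hk hwh hwr just24_1 194000 just24_1_ok k21 i (by rw [just24_1_len]; exact hi)
  have k23 : ∀ i < 198000, data.Holds base s i := fun i hi =>
    Data.okChunk_sound hinv hk hwh hwr just24_2 196000 just24_2_ok k22 i (by rw [just24_2_len]; exact hi)
  have k24 : ∀ i < 200000, data.Holds base s i := fun i hi =>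
    Data.okChunk_sound hinv hk hwh hwr just24_3 198000 just24_3_ok k23 i (by rw [just24_3_len]; exact hi)
  exact k24

theorem holds4 {Ω : Type} (base : Ω) (s : ℕ → Ω → Ω) (hinv : ∀ x v, s x (s x v) = v) (hk : ∀ v, s data.k v = v)
    (hwh : ∀ w < data.nh, run s (wordOf (data.words.get w)) base = base)
    (hwr : ∀ w, data.nh ≤ w → w < data.nw → ∀ v, run s (wordOf (data.words.get w)) v = v)
    (h0 : ∀ i < 200000, data.Holds base s i) : ∀ i < 250000, data.Holds base s i := by
  have k0 : ∀ i < 202000, data.Holds base s i := fun i hi =>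
    Data.okChunk_sound hinv hk hwh hwr just25_0 200000 just25_0_ok h0 i (by rw [just25_0_len]; exact hi)
  have k1 : ∀ i < 204000, data.Holds base s i := fun i hi =>
    Data.okChunk_sound hinv hk hwh hwr just25_1 202000 just25_1_ok k0 i (by rw [just25_1_len]; exact hi)
  have k2 : ∀ i < 206000, data.Holds base s i := fun i hi =>
    Data.okChunk_sound hinv hk hwh hwr just25_2 204000 just25_2_ok k1 i (by rw [just25_2_len]; exact hi)
  have k3 : ∀ i < 208000, data.Holds base s i := fun i hi =>
    Data.okChunk_sound hinv hk hwh hwr just25_3 206000 just25_3_ok k2 i (by rw [just25_3_len]; exact hi)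
  have k4 : ∀ i < 210000, data.Holds base s i := fun i hi =>
    Data.okChunk_sound hinv hk hwh hwr just26_0 208000 just26_0_ok k3 i (by rw [just26_0_len]; exact hi)
  have k5 : ∀ i < 212000, data.Holds base s i := fun i hi =>
    Data.okChunk_sound hinv hk hwh hwr just26_1 210000 just26_1_ok k4 i (by rw [just26_1_len]; exact hi)
  have k6 : ∀ i < 214000, data.Holds base s i := fun i hi =>
    Data.okChunk_sound hinv hk hwh hwr just26_2 212000 just26_2_ok k5 i (by rw [just26_2_len]; exact hi)
  have k7 : ∀ i < 216000, data.Holds base s i := fun i hi =>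
    Data.okChunk_sound hinv hk hwh hwr just26_3 214000 just26_3_ok k6 i (by rw [just26_3_len]; exact hi)
  have k8 : ∀ i < 218000, data.Holds base s i := fun i hi =>
    Data.okChunk_sound hinv hk hwh hwr just27_0 216000 just27_0_ok k7 i (by rw [just27_0_len]; exact hi)
  have k9 : ∀ i < 220000, data.Holds base s i := fun i hi =>
    Data.okChunk_sound hinv hk hwh hwr just27_1 218000 just27_1_ok k8 i (by rw [just27_1_len]; exact hi)
  have k10 : ∀ i < 222000, data.Holds base s i := fun i hi =>
    Data.okChunk_sound hinv hk hwh hwr just27_2 220000 just27_2_ok k9 i (by rw [just27_2_len]; exact hi)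
  have k11 : ∀ i < 224000, data.Holds base s i := fun i hi =>
    Data.okChunk_sound hinv hk hwh hwr just27_3 222000 just27_3_ok k10 i (by rw [just27_3_len]; exact hi)
  have k12 : ∀ i < 226000, data.Holds base s i := fun i hi =>
    Data.okChunk_sound hinv hk hwh hwr just28_0 224000 just28_0_ok k11 i (by rw [just28_0_len]; exact hi)
  have k13 : ∀ i < 228000, data.Holds base s i := fun i hi =>
    Data.okChunk_sound hinv hk hwh hwr just28_1 226000 just28_1_ok k12 i (by rw [just28_1_len]; exact hi)
  have k14 : ∀ i < 230000, data.Holds base s i := fun i hi =>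
    Data.okChunk_sound hinv hk hwh hwr just28_2 228000 just28_2_ok k13 i (by rw [just28_2_len]; exact hi)
  have k15 : ∀ i < 232000, data.Holds base s i := fun i hi =>
    Data.okChunk_sound hinv hk hwh hwr just28_3 230000 just28_3_ok k14 i (by rw [just28_3_len]; exact hi)
  have k16 : ∀ i < 234000, data.Holds base s i := fun i hi =>
    Data.okChunk_sound hinv hk hwh hwr just29_0 232000 just29_0_ok k15 i (by rw [just29_0_len]; exact hi)
  have k17 : ∀ i < 236000, data.Holds base s i := fun i hi =>
    Data.okChunk_sound hinv hk hwh hwr just29_1 234000 just29_1_ok k16 i (by rw [just29_1_len]; exact hi)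
  have k18 : ∀ i < 238000, data.Holds base s i := fun i hi =>
    Data.okChunk_sound hinv hk hwh hwr just29_2 236000 just29_2_ok k17 i (by rw [just29_2_len]; exact hi)
  have k19 : ∀ i < 240000, data.Holds base s i := fun i hi =>
    Data.okChunk_sound hinv hk hwh hwr just29_3 238000 just29_3_ok k18 i (by rw [just29_3_len]; exact hi)
  have k20 : ∀ i < 242000, data.Holds base s i := fun i hi =>
    Data.okChunk_sound hinv hk hwh hwr just30_0 240000 just30_0_ok k19 i (by rw [just30_0_len]; exact hi)
  have k21 : ∀ i < 244000, data.Holds base s i := fun i hi =>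
    Data.okChunk_sound hinv hk hwh hwr just30_1 242000 just30_1_ok k20 i (by rw [just30_1_len]; exact hi)
  have k22 : ∀ i < 246000, data.Holds base s i := fun i hi =>
    Data.okChunk_sound hinv hk hwh hwr just30_2 244000 just30_2_ok k21 i (by rw [just30_2_len]; exact hi)
  have k23 : ∀ i < 248000, data.Holds base s i := fun i hi =>
    Data.okChunk_sound hinv hk hwh hwr just30_3 246000 just30_3_ok k22 i (by rw [just30_3_len]; exact hi)
  have k24 : ∀ i < 250000, data.Holds base s i := fun i hi =>
    Data.okChunk_sound hinv hk hwh hwr just31_0 248000 just31_0_ok k23 i (by rw [just31_0_len]; exact hi)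
  exact k24

theorem holds5 {Ω : Type} (base : Ω) (s : ℕ → Ω → Ω) (hinv : ∀ x v, s x (s x v) = v) (hk : ∀ v, s data.k v = v)
    (hwh : ∀ w < data.nh, run s (wordOf (data.words.get w)) base = base)
    (hwr : ∀ w, data.nh ≤ w → w < data.nw → ∀ v, run s (wordOf (data.words.get w)) v = v)
    (h0 : ∀ i < 250000, data.Holds base s i) : ∀ i < 300000, data.Holds base s i := by
  have k0 : ∀ i < 252000, data.Holds base s i := fun i hi =>
    Data.okChunk_sound hinv hk hwh hwr just31_1 250000 just31_1_ok h0 i (by rw [just31_1_len]; exact hi)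
  have k1 : ∀ i < 254000, data.Holds base s i := fun i hi =>
    Data.okChunk_sound hinv hk hwh hwr just31_2 252000 just31_2_ok k0 i (by rw [just31_2_len]; exact hi)
  have k2 : ∀ i < 256000, data.Holds base s i := fun i hi =>
    Data.okChunk_sound hinv hk hwh hwr just31_3 254000 just31_3_ok k1 i (by rw [just31_3_len]; exact hi)
  have k3 : ∀ i < 258000, data.Holds base s i := fun i hi =>
    Data.okChunk_sound hinv hk hwh hwr just32_0 256000 just32_0_ok k2 i (by rw [just32_0_len]; exact hi)
  have k4 : ∀ i < 260000, data.Holds base s i := fun i hi =>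
    Data.okChunk_sound hinv hk hwh hwr just32_1 258000 just32_1_ok k3 i (by rw [just32_1_len]; exact hi)
  have k5 : ∀ i < 262000, data.Holds base s i := fun i hi =>
    Data.okChunk_sound hinv hk hwh hwr just32_2 260000 just32_2_ok k4 i (by rw [just32_2_len]; exact hi)
  have k6 : ∀ i < 264000, data.Holds base s i := fun i hi =>
    Data.okChunk_sound hinv hk hwh hwr just32_3 262000 just32_3_ok k5 i (by rw [just32_3_len]; exact hi)
  have k7 : ∀ i < 266000, data.Holds base s i := fun i hi =>
    Data.okChunk_sound hinv hk hwh hwr just33_0 264000 just33_0_ok k6 i (by rw [just33_0_len]; exact hi)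
  have k8 : ∀ i < 268000, data.Holds base s i := fun i hi =>
    Data.okChunk_sound hinv hk hwh hwr just33_1 266000 just33_1_ok k7 i (by rw [just33_1_len]; exact hi)
  have k9 : ∀ i < 270000, data.Holds base s i := fun i hi =>
    Data.okChunk_sound hinv hk hwh hwr just33_2 268000 just33_2_ok k8 i (by rw [just33_2_len]; exact hi)
  have k10 : ∀ i < 272000, data.Holds base s i := fun i hi =>
    Data.okChunk_sound hinv hk hwh hwr just33_3 270000 just33_3_ok k9 i (by rw [just33_3_len]; exact hi)
  have k11 : ∀ i < 274000, data.Holds base s i := fun i hi =>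
    Data.okChunk_sound hinv hk hwh hwr just34_0 272000 just34_0_ok k10 i (by rw [just34_0_len]; exact hi)
  have k12 : ∀ i < 276000, data.Holds base s i := fun i hi =>
    Data.okChunk_sound hinv hk hwh hwr just34_1 274000 just34_1_ok k11 i (by rw [just34_1_len]; exact hi)
  have k13 : ∀ i < 278000, data.Holds base s i := fun i hi =>
    Data.okChunk_sound hinv hk hwh hwr just34_2 276000 just34_2_ok k12 i (by rw [just34_2_len]; exact hi)
  have k14 : ∀ i < 280000, data.Holds base s i := fun i hi =>
    Data.okChunk_sound hinv hk hwh hwr just34_3 278000 just34_3_ok k13 i (by rw [just34_3_len]; exact hi)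
  have k15 : ∀ i < 282000, data.Holds base s i := fun i hi =>
    Data.okChunk_sound hinv hk hwh hwr just35_0 280000 just35_0_ok k14 i (by rw [just35_0_len]; exact hi)
  have k16 : ∀ i < 284000, data.Holds base s i := fun i hi =>
    Data.okChunk_sound hinv hk hwh hwr just35_1 282000 just35_1_ok k15 i (by rw [just35_1_len]; exact hi)
  have k17 : ∀ i < 286000, data.Holds base s i := fun i hi =>
    Data.okChunk_sound hinv hk hwh hwr just35_2 284000 just35_2_ok k16 i (by rw [just35_2_len]; exact hi)
  have k18 : ∀ i < 288000, data.Holds base s i := fun i hi =>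
    Data.okChunk_sound hinv hk hwh hwr just35_3 286000 just35_3_ok k17 i (by rw [just35_3_len]; exact hi)
  have k19 : ∀ i < 290000, data.Holds base s i := fun i hi =>
    Data.okChunk_sound hinv hk hwh hwr just36_0 288000 just36_0_ok k18 i (by rw [just36_0_len]; exact hi)
  have k20 : ∀ i < 292000, data.Holds base s i := fun i hi =>
    Data.okChunk_sound hinv hk hwh hwr just36_1 290000 just36_1_ok k19 i (by rw [just36_1_len]; exact hi)
  have k21 : ∀ i < 294000, data.Holds base s i := fun i hi =>
    Data.okChunk_sound hinv hk hwh hwr just36_2 292000 just36_2_ok k20 i (by rw [just36_2_len]; exact hi)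
  have k22 : ∀ i < 296000, data.Holds base s i := fun i hi =>
    Data.okChunk_sound hinv hk hwh hwr just36_3 294000 just36_3_ok k21 i (by rw [just36_3_len]; exact hi)
  have k23 : ∀ i < 298000, data.Holds base s i := fun i hi =>
    Data.okChunk_sound hinv hk hwh hwr just37_0 296000 just37_0_ok k22 i (by rw [just37_0_len]; exact hi)
  have k24 : ∀ i < 300000, data.Holds base s i := fun i hi =>
    Data.okChunk_sound hinv hk hwh hwr just37_1 298000 just37_1_ok k23 i (by rw [just37_1_len]; exact hi)
  exact k24

theorem holds6 {Ω : Type} (base : Ω) (s : ℕ → Ω → Ω) (hinv : ∀ x v, s x (s x v) = v) (hk : ∀ v, s data.k v = v)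
    (hwh : ∀ w < data.nh, run s (wordOf (data.words.get w)) base = base)
    (hwr : ∀ w, data.nh ≤ w → w < data.nw → ∀ v, run s (wordOf (data.words.get w)) v = v)
    (h0 : ∀ i < 300000, data.Holds base s i) : ∀ i < 350000, data.Holds base s i := by
  have k0 : ∀ i < 302000, data.Holds base s i := fun i hi =>
    Data.okChunk_sound hinv hk hwh hwr just37_2 300000 just37_2_ok h0 i (by rw [just37_2_len]; exact hi)
  have k1 : ∀ i < 304000, data.Holds base s i := fun i hi =>
    Data.okChunk_sound hinv hk hwh hwr just37_3 302000 just37_3_ok k0 i (by rw [just37_3_len]; exact hi)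
  have k2 : ∀ i < 306000, data.Holds base s i := fun i hi =>
    Data.okChunk_sound hinv hk hwh hwr just38_0 304000 just38_0_ok k1 i (by rw [just38_0_len]; exact hi)
  have k3 : ∀ i < 308000, data.Holds base s i := fun i hi =>
    Data.okChunk_sound hinv hk hwh hwr just38_1 306000 just38_1_ok k2 i (by rw [just38_1_len]; exact hi)
  have k4 : ∀ i < 310000, data.Holds base s i := fun i hi =>
    Data.okChunk_sound hinv hk hwh hwr just38_2 308000 just38_2_ok k3 i (by rw [just38_2_len]; exact hi)
  have k5 : ∀ i < 312000, data.Holds base s i := fun i hi =>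
    Data.okChunk_sound hinv hk hwh hwr just38_3 310000 just38_3_ok k4 i (by rw [just38_3_len]; exact hi)
  have k6 : ∀ i < 314000, data.Holds base s i := fun i hi =>
    Data.okChunk_sound hinv hk hwh hwr just39_0 312000 just39_0_ok k5 i (by rw [just39_0_len]; exact hi)
  have k7 : ∀ i < 316000, data.Holds base s i := fun i hi =>
    Data.okChunk_sound hinv hk hwh hwr just39_1 314000 just39_1_ok k6 i (by rw [just39_1_len]; exact hi)
  have k8 : ∀ i < 318000, data.Holds base s i := fun i hi =>
    Data.okChunk_sound hinv hk hwh hwr just39_2 316000 just39_2_ok k7 i (by rw [just39_2_len]; exact hi)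
  have k9 : ∀ i < 320000, data.Holds base s i := fun i hi =>
    Data.okChunk_sound hinv hk hwh hwr just39_3 318000 just39_3_ok k8 i (by rw [just39_3_len]; exact hi)
  have k10 : ∀ i < 322000, data.Holds base s i := fun i hi =>
    Data.okChunk_sound hinv hk hwh hwr just40_0 320000 just40_0_ok k9 i (by rw [just40_0_len]; exact hi)
  have k11 : ∀ i < 324000, data.Holds base s i := fun i hi =>
    Data.okChunk_sound hinv hk hwh hwr just40_1 322000 just40_1_ok k10 i (by rw [just40_1_len]; exact hi)
  have k12 : ∀ i < 326000, data.Holds base s i := fun i hi =>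
    Data.okChunk_sound hinv hk hwh hwr just40_2 324000 just40_2_ok k11 i (by rw [just40_2_len]; exact hi)
  have k13 : ∀ i < 328000, data.Holds base s i := fun i hi =>
    Data.okChunk_sound hinv hk hwh hwr just40_3 326000 just40_3_ok k12 i (by rw [just40_3_len]; exact hi)
  have k14 : ∀ i < 330000, data.Holds base s i := fun i hi =>
    Data.okChunk_sound hinv hk hwh hwr just41_0 328000 just41_0_ok k13 i (by rw [just41_0_len]; exact hi)
  have k15 : ∀ i < 332000, data.Holds base s i := fun i hi =>
    Data.okChunk_sound hinv hk hwh hwr just41_1 330000 just41_1_ok k14 i (by rw [just41_1_len]; exact hi)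
  have k16 : ∀ i < 334000, data.Holds base s i := fun i hi =>
    Data.okChunk_sound hinv hk hwh hwr just41_2 332000 just41_2_ok k15 i (by rw [just41_2_len]; exact hi)
  have k17 : ∀ i < 336000, data.Holds base s i := fun i hi =>
    Data.okChunk_sound hinv hk hwh hwr just41_3 334000 just41_3_ok k16 i (by rw [just41_3_len]; exact hi)
  have k18 : ∀ i < 338000, data.Holds base s i := fun i hi =>
    Data.okChunk_sound hinv hk hwh hwr just42_0 336000 just42_0_ok k17 i (by rw [just42_0_len]; exact hi)
  have k19 : ∀ i < 340000, data.Holds base s i := fun i hi =>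
    Data.okChunk_sound hinv hk hwh hwr just42_1 338000 just42_1_ok k18 i (by rw [just42_1_len]; exact hi)
  have k20 : ∀ i < 342000, data.Holds base s i := fun i hi =>
    Data.okChunk_sound hinv hk hwh hwr just42_2 340000 just42_2_ok k19 i (by rw [just42_2_len]; exact hi)
  have k21 : ∀ i < 344000, data.Holds base s i := fun i hi =>
    Data.okChunk_sound hinv hk hwh hwr just42_3 342000 just42_3_ok k20 i (by rw [just42_3_len]; exact hi)
  have k22 : ∀ i < 346000, data.Holds base s i := fun i hi =>
    Data.okChunk_sound hinv hk hwh hwr just43_0 344000 just43_0_ok k21 i (by rw [just43_0_len]; exact hi)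
  have k23 : ∀ i < 348000, data.Holds base s i := fun i hi =>
    Data.okChunk_sound hinv hk hwh hwr just43_1 346000 just43_1_ok k22 i (by rw [just43_1_len]; exact hi)
  have k24 : ∀ i < 350000, data.Holds base s i := fun i hi =>
    Data.okChunk_sound hinv hk hwh hwr just43_2 348000 just43_2_ok k23 i (by rw [just43_2_len]; exact hi)
  exact k24

theorem holds7 {Ω : Type} (base : Ω) (s : ℕ → Ω → Ω) (hinv : ∀ x v, s x (s x v) = v) (hk : ∀ v, s data.k v = v)
    (hwh : ∀ w < data.nh, run s (wordOf (data.words.get w)) base = base)
    (hwr : ∀ w, data.nh ≤ w → w < data.nw → ∀ v, run s (wordOf (data.words.get w)) v = v)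
    (h0 : ∀ i < 350000, data.Holds base s i) : ∀ i < 400000, data.Holds base s i := by
  have k0 : ∀ i < 352000, data.Holds base s i := fun i hi =>
    Data.okChunk_sound hinv hk hwh hwr just43_3 350000 just43_3_ok h0 i (by rw [just43_3_len]; exact hi)
  have k1 : ∀ i < 354000, data.Holds base s i := fun i hi =>
    Data.okChunk_sound hinv hk hwh hwr just44_0 352000 just44_0_ok k0 i (by rw [just44_0_len]; exact hi)
  have k2 : ∀ i < 356000, data.Holds base s i := fun i hi =>
    Data.okChunk_sound hinv hk hwh hwr just44_1 354000 just44_1_ok k1 i (by rw [just44_1_len]; exact hi)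
  have k3 : ∀ i < 358000, data.Holds base s i := fun i hi =>
    Data.okChunk_sound hinv hk hwh hwr just44_2 356000 just44_2_ok k2 i (by rw [just44_2_len]; exact hi)
  have k4 : ∀ i < 360000, data.Holds base s i := fun i hi =>
    Data.okChunk_sound hinv hk hwh hwr just44_3 358000 just44_3_ok k3 i (by rw [just44_3_len]; exact hi)
  have k5 : ∀ i < 362000, data.Holds base s i := fun i hi =>
    Data.okChunk_sound hinv hk hwh hwr just45_0 360000 just45_0_ok k4 i (by rw [just45_0_len]; exact hi)
  have k6 : ∀ i < 364000, data.Holds base s i := fun i hi =>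
    Data.okChunk_sound hinv hk hwh hwr just45_1 362000 just45_1_ok k5 i (by rw [just45_1_len]; exact hi)
  have k7 : ∀ i < 366000, data.Holds base s i := fun i hi =>
    Data.okChunk_sound hinv hk hwh hwr just45_2 364000 just45_2_ok k6 i (by rw [just45_2_len]; exact hi)
  have k8 : ∀ i < 368000, data.Holds base s i := fun i hi =>
    Data.okChunk_sound hinv hk hwh hwr just45_3 366000 just45_3_ok k7 i (by rw [just45_3_len]; exact hi)
  have k9 : ∀ i < 370000, data.Holds base s i := fun i hi =>
    Data.okChunk_sound hinv hk hwh hwr just46_0 368000 just46_0_ok k8 i (by rw [just46_0_len]; exact hi)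
  have k10 : ∀ i < 372000, data.Holds base s i := fun i hi =>
    Data.okChunk_sound hinv hk hwh hwr just46_1 370000 just46_1_ok k9 i (by rw [just46_1_len]; exact hi)
  have k11 : ∀ i < 374000, data.Holds base s i := fun i hi =>
    Data.okChunk_sound hinv hk hwh hwr just46_2 372000 just46_2_ok k10 i (by rw [just46_2_len]; exact hi)
  have k12 : ∀ i < 376000, data.Holds base s i := fun i hi =>
    Data.okChunk_sound hinv hk hwh hwr just46_3 374000 just46_3_ok k11 i (by rw [just46_3_len]; exact hi)
  have k13 : ∀ i < 378000, data.Holds base s i := fun i hi =>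
    Data.okChunk_sound hinv hk hwh hwr just47_0 376000 just47_0_ok k12 i (by rw [just47_0_len]; exact hi)
  have k14 : ∀ i < 380000, data.Holds base s i := fun i hi =>
    Data.okChunk_sound hinv hk hwh hwr just47_1 378000 just47_1_ok k13 i (by rw [just47_1_len]; exact hi)
  have k15 : ∀ i < 382000, data.Holds base s i := fun i hi =>
    Data.okChunk_sound hinv hk hwh hwr just47_2 380000 just47_2_ok k14 i (by rw [just47_2_len]; exact hi)
  have k16 : ∀ i < 384000, data.Holds base s i := fun i hi =>
    Data.okChunk_sound hinv hk hwh hwr just47_3 382000 just47_3_ok k15 i (by rw [just47_3_len]; exact hi)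
  have k17 : ∀ i < 386000, data.Holds base s i := fun i hi =>
    Data.okChunk_sound hinv hk hwh hwr just48_0 384000 just48_0_ok k16 i (by rw [just48_0_len]; exact hi)
  have k18 : ∀ i < 388000, data.Holds base s i := fun i hi =>
    Data.okChunk_sound hinv hk hwh hwr just48_1 386000 just48_1_ok k17 i (by rw [just48_1_len]; exact hi)
  have k19 : ∀ i < 390000, data.Holds base s i := fun i hi =>
    Data.okChunk_sound hinv hk hwh hwr just48_2 388000 just48_2_ok k18 i (by rw [just48_2_len]; exact hi)
  have k20 : ∀ i < 392000, data.Holds base s i := fun i hi =>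
    Data.okChunk_sound hinv hk hwh hwr just48_3 390000 just48_3_ok k19 i (by rw [just48_3_len]; exact hi)
  have k21 : ∀ i < 394000, data.Holds base s i := fun i hi =>
    Data.okChunk_sound hinv hk hwh hwr just49_0 392000 just49_0_ok k20 i (by rw [just49_0_len]; exact hi)
  have k22 : ∀ i < 396000, data.Holds base s i := fun i hi =>
    Data.okChunk_sound hinv hk hwh hwr just49_1 394000 just49_1_ok k21 i (by rw [just49_1_len]; exact hi)
  have k23 : ∀ i < 398000, data.Holds base s i := fun i hi =>
    Data.okChunk_sound hinv hk hwh hwr just49_2 396000 just49_2_ok k22 i (by rw [just49_2_len]; exact hi)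
  have k24 : ∀ i < 400000, data.Holds base s i := fun i hi =>
    Data.okChunk_sound hinv hk hwh hwr just49_3 398000 just49_3_ok k23 i (by rw [just49_3_len]; exact hi)
  exact k24

theorem holds8 {Ω : Type} (base : Ω) (s : ℕ → Ω → Ω) (hinv : ∀ x v, s x (s x v) = v) (hk : ∀ v, s data.k v = v)
    (hwh : ∀ w < data.nh, run s (wordOf (data.words.get w)) base = base)
    (hwr : ∀ w, data.nh ≤ w → w < data.nw → ∀ v, run s (wordOf (data.words.get w)) v = v)
    (h0 : ∀ i < 400000, data.Holds base s i) : ∀ i < 450000, data.Holds base s i := by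
  have k0 : ∀ i < 402000, data.Holds base s i := fun i hi =>
    Data.okChunk_sound hinv hk hwh hwr just50_0 400000 just50_0_ok h0 i (by rw [just50_0_len]; exact hi)
  have k1 : ∀ i < 404000, data.Holds base s i := fun i hi =>
    Data.okChunk_sound hinv hk hwh hwr just50_1 402000 just50_1_ok k0 i (by rw [just50_1_len]; exact hi)
  have k2 : ∀ i < 406000, data.Holds base s i := fun i hi =>
    Data.okChunk_sound hinv hk hwh hwr just50_2 404000 just50_2_ok k1 i (by rw [just50_2_len]; exact hi)
  have k3 : ∀ i < 408000, data.Holds base s i := fun i hi =>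
    Data.okChunk_sound hinv hk hwh hwr just50_3 406000 just50_3_ok k2 i (by rw [just50_3_len]; exact hi)
  have k4 : ∀ i < 410000, data.Holds base s i := fun i hi =>
    Data.okChunk_sound hinv hk hwh hwr just51_0 408000 just51_0_ok k3 i (by rw [just51_0_len]; exact hi)
  have k5 : ∀ i < 412000, data.Holds base s i := fun i hi =>
    Data.okChunk_sound hinv hk hwh hwr just51_1 410000 just51_1_ok k4 i (by rw [just51_1_len]; exact hi)
  have k6 : ∀ i < 414000, data.Holds base s i := fun i hi =>
    Data.okChunk_sound hinv hk hwh hwr just51_2 412000 just51_2_ok k5 i (by rw [just51_2_len]; exact hi)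
  have k7 : ∀ i < 416000, data.Holds base s i := fun i hi =>
    Data.okChunk_sound hinv hk hwh hwr just51_3 414000 just51_3_ok k6 i (by rw [just51_3_len]; exact hi)
  have k8 : ∀ i < 418000, data.Holds base s i := fun i hi =>
    Data.okChunk_sound hinv hk hwh hwr just52_0 416000 just52_0_ok k7 i (by rw [just52_0_len]; exact hi)
  have k9 : ∀ i < 420000, data.Holds base s i := fun i hi =>
    Data.okChunk_sound hinv hk hwh hwr just52_1 418000 just52_1_ok k8 i (by rw [just52_1_len]; exact hi)
  have k10 : ∀ i < 422000, data.Holds base s i := fun i hi =>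
    Data.okChunk_sound hinv hk hwh hwr just52_2 420000 just52_2_ok k9 i (by rw [just52_2_len]; exact hi)
  have k11 : ∀ i < 424000, data.Holds base s i := fun i hi =>
    Data.okChunk_sound hinv hk hwh hwr just52_3 422000 just52_3_ok k10 i (by rw [just52_3_len]; exact hi)
  have k12 : ∀ i < 426000, data.Holds base s i := fun i hi =>
    Data.okChunk_sound hinv hk hwh hwr just53_0 424000 just53_0_ok k11 i (by rw [just53_0_len]; exact hi)
  have k13 : ∀ i < 428000, data.Holds base s i := fun i hi =>
    Data.okChunk_sound hinv hk hwh hwr just53_1 426000 just53_1_ok k12 i (by rw [just53_1_len]; exact hi)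
  have k14 : ∀ i < 430000, data.Holds base s i := fun i hi =>
    Data.okChunk_sound hinv hk hwh hwr just53_2 428000 just53_2_ok k13 i (by rw [just53_2_len]; exact hi)
  have k15 : ∀ i < 432000, data.Holds base s i := fun i hi =>
    Data.okChunk_sound hinv hk hwh hwr just53_3 430000 just53_3_ok k14 i (by rw [just53_3_len]; exact hi)
  have k16 : ∀ i < 434000, data.Holds base s i := fun i hi =>
    Data.okChunk_sound hinv hk hwh hwr just54_0 432000 just54_0_ok k15 i (by rw [just54_0_len]; exact hi)
  have k17 : ∀ i < 436000, data.Holds base s i := fun i hi =>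
    Data.okChunk_sound hinv hk hwh hwr just54_1 434000 just54_1_ok k16 i (by rw [just54_1_len]; exact hi)
  have k18 : ∀ i < 438000, data.Holds base s i := fun i hi =>
    Data.okChunk_sound hinv hk hwh hwr just54_2 436000 just54_2_ok k17 i (by rw [just54_2_len]; exact hi)
  have k19 : ∀ i < 440000, data.Holds base s i := fun i hi =>
    Data.okChunk_sound hinv hk hwh hwr just54_3 438000 just54_3_ok k18 i (by rw [just54_3_len]; exact hi)
  have k20 : ∀ i < 442000, data.Holds base s i := fun i hi =>
    Data.okChunk_sound hinv hk hwh hwr just55_0 440000 just55_0_ok k19 i (by rw [just55_0_len]; exact hi)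
  have k21 : ∀ i < 444000, data.Holds base s i := fun i hi =>
    Data.okChunk_sound hinv hk hwh hwr just55_1 442000 just55_1_ok k20 i (by rw [just55_1_len]; exact hi)
  have k22 : ∀ i < 446000, data.Holds base s i := fun i hi =>
    Data.okChunk_sound hinv hk hwh hwr just55_2 444000 just55_2_ok k21 i (by rw [just55_2_len]; exact hi)
  have k23 : ∀ i < 448000, data.Holds base s i := fun i hi =>
    Data.okChunk_sound hinv hk hwh hwr just55_3 446000 just55_3_ok k22 i (by rw [just55_3_len]; exact hi)
  have k24 : ∀ i < 450000, data.Holds base s i := fun i hi =>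
    Data.okChunk_sound hinv hk hwh hwr just56_0 448000 just56_0_ok k23 i (by rw [just56_0_len]; exact hi)
  exact k24

theorem holds9 {Ω : Type} (base : Ω) (s : ℕ → Ω → Ω) (hinv : ∀ x v, s x (s x v) = v) (hk : ∀ v, s data.k v = v)
    (hwh : ∀ w < data.nh, run s (wordOf (data.words.get w)) base = base)
    (hwr : ∀ w, data.nh ≤ w → w < data.nw → ∀ v, run s (wordOf (data.words.get w)) v = v)
    (h0 : ∀ i < 450000, data.Holds base s i) : ∀ i < 500000, data.Holds base s i := by
  have k0 : ∀ i < 452000, data.Holds base s i := fun i hi =>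
    Data.okChunk_sound hinv hk hwh hwr just56_1 450000 just56_1_ok h0 i (by rw [just56_1_len]; exact hi)
  have k1 : ∀ i < 454000, data.Holds base s i := fun i hi =>
    Data.okChunk_sound hinv hk hwh hwr just56_2 452000 just56_2_ok k0 i (by rw [just56_2_len]; exact hi)
  have k2 : ∀ i < 456000, data.Holds base s i := fun i hi =>
    Data.okChunk_sound hinv hk hwh hwr just56_3 454000 just56_3_ok k1 i (by rw [just56_3_len]; exact hi)
  have k3 : ∀ i < 458000, data.Holds base s i := fun i hi =>
    Data.okChunk_sound hinv hk hwh hwr just57_0 456000 just57_0_ok k2 i (by rw [just57_0_len]; exact hi)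
  have k4 : ∀ i < 460000, data.Holds base s i := fun i hi =>
    Data.okChunk_sound hinv hk hwh hwr just57_1 458000 just57_1_ok k3 i (by rw [just57_1_len]; exact hi)
  have k5 : ∀ i < 462000, data.Holds base s i := fun i hi =>
    Data.okChunk_sound hinv hk hwh hwr just57_2 460000 just57_2_ok k4 i (by rw [just57_2_len]; exact hi)
  have k6 : ∀ i < 464000, data.Holds base s i := fun i hi =>
    Data.okChunk_sound hinv hk hwh hwr just57_3 462000 just57_3_ok k5 i (by rw [just57_3_len]; exact hi)
  have k7 : ∀ i < 466000, data.Holds base s i := fun i hi =>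
    Data.okChunk_sound hinv hk hwh hwr just58_0 464000 just58_0_ok k6 i (by rw [just58_0_len]; exact hi)
  have k8 : ∀ i < 468000, data.Holds base s i := fun i hi =>
    Data.okChunk_sound hinv hk hwh hwr just58_1 466000 just58_1_ok k7 i (by rw [just58_1_len]; exact hi)
  have k9 : ∀ i < 470000, data.Holds base s i := fun i hi =>
    Data.okChunk_sound hinv hk hwh hwr just58_2 468000 just58_2_ok k8 i (by rw [just58_2_len]; exact hi)
  have k10 : ∀ i < 472000, data.Holds base s i := fun i hi =>
    Data.okChunk_sound hinv hk hwh hwr just58_3 470000 just58_3_ok k9 i (by rw [just58_3_len]; exact hi)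
  have k11 : ∀ i < 474000, data.Holds base s i := fun i hi =>
    Data.okChunk_sound hinv hk hwh hwr just59_0 472000 just59_0_ok k10 i (by rw [just59_0_len]; exact hi)
  have k12 : ∀ i < 476000, data.Holds base s i := fun i hi =>
    Data.okChunk_sound hinv hk hwh hwr just59_1 474000 just59_1_ok k11 i (by rw [just59_1_len]; exact hi)
  have k13 : ∀ i < 478000, data.Holds base s i := fun i hi =>
    Data.okChunk_sound hinv hk hwh hwr just59_2 476000 just59_2_ok k12 i (by rw [just59_2_len]; exact hi)
  have k14 : ∀ i < 480000, data.Holds base s i := fun i hi =>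
    Data.okChunk_sound hinv hk hwh hwr just59_3 478000 just59_3_ok k13 i (by rw [just59_3_len]; exact hi)
  have k15 : ∀ i < 482000, data.Holds base s i := fun i hi =>
    Data.okChunk_sound hinv hk hwh hwr just60_0 480000 just60_0_ok k14 i (by rw [just60_0_len]; exact hi)
  have k16 : ∀ i < 484000, data.Holds base s i := fun i hi =>
    Data.okChunk_sound hinv hk hwh hwr just60_1 482000 just60_1_ok k15 i (by rw [just60_1_len]; exact hi)
  have k17 : ∀ i < 486000, data.Holds base s i := fun i hi =>
    Data.okChunk_sound hinv hk hwh hwr just60_2 484000 just60_2_ok k16 i (by rw [just60_2_len]; exact hi)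
  have k18 : ∀ i < 488000, data.Holds base s i := fun i hi =>
    Data.okChunk_sound hinv hk hwh hwr just60_3 486000 just60_3_ok k17 i (by rw [just60_3_len]; exact hi)
  have k19 : ∀ i < 490000, data.Holds base s i := fun i hi =>
    Data.okChunk_sound hinv hk hwh hwr just61_0 488000 just61_0_ok k18 i (by rw [just61_0_len]; exact hi)
  have k20 : ∀ i < 492000, data.Holds base s i := fun i hi =>
    Data.okChunk_sound hinv hk hwh hwr just61_1 490000 just61_1_ok k19 i (by rw [just61_1_len]; exact hi)
  have k21 : ∀ i < 494000, data.Holds base s i := fun i hi =>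
    Data.okChunk_sound hinv hk hwh hwr just61_2 492000 just61_2_ok k20 i (by rw [just61_2_len]; exact hi)
  have k22 : ∀ i < 496000, data.Holds base s i := fun i hi =>
    Data.okChunk_sound hinv hk hwh hwr just61_3 494000 just61_3_ok k21 i (by rw [just61_3_len]; exact hi)
  have k23 : ∀ i < 498000, data.Holds base s i := fun i hi =>
    Data.okChunk_sound hinv hk hwh hwr just62_0 496000 just62_0_ok k22 i (by rw [just62_0_len]; exact hi)
  have k24 : ∀ i < 500000, data.Holds base s i := fun i hi =>
    Data.okChunk_sound hinv hk hwh hwr just62_1 498000 just62_1_ok k23 i (by rw [just62_1_len]; exact hi)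
  exact k24

theorem holds10 {Ω : Type} (base : Ω) (s : ℕ → Ω → Ω) (hinv : ∀ x v, s x (s x v) = v) (hk : ∀ v, s data.k v = v)
    (hwh : ∀ w < data.nh, run s (wordOf (data.words.get w)) base = base)
    (hwr : ∀ w, data.nh ≤ w → w < data.nw → ∀ v, run s (wordOf (data.words.get w)) v = v)
    (h0 : ∀ i < 500000, data.Holds base s i) : ∀ i < 550000, data.Holds base s i := by
  have k0 : ∀ i < 502000, data.Holds base s i := fun i hi =>
    Data.okChunk_sound hinv hk hwh hwr just62_2 500000 just62_2_ok h0 i (by rw [just62_2_len]; exact hi)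
  have k1 : ∀ i < 504000, data.Holds base s i := fun i hi =>
    Data.okChunk_sound hinv hk hwh hwr just62_3 502000 just62_3_ok k0 i (by rw [just62_3_len]; exact hi)
  have k2 : ∀ i < 506000, data.Holds base s i := fun i hi =>
    Data.okChunk_sound hinv hk hwh hwr just63_0 504000 just63_0_ok k1 i (by rw [just63_0_len]; exact hi)
  have k3 : ∀ i < 508000, data.Holds base s i := fun i hi =>
    Data.okChunk_sound hinv hk hwh hwr just63_1 506000 just63_1_ok k2 i (by rw [just63_1_len]; exact hi)
  have k4 : ∀ i < 510000, data.Holds base s i := fun i hi =>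
    Data.okChunk_sound hinv hk hwh hwr just63_2 508000 just63_2_ok k3 i (by rw [just63_2_len]; exact hi)
  have k5 : ∀ i < 512000, data.Holds base s i := fun i hi =>
    Data.okChunk_sound hinv hk hwh hwr just63_3 510000 just63_3_ok k4 i (by rw [just63_3_len]; exact hi)
  have k6 : ∀ i < 514000, data.Holds base s i := fun i hi =>
    Data.okChunk_sound hinv hk hwh hwr just64_0 512000 just64_0_ok k5 i (by rw [just64_0_len]; exact hi)
  have k7 : ∀ i < 516000, data.Holds base s i := fun i hi =>
    Data.okChunk_sound hinv hk hwh hwr just64_1 514000 just64_1_ok k6 i (by rw [just64_1_len]; exact hi)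
  have k8 : ∀ i < 518000, data.Holds base s i := fun i hi =>
    Data.okChunk_sound hinv hk hwh hwr just64_2 516000 just64_2_ok k7 i (by rw [just64_2_len]; exact hi)
  have k9 : ∀ i < 520000, data.Holds base s i := fun i hi =>
    Data.okChunk_sound hinv hk hwh hwr just64_3 518000 just64_3_ok k8 i (by rw [just64_3_len]; exact hi)
  have k10 : ∀ i < 522000, data.Holds base s i := fun i hi =>
    Data.okChunk_sound hinv hk hwh hwr just65_0 520000 just65_0_ok k9 i (by rw [just65_0_len]; exact hi)
  have k11 : ∀ i < 524000, data.Holds base s i := fun i hi =>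
    Data.okChunk_sound hinv hk hwh hwr just65_1 522000 just65_1_ok k10 i (by rw [just65_1_len]; exact hi)
  have k12 : ∀ i < 526000, data.Holds base s i := fun i hi =>
    Data.okChunk_sound hinv hk hwh hwr just65_2 524000 just65_2_ok k11 i (by rw [just65_2_len]; exact hi)
  have k13 : ∀ i < 528000, data.Holds base s i := fun i hi =>
    Data.okChunk_sound hinv hk hwh hwr just65_3 526000 just65_3_ok k12 i (by rw [just65_3_len]; exact hi)
  have k14 : ∀ i < 530000, data.Holds base s i := fun i hi =>
    Data.okChunk_sound hinv hk hwh hwr just66_0 528000 just66_0_ok k13 i (by rw [just66_0_len]; exact hi)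
  have k15 : ∀ i < 532000, data.Holds base s i := fun i hi =>
    Data.okChunk_sound hinv hk hwh hwr just66_1 530000 just66_1_ok k14 i (by rw [just66_1_len]; exact hi)
  have k16 : ∀ i < 534000, data.Holds base s i := fun i hi =>
    Data.okChunk_sound hinv hk hwh hwr just66_2 532000 just66_2_ok k15 i (by rw [just66_2_len]; exact hi)
  have k17 : ∀ i < 536000, data.Holds base s i := fun i hi =>
    Data.okChunk_sound hinv hk hwh hwr just66_3 534000 just66_3_ok k16 i (by rw [just66_3_len]; exact hi)
  have k18 : ∀ i < 538000, data.Holds base s i := fun i hi =>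
    Data.okChunk_sound hinv hk hwh hwr just67_0 536000 just67_0_ok k17 i (by rw [just67_0_len]; exact hi)
  have k19 : ∀ i < 540000, data.Holds base s i := fun i hi =>
    Data.okChunk_sound hinv hk hwh hwr just67_1 538000 just67_1_ok k18 i (by rw [just67_1_len]; exact hi)
  have k20 : ∀ i < 542000, data.Holds base s i := fun i hi =>
    Data.okChunk_sound hinv hk hwh hwr just67_2 540000 just67_2_ok k19 i (by rw [just67_2_len]; exact hi)
  have k21 : ∀ i < 544000, data.Holds base s i := fun i hi =>
    Data.okChunk_sound hinv hk hwh hwr just67_3 542000 just67_3_ok k20 i (by rw [just67_3_len]; exact hi)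
  have k22 : ∀ i < 546000, data.Holds base s i := fun i hi =>
    Data.okChunk_sound hinv hk hwh hwr just68_0 544000 just68_0_ok k21 i (by rw [just68_0_len]; exact hi)
  have k23 : ∀ i < 548000, data.Holds base s i := fun i hi =>
    Data.okChunk_sound hinv hk hwh hwr just68_1 546000 just68_1_ok k22 i (by rw [just68_1_len]; exact hi)
  have k24 : ∀ i < 550000, data.Holds base s i := fun i hi =>
    Data.okChunk_sound hinv hk hwh hwr just68_2 548000 just68_2_ok k23 i (by rw [just68_2_len]; exact hi)
  exact k24

theorem holds11 {Ω : Type} (base : Ω) (s : ℕ → Ω → Ω) (hinv : ∀ x v, s x (s x v) = v) (hk : ∀ v, s data.k v = v)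
    (hwh : ∀ w < data.nh, run s (wordOf (data.words.get w)) base = base)
    (hwr : ∀ w, data.nh ≤ w → w < data.nw → ∀ v, run s (wordOf (data.words.get w)) v = v)
    (h0 : ∀ i < 550000, data.Holds base s i) : ∀ i < 600000, data.Holds base s i := by
  have k0 : ∀ i < 552000, data.Holds base s i := fun i hi =>
    Data.okChunk_sound hinv hk hwh hwr just68_3 550000 just68_3_ok h0 i (by rw [just68_3_len]; exact hi)
  have k1 : ∀ i < 554000, data.Holds base s i := fun i hi =>
    Data.okChunk_sound hinv hk hwh hwr just69_0 552000 just69_0_ok k0 i (by rw [just69_0_len]; exact hi)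
  have k2 : ∀ i < 556000, data.Holds base s i := fun i hi =>
    Data.okChunk_sound hinv hk hwh hwr just69_1 554000 just69_1_ok k1 i (by rw [just69_1_len]; exact hi)
  have k3 : ∀ i < 558000, data.Holds base s i := fun i hi =>
    Data.okChunk_sound hinv hk hwh hwr just69_2 556000 just69_2_ok k2 i (by rw [just69_2_len]; exact hi)
  have k4 : ∀ i < 560000, data.Holds base s i := fun i hi =>
    Data.okChunk_sound hinv hk hwh hwr just69_3 558000 just69_3_ok k3 i (by rw [just69_3_len]; exact hi)
  have k5 : ∀ i < 562000, data.Holds base s i := fun i hi =>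
    Data.okChunk_sound hinv hk hwh hwr just70_0 560000 just70_0_ok k4 i (by rw [just70_0_len]; exact hi)
  have k6 : ∀ i < 564000, data.Holds base s i := fun i hi =>
    Data.okChunk_sound hinv hk hwh hwr just70_1 562000 just70_1_ok k5 i (by rw [just70_1_len]; exact hi)
  have k7 : ∀ i < 566000, data.Holds base s i := fun i hi =>
    Data.okChunk_sound hinv hk hwh hwr just70_2 564000 just70_2_ok k6 i (by rw [just70_2_len]; exact hi)
  have k8 : ∀ i < 568000, data.Holds base s i := fun i hi =>
    Data.okChunk_sound hinv hk hwh hwr just70_3 566000 just70_3_ok k7 i (by rw [just70_3_len]; exact hi)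
  have k9 : ∀ i < 570000, data.Holds base s i := fun i hi =>
    Data.okChunk_sound hinv hk hwh hwr just71_0 568000 just71_0_ok k8 i (by rw [just71_0_len]; exact hi)
  have k10 : ∀ i < 572000, data.Holds base s i := fun i hi =>
    Data.okChunk_sound hinv hk hwh hwr just71_1 570000 just71_1_ok k9 i (by rw [just71_1_len]; exact hi)
  have k11 : ∀ i < 574000, data.Holds base s i := fun i hi =>
    Data.okChunk_sound hinv hk hwh hwr just71_2 572000 just71_2_ok k10 i (by rw [just71_2_len]; exact hi)
  have k12 : ∀ i < 576000, data.Holds base s i := fun i hi =>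
    Data.okChunk_sound hinv hk hwh hwr just71_3 574000 just71_3_ok k11 i (by rw [just71_3_len]; exact hi)
  have k13 : ∀ i < 578000, data.Holds base s i := fun i hi =>
    Data.okChunk_sound hinv hk hwh hwr just72_0 576000 just72_0_ok k12 i (by rw [just72_0_len]; exact hi)
  have k14 : ∀ i < 580000, data.Holds base s i := fun i hi =>
    Data.okChunk_sound hinv hk hwh hwr just72_1 578000 just72_1_ok k13 i (by rw [just72_1_len]; exact hi)
  have k15 : ∀ i < 582000, data.Holds base s i := fun i hi =>
    Data.okChunk_sound hinv hk hwh hwr just72_2 580000 just72_2_ok k14 i (by rw [just72_2_len]; exact hi)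
  have k16 : ∀ i < 584000, data.Holds base s i := fun i hi =>
    Data.okChunk_sound hinv hk hwh hwr just72_3 582000 just72_3_ok k15 i (by rw [just72_3_len]; exact hi)
  have k17 : ∀ i < 586000, data.Holds base s i := fun i hi =>
    Data.okChunk_sound hinv hk hwh hwr just73_0 584000 just73_0_ok k16 i (by rw [just73_0_len]; exact hi)
  have k18 : ∀ i < 588000, data.Holds base s i := fun i hi =>
    Data.okChunk_sound hinv hk hwh hwr just73_1 586000 just73_1_ok k17 i (by rw [just73_1_len]; exact hi)
  have k19 : ∀ i < 590000, data.Holds base s i := fun i hi =>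
    Data.okChunk_sound hinv hk hwh hwr just73_2 588000 just73_2_ok k18 i (by rw [just73_2_len]; exact hi)
  have k20 : ∀ i < 592000, data.Holds base s i := fun i hi =>
    Data.okChunk_sound hinv hk hwh hwr just73_3 590000 just73_3_ok k19 i (by rw [just73_3_len]; exact hi)
  have k21 : ∀ i < 594000, data.Holds base s i := fun i hi =>
    Data.okChunk_sound hinv hk hwh hwr just74_0 592000 just74_0_ok k20 i (by rw [just74_0_len]; exact hi)
  have k22 : ∀ i < 596000, data.Holds base s i := fun i hi =>
    Data.okChunk_sound hinv hk hwh hwr just74_1 594000 just74_1_ok k21 i (by rw [just74_1_len]; exact hi)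
  have k23 : ∀ i < 598000, data.Holds base s i := fun i hi =>
    Data.okChunk_sound hinv hk hwh hwr just74_2 596000 just74_2_ok k22 i (by rw [just74_2_len]; exact hi)
  have k24 : ∀ i < 600000, data.Holds base s i := fun i hi =>
    Data.okChunk_sound hinv hk hwh hwr just74_3 598000 just74_3_ok k23 i (by rw [just74_3_len]; exact hi)
  exact k24

theorem holds12 {Ω : Type} (base : Ω) (s : ℕ → Ω → Ω) (hinv : ∀ x v, s x (s x v) = v) (hk : ∀ v, s data.k v = v)
    (hwh : ∀ w < data.nh, run s (wordOf (data.words.get w)) base = base)
    (hwr : ∀ w, data.nh ≤ w → w < data.nw → ∀ v, run s (wordOf (data.words.get w)) v = v)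
    (h0 : ∀ i < 600000, data.Holds base s i) : ∀ i < 650000, data.Holds base s i := by
  have k0 : ∀ i < 602000, data.Holds base s i := fun i hi =>
    Data.okChunk_sound hinv hk hwh hwr just75_0 600000 just75_0_ok h0 i (by rw [just75_0_len]; exact hi)
  have k1 : ∀ i < 604000, data.Holds base s i := fun i hi =>
    Data.okChunk_sound hinv hk hwh hwr just75_1 602000 just75_1_ok k0 i (by rw [just75_1_len]; exact hi)
  have k2 : ∀ i < 606000, data.Holds base s i := fun i hi =>
    Data.okChunk_sound hinv hk hwh hwr just75_2 604000 just75_2_ok k1 i (by rw [just75_2_len]; exact hi)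
  have k3 : ∀ i < 608000, data.Holds base s i := fun i hi =>
    Data.okChunk_sound hinv hk hwh hwr just75_3 606000 just75_3_ok k2 i (by rw [just75_3_len]; exact hi)
  have k4 : ∀ i < 610000, data.Holds base s i := fun i hi =>
    Data.okChunk_sound hinv hk hwh hwr just76_0 608000 just76_0_ok k3 i (by rw [just76_0_len]; exact hi)
  have k5 : ∀ i < 612000, data.Holds base s i := fun i hi =>
    Data.okChunk_sound hinv hk hwh hwr just76_1 610000 just76_1_ok k4 i (by rw [just76_1_len]; exact hi)
  have k6 : ∀ i < 614000, data.Holds base s i := fun i hi =>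
    Data.okChunk_sound hinv hk hwh hwr just76_2 612000 just76_2_ok k5 i (by rw [just76_2_len]; exact hi)
  have k7 : ∀ i < 616000, data.Holds base s i := fun i hi =>
    Data.okChunk_sound hinv hk hwh hwr just76_3 614000 just76_3_ok k6 i (by rw [just76_3_len]; exact hi)
  have k8 : ∀ i < 618000, data.Holds base s i := fun i hi =>
    Data.okChunk_sound hinv hk hwh hwr just77_0 616000 just77_0_ok k7 i (by rw [just77_0_len]; exact hi)
  have k9 : ∀ i < 620000, data.Holds base s i := fun i hi =>
    Data.okChunk_sound hinv hk hwh hwr just77_1 618000 just77_1_ok k8 i (by rw [just77_1_len]; exact hi)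
  have k10 : ∀ i < 622000, data.Holds base s i := fun i hi =>
    Data.okChunk_sound hinv hk hwh hwr just77_2 620000 just77_2_ok k9 i (by rw [just77_2_len]; exact hi)
  have k11 : ∀ i < 624000, data.Holds base s i := fun i hi =>
    Data.okChunk_sound hinv hk hwh hwr just77_3 622000 just77_3_ok k10 i (by rw [just77_3_len]; exact hi)
  have k12 : ∀ i < 626000, data.Holds base s i := fun i hi =>
    Data.okChunk_sound hinv hk hwh hwr just78_0 624000 just78_0_ok k11 i (by rw [just78_0_len]; exact hi)
  have k13 : ∀ i < 628000, data.Holds base s i := fun i hi =>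
    Data.okChunk_sound hinv hk hwh hwr just78_1 626000 just78_1_ok k12 i (by rw [just78_1_len]; exact hi)
  have k14 : ∀ i < 630000, data.Holds base s i := fun i hi =>
    Data.okChunk_sound hinv hk hwh hwr just78_2 628000 just78_2_ok k13 i (by rw [just78_2_len]; exact hi)
  have k15 : ∀ i < 632000, data.Holds base s i := fun i hi =>
    Data.okChunk_sound hinv hk hwh hwr just78_3 630000 just78_3_ok k14 i (by rw [just78_3_len]; exact hi)
  have k16 : ∀ i < 634000, data.Holds base s i := fun i hi =>
    Data.okChunk_sound hinv hk hwh hwr just79_0 632000 just79_0_ok k15 i (by rw [just79_0_len]; exact hi)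
  have k17 : ∀ i < 636000, data.Holds base s i := fun i hi =>
    Data.okChunk_sound hinv hk hwh hwr just79_1 634000 just79_1_ok k16 i (by rw [just79_1_len]; exact hi)
  have k18 : ∀ i < 638000, data.Holds base s i := fun i hi =>
    Data.okChunk_sound hinv hk hwh hwr just79_2 636000 just79_2_ok k17 i (by rw [just79_2_len]; exact hi)
  have k19 : ∀ i < 640000, data.Holds base s i := fun i hi =>
    Data.okChunk_sound hinv hk hwh hwr just79_3 638000 just79_3_ok k18 i (by rw [just79_3_len]; exact hi)
  have k20 : ∀ i < 642000, data.Holds base s i := fun i hi =>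
    Data.okChunk_sound hinv hk hwh hwr just80_0 640000 just80_0_ok k19 i (by rw [just80_0_len]; exact hi)
  have k21 : ∀ i < 644000, data.Holds base s i := fun i hi =>
    Data.okChunk_sound hinv hk hwh hwr just80_1 642000 just80_1_ok k20 i (by rw [just80_1_len]; exact hi)
  have k22 : ∀ i < 646000, data.Holds base s i := fun i hi =>
    Data.okChunk_sound hinv hk hwh hwr just80_2 644000 just80_2_ok k21 i (by rw [just80_2_len]; exact hi)
  have k23 : ∀ i < 648000, data.Holds base s i := fun i hi =>
    Data.okChunk_sound hinv hk hwh hwr just80_3 646000 just80_3_ok k22 i (by rw [just80_3_len]; exact hi)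
  have k24 : ∀ i < 650000, data.Holds base s i := fun i hi =>
    Data.okChunk_sound hinv hk hwh hwr just81_0 648000 just81_0_ok k23 i (by rw [just81_0_len]; exact hi)
  exact k24

theorem holds13 {Ω : Type} (base : Ω) (s : ℕ → Ω → Ω) (hinv : ∀ x v, s x (s x v) = v) (hk : ∀ v, s data.k v = v)
    (hwh : ∀ w < data.nh, run s (wordOf (data.words.get w)) base = base)
    (hwr : ∀ w, data.nh ≤ w → w < data.nw → ∀ v, run s (wordOf (data.words.get w)) v = v)
    (h0 : ∀ i < 650000, data.Holds base s i) : ∀ i < 700000, data.Holds base s i := by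
  have k0 : ∀ i < 652000, data.Holds base s i := fun i hi =>
    Data.okChunk_sound hinv hk hwh hwr just81_1 650000 just81_1_ok h0 i (by rw [just81_1_len]; exact hi)
  have k1 : ∀ i < 654000, data.Holds base s i := fun i hi =>
    Data.okChunk_sound hinv hk hwh hwr just81_2 652000 just81_2_ok k0 i (by rw [just81_2_len]; exact hi)
  have k2 : ∀ i < 656000, data.Holds base s i := fun i hi =>
    Data.okChunk_sound hinv hk hwh hwr just81_3 654000 just81_3_ok k1 i (by rw [just81_3_len]; exact hi)
  have k3 : ∀ i < 658000, data.Holds base s i := fun i hi =>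
    Data.okChunk_sound hinv hk hwh hwr just82_0 656000 just82_0_ok k2 i (by rw [just82_0_len]; exact hi)
  have k4 : ∀ i < 660000, data.Holds base s i := fun i hi =>
    Data.okChunk_sound hinv hk hwh hwr just82_1 658000 just82_1_ok k3 i (by rw [just82_1_len]; exact hi)
  have k5 : ∀ i < 662000, data.Holds base s i := fun i hi =>
    Data.okChunk_sound hinv hk hwh hwr just82_2 660000 just82_2_ok k4 i (by rw [just82_2_len]; exact hi)
  have k6 : ∀ i < 664000, data.Holds base s i := fun i hi =>
    Data.okChunk_sound hinv hk hwh hwr just82_3 662000 just82_3_ok k5 i (by rw [just82_3_len]; exact hi)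
  have k7 : ∀ i < 666000, data.Holds base s i := fun i hi =>
    Data.okChunk_sound hinv hk hwh hwr just83_0 664000 just83_0_ok k6 i (by rw [just83_0_len]; exact hi)
  have k8 : ∀ i < 668000, data.Holds base s i := fun i hi =>
    Data.okChunk_sound hinv hk hwh hwr just83_1 666000 just83_1_ok k7 i (by rw [just83_1_len]; exact hi)
  have k9 : ∀ i < 670000, data.Holds base s i := fun i hi =>
    Data.okChunk_sound hinv hk hwh hwr just83_2 668000 just83_2_ok k8 i (by rw [just83_2_len]; exact hi)
  have k10 : ∀ i < 672000, data.Holds base s i := fun i hi =>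
    Data.okChunk_sound hinv hk hwh hwr just83_3 670000 just83_3_ok k9 i (by rw [just83_3_len]; exact hi)
  have k11 : ∀ i < 674000, data.Holds base s i := fun i hi =>
    Data.okChunk_sound hinv hk hwh hwr just84_0 672000 just84_0_ok k10 i (by rw [just84_0_len]; exact hi)
  have k12 : ∀ i < 676000, data.Holds base s i := fun i hi =>
    Data.okChunk_sound hinv hk hwh hwr just84_1 674000 just84_1_ok k11 i (by rw [just84_1_len]; exact hi)
  have k13 : ∀ i < 678000, data.Holds base s i := fun i hi =>
    Data.okChunk_sound hinv hk hwh hwr just84_2 676000 just84_2_ok k12 i (by rw [just84_2_len]; exact hi)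
  have k14 : ∀ i < 680000, data.Holds base s i := fun i hi =>
    Data.okChunk_sound hinv hk hwh hwr just84_3 678000 just84_3_ok k13 i (by rw [just84_3_len]; exact hi)
  have k15 : ∀ i < 682000, data.Holds base s i := fun i hi =>
    Data.okChunk_sound hinv hk hwh hwr just85_0 680000 just85_0_ok k14 i (by rw [just85_0_len]; exact hi)
  have k16 : ∀ i < 684000, data.Holds base s i := fun i hi =>
    Data.okChunk_sound hinv hk hwh hwr just85_1 682000 just85_1_ok k15 i (by rw [just85_1_len]; exact hi)
  have k17 : ∀ i < 686000, data.Holds base s i := fun i hi =>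
    Data.okChunk_sound hinv hk hwh hwr just85_2 684000 just85_2_ok k16 i (by rw [just85_2_len]; exact hi)
  have k18 : ∀ i < 688000, data.Holds base s i := fun i hi =>
    Data.okChunk_sound hinv hk hwh hwr just85_3 686000 just85_3_ok k17 i (by rw [just85_3_len]; exact hi)
  have k19 : ∀ i < 690000, data.Holds base s i := fun i hi =>
    Data.okChunk_sound hinv hk hwh hwr just86_0 688000 just86_0_ok k18 i (by rw [just86_0_len]; exact hi)
  have k20 : ∀ i < 692000, data.Holds base s i := fun i hi =>
    Data.okChunk_sound hinv hk hwh hwr just86_1 690000 just86_1_ok k19 i (by rw [just86_1_len]; exact hi)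
  have k21 : ∀ i < 694000, data.Holds base s i := fun i hi =>
    Data.okChunk_sound hinv hk hwh hwr just86_2 692000 just86_2_ok k20 i (by rw [just86_2_len]; exact hi)
  have k22 : ∀ i < 696000, data.Holds base s i := fun i hi =>
    Data.okChunk_sound hinv hk hwh hwr just86_3 694000 just86_3_ok k21 i (by rw [just86_3_len]; exact hi)
  have k23 : ∀ i < 698000, data.Holds base s i := fun i hi =>
    Data.okChunk_sound hinv hk hwh hwr just87_0 696000 just87_0_ok k22 i (by rw [just87_0_len]; exact hi)
  have k24 : ∀ i < 700000, data.Holds base s i := fun i hi =>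
    Data.okChunk_sound hinv hk hwh hwr just87_1 698000 just87_1_ok k23 i (by rw [just87_1_len]; exact hi)
  exact k24

theorem holds14 {Ω : Type} (base : Ω) (s : ℕ → Ω → Ω) (hinv : ∀ x v, s x (s x v) = v) (hk : ∀ v, s data.k v = v)
    (hwh : ∀ w < data.nh, run s (wordOf (data.words.get w)) base = base)
    (hwr : ∀ w, data.nh ≤ w → w < data.nw → ∀ v, run s (wordOf (data.words.get w)) v = v)
    (h0 : ∀ i < 700000, data.Holds base s i) : ∀ i < 750000, data.Holds base s i := by
  have k0 : ∀ i < 702000, data.Holds base s i := fun i hi =>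
    Data.okChunk_sound hinv hk hwh hwr just87_2 700000 just87_2_ok h0 i (by rw [just87_2_len]; exact hi)
  have k1 : ∀ i < 704000, data.Holds base s i := fun i hi =>
    Data.okChunk_sound hinv hk hwh hwr just87_3 702000 just87_3_ok k0 i (by rw [just87_3_len]; exact hi)
  have k2 : ∀ i < 706000, data.Holds base s i := fun i hi =>
    Data.okChunk_sound hinv hk hwh hwr just88_0 704000 just88_0_ok k1 i (by rw [just88_0_len]; exact hi)
  have k3 : ∀ i < 708000, data.Holds base s i := fun i hi =>
    Data.okChunk_sound hinv hk hwh hwr just88_1 706000 just88_1_ok k2 i (by rw [just88_1_len]; exact hi)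
  have k4 : ∀ i < 710000, data.Holds base s i := fun i hi =>
    Data.okChunk_sound hinv hk hwh hwr just88_2 708000 just88_2_ok k3 i (by rw [just88_2_len]; exact hi)
  have k5 : ∀ i < 712000, data.Holds base s i := fun i hi =>
    Data.okChunk_sound hinv hk hwh hwr just88_3 710000 just88_3_ok k4 i (by rw [just88_3_len]; exact hi)
  have k6 : ∀ i < 714000, data.Holds base s i := fun i hi =>
    Data.okChunk_sound hinv hk hwh hwr just89_0 712000 just89_0_ok k5 i (by rw [just89_0_len]; exact hi)
  have k7 : ∀ i < 716000, data.Holds base s i := fun i hi =>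
    Data.okChunk_sound hinv hk hwh hwr just89_1 714000 just89_1_ok k6 i (by rw [just89_1_len]; exact hi)
  have k8 : ∀ i < 718000, data.Holds base s i := fun i hi =>
    Data.okChunk_sound hinv hk hwh hwr just89_2 716000 just89_2_ok k7 i (by rw [just89_2_len]; exact hi)
  have k9 : ∀ i < 720000, data.Holds base s i := fun i hi =>
    Data.okChunk_sound hinv hk hwh hwr just89_3 718000 just89_3_ok k8 i (by rw [just89_3_len]; exact hi)
  have k10 : ∀ i < 722000, data.Holds base s i := fun i hi =>
    Data.okChunk_sound hinv hk hwh hwr just90_0 720000 just90_0_ok k9 i (by rw [just90_0_len]; exact hi)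
  have k11 : ∀ i < 724000, data.Holds base s i := fun i hi =>
    Data.okChunk_sound hinv hk hwh hwr just90_1 722000 just90_1_ok k10 i (by rw [just90_1_len]; exact hi)
  have k12 : ∀ i < 726000, data.Holds base s i := fun i hi =>
    Data.okChunk_sound hinv hk hwh hwr just90_2 724000 just90_2_ok k11 i (by rw [just90_2_len]; exact hi)
  have k13 : ∀ i < 728000, data.Holds base s i := fun i hi =>
    Data.okChunk_sound hinv hk hwh hwr just90_3 726000 just90_3_ok k12 i (by rw [just90_3_len]; exact hi)
  have k14 : ∀ i < 730000, data.Holds base s i := fun i hi =>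
    Data.okChunk_sound hinv hk hwh hwr just91_0 728000 just91_0_ok k13 i (by rw [just91_0_len]; exact hi)
  have k15 : ∀ i < 732000, data.Holds base s i := fun i hi =>
    Data.okChunk_sound hinv hk hwh hwr just91_1 730000 just91_1_ok k14 i (by rw [just91_1_len]; exact hi)
  have k16 : ∀ i < 734000, data.Holds base s i := fun i hi =>
    Data.okChunk_sound hinv hk hwh hwr just91_2 732000 just91_2_ok k15 i (by rw [just91_2_len]; exact hi)
  have k17 : ∀ i < 736000, data.Holds base s i := fun i hi =>
    Data.okChunk_sound hinv hk hwh hwr just91_3 734000 just91_3_ok k16 i (by rw [just91_3_len]; exact hi)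
  have k18 : ∀ i < 738000, data.Holds base s i := fun i hi =>
    Data.okChunk_sound hinv hk hwh hwr just92_0 736000 just92_0_ok k17 i (by rw [just92_0_len]; exact hi)
  have k19 : ∀ i < 740000, data.Holds base s i := fun i hi =>
    Data.okChunk_sound hinv hk hwh hwr just92_1 738000 just92_1_ok k18 i (by rw [just92_1_len]; exact hi)
  have k20 : ∀ i < 742000, data.Holds base s i := fun i hi =>
    Data.okChunk_sound hinv hk hwh hwr just92_2 740000 just92_2_ok k19 i (by rw [just92_2_len]; exact hi)
  have k21 : ∀ i < 744000, data.Holds base s i := fun i hi =>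
    Data.okChunk_sound hinv hk hwh hwr just92_3 742000 just92_3_ok k20 i (by rw [just92_3_len]; exact hi)
  have k22 : ∀ i < 746000, data.Holds base s i := fun i hi =>
    Data.okChunk_sound hinv hk hwh hwr just93_0 744000 just93_0_ok k21 i (by rw [just93_0_len]; exact hi)
  have k23 : ∀ i < 748000, data.Holds base s i := fun i hi =>
    Data.okChunk_sound hinv hk hwh hwr just93_1 746000 just93_1_ok k22 i (by rw [just93_1_len]; exact hi)
  have k24 : ∀ i < 750000, data.Holds base s i := fun i hi =>
    Data.okChunk_sound hinv hk hwh hwr just93_2 748000 just93_2_ok k23 i (by rw [just93_2_len]; exact hi)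
  exact k24

theorem holds15 {Ω : Type} (base : Ω) (s : ℕ → Ω → Ω) (hinv : ∀ x v, s x (s x v) = v) (hk : ∀ v, s data.k v = v)
    (hwh : ∀ w < data.nh, run s (wordOf (data.words.get w)) base = base)
    (hwr : ∀ w, data.nh ≤ w → w < data.nw → ∀ v, run s (wordOf (data.words.get w)) v = v)
    (h0 : ∀ i < 750000, data.Holds base s i) : ∀ i < 800000, data.Holds base s i := by
  have k0 : ∀ i < 752000, data.Holds base s i := fun i hi =>
    Data.okChunk_sound hinv hk hwh hwr just93_3 750000 just93_3_ok h0 i (by rw [just93_3_len]; exact hi)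
  have k1 : ∀ i < 754000, data.Holds base s i := fun i hi =>
    Data.okChunk_sound hinv hk hwh hwr just94_0 752000 just94_0_ok k0 i (by rw [just94_0_len]; exact hi)
  have k2 : ∀ i < 756000, data.Holds base s i := fun i hi =>
    Data.okChunk_sound hinv hk hwh hwr just94_1 754000 just94_1_ok k1 i (by rw [just94_1_len]; exact hi)
  have k3 : ∀ i < 758000, data.Holds base s i := fun i hi =>
    Data.okChunk_sound hinv hk hwh hwr just94_2 756000 just94_2_ok k2 i (by rw [just94_2_len]; exact hi)
  have k4 : ∀ i < 760000, data.Holds base s i := fun i hi =>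
    Data.okChunk_sound hinv hk hwh hwr just94_3 758000 just94_3_ok k3 i (by rw [just94_3_len]; exact hi)
  have k5 : ∀ i < 762000, data.Holds base s i := fun i hi =>
    Data.okChunk_sound hinv hk hwh hwr just95_0 760000 just95_0_ok k4 i (by rw [just95_0_len]; exact hi)
  have k6 : ∀ i < 764000, data.Holds base s i := fun i hi =>
    Data.okChunk_sound hinv hk hwh hwr just95_1 762000 just95_1_ok k5 i (by rw [just95_1_len]; exact hi)
  have k7 : ∀ i < 766000, data.Holds base s i := fun i hi =>
    Data.okChunk_sound hinv hk hwh hwr just95_2 764000 just95_2_ok k6 i (by rw [just95_2_len]; exact hi)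
  have k8 : ∀ i < 768000, data.Holds base s i := fun i hi =>
    Data.okChunk_sound hinv hk hwh hwr just95_3 766000 just95_3_ok k7 i (by rw [just95_3_len]; exact hi)
  have k9 : ∀ i < 770000, data.Holds base s i := fun i hi =>
    Data.okChunk_sound hinv hk hwh hwr just96_0 768000 just96_0_ok k8 i (by rw [just96_0_len]; exact hi)
  have k10 : ∀ i < 772000, data.Holds base s i := fun i hi =>
    Data.okChunk_sound hinv hk hwh hwr just96_1 770000 just96_1_ok k9 i (by rw [just96_1_len]; exact hi)
  have k11 : ∀ i < 774000, data.Holds base s i := fun i hi =>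
    Data.okChunk_sound hinv hk hwh hwr just96_2 772000 just96_2_ok k10 i (by rw [just96_2_len]; exact hi)
  have k12 : ∀ i < 776000, data.Holds base s i := fun i hi =>
    Data.okChunk_sound hinv hk hwh hwr just96_3 774000 just96_3_ok k11 i (by rw [just96_3_len]; exact hi)
  have k13 : ∀ i < 778000, data.Holds base s i := fun i hi =>
    Data.okChunk_sound hinv hk hwh hwr just97_0 776000 just97_0_ok k12 i (by rw [just97_0_len]; exact hi)
  have k14 : ∀ i < 780000, data.Holds base s i := fun i hi =>
    Data.okChunk_sound hinv hk hwh hwr just97_1 778000 just97_1_ok k13 i (by rw [just97_1_len]; exact hi)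
  have k15 : ∀ i < 782000, data.Holds base s i := fun i hi =>
    Data.okChunk_sound hinv hk hwh hwr just97_2 780000 just97_2_ok k14 i (by rw [just97_2_len]; exact hi)
  have k16 : ∀ i < 784000, data.Holds base s i := fun i hi =>
    Data.okChunk_sound hinv hk hwh hwr just97_3 782000 just97_3_ok k15 i (by rw [just97_3_len]; exact hi)
  have k17 : ∀ i < 786000, data.Holds base s i := fun i hi =>
    Data.okChunk_sound hinv hk hwh hwr just98_0 784000 just98_0_ok k16 i (by rw [just98_0_len]; exact hi)
  have k18 : ∀ i < 788000, data.Holds base s i := fun i hi =>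
    Data.okChunk_sound hinv hk hwh hwr just98_1 786000 just98_1_ok k17 i (by rw [just98_1_len]; exact hi)
  have k19 : ∀ i < 790000, data.Holds base s i := fun i hi =>
    Data.okChunk_sound hinv hk hwh hwr just98_2 788000 just98_2_ok k18 i (by rw [just98_2_len]; exact hi)
  have k20 : ∀ i < 792000, data.Holds base s i := fun i hi =>
    Data.okChunk_sound hinv hk hwh hwr just98_3 790000 just98_3_ok k19 i (by rw [just98_3_len]; exact hi)
  have k21 : ∀ i < 794000, data.Holds base s i := fun i hi =>
    Data.okChunk_sound hinv hk hwh hwr just99_0 792000 just99_0_ok k20 i (by rw [just99_0_len]; exact hi)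
  have k22 : ∀ i < 796000, data.Holds base s i := fun i hi =>
    Data.okChunk_sound hinv hk hwh hwr just99_1 794000 just99_1_ok k21 i (by rw [just99_1_len]; exact hi)
  have k23 : ∀ i < 798000, data.Holds base s i := fun i hi =>
    Data.okChunk_sound hinv hk hwh hwr just99_2 796000 just99_2_ok k22 i (by rw [just99_2_len]; exact hi)
  have k24 : ∀ i < 800000, data.Holds base s i := fun i hi =>
    Data.okChunk_sound hinv hk hwh hwr just99_3 798000 just99_3_ok k23 i (by rw [just99_3_len]; exact hi)
  exact k24

theorem holds16 {Ω : Type} (base : Ω) (s : ℕ → Ω → Ω) (hinv : ∀ x v, s x (s x v) = v) (hk : ∀ v, s data.k v = v)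
    (hwh : ∀ w < data.nh, run s (wordOf (data.words.get w)) base = base)
    (hwr : ∀ w, data.nh ≤ w → w < data.nw → ∀ v, run s (wordOf (data.words.get w)) v = v)
    (h0 : ∀ i < 800000, data.Holds base s i) : ∀ i < 850000, data.Holds base s i := by
  have k0 : ∀ i < 802000, data.Holds base s i := fun i hi =>
    Data.okChunk_sound hinv hk hwh hwr just100_0 800000 just100_0_ok h0 i (by rw [just100_0_len]; exact hi)
  have k1 : ∀ i < 804000, data.Holds base s i := fun i hi =>
    Data.okChunk_sound hinv hk hwh hwr just100_1 802000 just100_1_ok k0 i (by rw [just100_1_len]; exact hi)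
  have k2 : ∀ i < 806000, data.Holds base s i := fun i hi =>
    Data.okChunk_sound hinv hk hwh hwr just100_2 804000 just100_2_ok k1 i (by rw [just100_2_len]; exact hi)
  have k3 : ∀ i < 808000, data.Holds base s i := fun i hi =>
    Data.okChunk_sound hinv hk hwh hwr just100_3 806000 just100_3_ok k2 i (by rw [just100_3_len]; exact hi)
  have k4 : ∀ i < 810000, data.Holds base s i := fun i hi =>
    Data.okChunk_sound hinv hk hwh hwr just101_0 808000 just101_0_ok k3 i (by rw [just101_0_len]; exact hi)
  have k5 : ∀ i < 812000, data.Holds base s i := fun i hi =>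
    Data.okChunk_sound hinv hk hwh hwr just101_1 810000 just101_1_ok k4 i (by rw [just101_1_len]; exact hi)
  have k6 : ∀ i < 814000, data.Holds base s i := fun i hi =>
    Data.okChunk_sound hinv hk hwh hwr just101_2 812000 just101_2_ok k5 i (by rw [just101_2_len]; exact hi)
  have k7 : ∀ i < 816000, data.Holds base s i := fun i hi =>
    Data.okChunk_sound hinv hk hwh hwr just101_3 814000 just101_3_ok k6 i (by rw [just101_3_len]; exact hi)
  have k8 : ∀ i < 818000, data.Holds base s i := fun i hi =>
    Data.okChunk_sound hinv hk hwh hwr just102_0 816000 just102_0_ok k7 i (by rw [just102_0_len]; exact hi)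
  have k9 : ∀ i < 820000, data.Holds base s i := fun i hi =>
    Data.okChunk_sound hinv hk hwh hwr just102_1 818000 just102_1_ok k8 i (by rw [just102_1_len]; exact hi)
  have k10 : ∀ i < 822000, data.Holds base s i := fun i hi =>
    Data.okChunk_sound hinv hk hwh hwr just102_2 820000 just102_2_ok k9 i (by rw [just102_2_len]; exact hi)
  have k11 : ∀ i < 824000, data.Holds base s i := fun i hi =>
    Data.okChunk_sound hinv hk hwh hwr just102_3 822000 just102_3_ok k10 i (by rw [just102_3_len]; exact hi)
  have k12 : ∀ i < 826000, data.Holds base s i := fun i hi =>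
    Data.okChunk_sound hinv hk hwh hwr just103_0 824000 just103_0_ok k11 i (by rw [just103_0_len]; exact hi)
  have k13 : ∀ i < 828000, data.Holds base s i := fun i hi =>
    Data.okChunk_sound hinv hk hwh hwr just103_1 826000 just103_1_ok k12 i (by rw [just103_1_len]; exact hi)
  have k14 : ∀ i < 830000, data.Holds base s i := fun i hi =>
    Data.okChunk_sound hinv hk hwh hwr just103_2 828000 just103_2_ok k13 i (by rw [just103_2_len]; exact hi)
  have k15 : ∀ i < 832000, data.Holds base s i := fun i hi =>
    Data.okChunk_sound hinv hk hwh hwr just103_3 830000 just103_3_ok k14 i (by rw [just103_3_len]; exact hi)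
  have k16 : ∀ i < 834000, data.Holds base s i := fun i hi =>
    Data.okChunk_sound hinv hk hwh hwr just104_0 832000 just104_0_ok k15 i (by rw [just104_0_len]; exact hi)
  have k17 : ∀ i < 836000, data.Holds base s i := fun i hi =>
    Data.okChunk_sound hinv hk hwh hwr just104_1 834000 just104_1_ok k16 i (by rw [just104_1_len]; exact hi)
  have k18 : ∀ i < 838000, data.Holds base s i := fun i hi =>
    Data.okChunk_sound hinv hk hwh hwr just104_2 836000 just104_2_ok k17 i (by rw [just104_2_len]; exact hi)
  have k19 : ∀ i < 840000, data.Holds base s i := fun i hi =>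
    Data.okChunk_sound hinv hk hwh hwr just104_3 838000 just104_3_ok k18 i (by rw [just104_3_len]; exact hi)
  have k20 : ∀ i < 842000, data.Holds base s i := fun i hi =>
    Data.okChunk_sound hinv hk hwh hwr just105_0 840000 just105_0_ok k19 i (by rw [just105_0_len]; exact hi)
  have k21 : ∀ i < 844000, data.Holds base s i := fun i hi =>
    Data.okChunk_sound hinv hk hwh hwr just105_1 842000 just105_1_ok k20 i (by rw [just105_1_len]; exact hi)
  have k22 : ∀ i < 846000, data.Holds base s i := fun i hi =>
    Data.okChunk_sound hinv hk hwh hwr just105_2 844000 just105_2_ok k21 i (by rw [just105_2_len]; exact hi)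
  have k23 : ∀ i < 848000, data.Holds base s i := fun i hi =>
    Data.okChunk_sound hinv hk hwh hwr just105_3 846000 just105_3_ok k22 i (by rw [just105_3_len]; exact hi)
  have k24 : ∀ i < 850000, data.Holds base s i := fun i hi =>
    Data.okChunk_sound hinv hk hwh hwr just106_0 848000 just106_0_ok k23 i (by rw [just106_0_len]; exact hi)
  exact k24

theorem holds17 {Ω : Type} (base : Ω) (s : ℕ → Ω → Ω) (hinv : ∀ x v, s x (s x v) = v) (hk : ∀ v, s data.k v = v)
    (hwh : ∀ w < data.nh, run s (wordOf (data.words.get w)) base = base)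
    (hwr : ∀ w, data.nh ≤ w → w < data.nw → ∀ v, run s (wordOf (data.words.get w)) v = v)
    (h0 : ∀ i < 850000, data.Holds base s i) : ∀ i < 900000, data.Holds base s i := by
  have k0 : ∀ i < 852000, data.Holds base s i := fun i hi =>
    Data.okChunk_sound hinv hk hwh hwr just106_1 850000 just106_1_ok h0 i (by rw [just106_1_len]; exact hi)
  have k1 : ∀ i < 854000, data.Holds base s i := fun i hi =>
    Data.okChunk_sound hinv hk hwh hwr just106_2 852000 just106_2_ok k0 i (by rw [just106_2_len]; exact hi)
  have k2 : ∀ i < 856000, data.Holds base s i := fun i hi =>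
    Data.okChunk_sound hinv hk hwh hwr just106_3 854000 just106_3_ok k1 i (by rw [just106_3_len]; exact hi)
  have k3 : ∀ i < 858000, data.Holds base s i := fun i hi =>
    Data.okChunk_sound hinv hk hwh hwr just107_0 856000 just107_0_ok k2 i (by rw [just107_0_len]; exact hi)
  have k4 : ∀ i < 860000, data.Holds base s i := fun i hi =>
    Data.okChunk_sound hinv hk hwh hwr just107_1 858000 just107_1_ok k3 i (by rw [just107_1_len]; exact hi)
  have k5 : ∀ i < 862000, data.Holds base s i := fun i hi =>
    Data.okChunk_sound hinv hk hwh hwr just107_2 860000 just107_2_ok k4 i (by rw [just107_2_len]; exact hi)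
  have k6 : ∀ i < 864000, data.Holds base s i := fun i hi =>
    Data.okChunk_sound hinv hk hwh hwr just107_3 862000 just107_3_ok k5 i (by rw [just107_3_len]; exact hi)
  have k7 : ∀ i < 866000, data.Holds base s i := fun i hi =>
    Data.okChunk_sound hinv hk hwh hwr just108_0 864000 just108_0_ok k6 i (by rw [just108_0_len]; exact hi)
  have k8 : ∀ i < 868000, data.Holds base s i := fun i hi =>
    Data.okChunk_sound hinv hk hwh hwr just108_1 866000 just108_1_ok k7 i (by rw [just108_1_len]; exact hi)
  have k9 : ∀ i < 870000, data.Holds base s i := fun i hi =>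
    Data.okChunk_sound hinv hk hwh hwr just108_2 868000 just108_2_ok k8 i (by rw [just108_2_len]; exact hi)
  have k10 : ∀ i < 872000, data.Holds base s i := fun i hi =>
    Data.okChunk_sound hinv hk hwh hwr just108_3 870000 just108_3_ok k9 i (by rw [just108_3_len]; exact hi)
  have k11 : ∀ i < 874000, data.Holds base s i := fun i hi =>
    Data.okChunk_sound hinv hk hwh hwr just109_0 872000 just109_0_ok k10 i (by rw [just109_0_len]; exact hi)
  have k12 : ∀ i < 876000, data.Holds base s i := fun i hi =>
    Data.okChunk_sound hinv hk hwh hwr just109_1 874000 just109_1_ok k11 i (by rw [just109_1_len]; exact hi)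
  have k13 : ∀ i < 878000, data.Holds base s i := fun i hi =>
    Data.okChunk_sound hinv hk hwh hwr just109_2 876000 just109_2_ok k12 i (by rw [just109_2_len]; exact hi)
  have k14 : ∀ i < 880000, data.Holds base s i := fun i hi =>
    Data.okChunk_sound hinv hk hwh hwr just109_3 878000 just109_3_ok k13 i (by rw [just109_3_len]; exact hi)
  have k15 : ∀ i < 882000, data.Holds base s i := fun i hi =>
    Data.okChunk_sound hinv hk hwh hwr just110_0 880000 just110_0_ok k14 i (by rw [just110_0_len]; exact hi)
  have k16 : ∀ i < 884000, data.Holds base s i := fun i hi =>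
    Data.okChunk_sound hinv hk hwh hwr just110_1 882000 just110_1_ok k15 i (by rw [just110_1_len]; exact hi)
  have k17 : ∀ i < 886000, data.Holds base s i := fun i hi =>
    Data.okChunk_sound hinv hk hwh hwr just110_2 884000 just110_2_ok k16 i (by rw [just110_2_len]; exact hi)
  have k18 : ∀ i < 888000, data.Holds base s i := fun i hi =>
    Data.okChunk_sound hinv hk hwh hwr just110_3 886000 just110_3_ok k17 i (by rw [just110_3_len]; exact hi)
  have k19 : ∀ i < 890000, data.Holds base s i := fun i hi =>
    Data.okChunk_sound hinv hk hwh hwr just111_0 888000 just111_0_ok k18 i (by rw [just111_0_len]; exact hi)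
  have k20 : ∀ i < 892000, data.Holds base s i := fun i hi =>
    Data.okChunk_sound hinv hk hwh hwr just111_1 890000 just111_1_ok k19 i (by rw [just111_1_len]; exact hi)
  have k21 : ∀ i < 894000, data.Holds base s i := fun i hi =>
    Data.okChunk_sound hinv hk hwh hwr just111_2 892000 just111_2_ok k20 i (by rw [just111_2_len]; exact hi)
  have k22 : ∀ i < 896000, data.Holds base s i := fun i hi =>
    Data.okChunk_sound hinv hk hwh hwr just111_3 894000 just111_3_ok k21 i (by rw [just111_3_len]; exact hi)
  have k23 : ∀ i < 898000, data.Holds base s i := fun i hi =>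
    Data.okChunk_sound hinv hk hwh hwr just112_0 896000 just112_0_ok k22 i (by rw [just112_0_len]; exact hi)
  have k24 : ∀ i < 900000, data.Holds base s i := fun i hi =>
    Data.okChunk_sound hinv hk hwh hwr just112_1 898000 just112_1_ok k23 i (by rw [just112_1_len]; exact hi)
  exact k24

theorem holds18 {Ω : Type} (base : Ω) (s : ℕ → Ω → Ω) (hinv : ∀ x v, s x (s x v) = v) (hk : ∀ v, s data.k v = v)
    (hwh : ∀ w < data.nh, run s (wordOf (data.words.get w)) base = base)
    (hwr : ∀ w, data.nh ≤ w → w < data.nw → ∀ v, run s (wordOf (data.words.get w)) v = v)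
    (h0 : ∀ i < 900000, data.Holds base s i) : ∀ i < 950000, data.Holds base s i := by
  have k0 : ∀ i < 902000, data.Holds base s i := fun i hi =>
    Data.okChunk_sound hinv hk hwh hwr just112_2 900000 just112_2_ok h0 i (by rw [just112_2_len]; exact hi)
  have k1 : ∀ i < 904000, data.Holds base s i := fun i hi =>
    Data.okChunk_sound hinv hk hwh hwr just112_3 902000 just112_3_ok k0 i (by rw [just112_3_len]; exact hi)
  have k2 : ∀ i < 906000, data.Holds base s i := fun i hi =>
    Data.okChunk_sound hinv hk hwh hwr just113_0 904000 just113_0_ok k1 i (by rw [just113_0_len]; exact hi)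
  have k3 : ∀ i < 908000, data.Holds base s i := fun i hi =>
    Data.okChunk_sound hinv hk hwh hwr just113_1 906000 just113_1_ok k2 i (by rw [just113_1_len]; exact hi)
  have k4 : ∀ i < 910000, data.Holds base s i := fun i hi =>
    Data.okChunk_sound hinv hk hwh hwr just113_2 908000 just113_2_ok k3 i (by rw [just113_2_len]; exact hi)
  have k5 : ∀ i < 912000, data.Holds base s i := fun i hi =>
    Data.okChunk_sound hinv hk hwh hwr just113_3 910000 just113_3_ok k4 i (by rw [just113_3_len]; exact hi)
  have k6 : ∀ i < 914000, data.Holds base s i := fun i hi =>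
    Data.okChunk_sound hinv hk hwh hwr just114_0 912000 just114_0_ok k5 i (by rw [just114_0_len]; exact hi)
  have k7 : ∀ i < 916000, data.Holds base s i := fun i hi =>
    Data.okChunk_sound hinv hk hwh hwr just114_1 914000 just114_1_ok k6 i (by rw [just114_1_len]; exact hi)
  have k8 : ∀ i < 918000, data.Holds base s i := fun i hi =>
    Data.okChunk_sound hinv hk hwh hwr just114_2 916000 just114_2_ok k7 i (by rw [just114_2_len]; exact hi)
  have k9 : ∀ i < 920000, data.Holds base s i := fun i hi =>
    Data.okChunk_sound hinv hk hwh hwr just114_3 918000 just114_3_ok k8 i (by rw [just114_3_len]; exact hi)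
  have k10 : ∀ i < 922000, data.Holds base s i := fun i hi =>
    Data.okChunk_sound hinv hk hwh hwr just115_0 920000 just115_0_ok k9 i (by rw [just115_0_len]; exact hi)
  have k11 : ∀ i < 924000, data.Holds base s i := fun i hi =>
    Data.okChunk_sound hinv hk hwh hwr just115_1 922000 just115_1_ok k10 i (by rw [just115_1_len]; exact hi)
  have k12 : ∀ i < 926000, data.Holds base s i := fun i hi =>
    Data.okChunk_sound hinv hk hwh hwr just115_2 924000 just115_2_ok k11 i (by rw [just115_2_len]; exact hi)
  have k13 : ∀ i < 928000, data.Holds base s i := fun i hi =>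
    Data.okChunk_sound hinv hk hwh hwr just115_3 926000 just115_3_ok k12 i (by rw [just115_3_len]; exact hi)
  have k14 : ∀ i < 930000, data.Holds base s i := fun i hi =>
    Data.okChunk_sound hinv hk hwh hwr just116_0 928000 just116_0_ok k13 i (by rw [just116_0_len]; exact hi)
  have k15 : ∀ i < 932000, data.Holds base s i := fun i hi =>
    Data.okChunk_sound hinv hk hwh hwr just116_1 930000 just116_1_ok k14 i (by rw [just116_1_len]; exact hi)
  have k16 : ∀ i < 934000, data.Holds base s i := fun i hi =>
    Data.okChunk_sound hinv hk hwh hwr just116_2 932000 just116_2_ok k15 i (by rw [just116_2_len]; exact hi)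
  have k17 : ∀ i < 936000, data.Holds base s i := fun i hi =>
    Data.okChunk_sound hinv hk hwh hwr just116_3 934000 just116_3_ok k16 i (by rw [just116_3_len]; exact hi)
  have k18 : ∀ i < 938000, data.Holds base s i := fun i hi =>
    Data.okChunk_sound hinv hk hwh hwr just117_0 936000 just117_0_ok k17 i (by rw [just117_0_len]; exact hi)
  have k19 : ∀ i < 940000, data.Holds base s i := fun i hi =>
    Data.okChunk_sound hinv hk hwh hwr just117_1 938000 just117_1_ok k18 i (by rw [just117_1_len]; exact hi)
  have k20 : ∀ i < 942000, data.Holds base s i := fun i hi =>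
    Data.okChunk_sound hinv hk hwh hwr just117_2 940000 just117_2_ok k19 i (by rw [just117_2_len]; exact hi)
  have k21 : ∀ i < 944000, data.Holds base s i := fun i hi =>
    Data.okChunk_sound hinv hk hwh hwr just117_3 942000 just117_3_ok k20 i (by rw [just117_3_len]; exact hi)
  have k22 : ∀ i < 946000, data.Holds base s i := fun i hi =>
    Data.okChunk_sound hinv hk hwh hwr just118_0 944000 just118_0_ok k21 i (by rw [just118_0_len]; exact hi)
  have k23 : ∀ i < 948000, data.Holds base s i := fun i hi =>
    Data.okChunk_sound hinv hk hwh hwr just118_1 946000 just118_1_ok k22 i (by rw [just118_1_len]; exact hi)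
  have k24 : ∀ i < 950000, data.Holds base s i := fun i hi =>
    Data.okChunk_sound hinv hk hwh hwr just118_2 948000 just118_2_ok k23 i (by rw [just118_2_len]; exact hi)
  exact k24

theorem holds19 {Ω : Type} (base : Ω) (s : ℕ → Ω → Ω) (hinv : ∀ x v, s x (s x v) = v) (hk : ∀ v, s data.k v = v)
    (hwh : ∀ w < data.nh, run s (wordOf (data.words.get w)) base = base)
    (hwr : ∀ w, data.nh ≤ w → w < data.nw → ∀ v, run s (wordOf (data.words.get w)) v = v)
    (h0 : ∀ i < 950000, data.Holds base s i) : ∀ i < 980686, data.Holds base s i := by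
  have k0 : ∀ i < 952000, data.Holds base s i := fun i hi =>
    Data.okChunk_sound hinv hk hwh hwr just118_3 950000 just118_3_ok h0 i (by rw [just118_3_len]; exact hi)
  have k1 : ∀ i < 954000, data.Holds base s i := fun i hi =>
    Data.okChunk_sound hinv hk hwh hwr just119_0 952000 just119_0_ok k0 i (by rw [just119_0_len]; exact hi)
  have k2 : ∀ i < 956000, data.Holds base s i := fun i hi =>
    Data.okChunk_sound hinv hk hwh hwr just119_1 954000 just119_1_ok k1 i (by rw [just119_1_len]; exact hi)
  have k3 : ∀ i < 958000, data.Holds base s i := fun i hi =>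
    Data.okChunk_sound hinv hk hwh hwr just119_2 956000 just119_2_ok k2 i (by rw [just119_2_len]; exact hi)
  have k4 : ∀ i < 960000, data.Holds base s i := fun i hi =>
    Data.okChunk_sound hinv hk hwh hwr just119_3 958000 just119_3_ok k3 i (by rw [just119_3_len]; exact hi)
  have k5 : ∀ i < 962000, data.Holds base s i := fun i hi =>
    Data.okChunk_sound hinv hk hwh hwr just120_0 960000 just120_0_ok k4 i (by rw [just120_0_len]; exact hi)
  have k6 : ∀ i < 964000, data.Holds base s i := fun i hi =>
    Data.okChunk_sound hinv hk hwh hwr just120_1 962000 just120_1_ok k5 i (by rw [just120_1_len]; exact hi)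
  have k7 : ∀ i < 966000, data.Holds base s i := fun i hi =>
    Data.okChunk_sound hinv hk hwh hwr just120_2 964000 just120_2_ok k6 i (by rw [just120_2_len]; exact hi)
  have k8 : ∀ i < 968000, data.Holds base s i := fun i hi =>
    Data.okChunk_sound hinv hk hwh hwr just120_3 966000 just120_3_ok k7 i (by rw [just120_3_len]; exact hi)
  have k9 : ∀ i < 970000, data.Holds base s i := fun i hi =>
    Data.okChunk_sound hinv hk hwh hwr just121_0 968000 just121_0_ok k8 i (by rw [just121_0_len]; exact hi)
  have k10 : ∀ i < 972000, data.Holds base s i := fun i hi =>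
    Data.okChunk_sound hinv hk hwh hwr just121_1 970000 just121_1_ok k9 i (by rw [just121_1_len]; exact hi)
  have k11 : ∀ i < 974000, data.Holds base s i := fun i hi =>
    Data.okChunk_sound hinv hk hwh hwr just121_2 972000 just121_2_ok k10 i (by rw [just121_2_len]; exact hi)
  have k12 : ∀ i < 976000, data.Holds base s i := fun i hi =>
    Data.okChunk_sound hinv hk hwh hwr just121_3 974000 just121_3_ok k11 i (by rw [just121_3_len]; exact hi)
  have k13 : ∀ i < 978000, data.Holds base s i := fun i hi =>
    Data.okChunk_sound hinv hk hwh hwr just122_0 976000 just122_0_ok k12 i (by rw [just122_0_len]; exact hi)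
  have k14 : ∀ i < 980000, data.Holds base s i := fun i hi =>
    Data.okChunk_sound hinv hk hwh hwr just122_1 978000 just122_1_ok k13 i (by rw [just122_1_len]; exact hi)
  have k15 : ∀ i < 980686, data.Holds base s i := fun i hi =>
    Data.okChunk_sound hinv hk hwh hwr just122_2 980000 just122_2_ok k14 i (by rw [just122_2_len]; exact hi)
  exact k15

theorem holds {Ω : Type} (base : Ω) (s : ℕ → Ω → Ω) (hinv : ∀ x v, s x (s x v) = v) (hk : ∀ v, s data.k v = v)
    (hwh : ∀ w < data.nh, run s (wordOf (data.words.get w)) base = base)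
    (hwr : ∀ w, data.nh ≤ w → w < data.nw → ∀ v, run s (wordOf (data.words.get w)) v = v) :
    ∀ i < 980686, data.Holds base s i := by
  have h0 : ∀ i < 0, data.Holds base s i := fun i hi => absurd hi (Nat.not_lt_zero i)
  have q0 := holds0 base s hinv hk hwh hwr h0
  have q1 := holds1 base s hinv hk hwh hwr q0
  have q2 := holds2 base s hinv hk hwh hwr q1
  have q3 := holds3 base s hinv hk hwh hwr q2
  have q4 := holds4 base s hinv hk hwh hwr q3
  have q5 := holds5 base s hinv hk hwh hwr q4
  have q6 := holds6 base s hinv hk hwh hwr q5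
  have q7 := holds7 base s hinv hk hwh hwr q6
  have q8 := holds8 base s hinv hk hwh hwr q7
  have q9 := holds9 base s hinv hk hwh hwr q8
  have q10 := holds10 base s hinv hk hwh hwr q9
  have q11 := holds11 base s hinv hk hwh hwr q10
  have q12 := holds12 base s hinv hk hwh hwr q11
  have q13 := holds13 base s hinv hk hwh hwr q12
  have q14 := holds14 base s hinv hk hwh hwr q13
  have q15 := holds15 base s hinv hk hwh hwr q14
  have q16 := holds16 base s hinv hk hwh hwr q15
  have q17 := holds17 base s hinv hk hwh hwr q16
  have q18 := holds18 base s hinv hk hwh hwr q17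
  have q19 := holds19 base s hinv hk hwh hwr q18
  exact q19

theorem rows0 {Ω : Type} (base : Ω) (s : ℕ → Ω → Ω) (hinv : ∀ x v, s x (s x v) = v) (hk : ∀ v, s data.k v = v)
    (hwh : ∀ w < data.nh, run s (wordOf (data.words.get w)) base = base)
    (hwr : ∀ w, data.nh ≤ w → w < data.nw → ∀ v, run s (wordOf (data.words.get w)) v = v)
    (h0 : ∀ d < 0, RowOK data table base s d) : ∀ d < 25000, RowOK data table base s d := by
  have hf := holds base s hinv hk hwh hwr
  have hk16 : data.k < 16 := show 7 < 16 by decide
  have k0 : ∀ d < 1000, RowOK data table base s d := fun d hd =>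
    okRows_sound hinv hk hk16 hf rows0_0 0 rows0_0_ok h0 d (by rw [rows0_0_len]; exact hd)
  have k1 : ∀ d < 2000, RowOK data table base s d := fun d hd =>
    okRows_sound hinv hk hk16 hf rows0_1 1000 rows0_1_ok k0 d (by rw [rows0_1_len]; exact hd)
  have k2 : ∀ d < 3000, RowOK data table base s d := fun d hd =>
    okRows_sound hinv hk hk16 hf rows0_2 2000 rows0_2_ok k1 d (by rw [rows0_2_len]; exact hd)
  have k3 : ∀ d < 4000, RowOK data table base s d := fun d hd =>
    okRows_sound hinv hk hk16 hf rows0_3 3000 rows0_3_ok k2 d (by rw [rows0_3_len]; exact hd)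
  have k4 : ∀ d < 5000, RowOK data table base s d := fun d hd =>
    okRows_sound hinv hk hk16 hf rows1_0 4000 rows1_0_ok k3 d (by rw [rows1_0_len]; exact hd)
  have k5 : ∀ d < 6000, RowOK data table base s d := fun d hd =>
    okRows_sound hinv hk hk16 hf rows1_1 5000 rows1_1_ok k4 d (by rw [rows1_1_len]; exact hd)
  have k6 : ∀ d < 7000, RowOK data table base s d := fun d hd =>
    okRows_sound hinv hk hk16 hf rows1_2 6000 rows1_2_ok k5 d (by rw [rows1_2_len]; exact hd)
  have k7 : ∀ d < 8000, RowOK data table base s d := fun d hd =>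
    okRows_sound hinv hk hk16 hf rows1_3 7000 rows1_3_ok k6 d (by rw [rows1_3_len]; exact hd)
  have k8 : ∀ d < 9000, RowOK data table base s d := fun d hd =>
    okRows_sound hinv hk hk16 hf rows2_0 8000 rows2_0_ok k7 d (by rw [rows2_0_len]; exact hd)
  have k9 : ∀ d < 10000, RowOK data table base s d := fun d hd =>
    okRows_sound hinv hk hk16 hf rows2_1 9000 rows2_1_ok k8 d (by rw [rows2_1_len]; exact hd)
  have k10 : ∀ d < 11000, RowOK data table base s d := fun d hd =>
    okRows_sound hinv hk hk16 hf rows2_2 10000 rows2_2_ok k9 d (by rw [rows2_2_len]; exact hd)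
  have k11 : ∀ d < 12000, RowOK data table base s d := fun d hd =>
    okRows_sound hinv hk hk16 hf rows2_3 11000 rows2_3_ok k10 d (by rw [rows2_3_len]; exact hd)
  have k12 : ∀ d < 13000, RowOK data table base s d := fun d hd =>
    okRows_sound hinv hk hk16 hf rows3_0 12000 rows3_0_ok k11 d (by rw [rows3_0_len]; exact hd)
  have k13 : ∀ d < 14000, RowOK data table base s d := fun d hd =>
    okRows_sound hinv hk hk16 hf rows3_1 13000 rows3_1_ok k12 d (by rw [rows3_1_len]; exact hd)
  have k14 : ∀ d < 15000, RowOK data table base s d := fun d hd =>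
    okRows_sound hinv hk hk16 hf rows3_2 14000 rows3_2_ok k13 d (by rw [rows3_2_len]; exact hd)
  have k15 : ∀ d < 16000, RowOK data table base s d := fun d hd =>
    okRows_sound hinv hk hk16 hf rows3_3 15000 rows3_3_ok k14 d (by rw [rows3_3_len]; exact hd)
  have k16 : ∀ d < 17000, RowOK data table base s d := fun d hd =>
    okRows_sound hinv hk hk16 hf rows4_0 16000 rows4_0_ok k15 d (by rw [rows4_0_len]; exact hd)
  have k17 : ∀ d < 18000, RowOK data table base s d := fun d hd =>
    okRows_sound hinv hk hk16 hf rows4_1 17000 rows4_1_ok k16 d (by rw [rows4_1_len]; exact hd)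
  have k18 : ∀ d < 19000, RowOK data table base s d := fun d hd =>
    okRows_sound hinv hk hk16 hf rows4_2 18000 rows4_2_ok k17 d (by rw [rows4_2_len]; exact hd)
  have k19 : ∀ d < 20000, RowOK data table base s d := fun d hd =>
    okRows_sound hinv hk hk16 hf rows4_3 19000 rows4_3_ok k18 d (by rw [rows4_3_len]; exact hd)
  have k20 : ∀ d < 21000, RowOK data table base s d := fun d hd =>
    okRows_sound hinv hk hk16 hf rows5_0 20000 rows5_0_ok k19 d (by rw [rows5_0_len]; exact hd)
  have k21 : ∀ d < 22000, RowOK data table base s d := fun d hd =>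
    okRows_sound hinv hk hk16 hf rows5_1 21000 rows5_1_ok k20 d (by rw [rows5_1_len]; exact hd)
  have k22 : ∀ d < 23000, RowOK data table base s d := fun d hd =>
    okRows_sound hinv hk hk16 hf rows5_2 22000 rows5_2_ok k21 d (by rw [rows5_2_len]; exact hd)
  have k23 : ∀ d < 24000, RowOK data table base s d := fun d hd =>
    okRows_sound hinv hk hk16 hf rows5_3 23000 rows5_3_ok k22 d (by rw [rows5_3_len]; exact hd)
  have k24 : ∀ d < 25000, RowOK data table base s d := fun d hd =>
    okRows_sound hinv hk hk16 hf rows6_0 24000 rows6_0_ok k23 d (by rw [rows6_0_len]; exact hd)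
  exact k24

theorem rows1 {Ω : Type} (base : Ω) (s : ℕ → Ω → Ω) (hinv : ∀ x v, s x (s x v) = v) (hk : ∀ v, s data.k v = v)
    (hwh : ∀ w < data.nh, run s (wordOf (data.words.get w)) base = base)
    (hwr : ∀ w, data.nh ≤ w → w < data.nw → ∀ v, run s (wordOf (data.words.get w)) v = v)
    (h0 : ∀ d < 25000, RowOK data table base s d) : ∀ d < 50000, RowOK data table base s d := by
  have hf := holds base s hinv hk hwh hwr
  have hk16 : data.k < 16 := show 7 < 16 by decide
  have k0 : ∀ d < 26000, RowOK data table base s d := fun d hd =>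
    okRows_sound hinv hk hk16 hf rows6_1 25000 rows6_1_ok h0 d (by rw [rows6_1_len]; exact hd)
  have k1 : ∀ d < 27000, RowOK data table base s d := fun d hd =>
    okRows_sound hinv hk hk16 hf rows6_2 26000 rows6_2_ok k0 d (by rw [rows6_2_len]; exact hd)
  have k2 : ∀ d < 28000, RowOK data table base s d := fun d hd =>
    okRows_sound hinv hk hk16 hf rows6_3 27000 rows6_3_ok k1 d (by rw [rows6_3_len]; exact hd)
  have k3 : ∀ d < 29000, RowOK data table base s d := fun d hd =>
    okRows_sound hinv hk hk16 hf rows7_0 28000 rows7_0_ok k2 d (by rw [rows7_0_len]; exact hd)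
  have k4 : ∀ d < 30000, RowOK data table base s d := fun d hd =>
    okRows_sound hinv hk hk16 hf rows7_1 29000 rows7_1_ok k3 d (by rw [rows7_1_len]; exact hd)
  have k5 : ∀ d < 31000, RowOK data table base s d := fun d hd =>
    okRows_sound hinv hk hk16 hf rows7_2 30000 rows7_2_ok k4 d (by rw [rows7_2_len]; exact hd)
  have k6 : ∀ d < 32000, RowOK data table base s d := fun d hd =>
    okRows_sound hinv hk hk16 hf rows7_3 31000 rows7_3_ok k5 d (by rw [rows7_3_len]; exact hd)
  have k7 : ∀ d < 33000, RowOK data table base s d := fun d hd =>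
    okRows_sound hinv hk hk16 hf rows8_0 32000 rows8_0_ok k6 d (by rw [rows8_0_len]; exact hd)
  have k8 : ∀ d < 34000, RowOK data table base s d := fun d hd =>
    okRows_sound hinv hk hk16 hf rows8_1 33000 rows8_1_ok k7 d (by rw [rows8_1_len]; exact hd)
  have k9 : ∀ d < 35000, RowOK data table base s d := fun d hd =>
    okRows_sound hinv hk hk16 hf rows8_2 34000 rows8_2_ok k8 d (by rw [rows8_2_len]; exact hd)
  have k10 : ∀ d < 36000, RowOK data table base s d := fun d hd =>
    okRows_sound hinv hk hk16 hf rows8_3 35000 rows8_3_ok k9 d (by rw [rows8_3_len]; exact hd)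
  have k11 : ∀ d < 37000, RowOK data table base s d := fun d hd =>
    okRows_sound hinv hk hk16 hf rows9_0 36000 rows9_0_ok k10 d (by rw [rows9_0_len]; exact hd)
  have k12 : ∀ d < 38000, RowOK data table base s d := fun d hd =>
    okRows_sound hinv hk hk16 hf rows9_1 37000 rows9_1_ok k11 d (by rw [rows9_1_len]; exact hd)
  have k13 : ∀ d < 39000, RowOK data table base s d := fun d hd =>
    okRows_sound hinv hk hk16 hf rows9_2 38000 rows9_2_ok k12 d (by rw [rows9_2_len]; exact hd)
  have k14 : ∀ d < 40000, RowOK data table base s d := fun d hd =>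
    okRows_sound hinv hk hk16 hf rows9_3 39000 rows9_3_ok k13 d (by rw [rows9_3_len]; exact hd)
  have k15 : ∀ d < 41000, RowOK data table base s d := fun d hd =>
    okRows_sound hinv hk hk16 hf rows10_0 40000 rows10_0_ok k14 d (by rw [rows10_0_len]; exact hd)
  have k16 : ∀ d < 42000, RowOK data table base s d := fun d hd =>
    okRows_sound hinv hk hk16 hf rows10_1 41000 rows10_1_ok k15 d (by rw [rows10_1_len]; exact hd)
  have k17 : ∀ d < 43000, RowOK data table base s d := fun d hd =>
    okRows_sound hinv hk hk16 hf rows10_2 42000 rows10_2_ok k16 d (by rw [rows10_2_len]; exact hd)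
  have k18 : ∀ d < 44000, RowOK data table base s d := fun d hd =>
    okRows_sound hinv hk hk16 hf rows10_3 43000 rows10_3_ok k17 d (by rw [rows10_3_len]; exact hd)
  have k19 : ∀ d < 45000, RowOK data table base s d := fun d hd =>
    okRows_sound hinv hk hk16 hf rows11_0 44000 rows11_0_ok k18 d (by rw [rows11_0_len]; exact hd)
  have k20 : ∀ d < 46000, RowOK data table base s d := fun d hd =>
    okRows_sound hinv hk hk16 hf rows11_1 45000 rows11_1_ok k19 d (by rw [rows11_1_len]; exact hd)
  have k21 : ∀ d < 47000, RowOK data table base s d := fun d hd =>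
    okRows_sound hinv hk hk16 hf rows11_2 46000 rows11_2_ok k20 d (by rw [rows11_2_len]; exact hd)
  have k22 : ∀ d < 48000, RowOK data table base s d := fun d hd =>
    okRows_sound hinv hk hk16 hf rows11_3 47000 rows11_3_ok k21 d (by rw [rows11_3_len]; exact hd)
  have k23 : ∀ d < 49000, RowOK data table base s d := fun d hd =>
    okRows_sound hinv hk hk16 hf rows12_0 48000 rows12_0_ok k22 d (by rw [rows12_0_len]; exact hd)
  have k24 : ∀ d < 50000, RowOK data table base s d := fun d hd =>
    okRows_sound hinv hk hk16 hf rows12_1 49000 rows12_1_ok k23 d (by rw [rows12_1_len]; exact hd)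
  exact k24

theorem rows2 {Ω : Type} (base : Ω) (s : ℕ → Ω → Ω) (hinv : ∀ x v, s x (s x v) = v) (hk : ∀ v, s data.k v = v)
    (hwh : ∀ w < data.nh, run s (wordOf (data.words.get w)) base = base)
    (hwr : ∀ w, data.nh ≤ w → w < data.nw → ∀ v, run s (wordOf (data.words.get w)) v = v)
    (h0 : ∀ d < 50000, RowOK data table base s d) : ∀ d < 75000, RowOK data table base s d := by
  have hf := holds base s hinv hk hwh hwr
  have hk16 : data.k < 16 := show 7 < 16 by decide
  have k0 : ∀ d < 51000, RowOK data table base s d := fun d hd =>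
    okRows_sound hinv hk hk16 hf rows12_2 50000 rows12_2_ok h0 d (by rw [rows12_2_len]; exact hd)
  have k1 : ∀ d < 52000, RowOK data table base s d := fun d hd =>
    okRows_sound hinv hk hk16 hf rows12_3 51000 rows12_3_ok k0 d (by rw [rows12_3_len]; exact hd)
  have k2 : ∀ d < 53000, RowOK data table base s d := fun d hd =>
    okRows_sound hinv hk hk16 hf rows13_0 52000 rows13_0_ok k1 d (by rw [rows13_0_len]; exact hd)
  have k3 : ∀ d < 54000, RowOK data table base s d := fun d hd =>
    okRows_sound hinv hk hk16 hf rows13_1 53000 rows13_1_ok k2 d (by rw [rows13_1_len]; exact hd)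
  have k4 : ∀ d < 55000, RowOK data table base s d := fun d hd =>
    okRows_sound hinv hk hk16 hf rows13_2 54000 rows13_2_ok k3 d (by rw [rows13_2_len]; exact hd)
  have k5 : ∀ d < 56000, RowOK data table base s d := fun d hd =>
    okRows_sound hinv hk hk16 hf rows13_3 55000 rows13_3_ok k4 d (by rw [rows13_3_len]; exact hd)
  have k6 : ∀ d < 57000, RowOK data table base s d := fun d hd =>
    okRows_sound hinv hk hk16 hf rows14_0 56000 rows14_0_ok k5 d (by rw [rows14_0_len]; exact hd)
  have k7 : ∀ d < 58000, RowOK data table base s d := fun d hd =>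
    okRows_sound hinv hk hk16 hf rows14_1 57000 rows14_1_ok k6 d (by rw [rows14_1_len]; exact hd)
  have k8 : ∀ d < 59000, RowOK data table base s d := fun d hd =>
    okRows_sound hinv hk hk16 hf rows14_2 58000 rows14_2_ok k7 d (by rw [rows14_2_len]; exact hd)
  have k9 : ∀ d < 60000, RowOK data table base s d := fun d hd =>
    okRows_sound hinv hk hk16 hf rows14_3 59000 rows14_3_ok k8 d (by rw [rows14_3_len]; exact hd)
  have k10 : ∀ d < 61000, RowOK data table base s d := fun d hd =>
    okRows_sound hinv hk hk16 hf rows15_0 60000 rows15_0_ok k9 d (by rw [rows15_0_len]; exact hd)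
  have k11 : ∀ d < 62000, RowOK data table base s d := fun d hd =>
    okRows_sound hinv hk hk16 hf rows15_1 61000 rows15_1_ok k10 d (by rw [rows15_1_len]; exact hd)
  have k12 : ∀ d < 63000, RowOK data table base s d := fun d hd =>
    okRows_sound hinv hk hk16 hf rows15_2 62000 rows15_2_ok k11 d (by rw [rows15_2_len]; exact hd)
  have k13 : ∀ d < 64000, RowOK data table base s d := fun d hd =>
    okRows_sound hinv hk hk16 hf rows15_3 63000 rows15_3_ok k12 d (by rw [rows15_3_len]; exact hd)
  have k14 : ∀ d < 65000, RowOK data table base s d := fun d hd =>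
    okRows_sound hinv hk hk16 hf rows16_0 64000 rows16_0_ok k13 d (by rw [rows16_0_len]; exact hd)
  have k15 : ∀ d < 66000, RowOK data table base s d := fun d hd =>
    okRows_sound hinv hk hk16 hf rows16_1 65000 rows16_1_ok k14 d (by rw [rows16_1_len]; exact hd)
  have k16 : ∀ d < 67000, RowOK data table base s d := fun d hd =>
    okRows_sound hinv hk hk16 hf rows16_2 66000 rows16_2_ok k15 d (by rw [rows16_2_len]; exact hd)
  have k17 : ∀ d < 68000, RowOK data table base s d := fun d hd =>
    okRows_sound hinv hk hk16 hf rows16_3 67000 rows16_3_ok k16 d (by rw [rows16_3_len]; exact hd)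
  have k18 : ∀ d < 69000, RowOK data table base s d := fun d hd =>
    okRows_sound hinv hk hk16 hf rows17_0 68000 rows17_0_ok k17 d (by rw [rows17_0_len]; exact hd)
  have k19 : ∀ d < 70000, RowOK data table base s d := fun d hd =>
    okRows_sound hinv hk hk16 hf rows17_1 69000 rows17_1_ok k18 d (by rw [rows17_1_len]; exact hd)
  have k20 : ∀ d < 71000, RowOK data table base s d := fun d hd =>
    okRows_sound hinv hk hk16 hf rows17_2 70000 rows17_2_ok k19 d (by rw [rows17_2_len]; exact hd)
  have k21 : ∀ d < 72000, RowOK data table base s d := fun d hd =>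
    okRows_sound hinv hk hk16 hf rows17_3 71000 rows17_3_ok k20 d (by rw [rows17_3_len]; exact hd)
  have k22 : ∀ d < 73000, RowOK data table base s d := fun d hd =>
    okRows_sound hinv hk hk16 hf rows18_0 72000 rows18_0_ok k21 d (by rw [rows18_0_len]; exact hd)
  have k23 : ∀ d < 74000, RowOK data table base s d := fun d hd =>
    okRows_sound hinv hk hk16 hf rows18_1 73000 rows18_1_ok k22 d (by rw [rows18_1_len]; exact hd)
  have k24 : ∀ d < 75000, RowOK data table base s d := fun d hd =>
    okRows_sound hinv hk hk16 hf rows18_2 74000 rows18_2_ok k23 d (by rw [rows18_2_len]; exact hd)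
  exact k24

theorem rows3 {Ω : Type} (base : Ω) (s : ℕ → Ω → Ω) (hinv : ∀ x v, s x (s x v) = v) (hk : ∀ v, s data.k v = v)
    (hwh : ∀ w < data.nh, run s (wordOf (data.words.get w)) base = base)
    (hwr : ∀ w, data.nh ≤ w → w < data.nw → ∀ v, run s (wordOf (data.words.get w)) v = v)
    (h0 : ∀ d < 75000, RowOK data table base s d) : ∀ d < 100000, RowOK data table base s d := by
  have hf := holds base s hinv hk hwh hwr
  have hk16 : data.k < 16 := show 7 < 16 by decide
  have k0 : ∀ d < 76000, RowOK data table base s d := fun d hd =>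
    okRows_sound hinv hk hk16 hf rows18_3 75000 rows18_3_ok h0 d (by rw [rows18_3_len]; exact hd)
  have k1 : ∀ d < 77000, RowOK data table base s d := fun d hd =>
    okRows_sound hinv hk hk16 hf rows19_0 76000 rows19_0_ok k0 d (by rw [rows19_0_len]; exact hd)
  have k2 : ∀ d < 78000, RowOK data table base s d := fun d hd =>
    okRows_sound hinv hk hk16 hf rows19_1 77000 rows19_1_ok k1 d (by rw [rows19_1_len]; exact hd)
  have k3 : ∀ d < 79000, RowOK data table base s d := fun d hd =>
    okRows_sound hinv hk hk16 hf rows19_2 78000 rows19_2_ok k2 d (by rw [rows19_2_len]; exact hd)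
  have k4 : ∀ d < 80000, RowOK data table base s d := fun d hd =>
    okRows_sound hinv hk hk16 hf rows19_3 79000 rows19_3_ok k3 d (by rw [rows19_3_len]; exact hd)
  have k5 : ∀ d < 81000, RowOK data table base s d := fun d hd =>
    okRows_sound hinv hk hk16 hf rows20_0 80000 rows20_0_ok k4 d (by rw [rows20_0_len]; exact hd)
  have k6 : ∀ d < 82000, RowOK data table base s d := fun d hd =>
    okRows_sound hinv hk hk16 hf rows20_1 81000 rows20_1_ok k5 d (by rw [rows20_1_len]; exact hd)
  have k7 : ∀ d < 83000, RowOK data table base s d := fun d hd =>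
    okRows_sound hinv hk hk16 hf rows20_2 82000 rows20_2_ok k6 d (by rw [rows20_2_len]; exact hd)
  have k8 : ∀ d < 84000, RowOK data table base s d := fun d hd =>
    okRows_sound hinv hk hk16 hf rows20_3 83000 rows20_3_ok k7 d (by rw [rows20_3_len]; exact hd)
  have k9 : ∀ d < 85000, RowOK data table base s d := fun d hd =>
    okRows_sound hinv hk hk16 hf rows21_0 84000 rows21_0_ok k8 d (by rw [rows21_0_len]; exact hd)
  have k10 : ∀ d < 86000, RowOK data table base s d := fun d hd =>
    okRows_sound hinv hk hk16 hf rows21_1 85000 rows21_1_ok k9 d (by rw [rows21_1_len]; exact hd)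
  have k11 : ∀ d < 87000, RowOK data table base s d := fun d hd =>
    okRows_sound hinv hk hk16 hf rows21_2 86000 rows21_2_ok k10 d (by rw [rows21_2_len]; exact hd)
  have k12 : ∀ d < 88000, RowOK data table base s d := fun d hd =>
    okRows_sound hinv hk hk16 hf rows21_3 87000 rows21_3_ok k11 d (by rw [rows21_3_len]; exact hd)
  have k13 : ∀ d < 89000, RowOK data table base s d := fun d hd =>
    okRows_sound hinv hk hk16 hf rows22_0 88000 rows22_0_ok k12 d (by rw [rows22_0_len]; exact hd)
  have k14 : ∀ d < 90000, RowOK data table base s d := fun d hd =>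
    okRows_sound hinv hk hk16 hf rows22_1 89000 rows22_1_ok k13 d (by rw [rows22_1_len]; exact hd)
  have k15 : ∀ d < 91000, RowOK data table base s d := fun d hd =>
    okRows_sound hinv hk hk16 hf rows22_2 90000 rows22_2_ok k14 d (by rw [rows22_2_len]; exact hd)
  have k16 : ∀ d < 92000, RowOK data table base s d := fun d hd =>
    okRows_sound hinv hk hk16 hf rows22_3 91000 rows22_3_ok k15 d (by rw [rows22_3_len]; exact hd)
  have k17 : ∀ d < 93000, RowOK data table base s d := fun d hd =>
    okRows_sound hinv hk hk16 hf rows23_0 92000 rows23_0_ok k16 d (by rw [rows23_0_len]; exact hd)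
  have k18 : ∀ d < 94000, RowOK data table base s d := fun d hd =>
    okRows_sound hinv hk hk16 hf rows23_1 93000 rows23_1_ok k17 d (by rw [rows23_1_len]; exact hd)
  have k19 : ∀ d < 95000, RowOK data table base s d := fun d hd =>
    okRows_sound hinv hk hk16 hf rows23_2 94000 rows23_2_ok k18 d (by rw [rows23_2_len]; exact hd)
  have k20 : ∀ d < 96000, RowOK data table base s d := fun d hd =>
    okRows_sound hinv hk hk16 hf rows23_3 95000 rows23_3_ok k19 d (by rw [rows23_3_len]; exact hd)
  have k21 : ∀ d < 97000, RowOK data table base s d := fun d hd =>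
    okRows_sound hinv hk hk16 hf rows24_0 96000 rows24_0_ok k20 d (by rw [rows24_0_len]; exact hd)
  have k22 : ∀ d < 98000, RowOK data table base s d := fun d hd =>
    okRows_sound hinv hk hk16 hf rows24_1 97000 rows24_1_ok k21 d (by rw [rows24_1_len]; exact hd)
  have k23 : ∀ d < 99000, RowOK data table base s d := fun d hd =>
    okRows_sound hinv hk hk16 hf rows24_2 98000 rows24_2_ok k22 d (by rw [rows24_2_len]; exact hd)
  have k24 : ∀ d < 100000, RowOK data table base s d := fun d hd =>
    okRows_sound hinv hk hk16 hf rows24_3 99000 rows24_3_ok k23 d (by rw [rows24_3_len]; exact hd)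
  exact k24

theorem rows4 {Ω : Type} (base : Ω) (s : ℕ → Ω → Ω) (hinv : ∀ x v, s x (s x v) = v) (hk : ∀ v, s data.k v = v)
    (hwh : ∀ w < data.nh, run s (wordOf (data.words.get w)) base = base)
    (hwr : ∀ w, data.nh ≤ w → w < data.nw → ∀ v, run s (wordOf (data.words.get w)) v = v)
    (h0 : ∀ d < 100000, RowOK data table base s d) : ∀ d < 122760, RowOK data table base s d := by
  have hf := holds base s hinv hk hwh hwr
  have hk16 : data.k < 16 := show 7 < 16 by decide
  have k0 : ∀ d < 101000, RowOK data table base s d := fun d hd =>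
    okRows_sound hinv hk hk16 hf rows25_0 100000 rows25_0_ok h0 d (by rw [rows25_0_len]; exact hd)
  have k1 : ∀ d < 102000, RowOK data table base s d := fun d hd =>
    okRows_sound hinv hk hk16 hf rows25_1 101000 rows25_1_ok k0 d (by rw [rows25_1_len]; exact hd)
  have k2 : ∀ d < 103000, RowOK data table base s d := fun d hd =>
    okRows_sound hinv hk hk16 hf rows25_2 102000 rows25_2_ok k1 d (by rw [rows25_2_len]; exact hd)
  have k3 : ∀ d < 104000, RowOK data table base s d := fun d hd =>
    okRows_sound hinv hk hk16 hf rows25_3 103000 rows25_3_ok k2 d (by rw [rows25_3_len]; exact hd)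
  have k4 : ∀ d < 105000, RowOK data table base s d := fun d hd =>
    okRows_sound hinv hk hk16 hf rows26_0 104000 rows26_0_ok k3 d (by rw [rows26_0_len]; exact hd)
  have k5 : ∀ d < 106000, RowOK data table base s d := fun d hd =>
    okRows_sound hinv hk hk16 hf rows26_1 105000 rows26_1_ok k4 d (by rw [rows26_1_len]; exact hd)
  have k6 : ∀ d < 107000, RowOK data table base s d := fun d hd =>
    okRows_sound hinv hk hk16 hf rows26_2 106000 rows26_2_ok k5 d (by rw [rows26_2_len]; exact hd)
  have k7 : ∀ d < 108000, RowOK data table base s d := fun d hd =>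
    okRows_sound hinv hk hk16 hf rows26_3 107000 rows26_3_ok k6 d (by rw [rows26_3_len]; exact hd)
  have k8 : ∀ d < 109000, RowOK data table base s d := fun d hd =>
    okRows_sound hinv hk hk16 hf rows27_0 108000 rows27_0_ok k7 d (by rw [rows27_0_len]; exact hd)
  have k9 : ∀ d < 110000, RowOK data table base s d := fun d hd =>
    okRows_sound hinv hk hk16 hf rows27_1 109000 rows27_1_ok k8 d (by rw [rows27_1_len]; exact hd)
  have k10 : ∀ d < 111000, RowOK data table base s d := fun d hd =>
    okRows_sound hinv hk hk16 hf rows27_2 110000 rows27_2_ok k9 d (by rw [rows27_2_len]; exact hd)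
  have k11 : ∀ d < 112000, RowOK data table base s d := fun d hd =>
    okRows_sound hinv hk hk16 hf rows27_3 111000 rows27_3_ok k10 d (by rw [rows27_3_len]; exact hd)
  have k12 : ∀ d < 113000, RowOK data table base s d := fun d hd =>
    okRows_sound hinv hk hk16 hf rows28_0 112000 rows28_0_ok k11 d (by rw [rows28_0_len]; exact hd)
  have k13 : ∀ d < 114000, RowOK data table base s d := fun d hd =>
    okRows_sound hinv hk hk16 hf rows28_1 113000 rows28_1_ok k12 d (by rw [rows28_1_len]; exact hd)
  have k14 : ∀ d < 115000, RowOK data table base s d := fun d hd =>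
    okRows_sound hinv hk hk16 hf rows28_2 114000 rows28_2_ok k13 d (by rw [rows28_2_len]; exact hd)
  have k15 : ∀ d < 116000, RowOK data table base s d := fun d hd =>
    okRows_sound hinv hk hk16 hf rows28_3 115000 rows28_3_ok k14 d (by rw [rows28_3_len]; exact hd)
  have k16 : ∀ d < 117000, RowOK data table base s d := fun d hd =>
    okRows_sound hinv hk hk16 hf rows29_0 116000 rows29_0_ok k15 d (by rw [rows29_0_len]; exact hd)
  have k17 : ∀ d < 118000, RowOK data table base s d := fun d hd =>
    okRows_sound hinv hk hk16 hf rows29_1 117000 rows29_1_ok k16 d (by rw [rows29_1_len]; exact hd)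
  have k18 : ∀ d < 119000, RowOK data table base s d := fun d hd =>
    okRows_sound hinv hk hk16 hf rows29_2 118000 rows29_2_ok k17 d (by rw [rows29_2_len]; exact hd)
  have k19 : ∀ d < 120000, RowOK data table base s d := fun d hd =>
    okRows_sound hinv hk hk16 hf rows29_3 119000 rows29_3_ok k18 d (by rw [rows29_3_len]; exact hd)
  have k20 : ∀ d < 121000, RowOK data table base s d := fun d hd =>
    okRows_sound hinv hk hk16 hf rows30_0 120000 rows30_0_ok k19 d (by rw [rows30_0_len]; exact hd)
  have k21 : ∀ d < 122000, RowOK data table base s d := fun d hd =>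
    okRows_sound hinv hk hk16 hf rows30_1 121000 rows30_1_ok k20 d (by rw [rows30_1_len]; exact hd)
  have k22 : ∀ d < 122760, RowOK data table base s d := fun d hd =>
    okRows_sound hinv hk hk16 hf rows30_2 122000 rows30_2_ok k21 d (by rw [rows30_2_len]; exact hd)
  exact k22

theorem rows {Ω : Type} (base : Ω) (s : ℕ → Ω → Ω) (hinv : ∀ x v, s x (s x v) = v) (hk : ∀ v, s data.k v = v)
    (hwh : ∀ w < data.nh, run s (wordOf (data.words.get w)) base = base)
    (hwr : ∀ w, data.nh ≤ w → w < data.nw → ∀ v, run s (wordOf (data.words.get w)) v = v) :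
    ∀ d < 122760, RowOK data table base s d := by
  have hf := holds base s hinv hk hwh hwr
  have hk16 : data.k < 16 := show 7 < 16 by decide
  have h0 : ∀ d < 0, RowOK data table base s d := fun i hi => absurd hi (Nat.not_lt_zero i)
  have q0 := rows0 base s hinv hk hwh hwr h0
  have q1 := rows1 base s hinv hk hwh hwr q0
  have q2 := rows2 base s hinv hk hwh hwr q1
  have q3 := rows3 base s hinv hk hwh hwr q2
  have q4 := rows4 base s hinv hk hwh hwr q3
  exact q4

theorem points : ∀ d < 122760, PointOK table 7 presON.rels d := by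
  rw [rels_eq]
  have h0 : ∀ d < 0, PointOK table 7 rels d := fun d hd => absurd hd (Nat.not_lt_zero d)
  have h1 : ∀ d < 500, PointOK table 7 rels d := okPoints_sound points0_ok h0
  have h2 : ∀ d < 1000, PointOK table 7 rels d := okPoints_sound points1_ok h1
  have h3 : ∀ d < 1500, PointOK table 7 rels d := okPoints_sound points2_ok h2
  have h4 : ∀ d < 2000, PointOK table 7 rels d := okPoints_sound points3_ok h3
  have h5 : ∀ d < 2500, PointOK table 7 rels d := okPoints_sound points4_ok h4
  have h6 : ∀ d < 3000, PointOK table 7 rels d := okPoints_sound points5_ok h5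
  have h7 : ∀ d < 3500, PointOK table 7 rels d := okPoints_sound points6_ok h6
  have h8 : ∀ d < 4000, PointOK table 7 rels d := okPoints_sound points7_ok h7
  have h9 : ∀ d < 4500, PointOK table 7 rels d := okPoints_sound points8_ok h8
  have h10 : ∀ d < 5000, PointOK table 7 rels d := okPoints_sound points9_ok h9
  have h11 : ∀ d < 5500, PointOK table 7 rels d := okPoints_sound points10_ok h10
  have h12 : ∀ d < 6000, PointOK table 7 rels d := okPoints_sound points11_ok h11
  have h13 : ∀ d < 6500, PointOK table 7 rels d := okPoints_sound points12_ok h12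
  have h14 : ∀ d < 7000, PointOK table 7 rels d := okPoints_sound points13_ok h13
  have h15 : ∀ d < 7500, PointOK table 7 rels d := okPoints_sound points14_ok h14
  have h16 : ∀ d < 8000, PointOK table 7 rels d := okPoints_sound points15_ok h15
  have h17 : ∀ d < 8500, PointOK table 7 rels d := okPoints_sound points16_ok h16
  have h18 : ∀ d < 9000, PointOK table 7 rels d := okPoints_sound points17_ok h17
  have h19 : ∀ d < 9500, PointOK table 7 rels d := okPoints_sound points18_ok h18
  have h20 : ∀ d < 10000, PointOK table 7 rels d := okPoints_sound points19_ok h19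
  have h21 : ∀ d < 10500, PointOK table 7 rels d := okPoints_sound points20_ok h20
  have h22 : ∀ d < 11000, PointOK table 7 rels d := okPoints_sound points21_ok h21
  have h23 : ∀ d < 11500, PointOK table 7 rels d := okPoints_sound points22_ok h22
  have h24 : ∀ d < 12000, PointOK table 7 rels d := okPoints_sound points23_ok h23
  have h25 : ∀ d < 12500, PointOK table 7 rels d := okPoints_sound points24_ok h24
  have h26 : ∀ d < 13000, PointOK table 7 rels d := okPoints_sound points25_ok h25
  have h27 : ∀ d < 13500, PointOK table 7 rels d := okPoints_sound points26_ok h26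
  have h28 : ∀ d < 14000, PointOK table 7 rels d := okPoints_sound points27_ok h27
  have h29 : ∀ d < 14500, PointOK table 7 rels d := okPoints_sound points28_ok h28
  have h30 : ∀ d < 15000, PointOK table 7 rels d := okPoints_sound points29_ok h29
  have h31 : ∀ d < 15500, PointOK table 7 rels d := okPoints_sound points30_ok h30
  have h32 : ∀ d < 16000, PointOK table 7 rels d := okPoints_sound points31_ok h31
  have h33 : ∀ d < 16500, PointOK table 7 rels d := okPoints_sound points32_ok h32
  have h34 : ∀ d < 17000, PointOK table 7 rels d := okPoints_sound points33_ok h33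
  have h35 : ∀ d < 17500, PointOK table 7 rels d := okPoints_sound points34_ok h34
  have h36 : ∀ d < 18000, PointOK table 7 rels d := okPoints_sound points35_ok h35
  have h37 : ∀ d < 18500, PointOK table 7 rels d := okPoints_sound points36_ok h36
  have h38 : ∀ d < 19000, PointOK table 7 rels d := okPoints_sound points37_ok h37
  have h39 : ∀ d < 19500, PointOK table 7 rels d := okPoints_sound points38_ok h38
  have h40 : ∀ d < 20000, PointOK table 7 rels d := okPoints_sound points39_ok h39
  have h41 : ∀ d < 20500, PointOK table 7 rels d := okPoints_sound points40_ok h40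
  have h42 : ∀ d < 21000, PointOK table 7 rels d := okPoints_sound points41_ok h41
  have h43 : ∀ d < 21500, PointOK table 7 rels d := okPoints_sound points42_ok h42
  have h44 : ∀ d < 22000, PointOK table 7 rels d := okPoints_sound points43_ok h43
  have h45 : ∀ d < 22500, PointOK table 7 rels d := okPoints_sound points44_ok h44
  have h46 : ∀ d < 23000, PointOK table 7 rels d := okPoints_sound points45_ok h45
  have h47 : ∀ d < 23500, PointOK table 7 rels d := okPoints_sound points46_ok h46
  have h48 : ∀ d < 24000, PointOK table 7 rels d := okPoints_sound points47_ok h47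
  have h49 : ∀ d < 24500, PointOK table 7 rels d := okPoints_sound points48_ok h48
  have h50 : ∀ d < 25000, PointOK table 7 rels d := okPoints_sound points49_ok h49
  have h51 : ∀ d < 25500, PointOK table 7 rels d := okPoints_sound points50_ok h50
  have h52 : ∀ d < 26000, PointOK table 7 rels d := okPoints_sound points51_ok h51
  have h53 : ∀ d < 26500, PointOK table 7 rels d := okPoints_sound points52_ok h52
  have h54 : ∀ d < 27000, PointOK table 7 rels d := okPoints_sound points53_ok h53
  have h55 : ∀ d < 27500, PointOK table 7 rels d := okPoints_sound points54_ok h54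
  have h56 : ∀ d < 28000, PointOK table 7 rels d := okPoints_sound points55_ok h55
  have h57 : ∀ d < 28500, PointOK table 7 rels d := okPoints_sound points56_ok h56
  have h58 : ∀ d < 29000, PointOK table 7 rels d := okPoints_sound points57_ok h57
  have h59 : ∀ d < 29500, PointOK table 7 rels d := okPoints_sound points58_ok h58
  have h60 : ∀ d < 30000, PointOK table 7 rels d := okPoints_sound points59_ok h59
  have h61 : ∀ d < 30500, PointOK table 7 rels d := okPoints_sound points60_ok h60
  have h62 : ∀ d < 31000, PointOK table 7 rels d := okPoints_sound points61_ok h61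
  have h63 : ∀ d < 31500, PointOK table 7 rels d := okPoints_sound points62_ok h62
  have h64 : ∀ d < 32000, PointOK table 7 rels d := okPoints_sound points63_ok h63
  have h65 : ∀ d < 32500, PointOK table 7 rels d := okPoints_sound points64_ok h64
  have h66 : ∀ d < 33000, PointOK table 7 rels d := okPoints_sound points65_ok h65
  have h67 : ∀ d < 33500, PointOK table 7 rels d := okPoints_sound points66_ok h66
  have h68 : ∀ d < 34000, PointOK table 7 rels d := okPoints_sound points67_ok h67
  have h69 : ∀ d < 34500, PointOK table 7 rels d := okPoints_sound points68_ok h68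
  have h70 : ∀ d < 35000, PointOK table 7 rels d := okPoints_sound points69_ok h69
  have h71 : ∀ d < 35500, PointOK table 7 rels d := okPoints_sound points70_ok h70
  have h72 : ∀ d < 36000, PointOK table 7 rels d := okPoints_sound points71_ok h71
  have h73 : ∀ d < 36500, PointOK table 7 rels d := okPoints_sound points72_ok h72
  have h74 : ∀ d < 37000, PointOK table 7 rels d := okPoints_sound points73_ok h73
  have h75 : ∀ d < 37500, PointOK table 7 rels d := okPoints_sound points74_ok h74
  have h76 : ∀ d < 38000, PointOK table 7 rels d := okPoints_sound points75_ok h75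
  have h77 : ∀ d < 38500, PointOK table 7 rels d := okPoints_sound points76_ok h76
  have h78 : ∀ d < 39000, PointOK table 7 rels d := okPoints_sound points77_ok h77
  have h79 : ∀ d < 39500, PointOK table 7 rels d := okPoints_sound points78_ok h78
  have h80 : ∀ d < 40000, PointOK table 7 rels d := okPoints_sound points79_ok h79
  have h81 : ∀ d < 40500, PointOK table 7 rels d := okPoints_sound points80_ok h80
  have h82 : ∀ d < 41000, PointOK table 7 rels d := okPoints_sound points81_ok h81
  have h83 : ∀ d < 41500, PointOK table 7 rels d := okPoints_sound points82_ok h82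
  have h84 : ∀ d < 42000, PointOK table 7 rels d := okPoints_sound points83_ok h83
  have h85 : ∀ d < 42500, PointOK table 7 rels d := okPoints_sound points84_ok h84
  have h86 : ∀ d < 43000, PointOK table 7 rels d := okPoints_sound points85_ok h85
  have h87 : ∀ d < 43500, PointOK table 7 rels d := okPoints_sound points86_ok h86
  have h88 : ∀ d < 44000, PointOK table 7 rels d := okPoints_sound points87_ok h87
  have h89 : ∀ d < 44500, PointOK table 7 rels d := okPoints_sound points88_ok h88
  have h90 : ∀ d < 45000, PointOK table 7 rels d := okPoints_sound points89_ok h89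
  have h91 : ∀ d < 45500, PointOK table 7 rels d := okPoints_sound points90_ok h90
  have h92 : ∀ d < 46000, PointOK table 7 rels d := okPoints_sound points91_ok h91
  have h93 : ∀ d < 46500, PointOK table 7 rels d := okPoints_sound points92_ok h92
  have h94 : ∀ d < 47000, PointOK table 7 rels d := okPoints_sound points93_ok h93
  have h95 : ∀ d < 47500, PointOK table 7 rels d := okPoints_sound points94_ok h94
  have h96 : ∀ d < 48000, PointOK table 7 rels d := okPoints_sound points95_ok h95
  have h97 : ∀ d < 48500, PointOK table 7 rels d := okPoints_sound points96_ok h96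
  have h98 : ∀ d < 49000, PointOK table 7 rels d := okPoints_sound points97_ok h97
  have h99 : ∀ d < 49500, PointOK table 7 rels d := okPoints_sound points98_ok h98
  have h100 : ∀ d < 50000, PointOK table 7 rels d := okPoints_sound points99_ok h99
  have h101 : ∀ d < 50500, PointOK table 7 rels d := okPoints_sound points100_ok h100
  have h102 : ∀ d < 51000, PointOK table 7 rels d := okPoints_sound points101_ok h101
  have h103 : ∀ d < 51500, PointOK table 7 rels d := okPoints_sound points102_ok h102
  have h104 : ∀ d < 52000, PointOK table 7 rels d := okPoints_sound points103_ok h103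
  have h105 : ∀ d < 52500, PointOK table 7 rels d := okPoints_sound points104_ok h104
  have h106 : ∀ d < 53000, PointOK table 7 rels d := okPoints_sound points105_ok h105
  have h107 : ∀ d < 53500, PointOK table 7 rels d := okPoints_sound points106_ok h106
  have h108 : ∀ d < 54000, PointOK table 7 rels d := okPoints_sound points107_ok h107
  have h109 : ∀ d < 54500, PointOK table 7 rels d := okPoints_sound points108_ok h108
  have h110 : ∀ d < 55000, PointOK table 7 rels d := okPoints_sound points109_ok h109
  have h111 : ∀ d < 55500, PointOK table 7 rels d := okPoints_sound points110_ok h110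
  have h112 : ∀ d < 56000, PointOK table 7 rels d := okPoints_sound points111_ok h111
  have h113 : ∀ d < 56500, PointOK table 7 rels d := okPoints_sound points112_ok h112
  have h114 : ∀ d < 57000, PointOK table 7 rels d := okPoints_sound points113_ok h113
  have h115 : ∀ d < 57500, PointOK table 7 rels d := okPoints_sound points114_ok h114
  have h116 : ∀ d < 58000, PointOK table 7 rels d := okPoints_sound points115_ok h115
  have h117 : ∀ d < 58500, PointOK table 7 rels d := okPoints_sound points116_ok h116
  have h118 : ∀ d < 59000, PointOK table 7 rels d := okPoints_sound points117_ok h117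
  have h119 : ∀ d < 59500, PointOK table 7 rels d := okPoints_sound points118_ok h118
  have h120 : ∀ d < 60000, PointOK table 7 rels d := okPoints_sound points119_ok h119
  have h121 : ∀ d < 60500, PointOK table 7 rels d := okPoints_sound points120_ok h120
  have h122 : ∀ d < 61000, PointOK table 7 rels d := okPoints_sound points121_ok h121
  have h123 : ∀ d < 61500, PointOK table 7 rels d := okPoints_sound points122_ok h122
  have h124 : ∀ d < 62000, PointOK table 7 rels d := okPoints_sound points123_ok h123
  have h125 : ∀ d < 62500, PointOK table 7 rels d := okPoints_sound points124_ok h124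
  have h126 : ∀ d < 63000, PointOK table 7 rels d := okPoints_sound points125_ok h125
  have h127 : ∀ d < 63500, PointOK table 7 rels d := okPoints_sound points126_ok h126
  have h128 : ∀ d < 64000, PointOK table 7 rels d := okPoints_sound points127_ok h127
  have h129 : ∀ d < 64500, PointOK table 7 rels d := okPoints_sound points128_ok h128
  have h130 : ∀ d < 65000, PointOK table 7 rels d := okPoints_sound points129_ok h129
  have h131 : ∀ d < 65500, PointOK table 7 rels d := okPoints_sound points130_ok h130
  have h132 : ∀ d < 66000, PointOK table 7 rels d := okPoints_sound points131_ok h131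
  have h133 : ∀ d < 66500, PointOK table 7 rels d := okPoints_sound points132_ok h132
  have h134 : ∀ d < 67000, PointOK table 7 rels d := okPoints_sound points133_ok h133
  have h135 : ∀ d < 67500, PointOK table 7 rels d := okPoints_sound points134_ok h134
  have h136 : ∀ d < 68000, PointOK table 7 rels d := okPoints_sound points135_ok h135
  have h137 : ∀ d < 68500, PointOK table 7 rels d := okPoints_sound points136_ok h136
  have h138 : ∀ d < 69000, PointOK table 7 rels d := okPoints_sound points137_ok h137
  have h139 : ∀ d < 69500, PointOK table 7 rels d := okPoints_sound points138_ok h138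
  have h140 : ∀ d < 70000, PointOK table 7 rels d := okPoints_sound points139_ok h139
  have h141 : ∀ d < 70500, PointOK table 7 rels d := okPoints_sound points140_ok h140
  have h142 : ∀ d < 71000, PointOK table 7 rels d := okPoints_sound points141_ok h141
  have h143 : ∀ d < 71500, PointOK table 7 rels d := okPoints_sound points142_ok h142
  have h144 : ∀ d < 72000, PointOK table 7 rels d := okPoints_sound points143_ok h143
  have h145 : ∀ d < 72500, PointOK table 7 rels d := okPoints_sound points144_ok h144
  have h146 : ∀ d < 73000, PointOK table 7 rels d := okPoints_sound points145_ok h145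
  have h147 : ∀ d < 73500, PointOK table 7 rels d := okPoints_sound points146_ok h146
  have h148 : ∀ d < 74000, PointOK table 7 rels d := okPoints_sound points147_ok h147
  have h149 : ∀ d < 74500, PointOK table 7 rels d := okPoints_sound points148_ok h148
  have h150 : ∀ d < 75000, PointOK table 7 rels d := okPoints_sound points149_ok h149
  have h151 : ∀ d < 75500, PointOK table 7 rels d := okPoints_sound points150_ok h150
  have h152 : ∀ d < 76000, PointOK table 7 rels d := okPoints_sound points151_ok h151
  have h153 : ∀ d < 76500, PointOK table 7 rels d := okPoints_sound points152_ok h152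
  have h154 : ∀ d < 77000, PointOK table 7 rels d := okPoints_sound points153_ok h153
  have h155 : ∀ d < 77500, PointOK table 7 rels d := okPoints_sound points154_ok h154
  have h156 : ∀ d < 78000, PointOK table 7 rels d := okPoints_sound points155_ok h155
  have h157 : ∀ d < 78500, PointOK table 7 rels d := okPoints_sound points156_ok h156
  have h158 : ∀ d < 79000, PointOK table 7 rels d := okPoints_sound points157_ok h157
  have h159 : ∀ d < 79500, PointOK table 7 rels d := okPoints_sound points158_ok h158
  have h160 : ∀ d < 80000, PointOK table 7 rels d := okPoints_sound points159_ok h159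
  have h161 : ∀ d < 80500, PointOK table 7 rels d := okPoints_sound points160_ok h160
  have h162 : ∀ d < 81000, PointOK table 7 rels d := okPoints_sound points161_ok h161
  have h163 : ∀ d < 81500, PointOK table 7 rels d := okPoints_sound points162_ok h162
  have h164 : ∀ d < 82000, PointOK table 7 rels d := okPoints_sound points163_ok h163
  have h165 : ∀ d < 82500, PointOK table 7 rels d := okPoints_sound points164_ok h164
  have h166 : ∀ d < 83000, PointOK table 7 rels d := okPoints_sound points165_ok h165
  have h167 : ∀ d < 83500, PointOK table 7 rels d := okPoints_sound points166_ok h166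
  have h168 : ∀ d < 84000, PointOK table 7 rels d := okPoints_sound points167_ok h167
  have h169 : ∀ d < 84500, PointOK table 7 rels d := okPoints_sound points168_ok h168
  have h170 : ∀ d < 85000, PointOK table 7 rels d := okPoints_sound points169_ok h169
  have h171 : ∀ d < 85500, PointOK table 7 rels d := okPoints_sound points170_ok h170
  have h172 : ∀ d < 86000, PointOK table 7 rels d := okPoints_sound points171_ok h171
  have h173 : ∀ d < 86500, PointOK table 7 rels d := okPoints_sound points172_ok h172
  have h174 : ∀ d < 87000, PointOK table 7 rels d := okPoints_sound points173_ok h173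
  have h175 : ∀ d < 87500, PointOK table 7 rels d := okPoints_sound points174_ok h174
  have h176 : ∀ d < 88000, PointOK table 7 rels d := okPoints_sound points175_ok h175
  have h177 : ∀ d < 88500, PointOK table 7 rels d := okPoints_sound points176_ok h176
  have h178 : ∀ d < 89000, PointOK table 7 rels d := okPoints_sound points177_ok h177
  have h179 : ∀ d < 89500, PointOK table 7 rels d := okPoints_sound points178_ok h178
  have h180 : ∀ d < 90000, PointOK table 7 rels d := okPoints_sound points179_ok h179
  have h181 : ∀ d < 90500, PointOK table 7 rels d := okPoints_sound points180_ok h180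
  have h182 : ∀ d < 91000, PointOK table 7 rels d := okPoints_sound points181_ok h181
  have h183 : ∀ d < 91500, PointOK table 7 rels d := okPoints_sound points182_ok h182
  have h184 : ∀ d < 92000, PointOK table 7 rels d := okPoints_sound points183_ok h183
  have h185 : ∀ d < 92500, PointOK table 7 rels d := okPoints_sound points184_ok h184
  have h186 : ∀ d < 93000, PointOK table 7 rels d := okPoints_sound points185_ok h185
  have h187 : ∀ d < 93500, PointOK table 7 rels d := okPoints_sound points186_ok h186
  have h188 : ∀ d < 94000, PointOK table 7 rels d := okPoints_sound points187_ok h187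
  have h189 : ∀ d < 94500, PointOK table 7 rels d := okPoints_sound points188_ok h188
  have h190 : ∀ d < 95000, PointOK table 7 rels d := okPoints_sound points189_ok h189
  have h191 : ∀ d < 95500, PointOK table 7 rels d := okPoints_sound points190_ok h190
  have h192 : ∀ d < 96000, PointOK table 7 rels d := okPoints_sound points191_ok h191
  have h193 : ∀ d < 96500, PointOK table 7 rels d := okPoints_sound points192_ok h192
  have h194 : ∀ d < 97000, PointOK table 7 rels d := okPoints_sound points193_ok h193
  have h195 : ∀ d < 97500, PointOK table 7 rels d := okPoints_sound points194_ok h194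
  have h196 : ∀ d < 98000, PointOK table 7 rels d := okPoints_sound points195_ok h195
  have h197 : ∀ d < 98500, PointOK table 7 rels d := okPoints_sound points196_ok h196
  have h198 : ∀ d < 99000, PointOK table 7 rels d := okPoints_sound points197_ok h197
  have h199 : ∀ d < 99500, PointOK table 7 rels d := okPoints_sound points198_ok h198
  have h200 : ∀ d < 100000, PointOK table 7 rels d := okPoints_sound points199_ok h199
  have h201 : ∀ d < 100500, PointOK table 7 rels d := okPoints_sound points200_ok h200
  have h202 : ∀ d < 101000, PointOK table 7 rels d := okPoints_sound points201_ok h201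
  have h203 : ∀ d < 101500, PointOK table 7 rels d := okPoints_sound points202_ok h202
  have h204 : ∀ d < 102000, PointOK table 7 rels d := okPoints_sound points203_ok h203
  have h205 : ∀ d < 102500, PointOK table 7 rels d := okPoints_sound points204_ok h204
  have h206 : ∀ d < 103000, PointOK table 7 rels d := okPoints_sound points205_ok h205
  have h207 : ∀ d < 103500, PointOK table 7 rels d := okPoints_sound points206_ok h206
  have h208 : ∀ d < 104000, PointOK table 7 rels d := okPoints_sound points207_ok h207
  have h209 : ∀ d < 104500, PointOK table 7 rels d := okPoints_sound points208_ok h208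
  have h210 : ∀ d < 105000, PointOK table 7 rels d := okPoints_sound points209_ok h209
  have h211 : ∀ d < 105500, PointOK table 7 rels d := okPoints_sound points210_ok h210
  have h212 : ∀ d < 106000, PointOK table 7 rels d := okPoints_sound points211_ok h211
  have h213 : ∀ d < 106500, PointOK table 7 rels d := okPoints_sound points212_ok h212
  have h214 : ∀ d < 107000, PointOK table 7 rels d := okPoints_sound points213_ok h213
  have h215 : ∀ d < 107500, PointOK table 7 rels d := okPoints_sound points214_ok h214
  have h216 : ∀ d < 108000, PointOK table 7 rels d := okPoints_sound points215_ok h215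
  have h217 : ∀ d < 108500, PointOK table 7 rels d := okPoints_sound points216_ok h216
  have h218 : ∀ d < 109000, PointOK table 7 rels d := okPoints_sound points217_ok h217
  have h219 : ∀ d < 109500, PointOK table 7 rels d := okPoints_sound points218_ok h218
  have h220 : ∀ d < 110000, PointOK table 7 rels d := okPoints_sound points219_ok h219
  have h221 : ∀ d < 110500, PointOK table 7 rels d := okPoints_sound points220_ok h220
  have h222 : ∀ d < 111000, PointOK table 7 rels d := okPoints_sound points221_ok h221
  have h223 : ∀ d < 111500, PointOK table 7 rels d := okPoints_sound points222_ok h222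
  have h224 : ∀ d < 112000, PointOK table 7 rels d := okPoints_sound points223_ok h223
  have h225 : ∀ d < 112500, PointOK table 7 rels d := okPoints_sound points224_ok h224
  have h226 : ∀ d < 113000, PointOK table 7 rels d := okPoints_sound points225_ok h225
  have h227 : ∀ d < 113500, PointOK table 7 rels d := okPoints_sound points226_ok h226
  have h228 : ∀ d < 114000, PointOK table 7 rels d := okPoints_sound points227_ok h227
  have h229 : ∀ d < 114500, PointOK table 7 rels d := okPoints_sound points228_ok h228
  have h230 : ∀ d < 115000, PointOK table 7 rels d := okPoints_sound points229_ok h229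
  have h231 : ∀ d < 115500, PointOK table 7 rels d := okPoints_sound points230_ok h230
  have h232 : ∀ d < 116000, PointOK table 7 rels d := okPoints_sound points231_ok h231
  have h233 : ∀ d < 116500, PointOK table 7 rels d := okPoints_sound points232_ok h232
  have h234 : ∀ d < 117000, PointOK table 7 rels d := okPoints_sound points233_ok h233
  have h235 : ∀ d < 117500, PointOK table 7 rels d := okPoints_sound points234_ok h234
  have h236 : ∀ d < 118000, PointOK table 7 rels d := okPoints_sound points235_ok h235
  have h237 : ∀ d < 118500, PointOK table 7 rels d := okPoints_sound points236_ok h236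
  have h238 : ∀ d < 119000, PointOK table 7 rels d := okPoints_sound points237_ok h237
  have h239 : ∀ d < 119500, PointOK table 7 rels d := okPoints_sound points238_ok h238
  have h240 : ∀ d < 120000, PointOK table 7 rels d := okPoints_sound points239_ok h239
  have h241 : ∀ d < 120500, PointOK table 7 rels d := okPoints_sound points240_ok h240
  have h242 : ∀ d < 121000, PointOK table 7 rels d := okPoints_sound points241_ok h241
  have h243 : ∀ d < 121500, PointOK table 7 rels d := okPoints_sound points242_ok h242
  have h244 : ∀ d < 122000, PointOK table 7 rels d := okPoints_sound points243_ok h243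
  have h245 : ∀ d < 122500, PointOK table 7 rels d := okPoints_sound points244_ok h244
  have h246 : ∀ d < 122760, PointOK table 7 rels d := okPoints_sound points245_ok h245
  exact h246

theorem words_ok : okWords data presON.rels hw rots = true := by
  rw [rels_eq]; decide +kernel

/-- The certified enumeration. -/
noncomputable def cert : Cert presON where
  D := data
  T := table
  hw := hw
  rots := rots
  nf := 980686
  hk := rfl
  hk16 := show 7 < 16 by decide
  nh_le := show 6 ≤ 170 by decide
  hn := show 0 < 122760 by decide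
  hrep := by decide +kernel
  words_ok := words_ok
  facts_ok := rows
  points_ok := points
  base_ok := by decide +kernel

theorem hlt : ∀ w ∈ presON.rels, ∀ x ∈ w, x < presON.k := by
  rw [rels_eq]; exact (show ∀ w ∈ rels, ∀ x ∈ w, x < 7 by decide +kernel)

theorem hhw : ∀ w ∈ hw, ∀ x ∈ w, x < 7 := by decide +kernel


end CfsgLib.CosetEnum.ON122760
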