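/-
Certificate data of a coset enumeration.
-/
import Cfsg.Agent.Lib.CosetEnum.ON122760.Data

set_option autoImplicit false
set_option maxRecDepth 1000000

namespace CfsgLib.CosetEnum.ON122760

open CfsgLib.CosetEnum

theorem points0_ok : okPoints table 7 rels 0 500 = true := by decide +kernel

theorem points1_ok : okPoints table 7 rels 500 500 = true := by decide +kernel

theorem points2_ok : okPoints table 7 rels 1000 500 = true := by decide +kernel

theorem points3_ok : okPoints table 7 rels 1500 500 = true := by decide +kernel

theorem points4_ok : okPoints table 7 rels 2000 500 = true := by decide +kernel

theorem points5_ok : okPoints table 7 rels 2500 500 = true := by decide +kernel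

theorem points6_ok : okPoints table 7 rels 3000 500 = true := by decide +kernel

theorem points7_ok : okPoints table 7 rels 3500 500 = true := by decide +kernel


end CfsgLib.CosetEnum.ON122760
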