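/-
Certificate data of a coset enumeration.
-/
import Cfsg.Agent.Lib.CosetEnum.ON122760.Data

set_option autoImplicit false
set_option maxRecDepth 1000000

namespace CfsgLib.CosetEnum.ON122760

open CfsgLib.CosetEnum

theorem points88_ok : okPoints table 7 rels 44000 500 = true := by decide +kernel

theorem points89_ok : okPoints table 7 rels 44500 500 = true := by decide +kernel

theorem points90_ok : okPoints table 7 rels 45000 500 = true := by decide +kernel

theorem points91_ok : okPoints table 7 rels 45500 500 = true := by decide +kernel

theorem points92_ok : okPoints table 7 rels 46000 500 = true := by decide +kernel

theorem points93_ok : okPoints table 7 rels 46500 500 = true := by decide +kernel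

theorem points94_ok : okPoints table 7 rels 47000 500 = true := by decide +kernel

theorem points95_ok : okPoints table 7 rels 47500 500 = true := by decide +kernel


end CfsgLib.CosetEnum.ON122760
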