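/-
Certificate data of a coset enumeration.
-/
import Cfsg.Agent.Lib.CosetEnum.ON122760.Data

set_option autoImplicit false
set_option maxRecDepth 1000000

namespace CfsgLib.CosetEnum.ON122760

open CfsgLib.CosetEnum

theorem points176_ok : okPoints table 7 rels 88000 500 = true := by decide +kernel

theorem points177_ok : okPoints table 7 rels 88500 500 = true := by decide +kernel

theorem points178_ok : okPoints table 7 rels 89000 500 = true := by decide +kernel

theorem points179_ok : okPoints table 7 rels 89500 500 = true := by decide +kernel

theorem points180_ok : okPoints table 7 rels 90000 500 = true := by decide +kernel

theorem points181_ok : okPoints table 7 rels 90500 500 = true := by decide +kernel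

theorem points182_ok : okPoints table 7 rels 91000 500 = true := by decide +kernel

theorem points183_ok : okPoints table 7 rels 91500 500 = true := by decide +kernel


end CfsgLib.CosetEnum.ON122760
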